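import Mathlib
import Cfsg.Prelude.Def_Blocks

/-!
# Twisting irreducible representations and characters (helper81)

* `isIrreducible_of_semilinearEquiv`: irreducibility transfers along a semilinear equivalence
  intertwining `ρ ∘ φ` and `ρ'` for a surjective map `φ` between the acting monoids.
* `galoisTwist σ ρ`: apply a ring endomorphism `σ` of `ℂ` to the matrix entries of `ρ`;
  `galoisTwist_character`, `galoisTwist_isIrreducible`.
* `isIrrCharacter_galois`, `isCharacter_galois`, `isIrrCharacter_conj`, `isCharacter_conj`.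
* `isCharacter_comp`, `isIrrCharacter_comp_surjective`, `isIrrCharacter_comp_mulEquiv`.
* `isIrrCharacter_conjNormal`, `conjIrr`, `conjIrrMulAction`: the conjugation action of `G` on
  `IrrCharacter N` for `N` normal in `G`.
-/

set_option autoImplicit false
open Cfsg

namespace Cfsg.Agent.Lib.Helper81

open Representation

section transfer

variable {k : Type*} [Field k] {G H : Type*} [Monoid G] [Monoid H]
  {V V' : Type*} [AddCommGroup V] [Module k V] [AddCommGroup V'] [Module k V']
  {σ σ' : k →+* k} [RingHomInvPair σ σ'] [RingHomInvPair σ' σ]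

/-- Transport of subrepresentations along a semilinear equivalence intertwining `ρ ∘ φ` and `ρ'`,
with `φ` surjective. -/
noncomputable def subrepEquivOfSemilinear (ρ : Representation k G V) (ρ' : Representation k H V')
    (S : V ≃ₛₗ[σ] V') (φ : H → G) (hφ : Function.Surjective φ)
    (hS : ∀ h v, S (ρ (φ h) v) = ρ' h (S v)) :
    Subrepresentation ρ ≃o Subrepresentation ρ' where
  toFun W := ⟨W.toSubmodule.map (S : V →ₛₗ[σ] V'), by
    rintro h _ ⟨v, hv, rfl⟩
    refine ⟨ρ (φ h) v, W.apply_mem_toSubmodule (φ h) hv, ?_⟩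
    exact hS h v⟩
  invFun W' := ⟨W'.toSubmodule.comap (S : V →ₛₗ[σ] V'), by
    intro g v hv
    obtain ⟨h, rfl⟩ := hφ g
    simp only [Submodule.mem_comap, LinearEquiv.coe_coe] at hv ⊢
    rw [hS]
    exact W'.apply_mem_toSubmodule h hv⟩
  left_inv W := by
    apply Subrepresentation.toSubmodule_injective
    exact Submodule.comap_map_eq_of_injective S.injective _
  right_inv W' := by
    apply Subrepresentation.toSubmodule_injective
    exact Submodule.map_comap_eq_of_surjective S.surjective _
  map_rel_iff' := by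
    intro W₁ W₂
    exact Submodule.map_le_map_iff_of_injective S.injective _ _

theorem isIrreducible_of_semilinearEquiv (ρ : Representation k G V) (ρ' : Representation k H V')
    (S : V ≃ₛₗ[σ] V') (φ : H → G) (hφ : Function.Surjective φ)
    (hS : ∀ h v, S (ρ (φ h) v) = ρ' h (S v)) [hρ : ρ.IsIrreducible] : ρ'.IsIrreducible :=
  (subrepEquivOfSemilinear ρ ρ' S φ hφ hS).isSimpleOrder_iff.mp hρ

end transfer

section twist

variable {G : Type*} [Monoid G] {n : ℕ}

/-- The Galois twist of a matrix representation by a ring endomorphism `σ` of `ℂ`: apply `σ`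
to all matrix entries. -/
noncomputable def galoisTwist (σ : ℂ →+* ℂ) (ρ : Representation ℂ G (Fin n → ℂ)) :
    Representation ℂ G (Fin n → ℂ) where
  toFun g := Matrix.toLin' ((LinearMap.toMatrix' (ρ g)).map σ)
  map_one' := by
    simp [Matrix.map_one]
    rfl
  map_mul' g h := by
    rw [map_mul, Module.End.mul_eq_comp, LinearMap.toMatrix'_comp, Matrix.map_mul,
      Matrix.toLin'_mul]
    rfl

theorem galoisTwist_apply (σ : ℂ →+* ℂ) (ρ : Representation ℂ G (Fin n → ℂ)) (g : G) :
    galoisTwist σ ρ g = Matrix.toLin' ((LinearMap.toMatrix' (ρ g)).map σ) := rfl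

theorem galoisTwist_character (σ : ℂ →+* ℂ) (ρ : Representation ℂ G (Fin n → ℂ)) (g : G) :
    (galoisTwist σ ρ).character g = σ (ρ.character g) := by
  unfold Representation.character
  rw [galoisTwist_apply, Matrix.trace_toLin'_eq, ← AddMonoidHom.map_trace,
    ← Matrix.trace_toLin'_eq, Matrix.toLin'_toMatrix']

theorem galoisTwist_apply_comp (σ : ℂ →+* ℂ) (ρ : Representation ℂ G (Fin n → ℂ)) (g : G)
    (v : Fin n → ℂ) : galoisTwist σ ρ g (σ ∘ v) = σ ∘ (ρ g v) := by
  ext i
  rw [galoisTwist_apply, Matrix.toLin'_apply, ← RingHom.map_mulVec, Function.comp_apply,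
    ← Matrix.toLin'_apply, Matrix.toLin'_toMatrix']

/-- `σ` applied entrywise to vectors, as a semilinear equivalence. -/
noncomputable def vecSemilinear (σ : ℂ ≃+* ℂ) :
    letI : RingHomInvPair (σ : ℂ →+* ℂ) (σ.symm : ℂ →+* ℂ) := RingHomInvPair.of_ringEquiv σ
    letI : RingHomInvPair (σ.symm : ℂ →+* ℂ) (σ : ℂ →+* ℂ) := RingHomInvPair.symm _ _
    (Fin n → ℂ) ≃ₛₗ[(σ : ℂ →+* ℂ)] (Fin n → ℂ) :=
  letI : RingHomInvPair (σ : ℂ →+* ℂ) (σ.symm : ℂ →+* ℂ) := RingHomInvPair.of_ringEquiv σ
  letI : RingHomInvPair (σ.symm : ℂ →+* ℂ) (σ : ℂ →+* ℂ) := RingHomInvPair.symm _ _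
  { toFun := fun v i => σ (v i)
    invFun := fun v i => σ.symm (v i)
    map_add' := fun v w => by ext i; simp
    map_smul' := fun c v => by ext i; simp
    left_inv := fun v => by ext i; simp
    right_inv := fun v => by ext i; simp }

theorem galoisTwist_isIrreducible (σ : ℂ ≃+* ℂ) (ρ : Representation ℂ G (Fin n → ℂ))
    [ρ.IsIrreducible] : (galoisTwist (σ : ℂ →+* ℂ) ρ).IsIrreducible := by
  let _ : RingHomInvPair (σ : ℂ →+* ℂ) (σ.symm : ℂ →+* ℂ) := RingHomInvPair.of_ringEquiv σ
  let _ : RingHomInvPair (σ.symm : ℂ →+* ℂ) (σ : ℂ →+* ℂ) := RingHomInvPair.symm _ _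
  refine isIrreducible_of_semilinearEquiv ρ (galoisTwist (σ : ℂ →+* ℂ) ρ) (vecSemilinear σ) id
    Function.surjective_id ?_
  intro g v
  exact (galoisTwist_apply_comp (σ : ℂ →+* ℂ) ρ g v).symm

end twist

section characters

variable {G : Type*} [Group G]

/-- A field automorphism of `ℂ` applied to an irreducible character gives an irreducible
character. -/
theorem isIrrCharacter_galois {χ : G → ℂ} (hχ : IsIrrCharacter G χ) (σ : ℂ ≃+* ℂ) :
    IsIrrCharacter G (fun g => σ (χ g)) := by
  obtain ⟨n, ρ, hirr, rfl⟩ := hχ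
  refine ⟨n, galoisTwist (σ : ℂ →+* ℂ) ρ, galoisTwist_isIrreducible σ ρ, ?_⟩
  ext g
  exact galoisTwist_character (σ : ℂ →+* ℂ) ρ g

/-- A ring endomorphism of `ℂ` applied to a character gives a character. -/
theorem isCharacter_galois {χ : G → ℂ} (hχ : IsCharacter G χ) (σ : ℂ →+* ℂ) :
    IsCharacter G (fun g => σ (χ g)) := by
  obtain ⟨n, ρ, rfl⟩ := hχ
  refine ⟨n, galoisTwist σ ρ, ?_⟩
  ext g
  exact galoisTwist_character σ ρ g

open scoped ComplexConjugate in
/-- The complex conjugate of an irreducible character is an irreducible character. -/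
theorem isIrrCharacter_conj {χ : G → ℂ} (hχ : IsIrrCharacter G χ) :
    IsIrrCharacter G (fun g => conj (χ g)) :=
  isIrrCharacter_galois hχ (starRingAut : ℂ ≃+* ℂ)

open scoped ComplexConjugate in
/-- The complex conjugate of a character is a character. -/
theorem isCharacter_conj {χ : G → ℂ} (hχ : IsCharacter G χ) :
    IsCharacter G (fun g => conj (χ g)) :=
  isCharacter_galois hχ (starRingEnd ℂ)


variable {H : Type*} [Group H]

/-- Composing a character with a group homomorphism gives a character (restriction, inflation,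
twisting by automorphisms). -/
theorem isCharacter_comp {χ : G → ℂ} (hχ : IsCharacter G χ) (φ : H →* G) :
    IsCharacter H (χ ∘ φ) := by
  obtain ⟨n, ρ, rfl⟩ := hχ
  exact ⟨n, MonoidHom.comp ρ φ, rfl⟩

/-- Composing an irreducible character with a surjective group homomorphism gives an irreducible
character (inflation, twisting by automorphisms). -/
theorem isIrrCharacter_comp_surjective {χ : G → ℂ} (hχ : IsIrrCharacter G χ) (φ : H →* G)
    (hφ : Function.Surjective φ) : IsIrrCharacter H (χ ∘ φ) := by
  obtain ⟨n, ρ, hirr, rfl⟩ := hχ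
  refine ⟨n, MonoidHom.comp ρ φ, ?_, rfl⟩
  exact isIrreducible_of_semilinearEquiv ρ (MonoidHom.comp ρ φ)
    (LinearEquiv.refl ℂ (Fin n → ℂ)) φ hφ (fun _ _ => rfl)

/-- Composing an irreducible character with a group isomorphism gives an irreducible character. -/
theorem isIrrCharacter_comp_mulEquiv {χ : G → ℂ} (hχ : IsIrrCharacter G χ) (e : H ≃* G) :
    IsIrrCharacter H (χ ∘ e) :=
  isIrrCharacter_comp_surjective hχ e.toMonoidHom e.surjective


section normal

variable (N : Subgroup G) [N.Normal]

/-- The conjugate `θ^g : n ↦ θ (g n g⁻¹)` of an irreducible character of a normal subgroup is an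
irreducible character. -/
theorem isIrrCharacter_conjNormal {θ : N → ℂ} (hθ : IsIrrCharacter N θ) (g : G) :
    IsIrrCharacter N (fun n => θ (MulAut.conjNormal g n)) :=
  isIrrCharacter_comp_mulEquiv hθ (MulAut.conjNormal g)

/-- The left action of `G` on the irreducible characters of a normal subgroup `N`:
`(g • θ) n = θ (g⁻¹ n g)`. -/
noncomputable def conjIrr (g : G) (θ : IrrCharacter N) : IrrCharacter N :=
  ⟨fun n => (θ : N → ℂ) (MulAut.conjNormal g⁻¹ n), isIrrCharacter_conjNormal N θ.2 g⁻¹⟩

theorem conjIrr_apply (g : G) (θ : IrrCharacter N) (n : N) :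
    (conjIrr N g θ : N → ℂ) n = (θ : N → ℂ) (MulAut.conjNormal g⁻¹ n) := rfl

theorem conjIrr_one (θ : IrrCharacter N) : conjIrr N 1 θ = θ := by
  apply Subtype.ext
  funext n
  simp [conjIrr_apply]

theorem conjIrr_mul (g h : G) (θ : IrrCharacter N) :
    conjIrr N (g * h) θ = conjIrr N g (conjIrr N h θ) := by
  apply Subtype.ext
  funext n
  simp [conjIrr_apply, mul_inv_rev, map_mul]

/-- The conjugation action of `G` on `IrrCharacter N` for a normal subgroup `N`. -/
@[instance_reducible]
noncomputable def conjIrrMulAction : MulAction G (IrrCharacter N) where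
  smul g θ := conjIrr N g θ
  one_smul θ := conjIrr_one N θ
  mul_smul g h θ := conjIrr_mul N g h θ

end normal

end characters

end Cfsg.Agent.Lib.Helper81
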