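import Mathlib

/-!
# Sums over an "induced" set (helper81)

* `card_mul_sum_eq_card_mul_sum`: let a finite group `G` act (via an explicit action function)
  on `Ω`, let `T ⊇ X` be finite subsets and `C ≤ G` a subgroup such that `X` is `C`-stable,
  every point of `T` is a `G`-translate of a point of `X`, translates of points of `X` lie in
  `T`, and `g • x ∈ X` with `x ∈ X` forces `g ∈ C`.  Then for `G`-invariant `F`,
  `|C| * ∑_{t ∈ T} F t = |G| * ∑_{x ∈ X} F x`.
-/

set_option autoImplicit false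

namespace Cfsg.Agent.Lib.Helper81

theorem card_mul_sum_eq_card_mul_sum {G Ω : Type*} [Group G] [Fintype G] [DecidableEq Ω]
    (act : G → Ω → Ω) (h1 : ∀ t, act 1 t = t) (hmul : ∀ g h t, act (g * h) t = act g (act h t))
    (C : Subgroup G) (T X : Finset Ω)
    (hCX : ∀ h ∈ C, ∀ x ∈ X, act h x ∈ X)
    (hXT : ∀ g : G, ∀ x ∈ X, act g x ∈ T)
    (ha : ∀ t ∈ T, ∃ g : G, ∃ x ∈ X, act g x = t)
    (hb : ∀ g : G, ∀ x ∈ X, act g x ∈ X → g ∈ C)
    (F : Ω → ℂ) (hF : ∀ g : G, ∀ t, F (act g t) = F t) :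
    (Nat.card C : ℂ) * ∑ t ∈ T, F t = (Fintype.card G : ℂ) * ∑ x ∈ X, F x := by
  classical
  have hinv : ∀ g t, act g⁻¹ (act g t) = t := by
    intro g t
    rw [← hmul, inv_mul_cancel, h1]
  -- the fibre count
  have hfib : ∀ t ∈ T, ((Finset.univ ×ˢ X).filter (fun p : G × Ω => act p.1 p.2 = t)).card
      = Nat.card C := by
    intro t ht
    obtain ⟨g0, x0, hx0, hgx⟩ := ha t ht
    rw [Nat.card_eq_fintype_card, ← Finset.card_univ (α := C)]
    symm
    apply Finset.card_bij (fun (h : C) _ => ((g0 * (h : G)⁻¹, act (h : G) x0) : G × Ω))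
    · intro h _
      rw [Finset.mem_filter, Finset.mem_product]
      refine ⟨⟨Finset.mem_univ _, hCX h h.2 x0 hx0⟩, ?_⟩
      show act (g0 * (h : G)⁻¹) (act (h : G) x0) = t
      rw [hmul, hinv, hgx]
    · intro h _ h' _ heq
      have := congrArg Prod.fst heq
      simp only [mul_right_inj, inv_inj] at this
      exact Subtype.ext this
    · rintro ⟨g, x⟩ hp
      rw [Finset.mem_filter, Finset.mem_product] at hp
      obtain ⟨⟨-, hx⟩, hgx'⟩ := hp
      simp only at hgx' hx
      have hx' : x = act (g⁻¹ * g0) x0 := by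
        rw [hmul, hgx, ← hgx', hinv]
      have hmem : g⁻¹ * g0 ∈ C := hb _ x0 hx0 (hx' ▸ hx)
      refine ⟨⟨g⁻¹ * g0, hmem⟩, Finset.mem_univ _, ?_⟩
      simp only [mul_inv_rev, inv_inv, mul_inv_cancel_left]
      rw [hx']
  -- double counting
  have hsum : ∑ p ∈ (Finset.univ : Finset G) ×ˢ X, F (act p.1 p.2)
      = ∑ t ∈ T, (Nat.card C : ℂ) * F t := by
    rw [← Finset.sum_fiberwise_of_maps_to (s := (Finset.univ : Finset G) ×ˢ X) (t := T)
      (g := fun p : G × Ω => act p.1 p.2)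
      (fun p hp => hXT p.1 p.2 (Finset.mem_product.1 hp).2)]
    apply Finset.sum_congr rfl
    intro t ht
    rw [Finset.sum_congr rfl (fun p hp => by rw [(Finset.mem_filter.1 hp).2] :
      ∀ p ∈ ((Finset.univ : Finset G) ×ˢ X).filter (fun p : G × Ω => act p.1 p.2 = t),
        F (act p.1 p.2) = F t)]
    rw [Finset.sum_const, hfib t ht, nsmul_eq_mul]
  rw [Finset.mul_sum, ← hsum, Finset.sum_product]
  simp only [hF]
  rw [Finset.sum_const, Finset.card_univ, nsmul_eq_mul]

end Cfsg.Agent.Lib.Helper81
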