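import Mathlib
import Cfsg.Prelude.Def_Characters
import Cfsg.Agent.Lib.Helper67.ComplConj
import Cfsg.Agent.Lib.Helper81.InducedSum

/-!
# Transfer of coset sums to the centralizer (helper81)

Let `G ⊴ Γ`, `s ∈ Γ` of order coprime to `|G|`, and `C = C_G(s)`.

* `exists_crt_exponent`: an exponent `k ≡ 0 mod |G|`, `k ≡ 1 mod o(s)`.
* `exists_conj_mem_centralizer_coset`: every element of `G s` is `G`-conjugate into `C s`.
* `mem_of_conj_coset`: a `G`-conjugation between two elements of `C s` is by an element of `C`.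
* `card_mul_sum_coset_eq`: `|C| ∑_{g ∈ G} F (g s) = |G| ∑_{c ∈ C} F (c s)` for class functions
  `F` of `Γ`.
-/

set_option autoImplicit false

namespace Cfsg.Agent.Lib.Helper81

open Cfsg

variable {Γ : Type*} [Group Γ]

theorem exists_crt_exponent (G : Subgroup Γ) (s : Γ)
    (hcop : (Nat.card G).Coprime (orderOf s)) :
    ∃ k : ℕ, Nat.card G ∣ k ∧ k ≡ 1 [MOD orderOf s] := by
  obtain ⟨k, hk1, hk2⟩ := Nat.chineseRemainder hcop 0 1
  exact ⟨k, (Nat.modEq_zero_iff_dvd).1 hk1, hk2⟩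

theorem pow_eq_one_of_mem_of_dvd (G : Subgroup Γ) {c : Γ} (hc : c ∈ G) {k : ℕ}
    (hk : Nat.card G ∣ k) : c ^ k = 1 :=
  orderOf_dvd_iff_pow_eq_one.1 ((Subgroup.orderOf_dvd_natCard G hc).trans hk)

theorem pow_eq_self_of_modEq (s : Γ) {k : ℕ} (hk : k ≡ 1 [MOD orderOf s]) : s ^ k = s := by
  have := (pow_eq_pow_iff_modEq (x := s) (n := k) (m := 1)).2 hk
  rwa [pow_one] at this

/-- For `c ∈ G` commuting with `s`, `(c s)^k = s` for the CRT exponent `k`. -/
theorem mul_pow_eq_of_crt (G : Subgroup Γ) (s : Γ) {c : Γ} (hc : c ∈ G) (hcs : c * s = s * c)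
    {k : ℕ} (hk0 : Nat.card G ∣ k) (hk1 : k ≡ 1 [MOD orderOf s]) : (c * s) ^ k = s := by
  have hcomm : Commute c s := hcs
  rw [hcomm.mul_pow, pow_eq_one_of_mem_of_dvd G hc hk0, one_mul, pow_eq_self_of_modEq s hk1]

variable [Fintype Γ]

theorem exists_conj_mem_centralizer_coset (G : Subgroup Γ) [hG : G.Normal] (s : Γ)
    (hcop : (Nat.card G).Coprime (orderOf s)) {t : Γ} (ht : t * s⁻¹ ∈ G) :
    ∃ m ∈ G, (m * t * m⁻¹) * s⁻¹ ∈ G ∧ (m * t * m⁻¹ * s⁻¹) * s = s * (m * t * m⁻¹ * s⁻¹) := by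
  obtain ⟨k, hk0, hk1⟩ := exists_crt_exponent G s hcop
  have hos : 0 < orderOf s := orderOf_pos s
  -- `t ≡ s` modulo `G`
  have hmk : (QuotientGroup.mk t : Γ ⧸ G) = QuotientGroup.mk s := by
    rw [QuotientGroup.eq]
    have : t⁻¹ * s = (s⁻¹ * (t * s⁻¹) * s)⁻¹ := by group
    rw [this]
    exact G.inv_mem (by
      have := hG.conj_mem _ ht s⁻¹
      simpa using this)
  have hmkpow : (QuotientGroup.mk (t ^ k) : Γ ⧸ G) = QuotientGroup.mk s := by
    rw [QuotientGroup.mk_pow, hmk, ← QuotientGroup.mk_pow, pow_eq_self_of_modEq s hk1]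
  -- order of `t ^ k`
  have htoG : t ^ orderOf s ∈ G := by
    rw [← QuotientGroup.eq_one_iff, QuotientGroup.mk_pow, hmk, ← QuotientGroup.mk_pow,
      pow_orderOf_eq_one, QuotientGroup.mk_one]
  have hpow1 : (t ^ k) ^ orderOf s = 1 := by
    obtain ⟨k', rfl⟩ := hk0
    have h2 : (t ^ (Nat.card G * k')) ^ orderOf s = ((t ^ orderOf s) ^ Nat.card G) ^ k' := by
      rw [← pow_mul, ← pow_mul, ← pow_mul]
      congr 1
      ring
    rw [h2, pow_eq_one_of_mem_of_dvd G htoG dvd_rfl, one_pow]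
  have hordu : (orderOf (t ^ k)).Coprime (Nat.card G) :=
    Nat.Coprime.coprime_dvd_left (orderOf_dvd_of_pow_eq_one hpow1) hcop.symm
  obtain ⟨m, hm, hmu⟩ := Cfsg.Agent.Lib.Helper67.exists_mem_conj_eq_of_mk_eq hmkpow hordu
    hcop.symm
  refine ⟨m, hm, ?_, ?_⟩
  · -- membership in the coset
    have h1 : m * t * m⁻¹ * s⁻¹ = m * (t * s⁻¹) * (s * m⁻¹ * s⁻¹) := by group
    rw [h1]
    exact G.mul_mem (G.mul_mem hm ht) (hG.conj_mem _ (G.inv_mem hm) s)
  · -- commutation
    have hyk : (m * t * m⁻¹) ^ k = s := by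
      rw [conj_pow, hmu]
    have hcomm : Commute (m * t * m⁻¹) s := by
      have : Commute (m * t * m⁻¹) ((m * t * m⁻¹) ^ k) := Commute.pow_right (Commute.refl _) k
      rwa [hyk] at this
    have hcomm' : Commute (m * t * m⁻¹ * s⁻¹) s :=
      Commute.mul_left hcomm (Commute.inv_left (Commute.refl s))
    exact hcomm'

omit [Fintype Γ] in
theorem commute_of_conj_coset (G : Subgroup Γ) (s : Γ)
    (hcop : (Nat.card G).Coprime (orderOf s)) {g c c' : Γ} (hc : c ∈ G)
    (hcs : c * s = s * c) (hc' : c' ∈ G) (hcs' : c' * s = s * c')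
    (hconj : g * (c * s) * g⁻¹ = c' * s) : g * s = s * g := by
  obtain ⟨k, hk0, hk1⟩ := exists_crt_exponent G s hcop
  have h1 : (g * (c * s) * g⁻¹) ^ k = (c' * s) ^ k := by rw [hconj]
  rw [conj_pow, mul_pow_eq_of_crt G s hc hcs hk0 hk1, mul_pow_eq_of_crt G s hc' hcs' hk0 hk1] at h1
  calc g * s = g * s * g⁻¹ * g := by group
    _ = s * g := by rw [h1]

/-- Transfer of a coset sum to the centralizer: for a class function `F` of `Γ`,
`|C| ∑_{g ∈ G} F (g s) = |G| ∑_{c ∈ C} F (c s)` where `C = C_G(s)`. -/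
theorem card_mul_sum_coset_eq (G : Subgroup Γ) [hG : G.Normal] [Fintype G] (s : Γ)
    (hcop : (Nat.card G).Coprime (orderOf s)) (C : Subgroup Γ) [Fintype C] (hCG : C ≤ G)
    (hCs : ∀ c ∈ C, c * s = s * c) (hCmax : ∀ g ∈ G, g * s = s * g → g ∈ C)
    (F : Γ → ℂ) (hF : IsClassFunction Γ F) :
    (Nat.card C : ℂ) * ∑ g : G, F ((g : Γ) * s) = (Nat.card G : ℂ) * ∑ c : C, F ((c : Γ) * s) := by
  classical
  let act : G → Γ → Γ := fun g x => (g : Γ) * x * (g : Γ)⁻¹
  let T : Finset Γ := Finset.univ.filter (fun x => x * s⁻¹ ∈ G)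
  let X : Finset Γ := Finset.univ.filter (fun x => x * s⁻¹ ∈ C)
  have hmemT : ∀ x, x ∈ T ↔ x * s⁻¹ ∈ G := fun x => by simp [T]
  have hmemX : ∀ x, x ∈ X ↔ x * s⁻¹ ∈ C := fun x => by simp [X]
  have key := card_mul_sum_eq_card_mul_sum act (fun t => by simp [act])
    (fun g h t => by simp only [act, Subgroup.coe_mul, mul_inv_rev]; group)
    (C.subgroupOf G) T X ?_ ?_ ?_ ?_ F (fun g t => hF t g)
  · -- conversions
    have hT : ∑ t ∈ T, F t = ∑ g : G, F ((g : Γ) * s) := by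
      symm
      apply Finset.sum_bij (fun (g : G) _ => (g : Γ) * s)
      · intro g _
        rw [hmemT]
        simp
      · intro g _ g' _ h
        exact Subtype.ext (mul_right_cancel h)
      · intro t ht
        rw [hmemT] at ht
        exact ⟨⟨t * s⁻¹, ht⟩, Finset.mem_univ _, by simp⟩
      · intro g _
        rfl
    have hX : ∑ x ∈ X, F x = ∑ c : C, F ((c : Γ) * s) := by
      symm
      apply Finset.sum_bij (fun (c : C) _ => (c : Γ) * s)
      · intro c _
        rw [hmemX]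
        simp
      · intro c _ c' _ h
        exact Subtype.ext (mul_right_cancel h)
      · intro t ht
        rw [hmemX] at ht
        exact ⟨⟨t * s⁻¹, ht⟩, Finset.mem_univ _, by simp⟩
      · intro c _
        rfl
    rw [hT, hX] at key
    have hcard : Nat.card (C.subgroupOf G) = Nat.card C :=
      Nat.card_congr (Subgroup.subgroupOfEquivOfLe hCG).toEquiv
    rw [hcard, ← Nat.card_eq_fintype_card] at key
    exact key
  · -- `X` is `C`-stable
    intro h hh x hx
    rw [hmemX] at hx ⊢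
    have hhC : (h : Γ) ∈ C := Subgroup.mem_subgroupOf.1 hh
    have hcomm : (h : Γ) * s = s * h := hCs _ hhC
    have hcomm' : (h : Γ)⁻¹ * s⁻¹ = s⁻¹ * (h : Γ)⁻¹ := by
      rw [← mul_inv_rev, ← mul_inv_rev, hcomm]
    have : act h x * s⁻¹ = (h : Γ) * (x * s⁻¹) * (h : Γ)⁻¹ := by
      simp only [act]
      rw [mul_assoc, mul_assoc, hcomm']
      group
    rw [this]
    exact C.mul_mem (C.mul_mem hhC hx) (C.inv_mem hhC)
  · -- translates of `X` lie in `T`
    intro g x hx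
    rw [hmemX] at hx
    rw [hmemT]
    have h1 : act g x * s⁻¹ = (g : Γ) * (x * s⁻¹) * (s * (g : Γ)⁻¹ * s⁻¹) := by
      simp only [act]; group
    rw [h1]
    exact G.mul_mem (G.mul_mem g.2 (hCG hx)) (hG.conj_mem _ (G.inv_mem g.2) s)
  · -- every point of `T` is a translate of a point of `X`
    intro t ht
    rw [hmemT] at ht
    obtain ⟨m, hm, hmem, hcomm⟩ := exists_conj_mem_centralizer_coset G s hcop ht
    refine ⟨⟨m, hm⟩⁻¹, m * t * m⁻¹, ?_, ?_⟩
    · rw [hmemX]
      exact hCmax _ hmem hcomm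
    · simp only [act, Subgroup.coe_inv, inv_inv]
      group
  · -- stabilizer condition
    intro g x hx hgx
    rw [hmemX] at hx hgx
    rw [Subgroup.mem_subgroupOf]
    apply hCmax _ g.2
    have hx' : x = (x * s⁻¹) * s := by group
    have hgx' : act g x = (act g x * s⁻¹) * s := by group
    apply commute_of_conj_coset G s hcop (hCG hx) (hCs _ hx) (hCG hgx) (hCs _ hgx)
    rw [← hx', ← hgx']

end Cfsg.Agent.Lib.Helper81
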