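import Mathlib
import Cfsg.Prelude.Def_Blocks
import Cfsg.Agent.Lib.Helper78.CharMore

/-!
# Brauer's permutation lemma (helper81)

* `sum_irr_mul_conj_eq_card`: second orthogonality in counting form,
  `∑ χ, χ y * conj (χ z) = #{k | k * y * k⁻¹ = z}`.
* `brauer_perm_count`: if `a : IrrCharacter G → IrrCharacter G` and a bijection `b : G → G`
  satisfy `(a χ) (b y) = χ y`, then
  `#{χ | a χ = χ} * |G| = #{(y, k) | k * y * k⁻¹ = b y}`.
-/

set_option autoImplicit false
open Cfsg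

namespace Cfsg.Agent.Lib.Helper81

open scoped ComplexConjugate
open Cfsg.Agent.Lib.Helper78

variable {G : Type*} [Group G] [Fintype G]

omit [Fintype G] in
/-- The number of `k` conjugating `y` to a conjugate `z` is the order of the centralizer. -/
theorem card_conjugators_of_isConj {y z : G} (h : IsConj y z) :
    Nat.card {k : G // k * y * k⁻¹ = z} = Nat.card (Subgroup.centralizer ({y} : Set G)) := by
  obtain ⟨k₀, hk₀⟩ := isConj_iff.mp h
  refine Nat.card_congr ?_
  refine ⟨fun k => ⟨k₀⁻¹ * k.1, ?_⟩, fun c => ⟨k₀ * c.1, ?_⟩, ?_, ?_⟩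
  · rw [Subgroup.mem_centralizer_iff]
    intro x hx
    rw [Set.mem_singleton_iff] at hx
    subst hx
    have h1 := k.2
    have : k₀⁻¹ * k.1 * x * (k₀⁻¹ * k.1)⁻¹ = x := by
      calc k₀⁻¹ * k.1 * x * (k₀⁻¹ * k.1)⁻¹ = k₀⁻¹ * (k.1 * x * k.1⁻¹) * k₀ := by group
        _ = k₀⁻¹ * (k₀ * x * k₀⁻¹) * k₀ := by rw [h1, hk₀]
        _ = x := by group
    calc x * (k₀⁻¹ * k.1) = (k₀⁻¹ * k.1 * x * (k₀⁻¹ * k.1)⁻¹) * (k₀⁻¹ * k.1) := by rw [this]
      _ = k₀⁻¹ * k.1 * x := by group
  · have hc := (Subgroup.mem_centralizer_iff.mp c.2) y (Set.mem_singleton y)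
    calc k₀ * c.1 * y * (k₀ * c.1)⁻¹ = k₀ * (c.1 * y) * c.1⁻¹ * k₀⁻¹ := by group
      _ = k₀ * (y * c.1) * c.1⁻¹ * k₀⁻¹ := by rw [hc]
      _ = k₀ * y * k₀⁻¹ := by group
      _ = z := hk₀
  · intro k
    ext
    simp
  · intro c
    ext
    simp

/-- Second orthogonality relation in counting form. -/
theorem sum_irr_mul_conj_eq_card (y z : G) :
    ∑ χ : IrrCharacter G, (χ : G → ℂ) y * conj ((χ : G → ℂ) z) =
      (Nat.card {k : G // k * y * k⁻¹ = z} : ℂ) := by
  by_cases h : IsConj y z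
  · rw [second_orthogonality_of_isConj h, card_conjugators_of_isConj h]
  · rw [second_orthogonality_of_not_isConj h]
    have : IsEmpty {k : G // k * y * k⁻¹ = z} :=
      ⟨fun k => h (isConj_iff.mpr ⟨k.1, k.2⟩)⟩
    simp

/-- **Brauer's permutation lemma**, counting form. -/
theorem brauer_perm_count (a : IrrCharacter G → IrrCharacter G) (b : G → G)
    (hb : Function.Bijective b)
    (hab : ∀ (χ : IrrCharacter G) (y : G), (a χ : G → ℂ) (b y) = (χ : G → ℂ) y) :
    (Nat.card {χ : IrrCharacter G // a χ = χ} : ℂ) * (Nat.card G : ℂ) =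
      (Nat.card {p : G × G // p.2 * p.1 * p.2⁻¹ = b p.1} : ℂ) := by
  classical
  have hG : (Nat.card G : ℂ) ≠ 0 := by
    rw [Nat.card_eq_fintype_card]
    exact_mod_cast Fintype.card_ne_zero
  -- left side as a sum of inner products
  have h1 : (Nat.card {χ : IrrCharacter G // a χ = χ} : ℂ) =
      ∑ χ : IrrCharacter G, classInner ((a χ : IrrCharacter G) : G → ℂ) (χ : G → ℂ) := by
    rw [Nat.card_eq_fintype_card, Fintype.card_subtype, Finset.card_filter]
    push_cast
    refine Finset.sum_congr rfl (fun χ _ => ?_)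
    rw [classInner_irr (a χ).2 χ.2]
    by_cases h : a χ = χ
    · rw [if_pos h, if_pos (congrArg Subtype.val h)]
    · rw [if_neg h, if_neg (fun h' => h (Subtype.ext h'))]
  -- right side as a sum
  have h2 : (Nat.card {p : G × G // p.2 * p.1 * p.2⁻¹ = b p.1} : ℂ) =
      ∑ y : G, (Nat.card {k : G // k * y * k⁻¹ = b y} : ℂ) := by
    have e : {p : G × G // p.2 * p.1 * p.2⁻¹ = b p.1} ≃ Σ y : G, {k : G // k * y * k⁻¹ = b y} :=
      { toFun := fun p => ⟨p.1.1, ⟨p.1.2, p.2⟩⟩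
        invFun := fun q => ⟨(q.1, q.2.1), q.2.2⟩
        left_inv := fun p => rfl
        right_inv := fun q => rfl }
    rw [Nat.card_congr e, Nat.card_sigma]
    push_cast
    rfl
  rw [h1, h2, Finset.sum_mul]
  simp only [classInner]
  have h3 : ∀ χ : IrrCharacter G,
      (Nat.card G : ℂ)⁻¹ * (∑ g : G, (a χ : G → ℂ) g * conj ((χ : G → ℂ) g)) * (Nat.card G : ℂ) =
        ∑ y : G, (χ : G → ℂ) y * conj ((χ : G → ℂ) (b y)) := by
    intro χ
    rw [mul_comm, ← mul_assoc, mul_inv_cancel₀ hG, one_mul]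
    rw [← (Equiv.ofBijective b hb).sum_comp]
    refine Finset.sum_congr rfl (fun y _ => ?_)
    rw [Equiv.ofBijective_apply, hab]
  simp only [h3]
  rw [Finset.sum_comm]
  refine Finset.sum_congr rfl (fun y _ => ?_)
  exact sum_irr_mul_conj_eq_card y (b y)

end Cfsg.Agent.Lib.Helper81
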