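import Mathlib
import Cfsg.Prelude.Def_Characters
import Cfsg.Agent.Lib.Helper74.EquivOfChar
import Cfsg.Agent.Lib.Helper74.Coord

set_option autoImplicit false
open Cfsg

namespace Cfsg.Agent.Lib.Helper81

open Representation

/-- If the restriction `ρ ∘ f` of a representation along a monoid homomorphism is irreducible
then so is `ρ`. -/
theorem isIrreducible_of_comp_isIrreducible {k : Type*} [Field k] {G H : Type*} [Monoid G]
    [Monoid H] {V : Type*} [AddCommGroup V] [Module k V] (ρ : Representation k G V) (f : H →* G)
    (h : Representation.IsIrreducible (MonoidHom.comp ρ f : Representation k H V)) :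
    ρ.IsIrreducible := by
  -- the map on subrepresentations
  let Φ : Subrepresentation ρ → Subrepresentation (MonoidHom.comp ρ f : Representation k H V) :=
    fun W => ⟨W.toSubmodule, fun g v hv => W.apply_mem_toSubmodule (f g) hv⟩
  have hΦinj : Function.Injective Φ := by
    intro W W' hWW'
    apply Subrepresentation.toSubmodule_injective
    exact congrArg (fun X : Subrepresentation (MonoidHom.comp ρ f : Representation k H V) =>
      X.toSubmodule) hWW'
  have hbot : Φ ⊥ = ⊥ := by
    apply Subrepresentation.toSubmodule_injective
    rfl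
  have htop : Φ ⊤ = ⊤ := by
    apply Subrepresentation.toSubmodule_injective
    rfl
  refine { exists_pair_ne := ⟨⊥, ⊤, ?_⟩, eq_bot_or_eq_top := fun a => ?_ }
  · intro hbt
    have : (⊥ : Subrepresentation (MonoidHom.comp ρ f : Representation k H V)) = ⊤ := by
      rw [← hbot, ← htop, hbt]
    exact bot_ne_top this
  · rcases h.eq_bot_or_eq_top (Φ a) with h1 | h1
    · left; apply hΦinj; rw [h1, hbot]
    · right; apply hΦinj; rw [h1, htop]

/-- A character whose pull-back along a homomorphism from a finite group is an irreducible
character is itself irreducible (e.g. a character whose restriction to a subgroup is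
irreducible). -/
theorem isIrrCharacter_of_comp_isIrrCharacter {G H : Type*} [Group G] [Group H] [Finite H]
    {χ : G → ℂ} (hχ : IsCharacter G χ) (f : H →* G) (h : IsIrrCharacter H (χ ∘ f)) :
    IsIrrCharacter G χ := by
  classical
  have := Fintype.ofFinite H
  obtain ⟨n, ρ, rfl⟩ := hχ
  obtain ⟨m, σ, hσ, hσχ⟩ := h
  refine ⟨n, ρ, ?_, rfl⟩
  apply isIrreducible_of_comp_isIrreducible ρ f
  have := hσ
  have hchar : Representation.character (MonoidHom.comp ρ f : Representation ℂ H (Fin n → ℂ))
      = σ.character := by
    rw [hσχ]; rfl
  obtain ⟨e⟩ := Cfsg.Agent.Lib.Helper74.equiv_of_character_eq σ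
    (MonoidHom.comp ρ f : Representation ℂ H (Fin n → ℂ)) hchar
  exact Cfsg.Agent.Lib.Helper74.isIrreducible_of_equiv e

end Cfsg.Agent.Lib.Helper81
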