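import Mathlib
import Cfsg.Prelude.Def_Characters
import Cfsg.Agent.Lib.Helper77.Linear
import Cfsg.Agent.Lib.Helper78.CharMore
import Cfsg.Agent.Lib.Helper78.BlockSums
import Cfsg.Agent.Lib.Helper80.CharBasic
import Cfsg.Agent.Lib.Helper81.IrrTwist
import Cfsg.Agent.Lib.Helper81.ResIrr

/-!
# Linear characters acting on irreducible characters (helper81)

* `natCard_le_finrank_of_linearIndependent`
* `card_monoidHom_trivial_on_le_index`: at most `[G : I]` homomorphisms `G →* ℂˣ` are trivial
  on the subgroup `I`.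
* `monoidHom_units_mul_conj`: `ν g * conj (ν g) = 1`.
* `isIrrCharacter_monoidHom_mul`: linear times irreducible is irreducible.
* `sum_eq_sum_subgroup_of_vanish`.
* `monoidHom_eq_one_of_mul_eq`: Gallagher-type lemma: if `ψ` restricts irreducibly along
  `f : M →* T`, `ν` is trivial on the image of `f` and `ν ψ = ψ` then `ν = 1`.
* `indFun_monoidHom_mul`: `Ind (ν_H θ) = ν Ind θ`.
* `le_ker_of_commutator_eq`: a perfect subgroup lies in the kernel of every `G →* ℂˣ`.
-/

set_option autoImplicit false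
open Cfsg
open scoped ComplexConjugate commutatorElement

namespace Cfsg.Agent.Lib.Helper81

/-- A linearly independent family in a finite-dimensional space is indexed by a finite type
of cardinality at most the dimension (`Nat.card` form). -/
theorem natCard_le_finrank_of_linearIndependent {R M ι : Type*} [Field R] [AddCommGroup M]
    [Module R M] [Module.Finite R M] {b : ι → M} (h : LinearIndependent R b) :
    Finite ι ∧ Nat.card ι ≤ Module.finrank R M := by
  have hfin : Finite ι := Cardinal.lt_aleph0_iff_finite.mp h.lt_aleph0_of_finite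
  refine ⟨hfin, ?_⟩
  have := Fintype.ofFinite ι
  rw [Nat.card_eq_fintype_card]
  exact h.fintype_card_le_finrank

/-- The number of homomorphisms `G →* ℂˣ` that are trivial on a subgroup `I` of a finite group
is at most the index of `I`. -/
theorem card_monoidHom_trivial_on_le_index {G : Type*} [Group G] [Finite G] (I : Subgroup G) :
    Finite {ν : G →* ℂˣ // I ≤ ν.ker} ∧ Nat.card {ν : G →* ℂˣ // I ≤ ν.ker} ≤ I.index := by
  classical
  have := Fintype.ofFinite G
  -- the family of functions on `G ⧸ I`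
  let Ψ : {ν : G →* ℂˣ // I ≤ ν.ker} → (G ⧸ I → ℂ) := fun ν =>
    Quotient.lift (fun g : G => ((ν.1 g : ℂˣ) : ℂ)) (by
      intro a b hab
      have hab' : a⁻¹ * b ∈ I := QuotientGroup.leftRel_apply.mp hab
      have h1 : ν.1 (a⁻¹ * b) = 1 := MonoidHom.mem_ker.mp (ν.2 hab')
      have h2 : ν.1 b = ν.1 a := by
        have : ν.1 a * ν.1 (a⁻¹ * b) = ν.1 b := by rw [← map_mul]; congr 1; group
        rw [← this, h1, mul_one]
      show ((ν.1 a : ℂˣ) : ℂ) = ((ν.1 b : ℂˣ) : ℂ)
      rw [h2])
  have hΨ : LinearIndependent ℂ Ψ := by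
    apply LinearIndependent.of_comp (LinearMap.funLeft ℂ ℂ (QuotientGroup.mk : G → G ⧸ I))
    have hinj : Function.Injective
        (fun ν : {ν : G →* ℂˣ // I ≤ ν.ker} => (Units.coeHom ℂ).comp ν.1) := by
      intro ν ν' h
      apply Subtype.ext
      ext g
      exact congrArg (fun f : G →* ℂ => f g) h
    have := (linearIndependent_monoidHom G ℂ).comp _ hinj
    have heq : ⇑(LinearMap.funLeft ℂ ℂ (QuotientGroup.mk : G → G ⧸ I)) ∘ Ψ =
        (fun f : G →* ℂ => (f : G → ℂ)) ∘
          (fun ν : {ν : G →* ℂˣ // I ≤ ν.ker} => (Units.coeHom ℂ).comp ν.1) := by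
      funext ν g
      rfl
    rw [heq]
    exact this
  have h := natCard_le_finrank_of_linearIndependent hΨ
  refine ⟨h.1, h.2.trans ?_⟩
  rw [Module.finrank_pi, Subgroup.index, Nat.card_eq_fintype_card]

/-- The values of a homomorphism `G →* ℂˣ` on a finite group have norm one. -/
theorem monoidHom_units_mul_conj {G : Type*} [Group G] [Finite G] (ν : G →* ℂˣ) (g : G) :
    ((ν g : ℂˣ) : ℂ) * conj ((ν g : ℂˣ) : ℂ) = 1 := by
  have hpow : ((ν g : ℂˣ) : ℂ) ^ orderOf g = 1 := by
    rw [← Units.val_pow_eq_pow_val, ← map_pow, pow_orderOf_eq_one, map_one, Units.val_one]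
  have hnorm : ‖((ν g : ℂˣ) : ℂ)‖ = 1 :=
    Complex.norm_eq_one_of_pow_eq_one hpow (orderOf_pos g).ne'
  rw [Complex.mul_conj, Complex.normSq_eq_norm_sq, hnorm]
  simp

/-- The product of an irreducible character with a linear character (given as a homomorphism
`G →* ℂˣ`) is irreducible. -/
theorem isIrrCharacter_monoidHom_mul {G : Type*} [Group G] [Finite G] (ν : G →* ℂˣ)
    {χ : G → ℂ} (hχ : IsIrrCharacter G χ) :
    IsIrrCharacter G (fun g => ((ν g : ℂˣ) : ℂ) * χ g) := by
  classical
  have := Fintype.ofFinite G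
  have hchar : IsCharacter G (fun g => ((ν g : ℂˣ) : ℂ) * χ g) :=
    Cfsg.Agent.Lib.Helper80.isCharacter_mul
      (Cfsg.Agent.Lib.Helper78.IsIrrCharacter.isCharacter
        (Cfsg.Agent.Lib.Helper77.isIrrCharacter_of_monoidHom ν))
      (Cfsg.Agent.Lib.Helper78.IsIrrCharacter.isCharacter hχ)
  rw [Cfsg.Agent.Lib.Helper78.isIrrCharacter_iff_classInner_self hchar]
  rw [← Cfsg.Agent.Lib.Helper78.classInner_irr_self hχ]
  unfold classInner
  congr 1
  apply Finset.sum_congr rfl
  intro g _
  rw [map_mul]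
  calc ((ν g : ℂˣ) : ℂ) * χ g * (conj ((ν g : ℂˣ) : ℂ) * conj (χ g))
      = (((ν g : ℂˣ) : ℂ) * conj ((ν g : ℂˣ) : ℂ)) * (χ g * conj (χ g)) := by ring
    _ = χ g * conj (χ g) := by rw [monoidHom_units_mul_conj, one_mul]

/-- Sum over a finite group of a function vanishing off a subgroup. -/
theorem sum_eq_sum_subgroup_of_vanish {T : Type*} [Group T] [Fintype T] (K : Subgroup T)
    [Fintype K] (F : T → ℂ) (hF : ∀ t, t ∉ K → F t = 0) :
    ∑ t : T, F t = ∑ k : K, F k := by
  classical
  rw [← Finset.sum_subtype (Finset.univ.filter (· ∈ K)) (by simp) F]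
  rw [Finset.sum_filter]
  apply Finset.sum_congr rfl
  intro t _
  split_ifs with h
  · rfl
  · exact hF t h

/-- **Gallagher-type lemma**: if `ψ ∈ Irr(T)` pulls back to an irreducible character along
`f : M →* T` (e.g. restricts irreducibly to a subgroup) and the linear character
`ν : T →* ℂˣ` is trivial on the image of `f` and satisfies `ν ψ = ψ`, then `ν = 1`. -/
theorem monoidHom_eq_one_of_mul_eq {T M : Type*} [Group T] [Finite T] [Group M] [Finite M]
    (f : M →* T) {ψ : T → ℂ} (hψ : IsIrrCharacter T ψ) (hres : IsIrrCharacter M (ψ ∘ f))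
    (ν : T →* ℂˣ) (hνN : ∀ m, ν (f m) = 1) (hmul : ∀ t, ((ν t : ℂˣ) : ℂ) * ψ t = ψ t) :
    ν = 1 := by
  classical
  have := Fintype.ofFinite T
  -- `ψ` vanishes off the kernel
  have hvan : ∀ t, t ∉ ν.ker → ψ t = 0 := by
    intro t ht
    have h1 : (((ν t : ℂˣ) : ℂ) - 1) * ψ t = 0 := by rw [sub_mul, hmul t, one_mul, sub_self]
    rcases mul_eq_zero.mp h1 with h2 | h2
    · exfalso
      apply ht
      rw [MonoidHom.mem_ker]
      apply Units.ext
      rw [Units.val_one]
      exact sub_eq_zero.mp h2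
    · exact h2
  -- the restriction to the kernel is irreducible
  have hψK : IsIrrCharacter ν.ker (fun k : ν.ker => ψ k) := by
    have hchar : IsCharacter ν.ker (fun k : ν.ker => ψ k) :=
      isCharacter_comp (Cfsg.Agent.Lib.Helper78.IsIrrCharacter.isCharacter hψ) ν.ker.subtype
    exact isIrrCharacter_of_comp_isIrrCharacter hchar
      (f.codRestrict ν.ker (fun m => MonoidHom.mem_ker.mpr (hνN m))) hres
  have h1 := Cfsg.Agent.Lib.Helper78.classInner_irr_self hψ
  have h2 := Cfsg.Agent.Lib.Helper78.classInner_irr_self hψK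
  unfold classInner at h1 h2
  rw [sum_eq_sum_subgroup_of_vanish ν.ker (fun t => ψ t * conj (ψ t))
    (fun t ht => by rw [hvan t ht, zero_mul])] at h1
  have hT0 : (Nat.card T : ℂ) ≠ 0 := by exact_mod_cast (Nat.card_pos (α := T)).ne'
  have hK0 : (Nat.card ν.ker : ℂ) ≠ 0 := by exact_mod_cast (Nat.card_pos (α := ν.ker)).ne'
  have h3 : (Nat.card ν.ker : ℂ) = (Nat.card T : ℂ) := by
    have e1 : ∑ k : ν.ker, ψ k * conj (ψ k) = (Nat.card T : ℂ) := by
      field_simp at h1
      exact h1
    have e2 : ∑ k : ν.ker, ψ k * conj (ψ k) = (Nat.card ν.ker : ℂ) := by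
      field_simp at h2
      exact h2
    rw [← e1, ← e2]
  have h4 : Nat.card ν.ker = Nat.card T := by exact_mod_cast h3
  have h5 : ν.ker = ⊤ := Subgroup.card_eq_iff_eq_top _ |>.mp h4
  exact MonoidHom.ker_eq_top_iff.mp h5

/-- Induction commutes with multiplication by a linear character of the big group:
`Ind_H^G (ν_H θ) = ν · Ind_H^G θ`. -/
theorem indFun_monoidHom_mul {G : Type*} [Group G] [Fintype G] (H : Subgroup G) (ν : G →* ℂˣ)
    (θ : H → ℂ) :
    indFun H (fun h : H => ((ν (h : G) : ℂˣ) : ℂ) * θ h) =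
      fun g => ((ν g : ℂˣ) : ℂ) * indFun H θ g := by
  funext g
  unfold indFun
  rw [mul_left_comm]
  congr 1
  rw [Finset.mul_sum]
  apply Finset.sum_congr rfl
  intro x _
  have hν : ν (x⁻¹ * g * x) = ν g := by
    rw [map_mul, map_mul, map_inv, mul_comm (ν x)⁻¹, mul_assoc, inv_mul_cancel, mul_one]
  by_cases hx : x⁻¹ * g * x ∈ H
  · rw [Cfsg.Agent.Lib.Helper78.extendByZero_apply_of_mem H _ hx,
      Cfsg.Agent.Lib.Helper78.extendByZero_apply_of_mem H _ hx]
    show ((ν (x⁻¹ * g * x) : ℂˣ) : ℂ) * _ = _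
    rw [hν]
  · rw [Cfsg.Agent.Lib.Helper78.extendByZero_apply_not_mem H _ hx,
      Cfsg.Agent.Lib.Helper78.extendByZero_apply_not_mem H _ hx, mul_zero]

/-- A subgroup equal to its own commutator subgroup lies in the kernel of every homomorphism to
a commutative group. -/
theorem le_ker_of_commutator_eq {G A : Type*} [Group G] [CommGroup A] (N : Subgroup G)
    (hN : ⁅N, N⁆ = N) (ν : G →* A) : N ≤ ν.ker := by
  rw [← hN, Subgroup.commutator_le]
  intro a _ b _
  rw [MonoidHom.mem_ker, map_commutatorElement]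
  exact commutatorElement_eq_one_iff_commute.mpr (Commute.all _ _)

/-- A non-abelian minimal normal subgroup is perfect. -/
theorem commutator_eq_of_minimal_normal {G : Type*} [Group G] (N : Subgroup G) [hN : N.Normal]
    (hmin : ∀ M : Subgroup G, M.Normal → M ≤ N → M = ⊥ ∨ M = N)
    (hna : ¬ IsMulCommutative ↥N) : ⁅N, N⁆ = N := by
  rcases hmin ⁅N, N⁆ inferInstance (Subgroup.commutator_le_right N N) with h | h
  · exfalso
    apply hna
    refine ⟨⟨fun a b => ?_⟩⟩
    have hab : ⁅a.1, b.1⁆ ∈ ⁅N, N⁆ := Subgroup.commutator_mem_commutator a.2 b.2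
    rw [h, Subgroup.mem_bot] at hab
    apply Subtype.ext
    have := commutatorElement_eq_one_iff_mul_comm.mp hab
    simpa using this
  · exact h

end Cfsg.Agent.Lib.Helper81
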