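import Mathlib

/-!
# Linear algebra and mod-`p` counting tools for coprime actions (helper81)

* `card_invariant_modEq_card_fixed`, `sum_eq_sum_fixedPoints_add`: for a `p`-group acting on a
  finite set, the sum of an invariant algebraic-integer valued function is congruent mod `p` to
  the sum over the fixed points.
* `dvd_of_eq_mul_isIntegral`, `det_ne_zero_of_modEq_diagonal`: a matrix congruent mod `p` to a
  diagonal matrix of integers prime to `p` is non-singular.
* `exists_right_inverse_of_det_mul_ne_zero`, `exists_left_inverse_of_det_mul_ne_zero`.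
* `card_fixed_eq_of_intertwine`: Brauer's permutation lemma in linear algebra form.
-/

set_option autoImplicit false

namespace Cfsg.Agent.Lib.Helper81

open MulAction Matrix

section modp

variable {P Ω : Type*} [Group P] [MulAction P Ω] (p : ℕ) [Fact p.Prime]

/-- For a `p`-group acting on a finite set, an invariant subset has as many elements mod `p`
as fixed points in it. -/
theorem card_invariant_modEq_card_fixed [Finite Ω] (hP : IsPGroup p P) (S : Set Ω)
    (hS : ∀ (x : P) (ω : Ω), ω ∈ S → x • ω ∈ S) :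
    Nat.card S ≡ Nat.card (S ∩ fixedPoints P Ω : Set Ω) [MOD p] := by
  let S' : SubMulAction P Ω := ⟨S, fun x {ω} hω => hS x ω hω⟩
  have h1 := hP.card_modEq_card_fixedPoints (S' : Type _)
  have e : fixedPoints P S' ≃ (S ∩ fixedPoints P Ω : Set Ω) :=
    { toFun := fun a => ⟨a.1.1, a.1.2, fun x => congrArg Subtype.val (a.2 x)⟩
      invFun := fun b => ⟨⟨b.1, b.2.1⟩, fun x => Subtype.ext (b.2.2 x)⟩
      left_inv := fun a => rfl
      right_inv := fun b => rfl }
  rw [Nat.card_congr e] at h1
  exact h1

/-- **Fixed point sums mod `p`**: for a `p`-group acting on a finite set and an invariant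
function with algebraic integer values, the sum over the whole set differs from the sum over
the fixed points by `p` times an algebraic integer. -/
theorem sum_eq_sum_fixedPoints_add [Fintype Ω] (hP : IsPGroup p P) (F : Ω → ℂ)
    (hF : ∀ (x : P) (ω : Ω), F (x • ω) = F ω) (hint : ∀ ω, IsIntegral ℤ (F ω))
    [DecidablePred (· ∈ fixedPoints P Ω)] :
    ∃ r : ℂ, IsIntegral ℤ r ∧
      ∑ ω, F ω = ∑ ω ∈ Finset.univ.filter (· ∈ fixedPoints P Ω), F ω + (p : ℂ) * r := by
  classical
  -- counting the level sets
  have hlevel : ∀ v : ℂ, ∃ t : ℤ,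
      ((Finset.univ.filter (fun ω => F ω = v)).card : ℤ) =
        ((Finset.univ.filter (· ∈ fixedPoints P Ω)).filter (fun ω => F ω = v)).card + p * t := by
    intro v
    have h := card_invariant_modEq_card_fixed p hP {ω | F ω = v}
      (fun x ω hω => by simpa [hF x ω] using hω)
    have h1 : Nat.card {ω | F ω = v} = (Finset.univ.filter (fun ω => F ω = v)).card := by
      rw [Nat.card_eq_fintype_card, Fintype.card_subtype]
      rfl
    have h2 : Nat.card ({ω | F ω = v} ∩ fixedPoints P Ω : Set Ω) =
        ((Finset.univ.filter (· ∈ fixedPoints P Ω)).filter (fun ω => F ω = v)).card := by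
      rw [Nat.card_eq_fintype_card, Fintype.card_subtype]
      congr 1
      ext ω
      simp [and_comm]
    rw [h1, h2] at h
    have h3 := (Nat.modEq_iff_dvd.mp h.symm)
    obtain ⟨t, ht⟩ := h3
    exact ⟨t, by linarith⟩
  choose t ht using hlevel
  refine ⟨∑ v ∈ Finset.univ.image F, (t v : ℂ) * v, ?_, ?_⟩
  · apply IsIntegral.sum
    intro v hv
    obtain ⟨ω, -, rfl⟩ := Finset.mem_image.mp hv
    exact (isIntegral_algebraMap (R := ℤ) (A := ℂ) (x := t (F ω))).mul (hint ω)
  · have e1 : ∑ ω, F ω = ∑ v ∈ Finset.univ.image F,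
        ((Finset.univ.filter (fun ω => F ω = v)).card : ℂ) * v := by
      rw [Finset.sum_comp (fun v => v) F]
      apply Finset.sum_congr rfl
      intro v _
      rw [nsmul_eq_mul]
    have e2 : ∑ ω ∈ Finset.univ.filter (· ∈ fixedPoints P Ω), F ω = ∑ v ∈ Finset.univ.image F,
        (((Finset.univ.filter (· ∈ fixedPoints P Ω)).filter (fun ω => F ω = v)).card : ℂ) * v := by
      rw [Finset.sum_comp (fun v => v) F]
      have hsub : (Finset.univ.filter (· ∈ fixedPoints P Ω)).image F ⊆ Finset.univ.image F :=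
        Finset.image_subset_image (Finset.filter_subset _ _)
      rw [← Finset.sum_subset hsub]
      · apply Finset.sum_congr rfl
        intro v _
        rw [nsmul_eq_mul]
      · intro v _ hv
        have : (Finset.univ.filter (· ∈ fixedPoints P Ω)).filter (fun ω => F ω = v) = ∅ := by
          apply Finset.filter_eq_empty_iff.mpr
          intro ω hω hωv
          exact hv (Finset.mem_image.mpr ⟨ω, hω, hωv⟩)
        rw [this]
        simp
    rw [e1, e2, Finset.mul_sum, ← Finset.sum_add_distrib]
    apply Finset.sum_congr rfl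
    intro v _
    have := ht v
    have h4 : ((Finset.univ.filter (fun ω => F ω = v)).card : ℂ) =
        (((Finset.univ.filter (· ∈ fixedPoints P Ω)).filter (fun ω => F ω = v)).card : ℂ)
          + (p : ℂ) * (t v : ℂ) := by exact_mod_cast this
    rw [h4]
    ring

end modp

/-- A natural number `a` with `a / p` an algebraic integer is divisible by `p`. -/
theorem dvd_of_eq_mul_isIntegral {a p : ℕ} (hp : p ≠ 0) {r : ℂ} (hr : IsIntegral ℤ r)
    (h : (a : ℂ) = (p : ℂ) * r) : p ∣ a := by
  have hpc : (p : ℂ) ≠ 0 := by exact_mod_cast hp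
  have hr' : r = algebraMap ℚ ℂ ((a : ℚ) / (p : ℚ)) := by
    have : r = (a : ℂ) / (p : ℂ) := by rw [h]; field_simp
    rw [this]; simp
  rw [hr'] at hr
  have h2 : IsIntegral ℤ ((a : ℚ) / (p : ℚ)) :=
    (isIntegral_algebraMap_iff (algebraMap ℚ ℂ).injective).mp hr
  obtain ⟨z, hz⟩ := IsIntegrallyClosed.isIntegral_iff.mp h2
  have hbq : (p : ℚ) ≠ 0 := by exact_mod_cast hp
  have h3 : (a : ℚ) = (p : ℚ) * z := by
    field_simp at hz
    simp at hz
    linarith
  have h4 : (a : ℤ) = (p : ℤ) * z := by exact_mod_cast h3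
  exact Int.natCast_dvd_natCast.mp ⟨z, h4⟩

/-- A complex square matrix congruent, modulo `p` times algebraic integers, to a diagonal
matrix of natural numbers prime to `p` has non-zero determinant. -/
theorem det_ne_zero_of_modEq_diagonal {X : Type*} [Fintype X] [DecidableEq X] (p : ℕ)
    [hp : Fact p.Prime] (A : Matrix X X ℂ) (d : X → ℕ) (hd : ∀ i, ¬ p ∣ d i)
    (E : Matrix X X ℂ) (hE : ∀ i j, IsIntegral ℤ (E i j))
    (hA : ∀ i j, A i j = (if i = j then (d i : ℂ) else 0) + (p : ℂ) * E i j) : A.det ≠ 0 := by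
  intro hdet
  let R := integralClosure ℤ ℂ
  let ER : Matrix X X R := fun i j => ⟨E i j, hE i j⟩
  let AR : Matrix X X R := Matrix.diagonal (fun i => ((d i : ℕ) : R)) + (p : R) • ER
  have hAR : (algebraMap R ℂ).mapMatrix AR = A := by
    ext i j
    rw [hA i j]
    simp only [RingHom.mapMatrix_apply, Matrix.map_apply, AR, Matrix.add_apply,
      Matrix.diagonal_apply, Matrix.smul_apply, smul_eq_mul, map_add, map_mul, map_natCast]
    congr 1
    split_ifs <;> simp
  have hdetR : AR.det = 0 := by
    have h1 : algebraMap R ℂ AR.det = 0 := by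
      rw [RingHom.map_det, hAR, hdet]
    exact (FaithfulSMul.algebraMap_injective R ℂ) (by rw [h1, map_zero])
  let I : Ideal R := Ideal.span {(p : R)}
  let π : R →+* R ⧸ I := Ideal.Quotient.mk I
  have hπp : π (p : R) = 0 := by
    apply Ideal.Quotient.eq_zero_iff_mem.mpr
    exact Ideal.subset_span rfl
  have hπA : π.mapMatrix AR = Matrix.diagonal (fun i => π ((d i : ℕ) : R)) := by
    ext i j
    simp only [RingHom.mapMatrix_apply, Matrix.map_apply, AR, Matrix.add_apply,
      Matrix.diagonal_apply, Matrix.smul_apply, smul_eq_mul, map_add, map_mul, hπp, zero_mul,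
      add_zero]
    split_ifs <;> simp
  have h2 : π ((∏ i, d i : ℕ) : R) = 0 := by
    have : π AR.det = 0 := by rw [hdetR, map_zero]
    rw [RingHom.map_det, hπA, Matrix.det_diagonal] at this
    rw [← this]
    push_cast
    rw [map_prod]
  have h3 : ((∏ i, d i : ℕ) : R) ∈ I := Ideal.Quotient.eq_zero_iff_mem.mp h2
  obtain ⟨r, hr⟩ := Ideal.mem_span_singleton.mp h3
  have h4 : ((∏ i, d i : ℕ) : ℂ) = (p : ℂ) * (r : ℂ) := by
    have := congrArg (algebraMap R ℂ) hr
    simpa using this
  have h5 : p ∣ ∏ i, d i := dvd_of_eq_mul_isIntegral hp.out.ne_zero r.2 h4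
  obtain ⟨i, -, hi⟩ := (Nat.Prime.prime hp.out).exists_mem_finset_dvd h5
  exact hd i hi

/-- A rectangular matrix `M` such that `M * N` has non-zero determinant has a right inverse. -/
theorem exists_right_inverse_of_det_mul_ne_zero {X Y : Type*} [Fintype X] [Fintype Y]
    [DecidableEq X] [DecidableEq Y] (M : Matrix X Y ℂ) (N : Matrix Y X ℂ)
    (h : (M * N).det ≠ 0) : ∃ N' : Matrix Y X ℂ, M * N' = 1 := by
  refine ⟨N * (M * N)⁻¹, ?_⟩
  rw [← Matrix.mul_assoc]
  exact Matrix.mul_nonsing_inv _ (isUnit_iff_ne_zero.mpr h)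

/-- A rectangular matrix `M` such that `N * M` has non-zero determinant has a left inverse. -/
theorem exists_left_inverse_of_det_mul_ne_zero {X Y : Type*} [Fintype X] [Fintype Y]
    [DecidableEq X] [DecidableEq Y] (M : Matrix X Y ℂ) (N : Matrix Y X ℂ)
    (h : (N * M).det ≠ 0) : ∃ N' : Matrix Y X ℂ, N' * M = 1 := by
  refine ⟨(N * M)⁻¹ * N, ?_⟩
  rw [Matrix.mul_assoc]
  exact Matrix.nonsing_inv_mul _ (isUnit_iff_ne_zero.mpr h)

/-- **Brauer's permutation lemma, linear algebra form**: if a rectangular complex matrix with a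
left and a right inverse intertwines two permutations of its index sets, then the two
permutations have the same number of fixed points. -/
theorem card_fixed_eq_of_intertwine {X Y : Type*} [Fintype X] [Fintype Y]
    [DecidableEq X] [DecidableEq Y] (M : Matrix X Y ℂ) (N₁ N₂ : Matrix Y X ℂ)
    (h1 : M * N₁ = 1) (h2 : N₂ * M = 1) (sX : Equiv.Perm X) (sY : Equiv.Perm Y)
    (hM : ∀ a b, M (sX a) (sY b) = M a b) :
    Nat.card {a // sX a = a} = Nat.card {b // sY b = b} := by
  have hN : N₁ = N₂ := by
    calc N₁ = (N₂ * M) * N₁ := by rw [h2, Matrix.one_mul]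
      _ = N₂ * (M * N₁) := by rw [Matrix.mul_assoc]
      _ = N₂ := by rw [h1, Matrix.mul_one]
  subst hN
  have hcomm : sX.permMatrix ℂ * M = M * sY.permMatrix ℂ := by
    rw [PEquiv.toMatrix_toPEquiv_mul, PEquiv.mul_toMatrix_toPEquiv]
    ext a b
    simp only [Matrix.submatrix_apply, id]
    have := hM a (sY.symm b)
    rw [Equiv.apply_symm_apply] at this
    exact this
  have htr : Matrix.trace (sX.permMatrix ℂ) = Matrix.trace (sY.permMatrix ℂ) := by
    calc Matrix.trace (sX.permMatrix ℂ)
        = Matrix.trace (sX.permMatrix ℂ * (M * N₁)) := by rw [h1, Matrix.mul_one]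
      _ = Matrix.trace ((M * sY.permMatrix ℂ) * N₁) := by rw [← Matrix.mul_assoc, hcomm]
      _ = Matrix.trace (N₁ * (M * sY.permMatrix ℂ)) := Matrix.trace_mul_comm _ _
      _ = Matrix.trace (sY.permMatrix ℂ) := by rw [← Matrix.mul_assoc, h2, Matrix.one_mul]
  rw [Matrix.trace_permutation, Matrix.trace_permutation] at htr
  have h3 : (Function.fixedPoints sX).ncard = (Function.fixedPoints sY).ncard := by
    exact_mod_cast htr
  exact h3

end Cfsg.Agent.Lib.Helper81
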