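import Mathlib

/-!
# Extending a homomorphism over a cyclic quotient (helper81)

* `conj_zpow_of_conj`
* `exists_monoidHom_extension_of_cyclic`: `N` normal in `G = ⟨g₀⟩N`; `f : N →* Γ` and `a : Γ`
  realising conjugation by `g₀` with `a ^ m = f (g₀ ^ m)` give an extension `G →* Γ`.
-/

set_option autoImplicit false

namespace Cfsg.Agent.Lib.Helper81

section CyclicExtension

variable {G Γ : Type*} [Group G] [Group Γ] (N : Subgroup G) [hN : N.Normal]

/-- If `a` realises conjugation by `g₀` on the image of `f : N →* Γ`, then `a ^ k` realises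
conjugation by `g₀ ^ k`. -/
theorem conj_zpow_of_conj (f : N →* Γ) (g₀ : G) (a : Γ)
    (ha : ∀ n : N, a * f n * a⁻¹ = f (MulAut.conjNormal g₀ n)) (k : ℤ) (n : N) :
    a ^ k * f n * (a ^ k)⁻¹ = f (MulAut.conjNormal (g₀ ^ k) n) := by
  -- the subgroup of compatible pairs
  let E : Subgroup (G × Γ) :=
    { carrier := {x | ∀ n : N, x.2 * f n * x.2⁻¹ = f (MulAut.conjNormal x.1 n)}
      one_mem' := by intro n; simp
      mul_mem' := by
        intro x y hx hy n
        have : (x * y).2 * f n * (x * y).2⁻¹ = x.2 * (y.2 * f n * y.2⁻¹) * x.2⁻¹ := by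
          simp only [Prod.snd_mul, mul_inv_rev]; group
        rw [this, hy n, hx _]
        simp only [Prod.fst_mul, map_mul, MulAut.mul_apply]
      inv_mem' := by
        intro x hx n
        have h1 := hx (MulAut.conjNormal x.1⁻¹ n)
        have h2 : MulAut.conjNormal x.1 (MulAut.conjNormal x.1⁻¹ n) = n := by
          rw [← MulAut.mul_apply, ← map_mul, mul_inv_cancel, map_one, MulAut.one_apply]
        rw [h2] at h1
        simp only [Prod.snd_inv, Prod.fst_inv, inv_inv]
        rw [← h1]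
        group }
  have hmem : ((g₀, a) : G × Γ) ∈ E := ha
  have hk : ((g₀, a) : G × Γ) ^ k ∈ E := E.zpow_mem hmem k
  have := hk n
  simpa using this

/-- **Extension of a homomorphism over a cyclic quotient**: let `N` be normal in `G` with
`G = ⟨g₀⟩N` and `g₀ ^ k ∈ N` only for multiples `k` of `m`; a homomorphism `f : N →* Γ`
together with `a : Γ` realising conjugation by `g₀` and satisfying `a ^ m = f (g₀ ^ m)` extends
to a homomorphism `G →* Γ` sending `g₀` to `a`. -/
theorem exists_monoidHom_extension_of_cyclic (f : N →* Γ) (g₀ : G) (a : Γ) (m : ℤ)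
    (hgen : ∀ g : G, ∃ k : ℤ, ∃ n : N, g = g₀ ^ k * n)
    (hm : ∀ k : ℤ, g₀ ^ k ∈ N → m ∣ k) (hmN : g₀ ^ m ∈ N)
    (ha : ∀ n : N, a * f n * a⁻¹ = f (MulAut.conjNormal g₀ n))
    (ham : a ^ m = f ⟨g₀ ^ m, hmN⟩) :
    ∃ F : G →* Γ, (∀ n : N, F n = f n) ∧ F g₀ = a := by
  have hconj := conj_zpow_of_conj N f g₀ a ha
  -- well-definedness
  have hwd : ∀ (k k' : ℤ) (n n' : N), g₀ ^ k * n = g₀ ^ k' * n' →
      a ^ k * f n = a ^ k' * f n' := by
    intro k k' n n' h
    have h1 : g₀ ^ (k - k') = (n' * n⁻¹ : N) := by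
      rw [show k - k' = -k' + k by ring, zpow_add, zpow_neg]
      have : g₀ ^ k = g₀ ^ k' * n' * (n : G)⁻¹ := by rw [← h]; group
      rw [this]
      simp only [Subgroup.coe_mul, Subgroup.coe_inv]
      group
    have h2 : g₀ ^ (k - k') ∈ N := by rw [h1]; exact (n' * n⁻¹).2
    obtain ⟨j, hj⟩ := hm _ h2
    have h3 : a ^ (k - k') = f (n' * n⁻¹) := by
      rw [hj, zpow_mul, ham, ← map_zpow]
      congr 1
      apply Subtype.ext
      rw [Subgroup.coe_zpow]
      show (g₀ ^ m) ^ j = _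
      rw [← zpow_mul, ← hj, h1]
    have h4 : a ^ k = a ^ k' * a ^ (k - k') := by rw [← zpow_add]; congr 1; ring
    rw [h4, h3, mul_assoc, ← map_mul]
    congr 2
    group
  choose kf nf hkn using hgen
  have hF : ∀ (g : G) (k : ℤ) (n : N), g = g₀ ^ k * n → a ^ kf g * f (nf g) = a ^ k * f n := by
    intro g k n hg
    apply hwd
    rw [← hkn g, hg]
  refine ⟨MonoidHom.mk' (fun g => a ^ kf g * f (nf g)) ?_, ?_, ?_⟩
  · intro g g'
    have hdecomp : g * g' = g₀ ^ (kf g + kf g') *
        ((MulAut.conjNormal (g₀ ^ (-(kf g'))) (nf g) * nf g' : N) : G) := by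
      conv_lhs => rw [hkn g, hkn g']
      simp only [Subgroup.coe_mul, MulAut.conjNormal_apply, zpow_add, zpow_neg]
      group
    rw [hF (g * g') _ _ hdecomp, map_mul, ← hconj, zpow_add, zpow_neg]
    group
  · intro n
    show a ^ kf (n : G) * f (nf (n : G)) = f n
    rw [hF (n : G) 0 n (by simp)]
    simp
  · show a ^ kf g₀ * f (nf g₀) = a
    rw [hF g₀ 1 1 (by simp)]
    simp

end CyclicExtension

end Cfsg.Agent.Lib.Helper81
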