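import Mathlib
import Cfsg.Prelude.Def_Blocks

/-!
# Schur's lemma for class sums (helper81)

For an irreducible complex representation `ρ` of a finite group `G` on a finite-dimensional
space `V`, with character `χ = ρ.character`:

* `schur_scalar`: an endomorphism commuting with `ρ` is a scalar;
* `classSum_eq_smul`: `∑ y, ρ (y x y⁻¹) = (|G| χ(x) / dim V) • id`;
* `sum_char_inv_smul`: `∑ x, χ(x⁻¹) • ρ x = (|G| / dim V) • id`;
* `sum_commutator_eq_smul`: `∑ x y, ρ (x y x⁻¹ y⁻¹) = (|G| / dim V)² • id`;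
* `sum_char_commutator`: `∑ x y, χ (x y x⁻¹ y⁻¹) = |G|² / dim V`.
-/

set_option autoImplicit false
open Cfsg

namespace Cfsg.Agent.Lib.Helper81

open Representation

section
variable {G : Type*} [Group G] {V : Type*} [AddCommGroup V] [Module ℂ V]

theorem nontrivial_of_irreducible (ρ : Representation ℂ G V) [ρ.IsIrreducible] :
    Nontrivial V := by
  by_contra h
  rw [not_nontrivial_iff_subsingleton] at h
  have : (⊥ : Subrepresentation ρ) = ⊤ := by
    apply Subrepresentation.toSubmodule_injective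
    exact Subsingleton.elim _ _
  exact bot_ne_top this

variable [FiniteDimensional ℂ V]

theorem finrank_pos_of_irreducible (ρ : Representation ℂ G V) [ρ.IsIrreducible] :
    0 < Module.finrank ℂ V := by
  have := nontrivial_of_irreducible ρ
  exact Module.finrank_pos (R := ℂ) (M := V)

theorem finrank_ne_zero_of_irreducible (ρ : Representation ℂ G V) [ρ.IsIrreducible] :
    (Module.finrank ℂ V : ℂ) ≠ 0 := by
  exact_mod_cast (finrank_pos_of_irreducible ρ).ne'

/-- Schur's lemma, concrete form: an endomorphism commuting with an irreducible complex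
representation is a scalar. -/
theorem schur_scalar (ρ : Representation ℂ G V) [ρ.IsIrreducible] (T : V →ₗ[ℂ] V)
    (hT : ∀ g, T ∘ₗ ρ g = ρ g ∘ₗ T) : ∃ c : ℂ, T = c • LinearMap.id := by
  obtain ⟨c, hc⟩ := (IsIrreducible.algebraMap_intertwiningMap_bijective_of_isAlgClosed (ρ := ρ)).2
    ⟨T, hT⟩
  refine ⟨c, ?_⟩
  have := congrArg IntertwiningMap.toLinearMap hc
  simp at this
  rw [← this]
  rfl

/-- Schur's lemma with the scalar computed from the trace. -/
theorem schur_scalar_trace (ρ : Representation ℂ G V) [ρ.IsIrreducible] (T : V →ₗ[ℂ] V)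
    (hT : ∀ g, T ∘ₗ ρ g = ρ g ∘ₗ T) :
    T = (LinearMap.trace ℂ V T / (Module.finrank ℂ V : ℂ)) • LinearMap.id := by
  obtain ⟨c, hc⟩ := schur_scalar ρ T hT
  have hn := finrank_ne_zero_of_irreducible ρ
  have htr := congrArg (LinearMap.trace ℂ V) hc
  rw [map_smul, LinearMap.trace_id, smul_eq_mul] at htr
  rw [htr, mul_div_assoc, div_self hn, mul_one]
  exact hc

end

section
variable {G : Type*} [Group G] [Fintype G] {V : Type*} [AddCommGroup V] [Module ℂ V]

/-- The class sum `∑ y, ρ (y x y⁻¹)` commutes with the representation. -/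
theorem classSum_comm (ρ : Representation ℂ G V) (x g : G) :
    (∑ y : G, ρ (y * x * y⁻¹)) ∘ₗ ρ g = ρ g ∘ₗ (∑ y : G, ρ (y * x * y⁻¹)) := by
  rw [← Module.End.mul_eq_comp, ← Module.End.mul_eq_comp, Finset.sum_mul, Finset.mul_sum]
  refine Fintype.sum_equiv (Equiv.mulLeft g⁻¹) _ _ (fun y => ?_)
  simp only [Equiv.coe_mulLeft, ← map_mul]
  congr 1
  group

variable [FiniteDimensional ℂ V]

/-- Schur: the class sum of `x` acts on an irreducible representation as the scalar
`|G| χ(x) / χ(1)`. -/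
theorem classSum_eq_smul (ρ : Representation ℂ G V) [ρ.IsIrreducible] (x : G) :
    ∑ y : G, ρ (y * x * y⁻¹) =
      ((Fintype.card G : ℂ) * ρ.character x / (Module.finrank ℂ V : ℂ)) • LinearMap.id := by
  have h := schur_scalar_trace ρ _ (classSum_comm ρ x)
  rw [map_sum] at h
  have h2 : ∀ y : G, LinearMap.trace ℂ V (ρ (y * x * y⁻¹)) = ρ.character x := by
    intro y
    exact ρ.char_conj x y
  simp only [h2, Finset.sum_const, Finset.card_univ, nsmul_eq_mul] at h
  exact h

omit [FiniteDimensional ℂ V] in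
/-- The operator `∑ x, χ(x⁻¹) • ρ x` commutes with the representation. -/
theorem sum_char_inv_smul_comm (ρ : Representation ℂ G V) (g : G) :
    (∑ x : G, ρ.character x⁻¹ • ρ x) ∘ₗ ρ g = ρ g ∘ₗ (∑ x : G, ρ.character x⁻¹ • ρ x) := by
  rw [← Module.End.mul_eq_comp, ← Module.End.mul_eq_comp, Finset.sum_mul, Finset.mul_sum]
  refine Fintype.sum_equiv (MulAut.conj g⁻¹).toEquiv _ _ (fun x => ?_)
  simp only [MulEquiv.toEquiv_eq_coe, EquivLike.coe_coe, MulAut.conj_apply, inv_inv,
    smul_mul_assoc, mul_smul_comm, ← map_mul]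
  have h1 : (g⁻¹ * x * g)⁻¹ = g⁻¹ * x⁻¹ * g⁻¹⁻¹ := by group
  rw [h1, ρ.char_conj]
  congr 2
  group

/-- `∑ x, χ(x⁻¹) χ(x) = |G|` for the character of an irreducible representation. -/
theorem sum_char_inv_mul_char (ρ : Representation ℂ G V) [ρ.IsIrreducible] :
    ∑ x : G, ρ.character x⁻¹ * ρ.character x = (Fintype.card G : ℂ) := by
  have hinv : Invertible (Nat.card G : ℂ) := by
    refine invertibleOfNonzero ?_
    rw [Nat.card_eq_fintype_card]
    exact_mod_cast Fintype.card_ne_zero
  have h := Representation.char_orthonormal ρ ρ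
  rw [if_pos ⟨Representation.Equiv.refl ρ⟩] at h
  have hne : (Nat.card G : ℂ) ≠ 0 := by
    rw [Nat.card_eq_fintype_card]
    exact_mod_cast Fintype.card_ne_zero
  rw [inv_mul_eq_iff_eq_mul₀ hne, Nat.card_eq_fintype_card] at h
  simp only [mul_one] at h
  rw [← h]
  exact Finset.sum_congr rfl (fun x _ => mul_comm _ _)

/-- `∑ x, χ(x⁻¹) • ρ x = (|G| / χ(1)) • id` for an irreducible representation. -/
theorem sum_char_inv_smul (ρ : Representation ℂ G V) [ρ.IsIrreducible] :
    ∑ x : G, ρ.character x⁻¹ • ρ x =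
      ((Fintype.card G : ℂ) / (Module.finrank ℂ V : ℂ)) • LinearMap.id := by
  have h := schur_scalar_trace ρ _ (sum_char_inv_smul_comm ρ)
  rw [map_sum] at h
  simp only [map_smul, smul_eq_mul] at h
  have h3 : ∑ x : G, ρ.character x⁻¹ * (LinearMap.trace ℂ V) (ρ x) = (Fintype.card G : ℂ) :=
    sum_char_inv_mul_char ρ
  rw [h3] at h
  exact h

/-- `∑ x y, ρ (x y x⁻¹ y⁻¹) = (|G| / χ(1))² • id` for an irreducible representation. -/
theorem sum_commutator_eq_smul (ρ : Representation ℂ G V) [ρ.IsIrreducible] :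
    ∑ x : G, ∑ y : G, ρ (x * y * x⁻¹ * y⁻¹) =
      (((Fintype.card G : ℂ) / (Module.finrank ℂ V : ℂ)) *
        ((Fintype.card G : ℂ) / (Module.finrank ℂ V : ℂ))) • LinearMap.id := by
  have h1 : ∀ x : G, ∑ y : G, ρ (x * y * x⁻¹ * y⁻¹) =
      ((Fintype.card G : ℂ) / (Module.finrank ℂ V : ℂ)) • (ρ.character x⁻¹ • ρ x) := by
    intro x
    have : ∀ y : G, ρ (x * y * x⁻¹ * y⁻¹) = ρ x * ρ (y * x⁻¹ * y⁻¹) := by
      intro y
      rw [← map_mul]
      congr 1
      group
    simp only [this]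
    rw [← Finset.mul_sum, classSum_eq_smul ρ x⁻¹, mul_smul_comm, smul_smul]
    congr 1
    · ring
  simp only [h1]
  rw [← Finset.smul_sum, sum_char_inv_smul ρ, smul_smul]

/-- `∑ x y, χ (x y x⁻¹ y⁻¹) = |G|² / χ(1)` for the character of an irreducible
representation. -/
theorem sum_char_commutator (ρ : Representation ℂ G V) [ρ.IsIrreducible] :
    ∑ x : G, ∑ y : G, ρ.character (x * y * x⁻¹ * y⁻¹) =
      (Fintype.card G : ℂ) * (Fintype.card G : ℂ) / (Module.finrank ℂ V : ℂ) := by
  have h := congrArg (LinearMap.trace ℂ V) (sum_commutator_eq_smul ρ)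
  rw [map_sum] at h
  simp only [map_sum, map_smul, LinearMap.trace_id, smul_eq_mul] at h
  have hn := finrank_ne_zero_of_irreducible ρ
  simp only [Representation.character]
  rw [h]
  field_simp

end

end Cfsg.Agent.Lib.Helper81
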