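import Mathlib
import Cfsg.Prelude.Def_Characters
import Cfsg.Agent.Lib.Helper74.EquivOfChar
import Cfsg.Agent.Lib.Helper81.SchurClassSum
import Cfsg.Agent.Lib.Helper81.ResIrr
import Cfsg.Agent.Lib.Helper81.CyclicExtHom

/-!
# Extension of invariant irreducible characters over cyclic quotients (helper81)

* `exists_representation_extension_of_cyclic`: representation form.
* `exists_irr_extension_of_cyclic`: if `N ⊴ G` with `G ⧸ N` cyclic, every `G`-invariant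
  irreducible character of `N` extends to an irreducible character of `G`.
-/

set_option autoImplicit false

namespace Cfsg.Agent.Lib.Helper81

open Representation

section CyclicExtensionRep

variable {G : Type*} [Group G] [Finite G] (N : Subgroup G) [hN : N.Normal]
  {V : Type*} [AddCommGroup V] [Module ℂ V] [FiniteDimensional ℂ V]

/-- **Extension of an invariant irreducible representation over a cyclic quotient**
(representation form). -/
theorem exists_representation_extension_of_cyclic (hcyc : IsCyclic (G ⧸ N))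
    (ρ : Representation ℂ N V) [hirr : ρ.IsIrreducible]
    (hinv : ∀ (g : G) (n : N), ρ.character (MulAut.conjNormal g n) = ρ.character n) :
    ∃ ρ' : Representation ℂ G V, ∀ n : N, ρ' (n : G) = ρ n := by
  classical
  have := Fintype.ofFinite N
  -- a generator of the quotient
  obtain ⟨x₀, hx₀⟩ := hcyc.exists_generator
  obtain ⟨g₀, rfl⟩ := QuotientGroup.mk_surjective x₀
  set m' : ℕ := orderOf (QuotientGroup.mk g₀ : G ⧸ N) with hm'
  have hm'pos : 0 < m' := orderOf_pos _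
  have hgen : ∀ g : G, ∃ k : ℤ, ∃ n : N, g = g₀ ^ k * n := by
    intro g
    obtain ⟨k, hk⟩ := Subgroup.mem_zpowers_iff.mp (hx₀ (QuotientGroup.mk g))
    have h1 : (QuotientGroup.mk (g₀ ^ k) : G ⧸ N) = QuotientGroup.mk g := by
      rw [QuotientGroup.mk_zpow]; exact hk
    have h2 : (g₀ ^ k)⁻¹ * g ∈ N := QuotientGroup.eq.mp h1
    exact ⟨k, ⟨_, h2⟩, by simp⟩
  have hm : ∀ k : ℤ, g₀ ^ k ∈ N → (m' : ℤ) ∣ k := by
    intro k hk
    rw [hm', orderOf_dvd_iff_zpow_eq_one, ← QuotientGroup.mk_zpow]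
    exact (QuotientGroup.eq_one_iff _).mpr hk
  have hmN : g₀ ^ (m' : ℤ) ∈ N := by
    rw [zpow_natCast, ← QuotientGroup.eq_one_iff, QuotientGroup.mk_pow, hm', pow_orderOf_eq_one]
  -- the intertwiner
  let ρg : Representation ℂ N V := MonoidHom.comp ρ (MulAut.conjNormal g₀ : N ≃* N).toMonoidHom
  have hchar : ρg.character = ρ.character := by
    funext n
    exact hinv g₀ n
  obtain ⟨e⟩ := Cfsg.Agent.Lib.Helper74.equiv_of_character_eq ρ ρg hchar
  let A₀ : (V →ₗ[ℂ] V)ˣ := LinearMap.GeneralLinearGroup.ofLinearEquiv e.toLinearEquiv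
  have hA₀ : ∀ n : N, A₀ * ρ.asGroupHom n * A₀⁻¹ = ρ.asGroupHom (MulAut.conjNormal g₀ n) := by
    intro n
    rw [mul_inv_eq_iff_eq_mul]
    apply Units.ext
    simp only [Units.val_mul, asGroupHom_apply]
    exact e.toIntertwiningMap.isIntertwining' n
  have hconj := conj_zpow_of_conj N ρ.asGroupHom g₀ A₀ hA₀
  -- the Schur scalar
  let T : (V →ₗ[ℂ] V)ˣ := A₀ ^ (m' : ℤ) * (ρ.asGroupHom ⟨g₀ ^ (m' : ℤ), hmN⟩)⁻¹
  have hT : ∀ n : N, T * ρ.asGroupHom n = ρ.asGroupHom n * T := by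
    intro n
    have h1 := hconj (m' : ℤ) ((⟨g₀ ^ (m' : ℤ), hmN⟩ : N)⁻¹ * n * ⟨g₀ ^ (m' : ℤ), hmN⟩)
    have h2 : MulAut.conjNormal (g₀ ^ (m' : ℤ))
        ((⟨g₀ ^ (m' : ℤ), hmN⟩ : N)⁻¹ * n * ⟨g₀ ^ (m' : ℤ), hmN⟩) = n := by
      apply Subtype.ext
      simp only [MulAut.conjNormal_apply, Subgroup.coe_mul, Subgroup.coe_inv]
      group
    rw [h2, map_mul, map_mul, map_inv] at h1
    simp only [T]
    generalize A₀ ^ (m' : ℤ) = B at h1 ⊢
    generalize ρ.asGroupHom ⟨g₀ ^ (m' : ℤ), hmN⟩ = R at h1 ⊢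
    calc B * R⁻¹ * ρ.asGroupHom n
        = (B * (R⁻¹ * ρ.asGroupHom n * R) * B⁻¹) * (B * R⁻¹) := by group
      _ = ρ.asGroupHom n * (B * R⁻¹) := by rw [h1]
  obtain ⟨c, hc⟩ := schur_scalar ρ (T : V →ₗ[ℂ] V) (fun n => by
    have := congrArg Units.val (hT n)
    simp only [Units.val_mul, asGroupHom_apply] at this
    exact this)
  have hVnt : Nontrivial V := nontrivial_of_irreducible ρ
  have hc0 : c ≠ 0 := by
    intro h0
    rw [h0, zero_smul] at hc
    have h1 : (T : V →ₗ[ℂ] V) * ((T⁻¹ : (V →ₗ[ℂ] V)ˣ) : V →ₗ[ℂ] V) = 1 := by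
      rw [← Units.val_mul, mul_inv_cancel, Units.val_one]
    rw [hc, zero_mul] at h1
    exact zero_ne_one h1
  obtain ⟨d, hd⟩ := IsAlgClosed.exists_pow_nat_eq c hm'pos
  have hd0 : d ≠ 0 := by
    intro h0
    rw [h0, zero_pow hm'pos.ne'] at hd
    exact hc0 hd.symm
  let z : (V →ₗ[ℂ] V)ˣ := Units.map (algebraMap ℂ (V →ₗ[ℂ] V)).toMonoidHom (Units.mk0 d hd0)
  have hzcomm : ∀ B : (V →ₗ[ℂ] V)ˣ, z * B = B * z := by
    intro B
    apply Units.ext
    simp only [Units.val_mul, z, Units.coe_map, Units.val_mk0]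
    exact (Algebra.commutes d (B : V →ₗ[ℂ] V))
  have hzm : z ^ (m' : ℤ) = T := by
    apply Units.ext
    rw [zpow_natCast, Units.val_pow_eq_pow_val, hc]
    simp only [z, Units.coe_map, Units.val_mk0]
    show (algebraMap ℂ (V →ₗ[ℂ] V) d) ^ m' = _
    rw [← map_pow, hd, Algebra.algebraMap_eq_smul_one]
    rfl
  -- the corrected intertwiner
  have ha : ∀ n : N, (z⁻¹ * A₀) * ρ.asGroupHom n * (z⁻¹ * A₀)⁻¹ =
      ρ.asGroupHom (MulAut.conjNormal g₀ n) := by
    intro n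
    rw [← hA₀ n]
    have hz' := hzcomm (A₀ * ρ.asGroupHom n * A₀⁻¹)
    rw [mul_inv_rev, inv_inv]
    calc z⁻¹ * A₀ * ρ.asGroupHom n * (A₀⁻¹ * z)
        = z⁻¹ * ((A₀ * ρ.asGroupHom n * A₀⁻¹) * z) := by group
      _ = z⁻¹ * (z * (A₀ * ρ.asGroupHom n * A₀⁻¹)) := by rw [hz']
      _ = A₀ * ρ.asGroupHom n * A₀⁻¹ := by group
  have ham : (z⁻¹ * A₀) ^ (m' : ℤ) = ρ.asGroupHom ⟨g₀ ^ (m' : ℤ), hmN⟩ := by
    have hcomm : Commute z⁻¹ A₀ := by
      have := hzcomm A₀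
      show z⁻¹ * A₀ = A₀ * z⁻¹
      rw [eq_mul_inv_iff_mul_eq, mul_assoc, ← this, ← mul_assoc, inv_mul_cancel, one_mul]
    rw [hcomm.mul_zpow, inv_zpow, hzm]
    simp only [T]
    group
  obtain ⟨F, hF, -⟩ := exists_monoidHom_extension_of_cyclic N ρ.asGroupHom g₀ (z⁻¹ * A₀)
    (m' : ℤ) hgen hm hmN ha ham
  refine ⟨(Units.coeHom (V →ₗ[ℂ] V)).comp F, fun n => ?_⟩
  show ((F (n : G) : (V →ₗ[ℂ] V)ˣ) : V →ₗ[ℂ] V) = ρ n
  rw [hF n, asGroupHom_apply]

end CyclicExtensionRep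

/-- **Extension over a cyclic quotient**: if `N ⊴ G` with `G ⧸ N` cyclic, every `G`-invariant
irreducible character of `N` is the restriction of an irreducible character of `G`. -/
theorem exists_irr_extension_of_cyclic {G : Type*} [Group G] [Finite G] (N : Subgroup G)
    [hN : N.Normal] (hcyc : IsCyclic (G ⧸ N)) {ϑ : N → ℂ} (hϑ : Cfsg.IsIrrCharacter N ϑ)
    (hinv : ∀ (g : G) (n : N), ϑ (MulAut.conjNormal g n) = ϑ n) :
    ∃ χ : G → ℂ, Cfsg.IsIrrCharacter G χ ∧ ∀ n : N, χ n = ϑ n := by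
  obtain ⟨d, ρ, hirr, rfl⟩ := hϑ
  obtain ⟨ρ', hρ'⟩ := exists_representation_extension_of_cyclic N hcyc ρ hinv
  refine ⟨ρ'.character, ⟨d, ρ', ?_, rfl⟩, fun n => ?_⟩
  · apply isIrreducible_of_comp_isIrreducible ρ' N.subtype
    have : (MonoidHom.comp ρ' N.subtype : Representation ℂ N (Fin d → ℂ)) = ρ := by
      ext n : 1
      exact hρ' n
    rw [this]
    exact hirr
  · show LinearMap.trace ℂ _ (ρ' (n : G)) = LinearMap.trace ℂ _ (ρ n)
    rw [hρ' n]

end Cfsg.Agent.Lib.Helper81
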