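import Mathlib
import Cfsg.Prelude.Def_GeometricClasses
import Cfsg.Prelude.Def_ClassicalGeometry
import Cfsg.Agent.Lib.Helper37.BHRSU.Defs

set_option autoImplicit false

namespace Cfsg.Agent.Lib.Helper81.BhrsuP2

open Cfsg Cfsg.Geo
open scoped MatrixGroups Matrix commutatorElement

/-- A perfect subgroup is killed by every homomorphism with commuting values. -/
lemma eq_one_of_commute' {G K : Type*} [Group G] [Group K] (A : Subgroup G) (hperf : ⁅A, A⁆ = A)
    (φ : ↥A →* K) (hcomm : ∀ a b : ↥A, Commute (φ a) (φ b)) : ∀ a : ↥A, φ a = 1 := by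
  have hle : ⁅A, A⁆ ≤ (φ.ker).map A.subtype := by
    rw [Subgroup.commutator_le]
    intro g₁ h₁ g₂ h₂
    refine ⟨⁅(⟨g₁, h₁⟩ : ↥A), ⟨g₂, h₂⟩⁆, ?_, rfl⟩
    rw [SetLike.mem_coe, MonoidHom.mem_ker, map_commutatorElement,
      commutatorElement_eq_one_iff_commute]
    exact hcomm _ _
  intro a
  have ha : (a : G) ∈ ⁅A, A⁆ := by rw [hperf]; exact a.2
  obtain ⟨x, hx, hxa⟩ := hle ha
  have : x = a := Subtype.ext hxa
  rw [← this]
  exact hx

variable {F : Type*} [Field F] {n : ℕ}

section perm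

variable {t : ℕ} (D : Fin t → Submodule F (Fin n → F))

/-- the permutation of the blocks induced by an element of the stabiliser -/
noncomputable def piD (g : ↥(decompositionStabilizer D)) : Equiv.Perm (Fin t) := Classical.choose g.2

lemma piD_spec (g : ↥(decompositionStabilizer D)) (i : Fin t) :
    (D i).map (Matrix.toLin' ((g : GL (Fin n) F) : Matrix (Fin n) (Fin n) F)) = D (piD D g i) :=
  Classical.choose_spec g.2 i

lemma piD_unique (hinj : Function.Injective D) (g : ↥(decompositionStabilizer D))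
    (σ : Equiv.Perm (Fin t))
    (h : ∀ i, (D i).map (Matrix.toLin' ((g : GL (Fin n) F) : Matrix (Fin n) (Fin n) F)) = D (σ i)) :
    piD D g = σ := by
  ext i
  have := (piD_spec D g i).symm.trans (h i)
  exact congrArg Fin.val (hinj this)

/-- the permutation representation of the stabiliser of a decomposition -/
noncomputable def piHom (hinj : Function.Injective D) :
    ↥(decompositionStabilizer D) →* Equiv.Perm (Fin t) where
  toFun := piD D
  map_one' := piD_unique D hinj 1 1 (fun i => by simp)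
  map_mul' g h := piD_unique D hinj (g * h) _ (fun i => by
    rw [Subgroup.coe_mul, Units.val_mul, Matrix.toLin'_mul, Submodule.map_comp, piD_spec D h,
      piD_spec D g]
    rfl)

/-- a rank-one perturbation of the identity stabilising a decomposition induces the identity or a
transposition on the blocks -/
lemma perm_eq_one_or_swap (hD : iSupIndep D) (hne : ∀ i, D i ≠ ⊥)
    (g : Matrix (Fin n) (Fin n) F) (v : Fin n → F) (hg : ∀ x, ∃ a : F, g *ᵥ x = x + a • v)
    (σ : Equiv.Perm (Fin t)) (hσ : ∀ i, (D i).map (Matrix.toLin' g) = D (σ i)) :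
    σ = 1 ∨ ∃ i j, i ≠ j ∧ σ = Equiv.swap i j := by
  -- Step A
  have stepA : ∀ m, σ m ≠ m → v ∈ D m ⊔ D (σ m) := by
    intro m hm
    obtain ⟨x, hx, hx0⟩ := Submodule.exists_mem_ne_zero_of_ne_bot (hne m)
    have hgx : g *ᵥ x ∈ D (σ m) := by
      rw [← hσ m]
      exact ⟨x, hx, by simp⟩
    obtain ⟨a, ha⟩ := hg x
    have ha0 : a ≠ 0 := by
      intro h0
      rw [h0, zero_smul, add_zero] at ha
      rw [ha] at hgx
      have hdisj : Disjoint (D m) (D (σ m)) := hD.pairwiseDisjoint (Ne.symm hm)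
      exact hx0 ((Submodule.disjoint_def.mp hdisj) x hx hgx)
    have hv : v = a⁻¹ • (g *ᵥ x - x) := by
      rw [ha, add_sub_cancel_left, smul_smul, inv_mul_cancel₀ ha0, one_smul]
    rw [hv]
    refine Submodule.smul_mem _ _ (Submodule.sub_mem _ ?_ ?_)
    · exact Submodule.mem_sup_right hgx
    · exact Submodule.mem_sup_left hx
  -- Step B
  have stepB : ∀ m, σ m ≠ m → ∀ m', σ m' ≠ m' → m' = m ∨ m' = σ m := by
    intro m hm m' hm'
    by_contra hcon
    obtain ⟨h1, h2⟩ := not_or.mp hcon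
    obtain ⟨x, hx, hx0⟩ := Submodule.exists_mem_ne_zero_of_ne_bot (hne m')
    have hgx : g *ᵥ x ∈ D (σ m') := by
      rw [← hσ m']
      exact ⟨x, hx, by simp⟩
    obtain ⟨a, ha⟩ := hg x
    have hle1 : D (σ m') ≤ ⨆ (j) (_ : j ≠ m'), D j := le_iSup₂_of_le (σ m') hm' le_rfl
    have hle2 : D m ≤ ⨆ (j) (_ : j ≠ m'), D j := le_iSup₂_of_le m (Ne.symm h1) le_rfl
    have hle3 : D (σ m) ≤ ⨆ (j) (_ : j ≠ m'), D j := le_iSup₂_of_le (σ m) (Ne.symm h2) le_rfl
    have hv : v ∈ ⨆ (j) (_ : j ≠ m'), D j := (sup_le hle2 hle3) (stepA m hm)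
    have hx' : x = g *ᵥ x - a • v := by rw [ha]; abel
    have hxm : x ∈ ⨆ (j) (_ : j ≠ m'), D j := by
      rw [hx']
      exact Submodule.sub_mem _ (hle1 hgx) (Submodule.smul_mem _ _ hv)
    exact hx0 ((Submodule.disjoint_def.mp (hD m')) x hx hxm)
  by_cases hall : ∀ i, σ i = i
  · left
    ext i
    simp [hall i]
  · right
    obtain ⟨i, hi⟩ := not_forall.mp hall
    have hj : σ (σ i) ≠ σ i := fun h => hi (σ.injective h)
    have hji : σ (σ i) = i := by
      rcases stepB (σ i) hj i hi with h | h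
      · exact absurd h.symm hi
      · exact h.symm
    refine ⟨i, σ i, Ne.symm hi, Equiv.ext fun m => ?_⟩
    by_cases hmi : m = i
    · subst hmi
      rw [Equiv.swap_apply_left]
    by_cases hmj : m = σ i
    · subst hmj
      rw [Equiv.swap_apply_right, hji]
    · rw [Equiv.swap_apply_of_ne_of_ne hmi hmj]
      by_contra hmm
      rcases stepB i hi m hmm with h | h
      · exact hmi h
      · exact hmj h

end perm

lemma unitaryTransvection_mulVec (q : ℕ) (v : Fin n → F) (c : F) (x : Fin n → F) :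
    unitaryTransvection n q v c *ᵥ x = x + (c * ∑ j, (v j) ^ q * x j) • v := by
  unfold unitaryTransvection
  rw [Matrix.add_mulVec, Matrix.one_mulVec, Matrix.smul_mulVec, Matrix.vecMulVec_mulVec]
  ext i
  simp [dotProduct, mul_comm, mul_left_comm]

lemma mem_subspaceStabilizer_of_map_eq (W : Submodule F (Fin n → F)) (g : GL (Fin n) F)
    (h : W.map (Matrix.toLin' (g : Matrix (Fin n) (Fin n) F)) = W) : g ∈ subspaceStabilizer W := by
  intro x
  show x ∈ W ↔ (g : Matrix (Fin n) (Fin n) F) *ᵥ x ∈ W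
  constructor
  · intro hx
    rw [← h]
    exact ⟨x, hx, by simp⟩
  · intro hx
    rw [← h] at hx
    obtain ⟨w, hw, hwx⟩ := hx
    rw [Matrix.toLin'_apply] at hwx
    have : w = x := by
      have h1 := congrArg (fun y => ((g⁻¹ : GL (Fin n) F) : Matrix (Fin n) (Fin n) F) *ᵥ y) hwx
      simp only [Matrix.mulVec_mulVec, ← Units.val_mul, inv_mul_cancel, Units.val_one,
        Matrix.one_mulVec] at h1
      exact h1
    rw [← this]; exact hw

open Cfsg.Agent.Lib.Helper37.BHRSU in
/-- BHRSU-[P2] in `_of` form: hypotheses = the statements of [K-GEN], [K-PERF], [P1]. -/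
theorem not_SUg_le_decompositionStabilizer_of {q : ℕ}
    (hGEN : ∀ K : Subgroup (GL (Fin n) F),
      (∀ g ∈ SUg n F q, (∃ (v : Fin n → F) (c : F), hermForm n F q v v = 0 ∧ c + c ^ q = 0 ∧
        (g : Matrix (Fin n) (Fin n) F) = unitaryTransvection n q v c) → g ∈ K) → SUg n F q ≤ K)
    (hPERF : ⁅SUg n F q, SUg n F q⁆ = SUg n F q)
    (hP1 : ∀ W : Submodule F (Fin n → F), W ≠ ⊥ → W ≠ ⊤ → ¬ SUg n F q ≤ subspaceStabilizer W)
    {t : ℕ} (k : ℕ) (D : Fin t → Submodule F (Fin n → F)) (hD : IsMDecomposition k D) :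
    ¬ SUg n F q ≤ decompositionStabilizer D := by
  intro hle
  have hne : ∀ i, D i ≠ ⊥ := by
    intro i h0
    have := hD.finrank_eq i
    rw [h0, finrank_bot] at this
    exact absurd this.symm hD.pos.ne'
  have hinj : Function.Injective D := hD.indep.injective hne
  have ht := hD.two_le
  let ψ : ↥(SUg n F q) →* Equiv.Perm (Fin t) := (piHom D hinj).comp (Subgroup.inclusion hle)
  have hsign : ∀ a : ↥(SUg n F q), Equiv.Perm.sign (ψ a) = 1 :=
    eq_one_of_commute' _ hPERF (Equiv.Perm.sign.comp ψ) (fun _ _ => Commute.all _ _)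
  have hfix : SUg n F q ≤ subspaceStabilizer (D ⟨0, by omega⟩) := by
    apply hGEN
    rintro g hg ⟨v, c, -, -, hgm⟩
    have hσ : ∀ i, (D i).map (Matrix.toLin' (g : Matrix (Fin n) (Fin n) F)) = D (ψ ⟨g, hg⟩ i) :=
      fun i => piD_spec D (Subgroup.inclusion hle ⟨g, hg⟩) i
    have hform : ∀ x, ∃ a : F, (g : Matrix (Fin n) (Fin n) F) *ᵥ x = x + a • v := by
      intro x
      rw [hgm]
      exact ⟨_, unitaryTransvection_mulVec q v c x⟩
    rcases perm_eq_one_or_swap D hD.indep hne _ v hform _ hσ with h1 | ⟨i, j, hij, hsw⟩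
    · apply mem_subspaceStabilizer_of_map_eq
      rw [hσ, h1]
      rfl
    · exfalso
      have h2 := hsign ⟨g, hg⟩
      rw [hsw, Equiv.Perm.sign_swap hij] at h2
      exact absurd h2 (by decide)
  refine hP1 _ (hne _) ?_ hfix
  intro htop
  have hdisj : Disjoint (D ⟨0, by omega⟩) (D ⟨1, by omega⟩) :=
    hD.indep.pairwiseDisjoint (by simp [Fin.ext_iff])
  rw [htop] at hdisj
  exact hne _ (top_disjoint.mp hdisj)

end Cfsg.Agent.Lib.Helper81.BhrsuP2
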