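import Mathlib
import Cfsg.Prelude.Def_GeometricClasses
import Cfsg.Prelude.Def_ClassicalGeometry

set_option autoImplicit false

namespace Cfsg.Agent.Lib.Helper81.BhrsuMinField

open Cfsg Cfsg.Geo

theorem dvd_pow_sub_one_iff (z p d : ℕ) (hp : 0 < p) : z ∣ p ^ d - 1 ↔ ((p : ZMod z)) ^ d = 1 := by
  rw [← ZMod.natCast_eq_zero_iff, Nat.cast_sub (Nat.one_le_pow _ _ hp), Nat.cast_pow, Nat.cast_one,
    sub_eq_zero]

variable {F : Type*} [Field F] [Fintype F] {q : ℕ}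

/-- the common core: `e = 2a`, `q = p^a`, `a > 0`, and the order statement in `ZMod z` -/
theorem core {z p e : ℕ} (h : IsMinimalFieldFor z p e F) (hF : Fintype.card F = q ^ 2) :
    ∃ a : ℕ, 0 < a ∧ e = 2 * a ∧ q = p ^ a ∧ ((p : ZMod z)) ^ (2 * a) = 1 ∧
      ∀ d : ℕ, 0 < d → d < 2 * a → ((p : ZMod z)) ^ d ≠ 1 := by
  obtain ⟨hp, -, hcard, hdvd, hmin⟩ := h
  have hpe : q ^ 2 = p ^ e := by rw [← hF, hcard]
  have hq : q ∣ p ^ e := by rw [← hpe]; exact dvd_pow_self q two_ne_zero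
  obtain ⟨a, -, rfl⟩ := (Nat.dvd_prime_pow hp).mp hq
  have he : e = 2 * a := by
    rw [← pow_mul] at hpe
    have := Nat.pow_right_injective hp.two_le hpe
    omega
  have ha : 0 < a := by
    rcases Nat.eq_zero_or_pos a with h0 | h0
    · exfalso
      have h1 : 1 < Fintype.card F := Fintype.one_lt_card
      rw [hF, h0] at h1
      simp at h1
    · exact h0
  refine ⟨a, ha, he, rfl, ?_, ?_⟩
  · rw [← dvd_pow_sub_one_iff z p _ hp.pos, ← he]; exact hdvd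
  · intro d hd hd2
    rw [Ne, ← dvd_pow_sub_one_iff z p _ hp.pos]
    exact hmin d hd (by omega)

theorem fin7 : ∀ x : ZMod 7, ∀ a : Fin 8, 0 < a.val → x ^ (2 * a.val) = 1 →
    (∀ d : Fin 16, 0 < d.val → d.val < 2 * a.val → x ^ d.val ≠ 1) →
    (a.val = 1 ∧ x.val = 6) ∨ (a.val = 3 ∧ (x.val = 3 ∨ x.val = 5)) := by
  decide

theorem fin11 : ∀ x : ZMod 11, ∀ a : Fin 8, 0 < a.val → x ^ (2 * a.val) = 1 →
    (∀ d : Fin 16, 0 < d.val → d.val < 2 * a.val → x ^ d.val ≠ 1) →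
    (a.val = 1 ∧ x.val = 10) ∨ (a.val = 5 ∧ (x.val = 2 ∨ x.val = 6 ∨ x.val = 7 ∨ x.val = 8)) := by
  decide

theorem fin3 : ∀ x : ZMod 3, ∀ a : Fin 8, 0 < a.val → x ^ (2 * a.val) = 1 →
    (∀ d : Fin 16, 0 < d.val → d.val < 2 * a.val → x ^ d.val ≠ 1) →
    (a.val = 1 ∧ x.val = 2) := by
  decide

theorem fin4 : ∀ x : ZMod 4, x ^ 2 = 1 → x ≠ 1 → x.val = 3 := by
  decide

theorem fermat7 : ∀ x : ZMod 7, x ≠ 0 → x ^ 6 = 1 := by decide
theorem fermat11 : ∀ x : ZMod 11, x ≠ 0 → x ^ 10 = 1 := by decide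
theorem fermat3 : ∀ x : ZMod 3, x ≠ 0 → x ^ 2 = 1 := by decide

end Cfsg.Agent.Lib.Helper81.BhrsuMinField

namespace Cfsg.Agent.Lib.Helper37.BHRSU

open Cfsg Cfsg.Geo Cfsg.Agent.Lib.Helper81.BhrsuMinField

variable {F : Type*} [Field F] [Fintype F] {n q : ℕ}

/-- BHRSU-[A-MINFIELD] -/
theorem minfield_unitary {z p e : ℕ} (h : IsMinimalFieldFor z p e F) (hF : Fintype.card F = q ^ 2) :
    ∃ a : ℕ, e = 2 * a ∧ q = p ^ a ∧ z ∣ p ^ (2 * a) - 1 ∧ ∀ d : ℕ, 0 < d → d < 2 * a → ¬ z ∣ p ^ d - 1 := by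
  obtain ⟨a, -, he, hq, h1, h2⟩ := core h hF
  have hp := h.1
  refine ⟨a, he, hq, ?_, ?_⟩
  · rw [dvd_pow_sub_one_iff z p _ hp.pos]; exact h1
  · intro d hd hd2
    rw [dvd_pow_sub_one_iff z p _ hp.pos]
    exact h2 d hd hd2

theorem minfield_seven {p e : ℕ} (h : IsMinimalFieldFor 7 p e F) (hF : Fintype.card F = q ^ 2) :
    (q = p ∧ p % 7 = 6) ∨ (q = p ^ 3 ∧ (p % 7 = 3 ∨ p % 7 = 5)) := by
  obtain ⟨a, ha, -, hq, h1, h2⟩ := core h hF
  have hx0 : (p : ZMod 7) ≠ 0 := by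
    intro h0
    rw [h0, zero_pow (by omega)] at h1
    exact absurd h1 (by decide)
  have ha3 : a ≤ 3 := by
    by_contra hcon
    exact h2 6 (by norm_num) (by omega) (fermat7 _ hx0)
  have hv : (p : ZMod 7).val = p % 7 := ZMod.val_natCast 7 p
  rcases fin7 (p : ZMod 7) ⟨a, by omega⟩ ha h1 (fun d hd hd2 => h2 d.val hd hd2) with ⟨h3, h4⟩ | ⟨h3, h4⟩
  · simp only at h3
    subst h3
    left
    exact ⟨by simpa using hq, by rw [← hv]; exact h4⟩
  · simp only at h3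
    subst h3
    right
    exact ⟨hq, by rw [← hv]; exact h4⟩

theorem minfield_eleven {p e : ℕ} (h : IsMinimalFieldFor 11 p e F) (hF : Fintype.card F = q ^ 2) :
    (q = p ∧ p % 11 = 10) ∨ (q = p ^ 5 ∧ (p % 11 = 2 ∨ p % 11 = 6 ∨ p % 11 = 7 ∨ p % 11 = 8)) := by
  obtain ⟨a, ha, -, hq, h1, h2⟩ := core h hF
  have hx0 : (p : ZMod 11) ≠ 0 := by
    intro h0
    rw [h0, zero_pow (by omega)] at h1
    exact absurd h1 (by decide)
  have ha3 : a ≤ 5 := by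
    by_contra hcon
    exact h2 10 (by norm_num) (by omega) (fermat11 _ hx0)
  have hv : (p : ZMod 11).val = p % 11 := ZMod.val_natCast 11 p
  rcases fin11 (p : ZMod 11) ⟨a, by omega⟩ ha h1 (fun d hd hd2 => h2 d.val hd hd2) with ⟨h3, h4⟩ | ⟨h3, h4⟩
  · simp only at h3
    subst h3
    left
    exact ⟨by simpa using hq, by rw [← hv]; exact h4⟩
  · simp only at h3
    subst h3
    right
    exact ⟨hq, by rw [← hv]; exact h4⟩

theorem minfield_three {p e : ℕ} (h : IsMinimalFieldFor 3 p e F) (hF : Fintype.card F = q ^ 2) :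
    q = p ∧ p % 3 = 2 := by
  obtain ⟨a, ha, -, hq, h1, h2⟩ := core h hF
  have hx0 : (p : ZMod 3) ≠ 0 := by
    intro h0
    rw [h0, zero_pow (by omega)] at h1
    exact absurd h1 (by decide)
  have ha3 : a ≤ 1 := by
    by_contra hcon
    exact h2 2 (by norm_num) (by omega) (fermat3 _ hx0)
  have hv : (p : ZMod 3).val = p % 3 := ZMod.val_natCast 3 p
  obtain ⟨h3, h4⟩ := fin3 (p : ZMod 3) ⟨a, by omega⟩ ha h1 (fun d hd hd2 => h2 d.val hd hd2)
  simp only at h3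
  subst h3
  exact ⟨by simpa using hq, by rw [← hv]; exact h4⟩

theorem minfield_four {p : ℕ} (h : IsMinimalFieldFor 4 p 2 F) (hF : Fintype.card F = q ^ 2) :
    q = p ∧ p % 4 = 3 := by
  obtain ⟨a, ha, he, hq, h1, h2⟩ := core h hF
  have ha1 : a = 1 := by omega
  subst ha1
  have hv : (p : ZMod 4).val = p % 4 := ZMod.val_natCast 4 p
  refine ⟨by simpa using hq, ?_⟩
  rw [← hv]
  exact fin4 _ (by simpa using h1) (by simpa using h2 1 (by norm_num) (by norm_num))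

end Cfsg.Agent.Lib.Helper37.BHRSU
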