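import Mathlib
import Cfsg.Prelude.Def_Blocks

/-!
# Group-theoretic preliminaries for "real characters of p'-degree" (helper81)

`ppGen G p` is the subgroup generated by the elements of `p`-power order (`O^{p'}(G)`).

* `exists_primePow_lift`: elements of `p`-power order lift along surjections of finite groups.
* `ppGen_normal`, `map_ppGen_eq`, `odd_index_ppGen_two`.
* `le_sylow_of_normal_pgroup`: a normal `p`-subgroup lies in every Sylow `p`-subgroup.
-/

set_option autoImplicit false

namespace Cfsg.Agent.Lib.Helper81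

/-- The subgroup generated by the elements of `p`-power order. -/
def ppGen (G : Type*) [Group G] (p : ℕ) : Subgroup G :=
  Subgroup.closure {g : G | ∃ k : ℕ, orderOf g = p ^ k}

theorem ppGen_def (G : Type*) [Group G] (p : ℕ) :
    ppGen G p = Subgroup.closure {g : G | ∃ k : ℕ, orderOf g = p ^ k} := rfl

theorem mem_ppGen_of_orderOf {G : Type*} [Group G] {p : ℕ} {g : G} (k : ℕ)
    (h : orderOf g = p ^ k) : g ∈ ppGen G p :=
  Subgroup.subset_closure ⟨k, h⟩

instance ppGen_normal (G : Type*) [Group G] (p : ℕ) : (ppGen G p).Normal := by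
  constructor
  intro n hn g
  have h : (ppGen G p).map (MulAut.conj g).toMonoidHom ≤ ppGen G p := by
    unfold ppGen
    rw [MonoidHom.map_closure, Subgroup.closure_le]
    rintro _ ⟨x, ⟨k, hk⟩, rfl⟩
    apply Subgroup.subset_closure
    refine ⟨k, ?_⟩
    rw [← hk]
    exact (MulAut.conj g).orderOf_eq x
  have h2 := h (Subgroup.mem_map_of_mem _ hn)
  simpa using h2

/-- Elements of `p`-power order lift along surjective homomorphisms of finite groups. -/
theorem exists_primePow_lift {G H : Type*} [Group G] [Group H] [Finite G] (f : G →* H)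
    (hf : Function.Surjective f) (p : ℕ) [hp : Fact p.Prime] (h : H)
    (hh : ∃ k : ℕ, orderOf h = p ^ k) : ∃ g : G, f g = h ∧ ∃ k : ℕ, orderOf g = p ^ k := by
  obtain ⟨k, hk⟩ := hh
  obtain ⟨g0, rfl⟩ := hf h
  have hn0 : orderOf g0 ≠ 0 := (orderOf_pos g0).ne'
  obtain ⟨j, m, hpm, hjm⟩ := Nat.exists_eq_pow_mul_and_not_dvd hn0 p hp.out.ne_one
  have hcop : Nat.Coprime m (p ^ k) :=
    Nat.Coprime.pow_right k ((Nat.Prime.coprime_iff_not_dvd hp.out).mpr hpm).symm
  have hk0 : p ^ k ≠ 0 := pow_ne_zero _ hp.out.ne_zero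
  obtain ⟨u, -, hu⟩ := Nat.exists_mul_mod_eq_of_coprime 1 hcop hk0
  refine ⟨g0 ^ (m * u), ?_, ?_⟩
  · rw [map_pow]
    conv_rhs => rw [← pow_one (f g0)]
    rw [pow_eq_pow_iff_modEq, hk]
    exact hu
  · have h1 : (g0 ^ (m * u)) ^ (p ^ j) = 1 := by
      rw [← pow_mul]
      have : m * u * p ^ j = orderOf g0 * u := by rw [hjm]; ring
      rw [this, pow_mul, pow_orderOf_eq_one, one_pow]
    have h2 : orderOf (g0 ^ (m * u)) ∣ p ^ j := orderOf_dvd_of_pow_eq_one h1
    obtain ⟨i, -, hi⟩ := (Nat.dvd_prime_pow hp.out).mp h2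
    exact ⟨i, hi⟩

/-- The image of `O^{p'}(G)` under a surjection is `O^{p'}` of the image. -/
theorem map_ppGen_eq {G H : Type*} [Group G] [Group H] [Finite G] (f : G →* H)
    (hf : Function.Surjective f) (p : ℕ) [hp : Fact p.Prime] :
    (ppGen G p).map f = ppGen H p := by
  apply le_antisymm
  · unfold ppGen
    rw [MonoidHom.map_closure, Subgroup.closure_le]
    rintro _ ⟨x, ⟨k, hk⟩, rfl⟩
    apply Subgroup.subset_closure
    have h1 : orderOf (f x) ∣ p ^ k := by
      rw [← hk]
      exact orderOf_map_dvd f x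
    obtain ⟨i, -, hi⟩ := (Nat.dvd_prime_pow hp.out).mp h1
    exact ⟨i, hi⟩
  · unfold ppGen
    rw [Subgroup.closure_le]
    intro h hh
    obtain ⟨g, rfl, hg⟩ := exists_primePow_lift f hf p h hh
    exact Subgroup.mem_map_of_mem f (Subgroup.subset_closure hg)

/-- The subgroup generated by the 2-elements has odd index. -/
theorem odd_index_ppGen_two (G : Type*) [Group G] [Finite G] : Odd (ppGen G 2).index := by
  by_contra hcon
  rw [Nat.not_odd_iff_even] at hcon
  have h2 : 2 ∣ Nat.card (G ⧸ ppGen G 2) := by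
    rw [← Subgroup.index_eq_card]
    exact hcon.two_dvd
  have : Fact (Nat.Prime 2) := ⟨Nat.prime_two⟩
  obtain ⟨q, hq⟩ := exists_prime_orderOf_dvd_card' 2 h2
  obtain ⟨g, hg, hg2⟩ := exists_primePow_lift (QuotientGroup.mk' (ppGen G 2))
    (QuotientGroup.mk'_surjective _) 2 q ⟨1, by rw [hq, pow_one]⟩
  have hmem : g ∈ ppGen G 2 := Subgroup.subset_closure hg2
  have h1 : q = 1 := by
    rw [← hg]
    exact (QuotientGroup.eq_one_iff g).mpr hmem
  rw [h1, orderOf_one] at hq
  exact absurd hq (by norm_num)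

/-- A normal `p`-subgroup lies in every Sylow `p`-subgroup. -/
theorem le_sylow_of_normal_pgroup {G : Type*} [Group G] {p : ℕ} [Fact p.Prime] (Q : Subgroup G)
    [hQn : Q.Normal] (hQ : IsPGroup p Q) (P : Sylow p G) : Q ≤ (P : Subgroup G) := by
  have h1 : IsPGroup p (Q ⊔ (P : Subgroup G) : Subgroup G) :=
    IsPGroup.to_sup_of_normal_left hQ P.2
  have h2 : (Q ⊔ (P : Subgroup G) : Subgroup G) = (P : Subgroup G) := P.is_maximal' h1 le_sup_right
  rw [← h2]
  exact le_sup_left

end Cfsg.Agent.Lib.Helper81
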