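import Mathlib
import Cfsg.Agent.Lib.Helper74.RealCount
import Cfsg.Agent.Lib.Helper75.OddIndexParity
import Cfsg.Agent.Lib.Helper77.Deflation
import Cfsg.Agent.Lib.Helper81.RealPrimeGroup

/-!
# Counting real characters through real classes (helper81)

* `exists_real_irr_not_ker`: if real classes of `G ⧸ N` lift and `N` has a nontrivial real element,
  some real irreducible character of `G` does not contain `N` in its kernel.
* `exists_real_lift_of_odd`: real classes lift modulo normal subgroups of odd order.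
-/

set_option linter.unusedSectionVars false
set_option autoImplicit false

namespace Cfsg.Agent.Lib.Helper81

open Cfsg Cfsg.Agent.Lib.Helper78
open scoped ComplexConjugate

universe u

section Counting

variable {G : Type u} [Group G] [Finite G] (N : Subgroup G) [hN : N.Normal]

theorem conjClasses_map_mk {α β : Type*} [Monoid α] [Monoid β] (f : α →* β) (a : α) :
    ConjClasses.map f (ConjClasses.mk a) = ConjClasses.mk (f a) := rfl

/-- the type of real classes -/
abbrev RealClass (H : Type*) [Group H] : Type _ :=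
  {C : ConjClasses H // ∀ g : H, ConjClasses.mk g = C → IsConj g g⁻¹}

theorem card_realClass_quotient_lt
    (hlift : ∀ q : G ⧸ N, IsConj q q⁻¹ → ∃ g : G, (g : G ⧸ N) = q ∧ IsConj g g⁻¹)
    (v : G) (hvN : v ∈ N) (hv1 : v ≠ 1) (hvreal : IsConj v v⁻¹) :
    Nat.card (RealClass (G ⧸ N)) < Nat.card (RealClass G) := by
  classical
  have hmk : ∀ g : G, IsConj g g⁻¹ → ∀ q : G ⧸ N,
      ConjClasses.mk q = ConjClasses.mk (g : G ⧸ N) → IsConj q q⁻¹ := by
    intro g hg q hq
    have h1 : IsConj (g : G ⧸ N) q := (ConjClasses.mk_eq_mk_iff_isConj.mp hq).symm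
    have h2 : IsConj (g : G ⧸ N) (g : G ⧸ N)⁻¹ := by
      have := (QuotientGroup.mk' N).map_isConj hg
      simpa using this
    exact Cfsg.Agent.Lib.Helper74.isConj_inv_of_isConj h1 h2
  let f : RealClass G → RealClass (G ⧸ N) := fun C =>
    ⟨ConjClasses.map (QuotientGroup.mk' N) C.1, by
      intro q hq
      obtain ⟨g, hg⟩ := ConjClasses.exists_rep C.1
      have hgreal : IsConj g g⁻¹ := C.2 g hg
      rw [← hg, conjClasses_map_mk] at hq
      exact hmk g hgreal q hq⟩
  have hsurj : Function.Surjective f := by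
    rintro ⟨D, hD⟩
    obtain ⟨q, hq⟩ := ConjClasses.exists_rep D
    obtain ⟨g, hgq, hgreal⟩ := hlift q (hD q hq)
    refine ⟨⟨ConjClasses.mk g, ?_⟩, ?_⟩
    · intro g' hg'
      exact Cfsg.Agent.Lib.Helper74.isConj_inv_of_isConj
        (ConjClasses.mk_eq_mk_iff_isConj.mp hg').symm hgreal
    · apply Subtype.ext
      change ConjClasses.map (QuotientGroup.mk' N) (ConjClasses.mk g) = D
      rw [conjClasses_map_mk, ← hq]
      congr 1
  have hninj : ¬ Function.Injective f := by
    intro hinj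
    have h1 : ∀ g' : G, ConjClasses.mk g' = ConjClasses.mk (1 : G) → IsConj g' g'⁻¹ := by
      intro g' hg'
      have : IsConj g' 1 := ConjClasses.mk_eq_mk_iff_isConj.mp hg'
      rw [isConj_one_left] at this
      rw [this]; simp
    have hv : ∀ g' : G, ConjClasses.mk g' = ConjClasses.mk v → IsConj g' g'⁻¹ := by
      intro g' hg'
      exact Cfsg.Agent.Lib.Helper74.isConj_inv_of_isConj
        (ConjClasses.mk_eq_mk_iff_isConj.mp hg').symm hvreal
    have heq : f ⟨ConjClasses.mk 1, h1⟩ = f ⟨ConjClasses.mk v, hv⟩ := by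
      apply Subtype.ext
      change ConjClasses.map (QuotientGroup.mk' N) (ConjClasses.mk 1) =
        ConjClasses.map (QuotientGroup.mk' N) (ConjClasses.mk v)
      rw [conjClasses_map_mk, conjClasses_map_mk]
      congr 1
      rw [map_one]
      exact ((QuotientGroup.eq_one_iff v).mpr hvN).symm
    have h2 := congrArg Subtype.val (hinj heq)
    have h3 : IsConj (1 : G) v := ConjClasses.mk_eq_mk_iff_isConj.mp h2
    rw [isConj_one_right] at h3
    exact hv1 h3
  have := Fintype.ofFinite (RealClass G)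
  have := Fintype.ofFinite (RealClass (G ⧸ N))
  rw [Nat.card_eq_fintype_card, Nat.card_eq_fintype_card]
  exact Fintype.card_lt_of_surjective_not_injective f hsurj hninj

/-- **Counting**: if real classes of `G ⧸ N` lift to real classes of `G` and `N` contains a
nontrivial real element, then some real irreducible character of `G` does not have `N` in its
kernel. -/
theorem exists_real_irr_not_ker
    (hlift : ∀ q : G ⧸ N, IsConj q q⁻¹ → ∃ g : G, (g : G ⧸ N) = q ∧ IsConj g g⁻¹)
    (v : G) (hvN : v ∈ N) (hv1 : v ≠ 1) (hvreal : IsConj v v⁻¹) :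
    ∃ χ : IrrCharacter G, (∀ g : G, ((χ : G → ℂ) g).im = 0) ∧
      ∃ n ∈ N, (χ : G → ℂ) n ≠ (χ : G → ℂ) 1 := by
  by_contra hcon
  push Not at hcon
  have hlt := card_realClass_quotient_lt N hlift v hvN hv1 hvreal
  rw [← Cfsg.Agent.Lib.Helper74.card_real_irr_eq_card_real_classes,
    ← Cfsg.Agent.Lib.Helper74.card_real_irr_eq_card_real_classes] at hlt
  let F : {χ : IrrCharacter G // ∀ g : G, ((χ : G → ℂ) g).im = 0} →
      {χ : IrrCharacter (G ⧸ N) // ∀ q : G ⧸ N, ((χ : G ⧸ N → ℂ) q).im = 0} := fun χ =>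
    ⟨Cfsg.Agent.Lib.Helper77.deflate N χ.1 (hcon χ.1 χ.2), by
      intro q
      obtain ⟨g, rfl⟩ := QuotientGroup.mk_surjective q
      rw [Cfsg.Agent.Lib.Helper77.deflate_mk]
      exact χ.2 g⟩
  have hF : Function.Injective F := by
    intro χ₁ χ₂ h
    have h1 := congrArg Subtype.val h
    change Cfsg.Agent.Lib.Helper77.deflate N χ₁.1 (hcon χ₁.1 χ₁.2) =
      Cfsg.Agent.Lib.Helper77.deflate N χ₂.1 (hcon χ₂.1 χ₂.2) at h1
    have h2 := congrArg (Cfsg.Agent.Lib.Helper77.inflate N) h1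
    rw [Cfsg.Agent.Lib.Helper77.inflate_deflate, Cfsg.Agent.Lib.Helper77.inflate_deflate] at h2
    exact Subtype.ext h2
  have hle := Nat.card_le_card_of_injective F hF
  omega

end Counting

open Cfsg.Agent.Lib.Helper75

section Lift

variable {G : Type u} [Group G]

theorem conj_pow_of_inverts {H : Type*} [Group H] (c q : H) (h : c * q * c⁻¹ = q⁻¹) (j : ℕ) :
    c ^ j * q * (c ^ j)⁻¹ = if Even j then q else q⁻¹ := by
  induction j with
  | zero => simp
  | succ j ih =>
    have h1 : c ^ (j + 1) * q * (c ^ (j + 1))⁻¹ = c * (c ^ j * q * (c ^ j)⁻¹) * c⁻¹ := by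
      rw [pow_succ']
      group
    rw [h1, ih]
    by_cases hj : Even j
    · have hj1 : ¬ Even (j + 1) := by
        rw [Nat.even_add_one]; exact not_not.mpr hj
      rw [if_pos hj, if_neg hj1, h]
    · have hj1 : Even (j + 1) := by
        rw [Nat.even_add_one]; exact hj
      rw [if_neg hj, if_pos hj1]
      have : c * q⁻¹ * c⁻¹ = (c * q * c⁻¹)⁻¹ := by group
      rw [this, h, inv_inv]

/-- **Real classes lift modulo a normal subgroup of odd order.** -/
theorem exists_real_lift_of_odd [Finite G] (A : Subgroup G) [hA : A.Normal]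
    (hodd : Odd (Nat.card A)) (q : G ⧸ A) (hq : IsConj q q⁻¹) :
    ∃ g : G, (g : G ⧸ A) = q ∧ IsConj g g⁻¹ := by
  classical
  obtain ⟨x, rfl⟩ := QuotientGroup.mk_surjective q
  obtain ⟨c, hc⟩ := isConj_iff.mp hq
  obtain ⟨h0, rfl⟩ := QuotientGroup.mk_surjective c
  have hn0 : orderOf h0 ≠ 0 := (orderOf_pos h0).ne'
  obtain ⟨a, m, hm, hord⟩ := Nat.exists_eq_two_pow_mul_odd hn0
  set h : G := h0 ^ m with hh
  have hpow : h ^ (2 ^ a) = 1 := by
    rw [hh, ← pow_mul, mul_comm, ← hord, pow_orderOf_eq_one]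
  have hinv : (h : G ⧸ A) * (x : G ⧸ A) * (h : G ⧸ A)⁻¹ = (x : G ⧸ A)⁻¹ := by
    have h1 := conj_pow_of_inverts (h0 : G ⧸ A) (x : G ⧸ A) hc m
    rw [if_neg (Nat.not_even_iff_odd.mpr hm)] at h1
    rw [hh, QuotientGroup.mk_pow]
    exact h1
  -- the coset
  let X : Type u := {y : G // (y : G ⧸ A) = (x : G ⧸ A)}
  have hσmem : ∀ y : X, ((h * y.1⁻¹ * h⁻¹ : G) : G ⧸ A) = (x : G ⧸ A) := by
    intro y
    rw [QuotientGroup.mk_mul, QuotientGroup.mk_mul, QuotientGroup.mk_inv, QuotientGroup.mk_inv,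
      y.2]
    have : (h : G ⧸ A) * (x : G ⧸ A)⁻¹ * (h : G ⧸ A)⁻¹ =
        ((h : G ⧸ A) * (x : G ⧸ A) * (h : G ⧸ A)⁻¹)⁻¹ := by group
    rw [this, hinv, inv_inv]
  let σ : X → X := fun y => ⟨h * y.1⁻¹ * h⁻¹, hσmem y⟩
  have hσ2 : ∀ (k : ℕ) (y : X), ((σ^[2 * k] y : X) : G) = h ^ (2 * k) * y.1 * (h ^ (2 * k))⁻¹ := by
    intro k
    induction k with
    | zero => intro y; simp
    | succ k ih =>
      intro y
      have : 2 * (k + 1) = 2 * k + 2 := by ring
      rw [this, Function.iterate_add_apply, ih]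
      simp only [Function.iterate_succ, Function.iterate_zero, Function.comp_apply, id_eq, σ]
      rw [pow_add]
      group
  have hσid : σ^[2 ^ (a + 1)] = id := by
    funext y
    apply Subtype.ext
    have h1 : 2 ^ (a + 1) = 2 * 2 ^ a := by rw [pow_succ]; ring
    rw [h1, hσ2, id_eq, pow_mul', hpow, one_pow, one_mul, inv_one, mul_one]
  have : Fintype X := Fintype.ofFinite X
  have hmod := sum_nat_modEq_sum_fixed (a + 1) σ hσid (fun _ => 1) (fun _ => rfl)
  simp only [Finset.sum_const, smul_eq_mul, mul_one, Finset.card_univ] at hmod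
  have hcard : Fintype.card X = Nat.card A := by
    rw [← Nat.card_eq_fintype_card]
    apply Nat.card_congr
    refine ⟨fun y => ⟨x⁻¹ * y.1, ?_⟩, fun b => ⟨x * b.1, ?_⟩, ?_, ?_⟩
    · rw [← QuotientGroup.eq_one_iff, QuotientGroup.mk_mul, QuotientGroup.mk_inv, y.2]
      group
    · rw [QuotientGroup.mk_mul, (QuotientGroup.eq_one_iff b.1).mpr b.2, mul_one]
    · intro y; apply Subtype.ext; simp
    · intro b; apply Subtype.ext; simp
  rw [hcard] at hmod
  have hfix : (Finset.univ.filter (fun y : X => σ y = y)).card ≠ 0 := by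
    intro h0
    rw [h0] at hmod
    rw [Nat.odd_iff] at hodd
    have := hmod.symm
    rw [Nat.ModEq, hodd] at this
    norm_num at this
  obtain ⟨y, hy⟩ := Finset.card_pos.mp (Nat.pos_of_ne_zero hfix)
  rw [Finset.mem_filter] at hy
  refine ⟨y.1, y.2, ?_⟩
  rw [isConj_iff]
  refine ⟨h, ?_⟩
  have h1 : h * y.1⁻¹ * h⁻¹ = y.1 := congrArg Subtype.val hy.2
  have h2 : h * y.1 * h⁻¹ = (h * y.1⁻¹ * h⁻¹)⁻¹ := by group
  rw [h2, h1]

end Lift

end Cfsg.Agent.Lib.Helper81
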