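import Mathlib
import Cfsg.Agent.Lib.Helper75.OddIndexParity
import Cfsg.Agent.Lib.Helper75.Ito
import Cfsg.Agent.Lib.Helper77.Linear
import Cfsg.Agent.Lib.Helper80.ItoMichler
import Cfsg.Agent.Lib.Helper81.RealPrimeGroup

/-!
# Kernels of characters of p'-degree (helper81)

* `apply_eq_of_not_dvd_degree`: `p ∤ χ(1)`, `N ≤ ⁅L, L⁆` abelian normal with `|L : N|` a `p`-power,
  `L ⊴ G`: then `N ≤ ker χ`.
* `apply_eq_of_le_commutator_sylow`: `p ∤ χ(1)`, `A ⊴ G`, `A ≤ P'`: then `A ≤ ker χ`.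
-/

set_option linter.unusedSectionVars false
set_option autoImplicit false

namespace Cfsg.Agent.Lib.Helper81

open Cfsg Cfsg.Agent.Lib.Helper75 Cfsg.Agent.Lib.Helper78
open scoped ComplexConjugate commutatorElement

universe u

section Kernels

variable {G : Type u} [Group G] [Finite G]

omit [Finite G] in
theorem mem_commutator_subtype (L : Subgroup G) (x : L) (hx : (x : G) ∈ ⁅L, L⁆) :
    x ∈ commutator L := by
  have h1 : (commutator L).map L.subtype = ⁅L, L⁆ := by
    rw [commutator_def, Subgroup.map_commutator, ← MonoidHom.range_eq_map, Subgroup.range_subtype]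
  rw [← h1] at hx
  obtain ⟨y, hy, hyx⟩ := hx
  have : y = x := Subtype.ext hyx
  rw [← this]
  exact hy

omit [Finite G] in
theorem commutator_self_le (H : Subgroup G) : ⁅H, H⁆ ≤ H := by
  rw [Subgroup.commutator_le]
  intro a ha b hb
  rw [commutatorElement_def]
  exact H.mul_mem (H.mul_mem (H.mul_mem ha hb) (H.inv_mem ha)) (H.inv_mem hb)

/-- A linear character of a subgroup `L` is trivial on `⁅L, L⁆`. -/
theorem linear_eq_one_of_mem_commutator (L : Subgroup G) (ξ : IrrCharacter L)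
    (h1 : charDegree (ξ : L → ℂ) = 1) (x : L) (hx : (x : G) ∈ ⁅L, L⁆) : (ξ : L → ℂ) x = 1 := by
  have h2 : (ξ : L → ℂ) 1 = 1 := by
    rw [Cfsg.Agent.Lib.Helper79.irr_apply_one_eq_charDegree ξ, h1]
    simp
  exact Cfsg.Agent.Lib.Helper77.linear_character_eq_one_of_mem_commutator ξ h2 x
    (mem_commutator_subtype L x hx)

/-- If `p ∤ χ(1)`, `N ≤ L` with `N` abelian normal, `|L : N|` a power of `p`, `L ⊴ G` and
`N ≤ ⁅L, L⁆`, then `N ≤ ker χ`. -/
theorem apply_eq_of_not_dvd_degree (p : ℕ) [hp : Fact p.Prime] (L N : Subgroup G) [hL : L.Normal]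
    [hN : N.Normal] (hab : ∀ a ∈ N, ∀ b ∈ N, a * b = b * a)
    (hidx : ∃ a : ℕ, N.relIndex L = p ^ a) (hNL : N ≤ ⁅L, L⁆)
    (χ : IrrCharacter G) (hχ : ¬ p ∣ charDegree (χ : G → ℂ)) :
    ∀ n ∈ N, (χ : G → ℂ) n = (χ : G → ℂ) 1 := by
  classical
  have := Fintype.ofFinite G
  have : Fintype L := Fintype.ofFinite L
  intro n hn
  have hnL : n ∈ L := commutator_self_le L (hNL hn)
  have hres : IsCharacter L (fun l : L => (χ : G → ℂ) l) :=
    isCharacter_res L (IsIrrCharacter.isCharacter χ.2)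
  have hsum := IsCharacter.eq_sum_irr hres
  have hlin : ∀ ξ : IrrCharacter L,
      classInner (fun l : L => (χ : G → ℂ) l) (ξ : L → ℂ) ≠ 0 → charDegree (ξ : L → ℂ) = 1 := by
    intro ξ hξ
    have h1 : charDegree (ξ : L → ℂ) ∣ charDegree (χ : G → ℂ) :=
      Cfsg.Agent.Lib.Helper80.charDegree_dvd_of_over L χ.2 ξ.2 hξ
    have h2 : charDegree (ξ : L → ℂ) ∣ (N.subgroupOf L).index := by
      apply ito (N.subgroupOf L) _ (ξ : L → ℂ) ξ.2
      intro a ha b hb
      apply Subtype.ext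
      exact hab a ha b hb
    obtain ⟨a, ha⟩ := hidx
    have h3 : (N.subgroupOf L).index = p ^ a := ha
    rw [h3] at h2
    obtain ⟨i, -, hi⟩ := (Nat.dvd_prime_pow hp.out).mp h2
    rcases Nat.eq_zero_or_pos i with h0 | hpos
    · rw [hi, h0, pow_zero]
    · exfalso
      apply hχ
      exact dvd_trans (by rw [hi]; exact dvd_pow_self p hpos.ne') h1
  have hval : ∀ ξ : IrrCharacter L,
      classInner (fun l : L => (χ : G → ℂ) l) (ξ : L → ℂ) * (ξ : L → ℂ) ⟨n, hnL⟩ =
      classInner (fun l : L => (χ : G → ℂ) l) (ξ : L → ℂ) * (ξ : L → ℂ) 1 := by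
    intro ξ
    by_cases h0 : classInner (fun l : L => (χ : G → ℂ) l) (ξ : L → ℂ) = 0
    · rw [h0, zero_mul, zero_mul]
    · have h1 := hlin ξ h0
      rw [linear_eq_one_of_mem_commutator L ξ h1 ⟨n, hnL⟩ (hNL hn),
        Cfsg.Agent.Lib.Helper79.irr_apply_one_eq_charDegree ξ, h1]
      simp
  have e1 := congrFun hsum ⟨n, hnL⟩
  have e2 := congrFun hsum 1
  simp only [Finset.sum_apply, Pi.smul_apply, smul_eq_mul] at e1 e2
  change (χ : G → ℂ) n = _ at e1
  change (χ : G → ℂ) ((1 : L) : G) = _ at e2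
  rw [Subgroup.coe_one] at e2
  rw [e1, e2]
  exact Finset.sum_congr rfl (fun ξ _ => hval ξ)

/-- If `p ∤ χ(1)` and `A ⊴ G` lies in the derived subgroup of a Sylow `p`-subgroup, then
`A ≤ ker χ`. -/
theorem apply_eq_of_le_commutator_sylow (p : ℕ) [hp : Fact p.Prime] (P : Sylow p G)
    (A : Subgroup G) [hA : A.Normal] (hAP : A ≤ ⁅(P : Subgroup G), (P : Subgroup G)⁆)
    (χ : IrrCharacter G) (hχ : ¬ p ∣ charDegree (χ : G → ℂ)) :
    ∀ a ∈ A, (χ : G → ℂ) a = (χ : G → ℂ) 1 := by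
  classical
  have := Fintype.ofFinite G
  have : Fintype (P : Subgroup G) := Fintype.ofFinite _
  have : Fintype A := Fintype.ofFinite _
  set Q : Subgroup G := (P : Subgroup G) with hQ
  have hres : IsCharacter Q (fun l : Q => (χ : G → ℂ) l) :=
    isCharacter_res Q (IsIrrCharacter.isCharacter χ.2)
  -- multiplicities
  choose m hm using fun μ : IrrCharacter Q => IsCharacter.exists_nat_classInner hres μ
  have hsum := IsCharacter.eq_sum_irr hres
  -- degree equation
  have hdeg : charDegree (χ : G → ℂ) = ∑ μ : IrrCharacter Q, m μ * charDegree (μ : Q → ℂ) := by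
    have e2 := congrFun hsum 1
    simp only [Finset.sum_apply, Pi.smul_apply, smul_eq_mul] at e2
    change (χ : G → ℂ) ((1 : Q) : G) = _ at e2
    rw [Subgroup.coe_one, Cfsg.Agent.Lib.Helper79.irr_apply_one_eq_charDegree χ] at e2
    have : ((charDegree (χ : G → ℂ) : ℕ) : ℂ) =
        ((∑ μ : IrrCharacter Q, m μ * charDegree (μ : Q → ℂ) : ℕ) : ℂ) := by
      rw [e2]
      push_cast
      refine Finset.sum_congr rfl fun μ _ => ?_
      rw [hm μ, Cfsg.Agent.Lib.Helper79.irr_apply_one_eq_charDegree μ]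
    exact_mod_cast this
  -- a linear constituent
  have hex : ∃ μ : IrrCharacter Q, m μ ≠ 0 ∧ charDegree (μ : Q → ℂ) = 1 := by
    by_contra hcon
    push Not at hcon
    apply hχ
    rw [hdeg]
    apply Finset.dvd_sum
    intro μ _
    by_cases h0 : m μ = 0
    · rw [h0, zero_mul]; exact dvd_zero p
    · have h1 := hcon μ h0
      have h2 : charDegree (μ : Q → ℂ) ∣ Nat.card Q :=
        Cfsg.Agent.Lib.Helper79.irr_charDegree_dvd_card μ
      obtain ⟨k, hk⟩ := IsPGroup.iff_card.mp P.2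
      have hk' : Nat.card Q = p ^ k := hk
      rw [hk'] at h2
      obtain ⟨i, -, hi⟩ := (Nat.dvd_prime_pow hp.out).mp h2
      rcases Nat.eq_zero_or_pos i with hi0 | hpos
      · exfalso; apply h1; rw [hi, hi0, pow_zero]
      · exact Dvd.dvd.mul_left (by rw [hi]; exact dvd_pow_self p hpos.ne') _
  obtain ⟨μ, hmμ, hμ1⟩ := hex
  have hAQ : A ≤ Q := le_trans hAP (commutator_self_le Q)
  -- `[χ_A, 1_A] ≠ 0`
  have hover : classInner (fun a : A => (χ : G → ℂ) a) (fun _ : A => (1 : ℂ)) ≠ 0 := by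
    -- expand `χ_A` through `χ_Q`
    have hexp : (fun a : A => (χ : G → ℂ) a) =
        ∑ ν : IrrCharacter Q, (m ν : ℂ) • (fun a : A => (ν : Q → ℂ) ⟨a, hAQ a.2⟩) := by
      funext a
      have e1 := congrFun hsum ⟨a, hAQ a.2⟩
      simp only [Finset.sum_apply, Pi.smul_apply, smul_eq_mul] at e1 ⊢
      change (χ : G → ℂ) a = _ at e1
      rw [e1]
      exact Finset.sum_congr rfl (fun ν _ => by rw [hm ν])
    have hchar : ∀ ν : IrrCharacter Q, ∃ k : ℕ,
        classInner (fun a : A => (ν : Q → ℂ) ⟨a, hAQ a.2⟩) (fun _ : A => (1 : ℂ)) = k := by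
      intro ν
      have h1 : IsCharacter A (fun a : A => (ν : Q → ℂ) ⟨a, hAQ a.2⟩) :=
        isCharacter_comp (IsIrrCharacter.isCharacter ν.2) (Subgroup.inclusion hAQ)
      exact IsCharacter.exists_nat_classInner h1 ⟨_, isIrrCharacter_one⟩
    choose k hk using hchar
    have hkμ : k μ = 1 := by
      have h1 : (fun a : A => (μ : Q → ℂ) ⟨a, hAQ a.2⟩) = (fun _ : A => (1 : ℂ)) := by
        funext a
        exact linear_eq_one_of_mem_commutator Q μ hμ1 ⟨a, hAQ a.2⟩ (hAP a.2)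
      have h2 := hk μ
      rw [h1, classInner_irr_self isIrrCharacter_one] at h2
      exact_mod_cast h2.symm
    rw [hexp, Cfsg.Agent.Lib.Helper78.classInner_sum_left]
    have h3 : ∑ ν : IrrCharacter Q, classInner ((m ν : ℂ) •
        (fun a : A => (ν : Q → ℂ) ⟨a, hAQ a.2⟩)) (fun _ : A => (1 : ℂ)) =
        ((∑ ν : IrrCharacter Q, m ν * k ν : ℕ) : ℂ) := by
      push_cast
      refine Finset.sum_congr rfl fun ν _ => ?_
      rw [Cfsg.Agent.Lib.Helper78.classInner_smul_left, hk ν]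
    rw [h3]
    have h4 : m μ * k μ ≤ ∑ ν : IrrCharacter Q, m ν * k ν :=
      Finset.single_le_sum (f := fun ν => m ν * k ν) (fun _ _ => Nat.zero_le _)
        (Finset.mem_univ μ)
    rw [hkμ, mul_one] at h4
    have h5 : (∑ ν : IrrCharacter Q, m ν * k ν) ≠ 0 := by
      have : 0 < m μ := Nat.pos_of_ne_zero hmμ
      omega
    exact_mod_cast h5
  have hcl := clifford_finset A χ.2 (isIrrCharacter_one (G := A)) hover
  intro a ha
  have e1 := congrFun hcl ⟨a, ha⟩
  have e2 := congrFun hcl 1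
  simp only [Pi.smul_apply, Finset.sum_apply, smul_eq_mul] at e1 e2
  change (χ : G → ℂ) a = _ at e1
  change (χ : G → ℂ) ((1 : A) : G) = _ at e2
  rw [Subgroup.coe_one] at e2
  rw [e1, e2]
  congr 1
  refine Finset.sum_congr rfl fun φ hφ => ?_
  obtain ⟨g, hg⟩ := (mem_conjOrbit A).mp hφ
  rw [← hg, conjFun_apply, conjFun_apply]

end Kernels

end Cfsg.Agent.Lib.Helper81
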