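import Mathlib
import Cfsg.Agent.Lib.Helper75.OddIndexParity
import Cfsg.Agent.Lib.Helper77.InvHeightZero
import Cfsg.Agent.Lib.Helper81.RealPrimeGroup

/-!
# Real characters and normal subgroups of odd index (helper81)

* `exists_real_over_of_odd_index`: a real `θ ∈ Irr(U)`, `U ⊴ G` of odd index, lies under a real
  `χ ∈ Irr(G)`.
-/

set_option linter.unusedSectionVars false
set_option autoImplicit false

namespace Cfsg.Agent.Lib.Helper81

open Cfsg Cfsg.Agent.Lib.Helper75 Cfsg.Agent.Lib.Helper78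
open scoped ComplexConjugate

universe u

section OddIndex

variable {G : Type u} [Group G] [Fintype G] (U : Subgroup G) [hU : U.Normal] [Fintype U]

/-- `∑_χ e_χ χ(1) = [G:U] θ(1)` where `e_χ = [χ_U, θ]`. -/
theorem sum_resMult_mul_charDegree (θ : IrrCharacter U) :
    ∑ χ : IrrCharacter G, resMult U χ θ * charDegree (χ : G → ℂ) =
      U.index * charDegree (θ : U → ℂ) := by
  have hcf : IsClassFunction G (indFun U (θ : U → ℂ)) := isClassFunction_indFun U _
  have h := congrFun (classFunction_eq_sum_irr hcf) 1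
  rw [indFun_one, Finset.sum_apply] at h
  have h2 : ∀ χ : IrrCharacter G, classInner (indFun U (θ : U → ℂ)) (χ : G → ℂ) =
      (resMult U χ θ : ℂ) := by
    intro χ
    rw [frobenius_reciprocity U _ (isClassFunction_irr χ), ← classInner_conj_symm, resMult_spec,
      Complex.conj_natCast]
  have h3 : ((U.index * charDegree (θ : U → ℂ) : ℕ) : ℂ) =
      ((∑ χ : IrrCharacter G, resMult U χ θ * charDegree (χ : G → ℂ) : ℕ) : ℂ) := by
    push_cast
    rw [← Cfsg.Agent.Lib.Helper79.irr_apply_one_eq_charDegree θ, h]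
    refine Finset.sum_congr rfl fun χ _ => ?_
    rw [Pi.smul_apply, smul_eq_mul, h2, Cfsg.Agent.Lib.Helper79.irr_apply_one_eq_charDegree χ]
  exact_mod_cast h3.symm

/-- `(∑_χ e_χ²) · |orbit| = [G:U]`. -/
theorem sum_resMult_sq_mul_card_conjOrbit (θ : IrrCharacter U) :
    (∑ χ : IrrCharacter G, resMult U χ θ ^ 2) * (conjOrbit U (θ : U → ℂ)).card = U.index := by
  have h1 := sum_resMult_mul_charDegree U θ
  have h2 : ∀ χ : IrrCharacter G, resMult U χ θ * charDegree (χ : G → ℂ) =
      resMult U χ θ ^ 2 * (conjOrbit U (θ : U → ℂ)).card * charDegree (θ : U → ℂ) := by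
    intro χ
    by_cases h0 : resMult U χ θ = 0
    · rw [h0]; simp
    · rw [charDegree_eq_resMult_mul U χ θ ((resMult_ne_zero_iff U χ θ).mp h0)]
      ring
  rw [Finset.sum_congr rfl (fun χ _ => h2 χ), ← Finset.sum_mul, ← Finset.sum_mul] at h1
  have hd : 0 < charDegree (θ : U → ℂ) := by
    have h3 : ((θ : U → ℂ) 1) ≠ 0 := IsIrrCharacter.apply_one_ne_zero θ.2
    rw [Cfsg.Agent.Lib.Helper79.irr_apply_one_eq_charDegree θ] at h3
    have : charDegree (θ : U → ℂ) ≠ 0 := by exact_mod_cast h3
    omega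
  exact Nat.eq_of_mul_eq_mul_right hd h1

/-- **Odd index**: a real irreducible character of a normal subgroup of odd index lies under a
real irreducible character of the group. -/
theorem exists_real_over_of_odd_index (hodd : Odd U.index) (θ : IrrCharacter U)
    (hθ : ∀ u : U, ((θ : U → ℂ) u).im = 0) :
    ∃ χ : IrrCharacter G, (∀ g : G, ((χ : G → ℂ) g).im = 0) ∧
      classInner (fun u : U => (χ : G → ℂ) u) (θ : U → ℂ) ≠ 0 := by
  classical
  have hbar : barIrr θ = θ := by
    apply Subtype.ext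
    funext u
    rw [barIrr_apply]
    exact Complex.conj_eq_iff_im.mpr (hθ u)
  have hsum := sum_resMult_sq_mul_card_conjOrbit U θ
  have hoddsum : Odd (∑ χ : IrrCharacter G, resMult U χ θ ^ 2) := by
    rw [← hsum] at hodd
    exact (Nat.odd_mul.mp hodd).1
  have hinv : ∀ χ : IrrCharacter G, resMult U (barIrr χ) θ ^ 2 = resMult U χ θ ^ 2 := by
    intro χ
    have := resMult_barIrr U χ θ
    rw [hbar] at this
    rw [this]
  have hmod := sum_nat_modEq_sum_fixed 1 (barIrr (G := G)) barIrr_iterate_two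
    (fun χ => resMult U χ θ ^ 2) hinv
  have hodd2 : Odd (∑ χ ∈ Finset.univ.filter (fun χ : IrrCharacter G => barIrr χ = χ),
      resMult U χ θ ^ 2) := by
    rw [Nat.odd_iff] at hoddsum ⊢
    rw [← hmod, hoddsum]
  have hne : ∑ χ ∈ Finset.univ.filter (fun χ : IrrCharacter G => barIrr χ = χ),
      resMult U χ θ ^ 2 ≠ 0 := by
    intro h0
    rw [h0] at hodd2
    exact absurd hodd2 (by decide)
  obtain ⟨χ, hχmem, hχne⟩ := Finset.exists_ne_zero_of_sum_ne_zero hne
  rw [Finset.mem_filter] at hχmem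
  refine ⟨χ, ?_, ?_⟩
  · intro g
    have := congrFun (congrArg Subtype.val hχmem.2) g
    rw [barIrr_apply] at this
    exact Complex.conj_eq_iff_im.mp this
  · rw [← resMult_ne_zero_iff]
    intro h0
    apply hχne
    rw [h0]
    simp

end OddIndex

end Cfsg.Agent.Lib.Helper81
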