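import Mathlib
import Cfsg.Agent.Lib.Helper34.RelCMStruct
import Cfsg.Agent.Lib.Helper81.Gallagher
import Cfsg.Agent.Lib.Helper81.RealCounting
import Cfsg.Agent.Lib.Helper81.RealKernels
import Cfsg.Agent.Lib.Helper81.RealOddIndex
import Cfsg.Agent.Lib.Helper80.ItoMichler

/-!
# Real characters of p'-degree: preparations for the normal Sylow theorem (helper81)

* `exists_minimal_normal_le`, `abelian_of_minimal_normal_solvable`, `sylow_le_ppGen`.
* `exists_real_of_two_element_not_centralizing`.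
* `quotient_hyps`: the hypotheses pass to quotients.
-/

set_option autoImplicit false

namespace Cfsg.Agent.Lib.Helper81

open Cfsg
open scoped commutatorElement

universe u

section Basics

variable {G : Type u} [Group G]

theorem sylow_le_ppGen {p : ℕ} [hp : Fact p.Prime] (P : Sylow p G) :
    (P : Subgroup G) ≤ ppGen G p := by
  intro g hg
  obtain ⟨k, hk⟩ := P.2 ⟨g, hg⟩
  have h1 : g ^ p ^ k = 1 := by
    have := congrArg Subtype.val hk
    simpa using this
  obtain ⟨i, -, hi⟩ := (Nat.dvd_prime_pow hp.out).mp (orderOf_dvd_of_pow_eq_one h1)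
  exact mem_ppGen_of_orderOf i hi

/-- A nontrivial normal subgroup contains a minimal normal subgroup of `G`. -/
theorem exists_minimal_normal_le [Finite G] (R : Subgroup G) [hR : R.Normal] (hR1 : R ≠ ⊥) :
    ∃ N : Subgroup G, N.Normal ∧ N ≠ ⊥ ∧ N ≤ R ∧
      ∀ L : Subgroup G, L.Normal → L ≤ N → L = ⊥ ∨ L = N := by
  classical
  have hex : ∃ c : ℕ, ∃ N : Subgroup G, N.Normal ∧ N ≠ ⊥ ∧ N ≤ R ∧ Nat.card N = c :=
    ⟨Nat.card R, R, hR, hR1, le_rfl, rfl⟩
  obtain ⟨N, hNn, hN1, hNR, hNc⟩ := Nat.find_spec hex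
  refine ⟨N, hNn, hN1, hNR, ?_⟩
  intro L hLn hLN
  by_cases hL1 : L = ⊥
  · exact Or.inl hL1
  · right
    have h1 : Nat.find hex ≤ Nat.card L :=
      Nat.find_min' hex ⟨L, hLn, hL1, le_trans hLN hNR, rfl⟩
    rw [← hNc] at h1
    exact Subgroup.eq_of_le_of_card_ge hLN h1

/-- A solvable minimal normal subgroup is abelian. -/
theorem abelian_of_minimal_normal_solvable (N : Subgroup G) [hN : N.Normal]
    (hmin : ∀ L : Subgroup G, L.Normal → L ≤ N → L = ⊥ ∨ L = N) (hN1 : N ≠ ⊥)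
    [hsolv : Group.IsSolvable N] : ∀ a ∈ N, ∀ b ∈ N, a * b = b * a := by
  by_contra hcon
  have hna : ¬ IsMulCommutative ↥N := by
    intro h
    apply hcon
    intro a ha b hb
    have := h.is_comm.comm (⟨a, ha⟩ : N) ⟨b, hb⟩
    exact congrArg Subtype.val this
  have h1 := commutator_eq_of_minimal_normal N hmin hna
  have hnt : Nontrivial N := (Subgroup.nontrivial_iff_ne_bot N).mpr hN1
  have h2 := Group.IsSolvable.commutator_lt_top_of_nontrivial N
  have h3 : (commutator N).map N.subtype = ⁅N, N⁆ := by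
    rw [commutator_def, Subgroup.map_commutator, ← MonoidHom.range_eq_map, Subgroup.range_subtype]
  rw [h1] at h3
  have h4 : commutator N = ⊤ := by
    apply Subgroup.map_injective N.subtype_injective
    rw [h3, ← MonoidHom.range_eq_map, Subgroup.range_subtype]
  exact h2.ne h4

/-- A 2-element that does not centralize the normal subgroup `N` yields a nontrivial real element
of `N`. -/
theorem exists_real_of_two_element_not_centralizing (N : Subgroup G) [hN : N.Normal] (t : G)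
    (k : ℕ) (ht : orderOf t = 2 ^ k) (htC : t ∉ Subgroup.centralizer (N : Set G)) :
    ∃ v ∈ N, v ≠ 1 ∧ IsConj v v⁻¹ := by
  classical
  set C : Subgroup G := Subgroup.centralizer (N : Set G) with hC
  have hex : ∃ i : ℕ, t ^ (2 ^ i) ∈ C := ⟨k, by rw [← ht, pow_orderOf_eq_one]; exact C.one_mem⟩
  set i := Nat.find hex with hi
  have hi0 : i ≠ 0 := by
    intro h0
    have := Nat.find_spec hex
    rw [← hi, h0, pow_zero, pow_one] at this
    exact htC this
  set s : G := t ^ (2 ^ (i - 1)) with hs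
  have hsC : s ∉ C := Nat.find_min hex (by omega : i - 1 < i)
  have hs2 : s ^ 2 ∈ C := by
    have := Nat.find_spec hex
    rw [← hi] at this
    have e : 2 ^ i = 2 ^ (i - 1) * 2 := by
      rw [← pow_succ]; congr 1; omega
    rw [hs, ← pow_mul, ← e]
    exact this
  have hn : ∃ n ∈ N, n * s ≠ s * n := by
    by_contra h
    push Not at h
    exact hsC (Subgroup.mem_centralizer_iff.mpr h)
  obtain ⟨n, hnN, hns⟩ := hn
  set v : G := n * (s * n * s⁻¹)⁻¹ with hv
  have hvN : v ∈ N := N.mul_mem hnN (N.inv_mem (hN.conj_mem n hnN s))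
  have hv1 : v ≠ 1 := by
    intro h
    apply hns
    have h1 : n = s * n * s⁻¹ := mul_inv_eq_one.mp h
    calc n * s = s * n * s⁻¹ * s := by rw [← h1]
      _ = s * n := by group
  have hcomm : n⁻¹ * s ^ 2 = s ^ 2 * n⁻¹ :=
    (Subgroup.mem_centralizer_iff.mp hs2) n⁻¹ (N.inv_mem hnN)
  refine ⟨v, hvN, hv1, ?_⟩
  rw [isConj_iff]
  refine ⟨s, ?_⟩
  have h1 : s * v * s⁻¹ = s * n * s⁻¹ * (s ^ 2 * n⁻¹ * (s ^ 2)⁻¹) := by
    rw [hv]; group
  have h2 : s ^ 2 * n⁻¹ * (s ^ 2)⁻¹ = n⁻¹ := by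
    rw [← hcomm]; group
  rw [h1, h2, hv]
  group

end Basics

section Quot

variable {G : Type u} [Group G] [Finite G]

/-- The hypotheses of the main theorem pass to quotients. -/
theorem quotient_hyps (p : ℕ) [hp : Fact p.Prime] (N : Subgroup G) [hN : N.Normal]
    (hidx : ∃ a : ℕ, (ppGen G 2).index = p ^ a)
    (hsolv : Group.IsSolvable (ppGen G p))
    (hreal : ∀ χ : IrrCharacter G, (∀ g : G, ((χ : G → ℂ) g).im = 0) →
      ¬ p ∣ charDegree (χ : G → ℂ)) :
    (∃ a : ℕ, (ppGen (G ⧸ N) 2).index = p ^ a) ∧ Group.IsSolvable (ppGen (G ⧸ N) p) ∧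
      (∀ χ : IrrCharacter (G ⧸ N), (∀ q : G ⧸ N, ((χ : G ⧸ N → ℂ) q).im = 0) →
        ¬ p ∣ charDegree (χ : G ⧸ N → ℂ)) := by
  have h2 : Fact (Nat.Prime 2) := ⟨Nat.prime_two⟩
  have hsurj := QuotientGroup.mk'_surjective N
  refine ⟨?_, ?_, ?_⟩
  · obtain ⟨a, ha⟩ := hidx
    have e := map_ppGen_eq (QuotientGroup.mk' N) hsurj 2
    have h1 : (ppGen (G ⧸ N) 2).index ∣ p ^ a := by
      rw [← e, ← ha]
      exact Subgroup.index_map_dvd _ hsurj
    obtain ⟨b, -, hb⟩ := (Nat.dvd_prime_pow hp.out).mp h1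
    exact ⟨b, hb⟩
  · have e := map_ppGen_eq (QuotientGroup.mk' N) hsurj p
    rw [← e]
    exact Group.isSolvable_of_surjective
      ((QuotientGroup.mk' N).subgroupMap_surjective (ppGen G p))
  · intro χ hχ
    have h1 := hreal (Cfsg.Agent.Lib.Helper77.inflate N χ) (fun g => by
      rw [Cfsg.Agent.Lib.Helper77.inflate_apply]; exact hχ _)
    rwa [Cfsg.Agent.Lib.Helper80.charDegree_inflate] at h1

end Quot


end Cfsg.Agent.Lib.Helper81
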