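import Mathlib
import Cfsg.Prelude.Def_GeometricClasses

set_option autoImplicit false

namespace Cfsg.Agent.Lib.Helper81.AschOFrame3

open Cfsg Cfsg.Geo
open scoped Matrix

variable {F : Type*} [Field F] [Fintype F]

lemma three_eq_zero (hF : Fintype.card F = 3) : (3 : F) = 0 := by
  have h := FiniteField.cast_card_eq_zero F
  rw [hF] at h
  exact_mod_cast h

lemma trichotomy (hF : Fintype.card F = 3) (x : F) : x = 0 ∨ x = 1 ∨ x = -1 := by
  have h := FiniteField.pow_card x
  rw [hF] at h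
  have h2 : x * (x - 1) * (x + 1) = 0 := by linear_combination h
  rcases mul_eq_zero.mp h2 with h3 | h3
  · rcases mul_eq_zero.mp h3 with h4 | h4
    · exact Or.inl h4
    · exact Or.inr (Or.inl (sub_eq_zero.mp h4))
  · exact Or.inr (Or.inr (eq_neg_of_add_eq_zero_left h3))

lemma two_eq_neg_one (hF : Fintype.card F = 3) : (2 : F) = -1 := by
  have := three_eq_zero hF
  linear_combination this

lemma sq_sum_eq_one (hF : Fintype.card F = 3) (a0 a1 a2 : F) (h : a0 ^ 2 + a1 ^ 2 + a2 ^ 2 = 1) :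
    (a1 = 0 ∧ a2 = 0 ∧ (a0 = 1 ∨ a0 = -1)) ∨ (a0 = 0 ∧ a2 = 0 ∧ (a1 = 1 ∨ a1 = -1)) ∨
    (a0 = 0 ∧ a1 = 0 ∧ (a2 = 1 ∨ a2 = -1)) := by
  have h3 := three_eq_zero hF
  have h10 : (1 : F) ≠ 0 := one_ne_zero
  rcases trichotomy hF a0 with rfl | rfl | rfl <;> rcases trichotomy hF a1 with rfl | rfl | rfl <;>
    rcases trichotomy hF a2 with rfl | rfl | rfl <;> simp at h ⊢ <;>
    first
      | (exfalso; apply h10; linear_combination h)
      | (exfalso; apply h10; linear_combination h - h3)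
      | (exfalso; apply h10; linear_combination -h)
      | (exfalso; apply h10; linear_combination h3 - h)

/-- The bundled bilinear form. -/
noncomputable def bil (f : (Fin 3 → F) → (Fin 3 → F) → F) (hf : IsBilinearForm f) :
    LinearMap.BilinForm F (Fin 3 → F) :=
  LinearMap.mk₂ F f hf.add_left (fun c x v => by simpa using hf.smul_left c x v) hf.add_right
    (fun c v x => by simpa using hf.smul_right c v x)

@[simp] lemma bil_apply (f : (Fin 3 → F) → (Fin 3 → F) → F) (hf : IsBilinearForm f)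
    (u v : Fin 3 → F) : bil f hf u v = f u v := rfl

lemma fix012 (hF : Fintype.card F = 3) (f : (Fin 3 → F) → (Fin 3 → F) → F)
    (hf : IsBilinearForm f) (w : Fin 3 → (Fin 3 → F))
    (orth : ∀ i j, i ≠ j → f (w i) (w j) = 0) (e : F) (h0 : f (w 0) (w 0) = e)
    (h1 : f (w 1) (w 1) = e) (h2 : f (w 2) (w 2) = -e) :
    ∃ v : Fin 3 → (Fin 3 → F), (∀ i, f (v i) (v i) = -e) ∧ (∀ i j, i ≠ j → f (v i) (v j) = 0) := by
  have h2' := two_eq_neg_one hF
  have o01 := orth 0 1 (by decide)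
  have o10 := orth 1 0 (by decide)
  have o02 := orth 0 2 (by decide)
  have o20 := orth 2 0 (by decide)
  have o12 := orth 1 2 (by decide)
  have o21 := orth 2 1 (by decide)
  have sub_left : ∀ x y v, f (x - y) v = f x v - f y v := by
    intro x y v
    have := hf.add_left (x - y) y v
    rw [sub_add_cancel] at this
    rw [this]; ring
  have sub_right : ∀ v x y, f v (x - y) = f v x - f v y := by
    intro v x y
    have := hf.add_right v (x - y) y
    rw [sub_add_cancel] at this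
    rw [this]; ring
  refine ⟨![w 0 + w 1, w 0 - w 1, w 2], ?_, ?_⟩
  · intro i
    fin_cases i
    · simp only [Fin.zero_eta, Matrix.cons_val_zero, hf.add_left, hf.add_right, h0, h1, o01, o10]
      linear_combination e * h2'
    · simp only [Fin.mk_one, Matrix.cons_val_one, Matrix.cons_val_zero, sub_left, sub_right, h0, h1, o01, o10]
      linear_combination e * h2'
    · simpa using h2
  · intro i j hij
    fin_cases i <;> fin_cases j <;> first | exact absurd rfl hij | skip
    all_goals simp [hf.add_left, hf.add_right, sub_left, sub_right, h0, h1, o01, o10, o02, o20, o12, o21]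

lemma exists_perm (ε : Fin 3 → F) (hε : ∀ i, ε i = 1 ∨ ε i = -1) :
    ∃ σ : Equiv.Perm (Fin 3), ε (σ 0) = ε (σ 1) := by
  by_cases h01 : ε 0 = ε 1
  · exact ⟨1, by simpa using h01⟩
  by_cases h02 : ε 0 = ε 2
  · refine ⟨Equiv.swap 1 2, ?_⟩
    rw [Equiv.swap_apply_of_ne_of_ne (by decide) (by decide), Equiv.swap_apply_left]
    exact h02
  · refine ⟨Equiv.swap 0 2, ?_⟩
    rw [Equiv.swap_apply_left, Equiv.swap_apply_of_ne_of_ne (by decide) (by decide)]
    rcases hε 0 with a | a <;> rcases hε 1 with b | b <;> rcases hε 2 with c | c <;>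
      simp_all

lemma exists_frame_of_ortho (hF : Fintype.card F = 3) (f : (Fin 3 → F) → (Fin 3 → F) → F)
    (hf : IsBilinearForm f) (w : Fin 3 → (Fin 3 → F))
    (orth : ∀ i j, i ≠ j → f (w i) (w j) = 0)
    (hε : ∀ i, f (w i) (w i) = 1 ∨ f (w i) (w i) = -1) :
    ∃ (v : Fin 3 → (Fin 3 → F)) (c : F), c ≠ 0 ∧ (∀ i, f (v i) (v i) = c) ∧
      (∀ i j, i ≠ j → f (v i) (v j) = 0) := by
  obtain ⟨σ, hσ⟩ := exists_perm (fun i => f (w i) (w i)) hε
  have orth' : ∀ i j, i ≠ j → f (w (σ i)) (w (σ j)) = 0 := fun i j hij =>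
    orth _ _ (fun h => hij (σ.injective h))
  have hne : ∀ i, f (w i) (w i) ≠ 0 := by
    intro i
    rcases hε i with h | h <;> rw [h] <;> simp
  by_cases h2 : f (w (σ 2)) (w (σ 2)) = f (w (σ 0)) (w (σ 0))
  · refine ⟨fun i => w (σ i), f (w (σ 0)) (w (σ 0)), hne _, ?_, orth'⟩
    intro i
    fin_cases i
    · rfl
    · exact hσ.symm
    · exact h2
  · have h2' : f (w (σ 2)) (w (σ 2)) = - f (w (σ 0)) (w (σ 0)) := by
      rcases hε (σ 0) with a | a <;> rcases hε (σ 2) with c | c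
      · exact absurd (c.trans a.symm) h2
      · rw [a, c]
      · rw [a, c, neg_neg]
      · exact absurd (c.trans a.symm) h2
    obtain ⟨v, hv1, hv2⟩ := fix012 hF f hf (fun i => w (σ i)) orth' (f (w (σ 0)) (w (σ 0))) rfl
      hσ.symm h2'
    exact ⟨v, _, neg_ne_zero.mpr (hne _), hv1, hv2⟩

lemma exists_frame (hF : Fintype.card F = 3) (f : (Fin 3 → F) → (Fin 3 → F) → F)
    (hf : IsSymmetricForm f) :
    ∃ (v : Fin 3 → (Fin 3 → F)) (c : F), c ≠ 0 ∧ (∀ i, f (v i) (v i) = c) ∧
      (∀ i j, i ≠ j → f (v i) (v j) = 0) := by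
  have h2 : (2 : F) ≠ 0 := by
    rw [two_eq_neg_one hF]; simp
  have : Invertible (2 : F) := invertibleOfNonzero h2
  have hsymm : LinearMap.IsSymm (bil f hf.bilinear) :=
    LinearMap.isSymm_def.mpr (fun x y => by simpa using hf.symm x y)
  obtain ⟨w, hw⟩ := LinearMap.BilinForm.exists_orthogonal_basis hsymm
  obtain ⟨d, hd, w, hw⟩ : ∃ d, d = 3 ∧ ∃ w : Module.Basis (Fin d) F (Fin 3 → F),
      (bil f hf.bilinear).IsOrthoᵢ w := ⟨_, by simp, w, hw⟩
  subst hd
  have hsep : (bil f hf.bilinear).SeparatingLeft := by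
    intro x hx
    by_contra hx0
    obtain ⟨y, hy⟩ := (hf.nondegenerate x hx0).2
    exact hy (hx y)
  have hne : ∀ i, f (w i) (w i) ≠ 0 := fun i =>
    hw.not_isOrtho_basis_self_of_separatingLeft hsep i
  refine exists_frame_of_ortho hF f hf.bilinear (fun i => w i) (fun i j hij => hw hij) ?_
  intro i
  rcases trichotomy hF (f (w i) (w i)) with h | h | h
  · exact absurd h (hne i)
  · exact Or.inl h
  · exact Or.inr h

lemma similarity_frame (hF : Fintype.card F = 3) (f : (Fin 3 → F) → (Fin 3 → F) → F)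
    (hf : IsBilinearForm f) (v : Fin 3 → (Fin 3 → F)) (c : F) (hc : c ≠ 0)
    (hvv : ∀ i, f (v i) (v i) = c) (orth : ∀ i j, i ≠ j → f (v i) (v j) = 0)
    (hli : LinearIndependent F v)
    (g : Matrix (Fin 3) (Fin 3) F) (l : F) (hl : l ≠ 0)
    (hg : ∀ u w, f (g *ᵥ u) (g *ᵥ w) = l * f u w) :
    ∀ i, ∃ j, g *ᵥ v i = v j ∨ g *ᵥ v i = - v j := by
  let b := basisOfLinearIndependentOfCardEqFinrank hli (by simp)
  have hb : ∀ i, b i = v i := by
    intro i; simp [b]
  let A : Matrix (Fin 3) (Fin 3) F := fun j i => b.repr (g *ᵥ v i) j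
  have hA : ∀ i, g *ᵥ v i = A 0 i • v 0 + A 1 i • v 1 + A 2 i • v 2 := by
    intro i
    conv_lhs => rw [← b.sum_repr (g *ᵥ v i)]
    rw [Fin.sum_univ_three]
    simp only [hb, A]
  have o01 := orth 0 1 (by decide)
  have o10 := orth 1 0 (by decide)
  have o02 := orth 0 2 (by decide)
  have o20 := orth 2 0 (by decide)
  have o12 := orth 1 2 (by decide)
  have o21 := orth 2 1 (by decide)
  have key : ∀ i k, (A 0 i * A 0 k + A 1 i * A 1 k + A 2 i * A 2 k) * c = l * f (v i) (v k) := by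
    intro i k
    rw [← hg (v i) (v k), hA i, hA k]
    simp only [hf.add_left, hf.add_right, hf.smul_left, hf.smul_right, hvv, o01, o10, o02, o20,
      o12, o21]
    ring
  have hAA : Aᵀ * A = l • (1 : Matrix (Fin 3) (Fin 3) F) := by
    ext i k
    rw [Matrix.mul_apply, Fin.sum_univ_three]
    simp only [Matrix.transpose_apply, Matrix.smul_apply, Matrix.one_apply, smul_eq_mul]
    have hk := key i k
    by_cases hik : i = k
    · subst hik
      rw [hvv] at hk
      rw [if_pos rfl, mul_one]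
      exact mul_right_cancel₀ hc hk
    · rw [orth i k hik, mul_zero] at hk
      rw [if_neg hik, mul_zero]
      rcases mul_eq_zero.mp hk with h | h
      · exact h
      · exact absurd h hc
  have hdet : A.det ^ 2 = l ^ 3 := by
    have := congrArg Matrix.det hAA
    rw [Matrix.det_mul, Matrix.det_transpose, Matrix.det_smul, Matrix.det_one, Fintype.card_fin,
      mul_one] at this
    rw [← this]; ring
  have hl3 : l ^ 3 = l := by
    have := FiniteField.pow_card l
    rwa [hF] at this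
  have hdet0 : A.det ≠ 0 := by
    intro h0
    rw [h0, hl3] at hdet
    exact hl (by simpa using hdet.symm)
  have hl1 : l = 1 := by
    rw [hl3] at hdet
    rcases trichotomy hF A.det with h | h | h
    · exact absurd h hdet0
    · rw [← hdet, h]; ring
    · rw [← hdet, h]; ring
  intro i
  have hk := key i i
  rw [hvv, hl1, one_mul] at hk
  have hsq : A 0 i ^ 2 + A 1 i ^ 2 + A 2 i ^ 2 = 1 := by
    have : (A 0 i ^ 2 + A 1 i ^ 2 + A 2 i ^ 2) * c = 1 * c := by
      rw [one_mul]; linear_combination hk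
    exact mul_right_cancel₀ hc this
  rcases sq_sum_eq_one hF _ _ _ hsq with ⟨h1, h2, h0 | h0⟩ | ⟨h0, h2, h1 | h1⟩ | ⟨h0, h1, h2 | h2⟩
  · exact ⟨0, Or.inl (by rw [hA i, h0, h1, h2]; simp)⟩
  · exact ⟨0, Or.inr (by rw [hA i, h0, h1, h2]; simp)⟩
  · exact ⟨1, Or.inl (by rw [hA i, h0, h1, h2]; simp)⟩
  · exact ⟨1, Or.inr (by rw [hA i, h0, h1, h2]; simp)⟩
  · exact ⟨2, Or.inl (by rw [hA i, h0, h1, h2]; simp)⟩
  · exact ⟨2, Or.inr (by rw [hA i, h0, h1, h2]; simp)⟩

end Cfsg.Agent.Lib.Helper81.AschOFrame3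

namespace Cfsg.Agent.Lib.Helper5.AschO

open Cfsg Cfsg.Geo
open scoped MatrixGroups Matrix Kronecker

variable {F : Type*} [Field F] [Fintype F]

open Cfsg.Agent.Lib.Helper81.AschOFrame3 in
/-- ASCHO-[FRAME3] -/
theorem exists_frame_three (hF : Fintype.card F = 3) (f : (Fin 3 → F) → (Fin 3 → F) → F)
    (hf : IsSymmetricForm f) :
    ∃ (v : Fin 3 → (Fin 3 → F)) (c : F), c ≠ 0 ∧ LinearIndependent F v ∧ (∀ i, f (v i) (v i) = c) ∧
      (∀ i j, i ≠ j → f (v i) (v j) = 0) ∧
      ∀ g ∈ similarityGroup f, ∀ i, ∃ j,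
        (g : Matrix (Fin 3) (Fin 3) F) *ᵥ v i = v j ∨ (g : Matrix (Fin 3) (Fin 3) F) *ᵥ v i = - v j := by
  obtain ⟨v, c, hc, hvv, orth⟩ := exists_frame hF f hf
  have hli : LinearIndependent F v := by
    refine LinearMap.linearIndependent_of_isOrthoᵢ (B := bil f hf.bilinear) (fun i j hij => orth i j hij) ?_
    intro i
    rw [bil_apply, hvv]
    exact hc
  refine ⟨v, c, hc, hli, hvv, orth, ?_⟩
  rintro g ⟨l, hl⟩ i
  exact similarity_frame hF f hf.bilinear v c hc hvv orth hli _ l l.ne_zero hl i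

end Cfsg.Agent.Lib.Helper5.AschO
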