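import Mathlib
import Cfsg.Prelude.Def_GeometricClasses
import Cfsg.Agent.Lib.Helper81.AschOFrame3

set_option autoImplicit false

namespace Cfsg.Agent.Lib.Helper81.AschOSolv33

open Cfsg Cfsg.Geo
open scoped MatrixGroups Matrix commutatorElement

/-- A perfect subgroup is killed by every homomorphism with commuting values. -/
lemma eq_one_of_commute {G K : Type*} [Group G] [Group K] (A : Subgroup G) (hperf : ⁅A, A⁆ = A)
    (φ : ↥A →* K) (hcomm : ∀ a b : ↥A, Commute (φ a) (φ b)) : ∀ a : ↥A, φ a = 1 := by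
  have hle : ⁅A, A⁆ ≤ (φ.ker).map A.subtype := by
    rw [Subgroup.commutator_le]
    intro g₁ h₁ g₂ h₂
    refine ⟨⁅(⟨g₁, h₁⟩ : ↥A), ⟨g₂, h₂⟩⁆, ?_, rfl⟩
    rw [SetLike.mem_coe, MonoidHom.mem_ker, map_commutatorElement,
      commutatorElement_eq_one_iff_commute]
    exact hcomm _ _
  intro a
  have ha : (a : G) ∈ ⁅A, A⁆ := by rw [hperf]; exact a.2
  obtain ⟨x, hx, hxa⟩ := hle ha
  have : x = a := Subtype.ext hxa
  rw [← this]
  exact hx

lemma even_perm_commute : ∀ σ τ : Equiv.Perm (Fin 3), Equiv.Perm.sign σ = 1 →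
    Equiv.Perm.sign τ = 1 → σ * τ = τ * σ := by
  decide

variable {F : Type*} [Field F]

section frame

variable (f : (Fin 3 → F) → (Fin 3 → F) → F) (hf : IsBilinearForm f)
  (v : Fin 3 → (Fin 3 → F)) (c : F) (hc : c ≠ 0)
  (hvv : ∀ i, f (v i) (v i) = c) (orth : ∀ i j, i ≠ j → f (v i) (v j) = 0)

include hf hc hvv orth in
lemma uniq {j k : Fin 3} {s t : F} (hs : s ≠ 0) (h : s • v j = t • v k) : j = k := by
  by_contra hjk
  have h1 : f (s • v j) (v j) = s * c := by rw [hf.smul_left, hvv]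
  rw [h, hf.smul_left, orth k j (Ne.symm hjk), mul_zero] at h1
  exact (mul_ne_zero hs hc) h1.symm

variable (A : Subgroup (GL (Fin 3) F))
  (H : ∀ g ∈ A, ∀ i, ∃ j, ∃ s : F, s ≠ 0 ∧ (g : Matrix (Fin 3) (Fin 3) F) *ᵥ v i = s • v j)

/-- the index permuted to -/
noncomputable def pi (g : ↥A) (i : Fin 3) : Fin 3 := (H g.1 g.2 i).choose

/-- the scalar -/
noncomputable def sg (g : ↥A) (i : Fin 3) : F := (H g.1 g.2 i).choose_spec.choose

lemma sg_ne (g : ↥A) (i : Fin 3) : sg v A H g i ≠ 0 := (H g.1 g.2 i).choose_spec.choose_spec.1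

lemma pi_spec (g : ↥A) (i : Fin 3) :
    ((g : GL (Fin 3) F) : Matrix (Fin 3) (Fin 3) F) *ᵥ v i = sg v A H g i • v (pi v A H g i) :=
  (H g.1 g.2 i).choose_spec.choose_spec.2

include hf hc hvv orth in
lemma pi_one (i : Fin 3) : pi v A H 1 i = i := by
  have h := pi_spec v A H 1 i
  rw [Subgroup.coe_one, Units.val_one, Matrix.one_mulVec] at h
  refine uniq f hf v c hc hvv orth (sg_ne v A H 1 i) (t := 1) ?_
  rw [one_smul]; exact h.symm

include hf hc hvv orth in
lemma pi_mul (g h : ↥A) (i : Fin 3) : pi v A H (g * h) i = pi v A H g (pi v A H h i) := by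
  have h1 := pi_spec v A H (g * h) i
  rw [Subgroup.coe_mul, Units.val_mul, ← Matrix.mulVec_mulVec, pi_spec v A H h i,
    Matrix.mulVec_smul, pi_spec v A H g, smul_smul] at h1
  exact uniq f hf v c hc hvv orth (sg_ne v A H (g * h) i) h1.symm

/-- the permutation representation on the frame -/
noncomputable def phi (hf : IsBilinearForm f) (hc : c ≠ 0)
    (hvv : ∀ i, f (v i) (v i) = c) (orth : ∀ i j, i ≠ j → f (v i) (v j) = 0) :
    ↥A →* Equiv.Perm (Fin 3) :=
  MonoidHom.toHomPerm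
    { toFun := fun g => (pi v A H g : Function.End (Fin 3))
      map_one' := funext (pi_one f hf v c hc hvv orth A H)
      map_mul' := fun g h => funext (pi_mul f hf v c hc hvv orth A H g h) }

lemma phi_apply (g : ↥A) (i : Fin 3) : phi f v c A H hf hc hvv orth g i = pi v A H g i := rfl

end frame

lemma matrix_eq_of_frame (v : Fin 3 → (Fin 3 → F)) (hli : LinearIndependent F v)
    (M N : Matrix (Fin 3) (Fin 3) F) (h : ∀ i, M *ᵥ v i = N *ᵥ v i) : M = N := by
  let b := basisOfLinearIndependentOfCardEqFinrank hli (by simp)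
  have hb : ∀ i, b i = v i := by
    intro i; simp [b]
  apply Matrix.toLin'.injective
  apply b.ext
  intro i
  rw [hb, Matrix.toLin'_apply, Matrix.toLin'_apply, h]

end Cfsg.Agent.Lib.Helper81.AschOSolv33

namespace Cfsg.Agent.Lib.Helper5.AschO

open Cfsg Cfsg.Geo
open scoped MatrixGroups Matrix Kronecker

variable {F : Type*} [Field F] [Fintype F]

open Cfsg.Agent.Lib.Helper81.AschOSolv33 in
/-- ASCHO-[SOLV33] -/
theorem eq_bot_of_perfect_three_three (hF : Fintype.card F = 3) (A : Subgroup (GL (Fin 3) F))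
    (f : (Fin 3 → F) → (Fin 3 → F) → F) (hf : IsSymmetricForm f) (hA : A ≤ similarityGroup f)
    (hperf : ⁅A, A⁆ = A) : A = ⊥ := by
  obtain ⟨v, c, hc, hli, hvv, orth, hfr⟩ := exists_frame_three hF f hf
  have H : ∀ g ∈ A, ∀ i, ∃ j, ∃ s : F, s ≠ 0 ∧
      (g : Matrix (Fin 3) (Fin 3) F) *ᵥ v i = s • v j := by
    intro g hg i
    obtain ⟨j, h | h⟩ := hfr g (hA hg) i
    · exact ⟨j, 1, one_ne_zero, by rw [h, one_smul]⟩
    · exact ⟨j, -1, by simp, by rw [h, neg_smul, one_smul]⟩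
  have hsign : ∀ a, Equiv.Perm.sign (phi f v c A H hf.bilinear hc hvv orth a) = 1 :=
    eq_one_of_commute A hperf (Equiv.Perm.sign.comp (phi f v c A H hf.bilinear hc hvv orth))
      (fun a b => Commute.all _ _)
  have hφ : ∀ a, phi f v c A H hf.bilinear hc hvv orth a = 1 :=
    eq_one_of_commute A hperf _ (fun a b => even_perm_commute _ _ (hsign a) (hsign b))
  have hpi : ∀ a i, pi v A H a i = i := by
    intro a i
    rw [← phi_apply f hf.bilinear v c hc hvv orth A H, hφ a]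
    rfl
  have hcomm : ∀ a b : ↥A, Commute ((MonoidHom.id ↥A) a) ((MonoidHom.id ↥A) b) := by
    intro a b
    apply Subtype.ext
    apply Units.ext
    apply matrix_eq_of_frame v hli
    intro i
    simp only [MonoidHom.id_apply, Subgroup.coe_mul, Units.val_mul]
    rw [← Matrix.mulVec_mulVec, ← Matrix.mulVec_mulVec, pi_spec v A H b i, pi_spec v A H a i, hpi, hpi,
      Matrix.mulVec_smul, Matrix.mulVec_smul, pi_spec v A H b i, pi_spec v A H a i, hpi, hpi,
      smul_comm]
  have h1 : ∀ a : ↥A, a = 1 := eq_one_of_commute A hperf (MonoidHom.id _) hcomm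
  rw [Subgroup.eq_bot_iff_forall]
  intro x hx
  exact congrArg Subtype.val (h1 ⟨x, hx⟩)

end Cfsg.Agent.Lib.Helper5.AschO
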