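import Mathlib
import Cfsg.Prelude.Def_Characters
import Cfsg.Agent.Lib.Helper78.CharOrtho
import Cfsg.Agent.Lib.Helper81.IrrTwist

/-!
# Transport of irreducible characters along an isomorphism (helper81)
-/

set_option autoImplicit false

namespace Cfsg.Agent.Lib.Helper81

open Cfsg

/-- Transport of an irreducible character along a group isomorphism. -/
noncomputable def irrTransport {C D : Type*} [Group C] [Group D] (e : C ≃* D)
    (β : IrrCharacter C) : IrrCharacter D :=
  ⟨(β : C → ℂ) ∘ e.symm, isIrrCharacter_comp_mulEquiv β.2 e.symm⟩

theorem irrTransport_apply {C D : Type*} [Group C] [Group D] (e : C ≃* D)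
    (β : IrrCharacter C) (d : D) : (irrTransport e β : D → ℂ) d = (β : C → ℂ) (e.symm d) := rfl

theorem irrTransport_symm_irrTransport {C D : Type*} [Group C] [Group D] (e : C ≃* D)
    (β : IrrCharacter C) : irrTransport e.symm (irrTransport e β) = β := by
  apply Subtype.ext
  funext c
  show (β : C → ℂ) (e.symm (e.symm.symm c)) = _
  simp

theorem irrTransport_irrTransport_symm {C D : Type*} [Group C] [Group D] (e : C ≃* D)
    (γ : IrrCharacter D) : irrTransport e (irrTransport e.symm γ) = γ := by
  apply Subtype.ext
  funext d
  show (γ : D → ℂ) (e.symm.symm (e.symm d)) = _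
  simp

theorem classInner_comp_equiv_gen {A B : Type*} [Group A] [Group B] [Fintype A] [Fintype B]
    (e : A ≃ B) (f h : B → ℂ) : classInner (f ∘ e) (h ∘ e) = classInner f h := by
  unfold classInner
  rw [Nat.card_congr e]
  congr 1
  exact Fintype.sum_equiv e _ _ (fun a => rfl)

/-- The inner product of a pulled-back function with `β` is the inner product with the
transported character. -/
theorem classInner_irrTransport {C D : Type*} [Group C] [Group D] [Fintype C] [Fintype D]
    (e : C ≃* D) (f : D → ℂ) (β : IrrCharacter C) :
    classInner (fun c : C => f (e c)) (β : C → ℂ) =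
      classInner f (irrTransport e β : D → ℂ) := by
  rw [← classInner_comp_equiv_gen e.toEquiv f (irrTransport e β : D → ℂ)]
  congr 1
  funext c
  show (β : C → ℂ) c = (β : C → ℂ) (e.symm (e c))
  simp

end Cfsg.Agent.Lib.Helper81
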