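import Mathlib

/-!
# A minimal non-centralized invariant subgroup under a "uniform centralizer" action (helper81)

`TIData P R`: `P` normalizes `R`, coprime orders, `C_R(x) = C_R(P)` for all `1 ≠ x ∈ P`, every proper
`P`-invariant subgroup of `R` is centralized by `P`, and `P` does not centralize `R`.

* `TIData.mul_comm_of_commute`: the coprime trick.
* `TIData.card_mul_lt`: `|P| * |M| < |R|` for every subgroup `M ≤ R` centralized by `P`.
* `TIData.class_two`: `⁅R, R⁆ ≤ Z(R)` when `⁅R, R⁆ ≠ R`.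
* `TIData.eq_one_of_comm`, `TIData.exists_comm_eq`: for abelian `R` and `P` a `p`-group, the action is
  free and `r ↦ r⁻¹ x r x⁻¹` is onto.
-/

set_option autoImplicit false

namespace Cfsg.Agent.Lib.Helper81

open scoped commutatorElement

section TIGroup

variable {G : Type*} [Group G]

theorem conj_pow_eq_mul_pow (x r c : G) (hxr : x * r * x⁻¹ = r * c) (hxc : x * c = c * x) (n : ℕ) :
    x ^ n * r * (x ^ n)⁻¹ = r * c ^ n := by
  induction n with
  | zero => simp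
  | succ n ih =>
    have hcn : x * c ^ n * x⁻¹ = c ^ n := by
      have : Commute x (c ^ n) := (show Commute x c from hxc).pow_right n
      rw [this.eq, mul_inv_cancel_right]
    calc x ^ (n + 1) * r * (x ^ (n + 1))⁻¹ = x * (x ^ n * r * (x ^ n)⁻¹) * x⁻¹ := by
          rw [pow_succ']; group
      _ = x * (r * c ^ n) * x⁻¹ := by rw [ih]
      _ = (x * r * x⁻¹) * (x * c ^ n * x⁻¹) := by group
      _ = r * c ^ (n + 1) := by rw [hxr, hcn, pow_succ', mul_assoc]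

theorem mul_comm_of_coprime_of_commute (x r : G)
    (hc : x * (r⁻¹ * x * r * x⁻¹) = (r⁻¹ * x * r * x⁻¹) * x)
    (hcop : (orderOf x).Coprime (orderOf (r⁻¹ * x * r * x⁻¹))) : x * r = r * x := by
  set c := r⁻¹ * x * r * x⁻¹ with hcdef
  have hxr : x * r * x⁻¹ = r * c := by rw [hcdef]; group
  have h := conj_pow_eq_mul_pow x r c hxr hc (orderOf x)
  rw [pow_orderOf_eq_one, one_mul, inv_one, mul_one] at h
  have hcn : c ^ orderOf x = 1 := by
    have h2 : r * 1 = r * c ^ orderOf x := by rw [mul_one]; exact h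
    exact (mul_left_cancel h2).symm
  have hdvd : orderOf c ∣ orderOf x := orderOf_dvd_of_pow_eq_one hcn
  have h1 : orderOf c = 1 := Nat.Coprime.eq_one_of_dvd hcop.symm hdvd
  have hc1 : c = 1 := orderOf_eq_one_iff.mp h1
  rw [hc1, mul_one] at hxr
  calc x * r = x * r * x⁻¹ * x := by group
    _ = r * x := by rw [hxr]

/-- The data of a minimal non-centralized invariant subgroup. -/
structure TIData (P R : Subgroup G) : Prop where
  norm : ∀ y ∈ P, ∀ r ∈ R, y * r * y⁻¹ ∈ R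
  cop : (Nat.card P).Coprime (Nat.card R)
  unif : ∀ x ∈ P, x ≠ 1 → ∀ r ∈ R, x * r = r * x → ∀ y ∈ P, y * r = r * y
  min : ∀ M : Subgroup G, M ≤ R → M ≠ R → (∀ y ∈ P, ∀ m ∈ M, y * m * y⁻¹ ∈ M) →
    ∀ y ∈ P, ∀ m ∈ M, y * m = m * y
  nc : ∃ y ∈ P, ∃ r ∈ R, y * r ≠ r * y

namespace TIData

variable {P R : Subgroup G}

theorem comm_mem (h : TIData P R) {x r : G} (hx : x ∈ P) (hr : r ∈ R) :
    r⁻¹ * x * r * x⁻¹ ∈ R := by
  have := R.mul_mem (R.inv_mem hr) (h.norm x hx r hr)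
  simpa [mul_assoc] using this

theorem mul_comm_of_commute [Finite G] (h : TIData P R) {x r : G} (hx : x ∈ P) (hr : r ∈ R)
    (hc : x * (r⁻¹ * x * r * x⁻¹) = (r⁻¹ * x * r * x⁻¹) * x) : x * r = r * x := by
  apply mul_comm_of_coprime_of_commute x r hc
  have h1 : orderOf x ∣ Nat.card P := by
    have := orderOf_dvd_natCard (⟨x, hx⟩ : P)
    rwa [Subgroup.orderOf_mk] at this
  have h2 : orderOf (r⁻¹ * x * r * x⁻¹) ∣ Nat.card R := by
    have := orderOf_dvd_natCard (⟨_, h.comm_mem hx hr⟩ : R)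
    rwa [Subgroup.orderOf_mk] at this
  exact Nat.Coprime.coprime_dvd_left h1 (Nat.Coprime.coprime_dvd_right h2 h.cop)

/-- `|P| * |M| < |R|` for every subgroup `M ≤ R` centralized by `P`. -/
theorem card_mul_lt [Finite G] (h : TIData P R) (M : Subgroup G) (hM : M ≤ R)
    (hMc : ∀ y ∈ P, ∀ m ∈ M, y * m = m * y) : Nat.card P * Nat.card M < Nat.card R := by
  obtain ⟨y₀, hy₀, r₀, hr₀, hne⟩ := h.nc
  have hconj : ∀ y ∈ P, ∀ m ∈ M, y * m * y⁻¹ = m := by
    intro y hy m hm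
    rw [hMc y hy m hm, mul_inv_cancel_right]
  set f : P × M → R := fun a =>
    ⟨(a.1 : G) * r₀ * (a.1 : G)⁻¹ * (a.2 : G),
      R.mul_mem (h.norm _ a.1.2 r₀ hr₀) (hM a.2.2)⟩ with hf
  have hinj : Function.Injective f := by
    rintro ⟨⟨y, hy⟩, ⟨c, hc⟩⟩ ⟨⟨y', hy'⟩, ⟨c', hc'⟩⟩ heq
    have heq' : y * r₀ * y⁻¹ * c = y' * r₀ * y'⁻¹ * c' := congrArg Subtype.val heq
    set x := y'⁻¹ * y with hxdef
    have hxP : x ∈ P := P.mul_mem (P.inv_mem hy') hy
    have hc'' : c' * c⁻¹ ∈ M := M.mul_mem hc' (M.inv_mem hc)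
    have h1 : x * r₀ * x⁻¹ = r₀ * (c' * c⁻¹) := by
      have h2 : y * r₀ * y⁻¹ = y' * r₀ * y'⁻¹ * (c' * c⁻¹) := by
        rw [← mul_assoc, ← heq']; group
      have h3 : x * r₀ * x⁻¹ = y'⁻¹ * (y * r₀ * y⁻¹) * y' := by rw [hxdef]; group
      rw [h3, h2]
      have h4 := hconj y'⁻¹ (P.inv_mem hy') (c' * c⁻¹) hc''
      rw [inv_inv] at h4
      calc y'⁻¹ * (y' * r₀ * y'⁻¹ * (c' * c⁻¹)) * y' = r₀ * (y'⁻¹ * (c' * c⁻¹) * y') := by group
        _ = r₀ * (c' * c⁻¹) := by rw [h4]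
    have h5 : r₀⁻¹ * x * r₀ * x⁻¹ = c' * c⁻¹ := by
      have : r₀⁻¹ * x * r₀ * x⁻¹ = r₀⁻¹ * (x * r₀ * x⁻¹) := by group
      rw [this, h1]; group
    have h6 : x * r₀ = r₀ * x := by
      apply h.mul_comm_of_commute hxP hr₀
      rw [h5]
      exact hMc x hxP _ hc''
    have hx1 : x = 1 := by
      by_contra hx1
      exact hne (h.unif x hxP hx1 r₀ hr₀ h6 y₀ hy₀)
    have hyy : y = y' := by
      have : y'⁻¹ * y = 1 := hx1
      rw [inv_mul_eq_one] at this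
      exact this.symm
    subst hyy
    have hcc : c = c' := mul_left_cancel heq'
    subst hcc
    rfl
  have hnot : (1 : R) ∉ Set.range f := by
    rintro ⟨⟨⟨y, hy⟩, ⟨c, hc⟩⟩, heq⟩
    have heq' : y * r₀ * y⁻¹ * c = 1 := congrArg Subtype.val heq
    have h1 : r₀ = y⁻¹ * c⁻¹ * y := by
      have : y * r₀ * y⁻¹ = c⁻¹ := eq_inv_of_mul_eq_one_left heq'
      calc r₀ = y⁻¹ * (y * r₀ * y⁻¹) * y := by group
        _ = y⁻¹ * c⁻¹ * y := by rw [this]
    have h2 := hconj y⁻¹ (P.inv_mem hy) c⁻¹ (M.inv_mem hc)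
    rw [inv_inv] at h2
    rw [h2] at h1
    exact hne (hMc y₀ hy₀ r₀ (h1 ▸ M.inv_mem hc))
  have : Fintype (P × M) := Fintype.ofFinite _
  have : Fintype R := Fintype.ofFinite _
  have hlt := Fintype.card_lt_of_injective_of_notMem f hinj hnot
  rwa [← Nat.card_eq_fintype_card, ← Nat.card_eq_fintype_card, Nat.card_prod] at hlt

end TIData


theorem commutator_self_le' (R : Subgroup G) : ⁅R, R⁆ ≤ R := by
  rw [Subgroup.commutator_le]
  intro a ha b hb
  rw [commutatorElement_def]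
  exact R.mul_mem (R.mul_mem (R.mul_mem ha hb) (R.inv_mem ha)) (R.inv_mem hb)

/-- Conjugation by an element normalizing `R` preserves `⁅R, R⁆`. -/
theorem conj_mem_commutator_self (R : Subgroup G) (g : G) (hg : ∀ r ∈ R, g * r * g⁻¹ ∈ R) :
    ∀ d ∈ ⁅R, R⁆, g * d * g⁻¹ ∈ ⁅R, R⁆ := by
  intro d hd
  rw [Subgroup.commutator_def] at hd
  induction hd using Subgroup.closure_induction with
  | mem x hx =>
    obtain ⟨a, ha, b, hb, rfl⟩ := hx
    have : g * ⁅a, b⁆ * g⁻¹ = ⁅g * a * g⁻¹, g * b * g⁻¹⁆ := by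
      simp only [commutatorElement_def]; group
    rw [this]
    exact Subgroup.commutator_mem_commutator (hg a ha) (hg b hb)
  | one => simp
  | mul x y _ _ hx hy =>
    have : g * (x * y) * g⁻¹ = (g * x * g⁻¹) * (g * y * g⁻¹) := by group
    rw [this]; exact Subgroup.mul_mem _ hx hy
  | inv x _ hx =>
    have : g * x⁻¹ * g⁻¹ = (g * x * g⁻¹)⁻¹ := by group
    rw [this]; exact Subgroup.inv_mem _ hx

namespace TIData

variable {P R : Subgroup G}

/-- `⁅R, R⁆` is centralized by `P` and central in `R` (class at most two). -/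
theorem commutator_central [Finite G] (h : TIData P R) (hDR : ⁅R, R⁆ ≠ R) :
    (∀ y ∈ P, ∀ d ∈ ⁅R, R⁆, y * d = d * y) ∧ ∀ d ∈ ⁅R, R⁆, ∀ r ∈ R, d * r = r * d := by
  have hDle : ⁅R, R⁆ ≤ R := commutator_self_le' R
  have hDinvP : ∀ y ∈ P, ∀ d ∈ ⁅R, R⁆, y * d * y⁻¹ ∈ ⁅R, R⁆ := fun y hy =>
    conj_mem_commutator_self R y (h.norm y hy)
  have hDinvR : ∀ r ∈ R, ∀ d ∈ ⁅R, R⁆, r * d * r⁻¹ ∈ ⁅R, R⁆ := fun r hr =>
    conj_mem_commutator_self R r (fun s hs => R.mul_mem (R.mul_mem hr hs) (R.inv_mem hr))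
  have hPD : ∀ y ∈ P, ∀ d ∈ ⁅R, R⁆, y * d = d * y := h.min _ hDle hDR hDinvP
  refine ⟨hPD, ?_⟩
  set A : Subgroup G := R ⊓ Subgroup.centralizer ((⁅R, R⁆ : Subgroup G) : Set G) with hA
  have hAR : A ≤ R := inf_le_left
  have hAinv : ∀ y ∈ P, ∀ a ∈ A, y * a * y⁻¹ ∈ A := by
    intro y hy a ha
    refine Subgroup.mem_inf.mpr ⟨h.norm y hy a ha.1, Subgroup.mem_centralizer_iff.mpr ?_⟩
    intro d hd
    have hd'' : y * d * y⁻¹ = d := by rw [hPD y hy d hd, mul_inv_cancel_right]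
    have had : d * a = a * d := Subgroup.mem_centralizer_iff.mp ha.2 d hd
    calc d * (y * a * y⁻¹) = (y * d * y⁻¹) * (y * a * y⁻¹) := by rw [hd'']
      _ = y * (d * a) * y⁻¹ := by group
      _ = y * (a * d) * y⁻¹ := by rw [had]
      _ = (y * a * y⁻¹) * (y * d * y⁻¹) := by group
      _ = (y * a * y⁻¹) * d := by rw [hd'']
  by_cases hAeq : A = R
  · intro d hd r hr
    have hrA : r ∈ A := by rw [hAeq]; exact hr
    exact Subgroup.mem_centralizer_iff.mp hrA.2 d hd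
  · exfalso
    have hPA := h.min A hAR hAeq hAinv
    obtain ⟨y₀, hy₀, r₀, hr₀, hne⟩ := h.nc
    apply hne
    apply h.mul_comm_of_commute hy₀ hr₀
    have hcA : r₀⁻¹ * y₀ * r₀ * y₀⁻¹ ∈ A := by
      refine Subgroup.mem_inf.mpr ⟨h.comm_mem hy₀ hr₀, Subgroup.mem_centralizer_iff.mpr ?_⟩
      intro d hd
      have h1 : y₀⁻¹ * d * y₀ = d := by
        have := hPD y₀⁻¹ (P.inv_mem hy₀) d hd
        rw [this, mul_assoc, inv_mul_cancel, mul_one]
      have he := hDinvR r₀ hr₀ d hd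
      have h2 : y₀ * (r₀ * d * r₀⁻¹) * y₀⁻¹ = r₀ * d * r₀⁻¹ := by
        rw [hPD y₀ hy₀ _ he, mul_inv_cancel_right]
      symm
      calc r₀⁻¹ * y₀ * r₀ * y₀⁻¹ * d = r₀⁻¹ * y₀ * r₀ * (y₀⁻¹ * d * y₀) * y₀⁻¹ := by group
        _ = r₀⁻¹ * y₀ * r₀ * d * y₀⁻¹ := by rw [h1]
        _ = r₀⁻¹ * (y₀ * (r₀ * d * r₀⁻¹) * y₀⁻¹) * y₀ * r₀ * y₀⁻¹ := by group
        _ = r₀⁻¹ * (r₀ * d * r₀⁻¹) * y₀ * r₀ * y₀⁻¹ := by rw [h2]
        _ = d * (r₀⁻¹ * y₀ * r₀ * y₀⁻¹) := by group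
    exact hPA y₀ hy₀ _ hcA

/-- For abelian `R`: the homomorphism `r ↦ r⁻¹ x r x⁻¹`. -/
noncomputable def commHom (h : TIData P R) (hab : ∀ a ∈ R, ∀ b ∈ R, a * b = b * a) (x : G)
    (hx : x ∈ P) : R →* R :=
  MonoidHom.mk' (fun r => ⟨(r : G)⁻¹ * x * r * x⁻¹, h.comm_mem hx r.2⟩) (by
    intro a b
    apply Subtype.ext
    simp only [Subgroup.coe_mul]
    have hw := hab (b : G)⁻¹ (R.inv_mem b.2) _ (h.comm_mem hx a.2)
    calc ((a : G) * b)⁻¹ * x * (a * b) * x⁻¹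
        = (b : G)⁻¹ * ((a : G)⁻¹ * x * a * x⁻¹) * (x * b * x⁻¹) := by group
      _ = ((a : G)⁻¹ * x * a * x⁻¹) * (b : G)⁻¹ * (x * b * x⁻¹) := by rw [hw]
      _ = ((a : G)⁻¹ * x * a * x⁻¹) * ((b : G)⁻¹ * x * b * x⁻¹) := by group)

theorem commHom_apply (h : TIData P R) (hab : ∀ a ∈ R, ∀ b ∈ R, a * b = b * a) (x : G)
    (hx : x ∈ P) (r : R) : ((h.commHom hab x hx r : R) : G) = (r : G)⁻¹ * x * r * x⁻¹ := rfl

/-- For abelian `R` and a `p`-group `P`, the action of `P` on `R` is free. -/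
theorem eq_one_of_comm [Finite G] (h : TIData P R) {p : ℕ} [Fact p.Prime] (hP : IsPGroup p P)
    (hab : ∀ a ∈ R, ∀ b ∈ R, a * b = b * a) :
    ∀ x ∈ P, x ≠ 1 → ∀ r ∈ R, x * r = r * x → r = 1 := by
  obtain ⟨y₀, hy₀, r₀, hr₀, hne⟩ := h.nc
  have hPnt : Nontrivial P := by
    refine ⟨⟨⟨y₀, hy₀⟩, 1, ?_⟩⟩
    intro h1
    have : y₀ = 1 := congrArg Subtype.val h1
    exact hne (by rw [this]; simp)
  have hcen : Nontrivial (Subgroup.center P) := hP.center_nontrivial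
  obtain ⟨zc, hz1⟩ := exists_ne (1 : Subgroup.center P)
  have hzc : (zc : P) ∈ Subgroup.center P := zc.2
  set z : P := (zc : P) with hzdef
  have hzP : (z : G) ∈ P := z.2
  have hz1' : (z : G) ≠ 1 := by
    intro h1
    apply hz1
    apply Subtype.ext
    apply Subtype.ext
    exact h1
  have hzcomm : ∀ y ∈ P, y * (z : G) = (z : G) * y := by
    intro y hy
    have := Subgroup.mem_center_iff.mp hzc ⟨y, hy⟩
    exact congrArg Subtype.val this
  set φ := h.commHom hab (z : G) hzP with hφ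
  set M : Subgroup G := φ.range.map R.subtype with hM
  have hMR : M ≤ R := Subgroup.map_subtype_le _
  have hMinv : ∀ y ∈ P, ∀ m ∈ M, y * m * y⁻¹ ∈ M := by
    rintro y hy _ ⟨_, ⟨r, rfl⟩, rfl⟩
    refine ⟨φ ⟨y * r * y⁻¹, h.norm y hy r r.2⟩, ⟨_, rfl⟩, ?_⟩
    simp only [Subgroup.coe_subtype, hφ, commHom_apply]
    have hyz : y * (z : G) * y⁻¹ = (z : G) := by rw [hzcomm y hy, mul_inv_cancel_right]
    calc (y * (r : G) * y⁻¹)⁻¹ * (z : G) * (y * r * y⁻¹) * (z : G)⁻¹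
        = (y * (r : G) * y⁻¹)⁻¹ * (y * (z : G) * y⁻¹) * (y * r * y⁻¹) * (y * (z : G) * y⁻¹)⁻¹ := by
          rw [hyz]
      _ = y * ((r : G)⁻¹ * z * r * (z : G)⁻¹) * y⁻¹ := by group
  have hzfree : ∀ r ∈ R, (z : G) * r = r * (z : G) → r = 1 := by
    by_cases hMeq : M = R
    · have hsurj : Function.Surjective φ := by
        intro s
        have hs : (s : G) ∈ M := by rw [hMeq]; exact s.2
        obtain ⟨t, ⟨r, hr⟩, hts⟩ := hs
        refine ⟨r, ?_⟩
        rw [hr]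
        exact Subtype.ext hts
      have hinj : Function.Injective φ := Finite.injective_iff_surjective.mpr hsurj
      intro r hr hzr
      have h1 : φ ⟨r, hr⟩ = 1 := by
        apply Subtype.ext
        rw [hφ, commHom_apply]
        simp only [Subgroup.coe_one]
        calc r⁻¹ * (z : G) * r * (z : G)⁻¹ = r⁻¹ * ((z : G) * r) * (z : G)⁻¹ := by group
          _ = 1 := by rw [hzr]; group
      have h2 : (⟨r, hr⟩ : R) = 1 := hinj (by rw [h1, map_one])
      exact congrArg Subtype.val h2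
    · exfalso
      have hPM := h.min M hMR hMeq hMinv
      apply hne
      apply h.unif (z : G) hzP hz1' r₀ hr₀ _ y₀ hy₀
      apply h.mul_comm_of_commute hzP hr₀
      apply hPM (z : G) hzP
      exact ⟨φ ⟨r₀, hr₀⟩, ⟨_, rfl⟩, rfl⟩
  intro x hx hx1 r hr hxr
  exact hzfree r hr (h.unif x hx hx1 r hr hxr (z : G) hzP)

/-- For abelian `R` and a `p`-group `P`: `r ↦ r⁻¹ x r x⁻¹` is onto `R` for `1 ≠ x ∈ P`. -/
theorem exists_comm_eq [Finite G] (h : TIData P R) {p : ℕ} [Fact p.Prime] (hP : IsPGroup p P)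
    (hab : ∀ a ∈ R, ∀ b ∈ R, a * b = b * a) :
    ∀ x ∈ P, x ≠ 1 → ∀ s ∈ R, ∃ r ∈ R, s = r⁻¹ * x * r * x⁻¹ := by
  intro x hx hx1 s hs
  have hinj : Function.Injective (h.commHom hab x hx) := by
    rw [injective_iff_map_eq_one]
    intro a ha
    have h1 : (a : G)⁻¹ * x * a * x⁻¹ = 1 := by
      have := congrArg Subtype.val ha
      rwa [commHom_apply] at this
    have h2 : x * (a : G) = a * x := by
      have h3 : x * (a : G) * x⁻¹ = a := by
        calc x * (a : G) * x⁻¹ = a * ((a : G)⁻¹ * x * a * x⁻¹) := by group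
          _ = a := by rw [h1, mul_one]
      calc x * (a : G) = x * a * x⁻¹ * x := by group
        _ = a * x := by rw [h3]
    exact Subtype.ext (h.eq_one_of_comm hP hab x hx hx1 a a.2 h2)
  have hsurj : Function.Surjective (h.commHom hab x hx) := Finite.injective_iff_surjective.mp hinj
  obtain ⟨r, hr⟩ := hsurj ⟨s, hs⟩
  refine ⟨r, r.2, ?_⟩
  have := congrArg Subtype.val hr
  rw [commHom_apply] at this
  exact this.symm

end TIData

end TIGroup

end Cfsg.Agent.Lib.Helper81
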