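import Mathlib
import Cfsg.Agent.Lib.Helper71.GCChar
import Cfsg.Agent.Lib.Helper77.CenterIrr
import Cfsg.Agent.Lib.Helper77.Linear
import Cfsg.Agent.Lib.Helper78.CharMore
import Cfsg.Agent.Lib.Helper81.IrrTransport
import Cfsg.Agent.Lib.Helper81.RealKernels
import Cfsg.Agent.Lib.Helper81.TISylowGroup

/-!
# Degree bounds for faithful characters under `TIData` (helper81)

* `TIData.lt_sq_of_nonlinear`: a nonlinear `θ ∈ Irr(R)` has `|P| < θ(1)²`.
* `TIData.le_degree_of_linear`: if all irreducible constituents of `χ|_R` are linear (`χ` faithful),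
  then `|P| ≤ χ(1)`.
* `TIData.lt_degree_sq`: `|P| < χ(1)²` for every faithful character `χ` of `G`.
-/

set_option linter.unusedSectionVars false
set_option autoImplicit false

namespace Cfsg.Agent.Lib.Helper81

open Cfsg Cfsg.Agent.Lib.Helper78
open scoped ComplexConjugate commutatorElement

universe u

section TIChar

variable {G : Type u} [Group G] [Finite G] {P R : Subgroup G}

omit [Finite G] in
theorem coe_mem_commutator_self (R : Subgroup G) (d : R) (hd : d ∈ commutator R) :
    (d : G) ∈ ⁅R, R⁆ := by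
  have h1 : (commutator R).map R.subtype = ⁅R, R⁆ := by
    rw [commutator_def, Subgroup.map_commutator, ← MonoidHom.range_eq_map, Subgroup.range_subtype]
  rw [← h1]
  exact ⟨d, hd, rfl⟩

/-- A nonlinear irreducible character `θ` of `R` has `|P| < θ(1)²`. -/
theorem TIData.lt_sq_of_nonlinear (h : TIData P R) (hDR : ⁅R, R⁆ ≠ R) (θ : IrrCharacter R)
    (hθ : charDegree (θ : R → ℂ) ≠ 1) : Nat.card P < charDegree (θ : R → ℂ) ^ 2 := by
  obtain ⟨hPD, hDZ⟩ := h.commutator_central hDR
  let _ : Fintype R := Fintype.ofFinite _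
  have hcomm_le : commutator R ≤ Helper77.irrCenter θ := by
    intro d hd
    rw [Helper77.mem_irrCenter_iff_commutator]
    intro k
    have hdG : (d : G) ∈ ⁅R, R⁆ := coe_mem_commutator_self R d hd
    have h1 : ⁅d, k⁆ = 1 := by
      apply Subtype.ext
      have h2 := hDZ (d : G) hdG (k : G) k.2
      simp only [commutatorElement_def, Subgroup.coe_mul, Subgroup.coe_inv, Subgroup.coe_one]
      rw [h2]; group
    rw [h1]; exact Subgroup.one_mem _
  have hcard := Helper71.gc_sq_mul_card_irrCenter θ hcomm_le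
  set M : Subgroup G := (Helper77.irrCenter θ).map R.subtype with hM
  have hMcard : Nat.card M = Nat.card (Helper77.irrCenter θ) :=
    Subgroup.card_map_of_injective R.subtype_injective
  have hMR : M ≤ R := Subgroup.map_subtype_le _
  have hMne : M ≠ R := by
    intro hMeq
    apply hθ
    rw [← hMcard, hMeq] at hcard
    have hpos : 0 < Nat.card R := Nat.card_pos
    have h1 : charDegree (θ : R → ℂ) ^ 2 = 1 := by
      have : charDegree (θ : R → ℂ) ^ 2 * Nat.card R = 1 * Nat.card R := by rw [hcard, one_mul]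
      exact Nat.eq_of_mul_eq_mul_right hpos this
    exact (Nat.pow_eq_one.mp h1).resolve_right (by norm_num)
  have hMinv : ∀ y ∈ P, ∀ m ∈ M, y * m * y⁻¹ ∈ M := by
    rintro y hy _ ⟨g, hg, rfl⟩
    refine ⟨⟨y * g * y⁻¹, h.norm y hy g g.2⟩, ?_, rfl⟩
    have hg' := (Helper77.mem_irrCenter_iff_commutator θ g).mp hg
    show (⟨y * g * y⁻¹, h.norm y hy g g.2⟩ : R) ∈ Helper77.irrCenter θ
    rw [Helper77.mem_irrCenter_iff_commutator]
    intro k
    have hk' : y⁻¹ * (k : G) * y ∈ R := by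
      have := h.norm y⁻¹ (P.inv_mem hy) k k.2
      rwa [inv_inv] at this
    have h1 := hg' ⟨y⁻¹ * k * y, hk'⟩
    have h2 : ⁅(⟨y * g * y⁻¹, h.norm y hy g g.2⟩ : R), k⁆ = ⁅g, ⟨y⁻¹ * k * y, hk'⟩⁆ := by
      apply Subtype.ext
      have hc : ((⁅g, (⟨y⁻¹ * k * y, hk'⟩ : R)⁆ : R) : G) ∈ ⁅R, R⁆ :=
        coe_mem_commutator_self R _ (Subgroup.commutator_mem_commutator (Subgroup.mem_top _)
          (Subgroup.mem_top _))
      have h3 := hPD y hy _ hc
      have h4 : y * ((⁅g, (⟨y⁻¹ * k * y, hk'⟩ : R)⁆ : R) : G) * y⁻¹ =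
          ((⁅g, (⟨y⁻¹ * k * y, hk'⟩ : R)⁆ : R) : G) := by
        rw [h3, mul_inv_cancel_right]
      rw [← h4]
      simp only [commutatorElement_def, Subgroup.coe_mul, Subgroup.coe_inv]
      group
    rw [h2]; exact h1
  have hPM := h.min M hMR hMne hMinv
  have hlt := h.card_mul_lt M hMR hPM
  rw [← hcard, hMcard] at hlt
  have hpos : 0 < Nat.card (Helper77.irrCenter θ) := Nat.card_pos
  exact Nat.lt_of_mul_lt_mul_right hlt


/-- Conjugation by `y ∈ P` as an automorphism of `R`. -/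
noncomputable def TIData.conjEquiv (h : TIData P R) (y : P) : R ≃* R where
  toFun r := ⟨(y : G) * r * (y : G)⁻¹, h.norm y y.2 r r.2⟩
  invFun r := ⟨(y : G)⁻¹ * r * (y : G), by
    have := h.norm (y : G)⁻¹ (P.inv_mem y.2) r r.2
    rwa [inv_inv] at this⟩
  left_inv r := by apply Subtype.ext; simp only []; group
  right_inv r := by apply Subtype.ext; simp only []; group
  map_mul' a b := by apply Subtype.ext; simp only [Subgroup.coe_mul]; group

theorem TIData.conjEquiv_apply (h : TIData P R) (y : P) (r : R) :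
    ((h.conjEquiv y r : R) : G) = (y : G) * r * (y : G)⁻¹ := rfl

theorem TIData.conjEquiv_symm_apply (h : TIData P R) (y : P) (r : R) :
    (((h.conjEquiv y).symm r : R) : G) = (y : G)⁻¹ * r * (y : G) := rfl

/-- If all irreducible constituents of `χ|_R` are linear (`χ` faithful), then `|P| ≤ χ(1)`. -/
theorem TIData.le_degree_of_linear [Fintype R] (h : TIData P R) {p : ℕ} [Fact p.Prime]
    (hP : IsPGroup p P) (χ : G → ℂ) (hχ : IsCharacter G χ) (hfaith : ∀ g : G, χ g = χ 1 → g = 1)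
    (hlin : ∀ θ : IrrCharacter R, classInner (χ ∘ R.subtype) (θ : R → ℂ) ≠ 0 →
      charDegree (θ : R → ℂ) = 1) : Nat.card P ≤ charDegree χ := by
  classical
  set ψ : R → ℂ := χ ∘ R.subtype with hψdef
  have hψ : IsCharacter R ψ := isCharacter_comp hχ R.subtype
  have hψ1 : ψ 1 = χ 1 := by simp [hψdef]
  choose m hm using fun θ : IrrCharacter R => IsCharacter.exists_nat_classInner hψ θ
  have hsum : ψ = ∑ θ : IrrCharacter R, (m θ : ℂ) • (θ : R → ℂ) := by
    conv_lhs => rw [IsCharacter.eq_sum_irr hψ]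
    exact Finset.sum_congr rfl (fun θ _ => by rw [hm θ])
  have hval : ∀ r : R, ψ r = ∑ θ : IrrCharacter R, (m θ : ℂ) * (θ : R → ℂ) r := by
    intro r
    conv_lhs => rw [hsum]
    simp [Finset.sum_apply]
  have hlin' : ∀ θ : IrrCharacter R, m θ ≠ 0 → charDegree (θ : R → ℂ) = 1 := by
    intro θ hθ
    apply hlin θ
    rw [hm θ]; exact_mod_cast hθ
  have hone : ∀ θ : IrrCharacter R, m θ ≠ 0 → (θ : R → ℂ) 1 = 1 := by
    intro θ hθ
    rw [Helper79.irr_apply_one_eq_charDegree θ, hlin' θ hθ]; simp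
  have hker : ∀ r : R, (∀ θ : IrrCharacter R, m θ ≠ 0 → (θ : R → ℂ) r = 1) → r = 1 := by
    intro r hr
    have h1 : ψ r = ψ 1 := by
      rw [hval r, hval 1]
      apply Finset.sum_congr rfl
      intro θ _
      by_cases hθ : m θ = 0
      · simp [hθ]
      · rw [hr θ hθ, hone θ hθ]
    have h2 : χ (r : G) = χ 1 := by
      have : ψ r = χ (r : G) := rfl
      rw [← this, h1, hψ1]
    exact Subtype.ext (hfaith _ h2)
  have hab : ∀ a ∈ R, ∀ b ∈ R, a * b = b * a := by
    intro a ha b hb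
    have hc : ⁅a, b⁆ ∈ ⁅R, R⁆ := Subgroup.commutator_mem_commutator ha hb
    have hcR : ⁅a, b⁆ ∈ R := commutator_self_le' R hc
    have h1 := hker ⟨⁅a, b⁆, hcR⟩ (fun θ hθ =>
      linear_eq_one_of_mem_commutator R θ (hlin' θ hθ) ⟨_, hcR⟩ hc)
    have h2 : ⁅a, b⁆ = 1 := congrArg Subtype.val h1
    exact commutatorElement_eq_one_iff_mul_comm.mp h2
  have hsurj := h.exists_comm_eq hP hab
  obtain ⟨y₀, hy₀, r₀, hr₀, hne⟩ := h.nc
  have hexists : ∃ θ : IrrCharacter R, m θ ≠ 0 ∧ ∃ r : R, (θ : R → ℂ) r ≠ 1 := by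
    by_contra hcon
    push Not at hcon
    have := hker ⟨r₀, hr₀⟩ (fun θ hθ => hcon θ hθ _)
    have hr1 : r₀ = 1 := congrArg Subtype.val this
    exact hne (by rw [hr1]; simp)
  obtain ⟨lam, hlam, r₁, hr₁⟩ := hexists
  obtain ⟨φ, hφ⟩ := Helper77.exists_monoidHom_of_degree_one
    (IsIrrCharacter.isCharacter lam.2) (hone lam hlam)
  set F : P → IrrCharacter R := fun y => irrTransport (h.conjEquiv y) lam with hF
  have hFm : ∀ y : P, m (F y) = m lam := by
    intro y
    have h2 := classInner_irrTransport (h.conjEquiv y) ψ lam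
    have h3 : (fun c : R => ψ (h.conjEquiv y c)) = ψ := by
      funext r
      simp only [hψdef, Function.comp_apply, Subgroup.coe_subtype, TIData.conjEquiv_apply]
      exact IsCharacter.isClassFunction hχ (r : G) (y : G)
    rw [h3, hm, hm] at h2
    exact_mod_cast h2.symm
  have hFinj : Function.Injective F := by
    intro y y' hyy
    by_contra hne'
    set x : G := (y' : G)⁻¹ * (y : G) with hxdef
    have hxP : x ∈ P := P.mul_mem (P.inv_mem y'.2) y.2
    have hx1 : x ≠ 1 := by
      intro hx1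
      apply hne'
      have : (y' : G)⁻¹ * (y : G) = 1 := hx1
      rw [inv_mul_eq_one] at this
      exact (Subtype.ext this).symm
    have hinv : ∀ s : R, ∀ hs' : x * (s : G) * x⁻¹ ∈ R,
        (lam : R → ℂ) ⟨x * s * x⁻¹, hs'⟩ = (lam : R → ℂ) s := by
      intro s hs'
      have h1 := congrArg (fun θ : IrrCharacter R => (θ : R → ℂ) (h.conjEquiv y s)) hyy
      simp only [hF, irrTransport_apply] at h1
      rw [MulEquiv.symm_apply_apply] at h1
      rw [h1]
      refine congrArg (lam : R → ℂ) ?_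
      apply Subtype.ext
      rw [TIData.conjEquiv_symm_apply, TIData.conjEquiv_apply]
      show x * (s : G) * x⁻¹ = _
      rw [hxdef]
      group
    apply hr₁
    obtain ⟨r, hr, hrs⟩ := hsurj x hxP hx1 (r₁ : G) r₁.2
    have hxr : x * r * x⁻¹ ∈ R := h.norm x hxP r hr
    have h1 : r₁ = (⟨r, hr⟩ : R)⁻¹ * ⟨x * r * x⁻¹, hxr⟩ := by
      apply Subtype.ext
      rw [hrs]
      simp only [Subgroup.coe_mul, Subgroup.coe_inv]
      group
    have h2 := hinv ⟨r, hr⟩ hxr
    rw [hφ, hφ] at h2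
    have h3 : φ ⟨x * r * x⁻¹, hxr⟩ = φ ⟨r, hr⟩ := Units.ext h2
    rw [hφ, h1, map_mul, map_inv, h3, inv_mul_cancel]
    simp
  have hdeg : charDegree χ = ∑ θ : IrrCharacter R, m θ * charDegree (θ : R → ℂ) := by
    have h1 := hval 1
    rw [hψ1, IsCharacter.apply_one_eq_charDegree hχ] at h1
    have h2 : ∀ θ : IrrCharacter R, (m θ : ℂ) * (θ : R → ℂ) 1 =
        ((m θ * charDegree (θ : R → ℂ) : ℕ) : ℂ) := by
      intro θ
      rw [Helper79.irr_apply_one_eq_charDegree θ]; push_cast; ring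
    rw [Finset.sum_congr rfl (fun θ _ => h2 θ), ← Nat.cast_sum] at h1
    exact_mod_cast h1
  let _ : Fintype P := Fintype.ofFinite _
  rw [hdeg]
  calc Nat.card P = Fintype.card P := Nat.card_eq_fintype_card
    _ = (Finset.univ.image F).card := by
        rw [Finset.card_image_of_injective _ hFinj, Finset.card_univ]
    _ = ∑ θ ∈ Finset.univ.image F, 1 := by simp
    _ ≤ ∑ θ ∈ Finset.univ.image F, m θ * charDegree (θ : R → ℂ) := by
        apply Finset.sum_le_sum
        intro θ hθ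
        obtain ⟨y, _, rfl⟩ := Finset.mem_image.mp hθ
        have h1 : 1 ≤ m (F y) := by rw [hFm y]; exact Nat.one_le_iff_ne_zero.mpr hlam
        have h2 : 1 ≤ charDegree ((F y : IrrCharacter R) : R → ℂ) :=
          Helper79.irr_charDegree_pos (F y)
        exact Nat.mul_le_mul h1 h2
    _ ≤ ∑ θ : IrrCharacter R, m θ * charDegree (θ : R → ℂ) :=
        Finset.sum_le_sum_of_subset (Finset.subset_univ _)


omit [Finite G] in
/-- An irreducible constituent has degree at most the degree of the character. -/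
theorem charDegree_le_of_classInner_ne_zero {H : Type u} [Group H] [Fintype H] (ψ : H → ℂ)
    (hψ : IsCharacter H ψ) (θ : IrrCharacter H) (hθ : classInner ψ (θ : H → ℂ) ≠ 0) :
    charDegree (θ : H → ℂ) ≤ charDegree ψ := by
  classical
  choose m hm using fun θ : IrrCharacter H => IsCharacter.exists_nat_classInner hψ θ
  have hsum : ψ = ∑ θ : IrrCharacter H, (m θ : ℂ) • (θ : H → ℂ) := by
    conv_lhs => rw [IsCharacter.eq_sum_irr hψ]
    exact Finset.sum_congr rfl (fun θ _ => by rw [hm θ])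
  have hval : ψ 1 = ∑ θ : IrrCharacter H, (m θ : ℂ) * (θ : H → ℂ) 1 := by
    conv_lhs => rw [hsum]
    simp [Finset.sum_apply]
  have hdeg : charDegree ψ = ∑ θ : IrrCharacter H, m θ * charDegree (θ : H → ℂ) := by
    rw [IsCharacter.apply_one_eq_charDegree hψ] at hval
    have h2 : ∀ θ : IrrCharacter H, (m θ : ℂ) * (θ : H → ℂ) 1 =
        ((m θ * charDegree (θ : H → ℂ) : ℕ) : ℂ) := by
      intro θ
      rw [Helper79.irr_apply_one_eq_charDegree θ]; push_cast; ring
    rw [Finset.sum_congr rfl (fun θ _ => h2 θ), ← Nat.cast_sum] at hval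
    exact_mod_cast hval
  have hmθ : 1 ≤ m θ := by
    apply Nat.one_le_iff_ne_zero.mpr
    intro h0
    apply hθ
    rw [hm θ, h0]; simp
  rw [hdeg]
  calc charDegree (θ : H → ℂ) ≤ m θ * charDegree (θ : H → ℂ) := Nat.le_mul_of_pos_left _ hmθ
    _ ≤ ∑ θ : IrrCharacter H, m θ * charDegree (θ : H → ℂ) :=
        Finset.single_le_sum (f := fun θ : IrrCharacter H => m θ * charDegree (θ : H → ℂ))
          (fun _ _ => Nat.zero_le _) (Finset.mem_univ θ)

/-- **Main bound.** Under `TIData P R` with `P` a `p`-group and `⁅R, R⁆ ≠ R`, every faithful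
character `χ` of `G` has `|P| < χ(1)²`. -/
theorem TIData.lt_degree_sq (h : TIData P R) {p : ℕ} [Fact p.Prime] (hP : IsPGroup p P)
    (hDR : ⁅R, R⁆ ≠ R) (χ : G → ℂ) (hχ : IsCharacter G χ)
    (hfaith : ∀ g : G, χ g = χ 1 → g = 1) : Nat.card P < charDegree χ ^ 2 := by
  classical
  let _ : Fintype R := Fintype.ofFinite _
  have hψ : IsCharacter R (χ ∘ R.subtype) := isCharacter_comp hχ R.subtype
  have hψd : charDegree (χ ∘ R.subtype) = charDegree χ := by
    unfold charDegree
    simp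
  by_cases hex : ∃ θ : IrrCharacter R, classInner (χ ∘ R.subtype) (θ : R → ℂ) ≠ 0 ∧
      charDegree (θ : R → ℂ) ≠ 1
  · obtain ⟨θ, hθm, hθ1⟩ := hex
    have h1 := h.lt_sq_of_nonlinear hDR θ hθ1
    have hle := charDegree_le_of_classInner_ne_zero _ hψ θ hθm
    rw [hψd] at hle
    calc Nat.card P < charDegree (θ : R → ℂ) ^ 2 := h1
      _ ≤ charDegree χ ^ 2 := Nat.pow_le_pow_left hle 2
  · push Not at hex
    have h1 := h.le_degree_of_linear hP χ hχ hfaith hex
    have h2 : 2 ≤ Nat.card P := by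
      obtain ⟨y₀, hy₀, r₀, hr₀, hne⟩ := h.nc
      have hPnt : Nontrivial P := by
        refine ⟨⟨⟨y₀, hy₀⟩, 1, ?_⟩⟩
        intro h1
        have : y₀ = 1 := congrArg Subtype.val h1
        exact hne (by rw [this]; simp)
      exact Finite.one_lt_card
    nlinarith

end TIChar

end Cfsg.Agent.Lib.Helper81
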