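import Mathlib

set_option autoImplicit false

namespace Cfsg.Agent.Lib.Helper81.S1936Q8

open Matrix

variable {p : ℕ} [Fact p.Prime]

/-- the matrix `[[a, b], [b, -a]]` of determinant `-(a² + b²)` -/
def iMat (a b : ZMod p) (h : a ^ 2 + b ^ 2 = -1) : Matrix.SpecialLinearGroup (Fin 2) (ZMod p) :=
  ⟨!![a, b; b, -a], by rw [Matrix.det_fin_two_of]; linear_combination -h⟩

/-- the matrix `[[0, -1], [1, 0]]` -/
def jMat : Matrix.SpecialLinearGroup (Fin 2) (ZMod p) :=
  ⟨!![0, -1; 1, 0], by rw [Matrix.det_fin_two_of]; ring⟩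

lemma iMat_val (a b : ZMod p) (h : a ^ 2 + b ^ 2 = -1) :
    (iMat a b h : Matrix (Fin 2) (Fin 2) (ZMod p)) = !![a, b; b, -a] := rfl

lemma jMat_val : ((jMat : Matrix.SpecialLinearGroup (Fin 2) (ZMod p)) : Matrix (Fin 2) (Fin 2) (ZMod p)) =
    !![0, -1; 1, 0] := rfl

lemma iMat_sq (a b : ZMod p) (h : a ^ 2 + b ^ 2 = -1) : iMat a b h * iMat a b h = -1 := by
  apply Subtype.ext
  rw [Matrix.SpecialLinearGroup.coe_mul, Matrix.SpecialLinearGroup.coe_neg,
    Matrix.SpecialLinearGroup.coe_one, iMat_val, Matrix.mul_fin_two, Matrix.one_fin_two]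
  ext i j
  fin_cases i <;> fin_cases j <;> simp <;> first | ring1 | linear_combination h | linear_combination -h

lemma jMat_sq : (jMat : Matrix.SpecialLinearGroup (Fin 2) (ZMod p)) * jMat = -1 := by
  apply Subtype.ext
  rw [Matrix.SpecialLinearGroup.coe_mul, Matrix.SpecialLinearGroup.coe_neg,
    Matrix.SpecialLinearGroup.coe_one, jMat_val, Matrix.mul_fin_two, Matrix.one_fin_two]
  ext i j
  fin_cases i <;> fin_cases j <;> simp

lemma neg_one_sq : (-1 : Matrix.SpecialLinearGroup (Fin 2) (ZMod p)) * (-1) = 1 := by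
  apply Subtype.ext
  rw [Matrix.SpecialLinearGroup.coe_mul, Matrix.SpecialLinearGroup.coe_neg,
    Matrix.SpecialLinearGroup.coe_one]
  simp

lemma iMat_pow_four (a b : ZMod p) (h : a ^ 2 + b ^ 2 = -1) : iMat a b h ^ 4 = 1 := by
  have : iMat a b h ^ 4 = (iMat a b h * iMat a b h) * (iMat a b h * iMat a b h) := by
    simp only [pow_succ, pow_zero, one_mul, mul_assoc]
  rw [this, iMat_sq, neg_one_sq]

lemma jMat_pow_four : (jMat : Matrix.SpecialLinearGroup (Fin 2) (ZMod p)) ^ 4 = 1 := by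
  have : (jMat : Matrix.SpecialLinearGroup (Fin 2) (ZMod p)) ^ 4 = (jMat * jMat) * (jMat * jMat) := by
    simp only [pow_succ, pow_zero, one_mul, mul_assoc]
  rw [this, jMat_sq, neg_one_sq]

/-- `i j i = j` -/
lemma iMat_jMat_iMat (a b : ZMod p) (h : a ^ 2 + b ^ 2 = -1) :
    iMat a b h * jMat * iMat a b h = jMat := by
  apply Subtype.ext
  rw [Matrix.SpecialLinearGroup.coe_mul, Matrix.SpecialLinearGroup.coe_mul, iMat_val, jMat_val,
    Matrix.mul_fin_two, Matrix.mul_fin_two]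
  ext i j
  fin_cases i <;> fin_cases j <;> simp <;> first | ring1 | linear_combination h | linear_combination -h

lemma iMat_jMat_ne (hp : p ≠ 2) (a b : ZMod p) (h : a ^ 2 + b ^ 2 = -1) :
    iMat a b h * jMat ≠ jMat * iMat a b h := by
  intro heq
  have h1 := congrArg (fun M : Matrix.SpecialLinearGroup (Fin 2) (ZMod p) =>
    (M : Matrix (Fin 2) (Fin 2) (ZMod p))) heq
  simp only [Matrix.SpecialLinearGroup.coe_mul, iMat_val, jMat_val, Matrix.mul_fin_two] at h1
  have e00 := congrFun (congrFun h1 0) 0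
  have e01 := congrFun (congrFun h1 0) 1
  simp at e00 e01
  -- e00 : b = -b, e01 : -a = a
  have h2 : (2 : ZMod p) ≠ 0 := by
    intro h20
    have : (p : ℕ) ∣ 2 := (ZMod.natCast_eq_zero_iff 2 p).mp (by exact_mod_cast h20)
    have hp2 := (Nat.prime_dvd_prime_iff_eq (Fact.out : p.Prime) Nat.prime_two).mp this
    exact hp hp2
  have hb : b = 0 := by
    have : 2 * b = 0 := by linear_combination e00
    rcases mul_eq_zero.mp this with h3 | h3
    · exact absurd h3 h2
    · exact h3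
  have ha : a = 0 := by
    have : 2 * a = 0 := by linear_combination -e01
    rcases mul_eq_zero.mp this with h3 | h3
    · exact absurd h3 h2
    · exact h3
  rw [ha, hb] at h
  have h0 : (-1 : ZMod p) = 0 := by rw [← h]; ring
  exact one_ne_zero (neg_eq_zero.mp h0)

/-- a cyclic group generated by an element of order dividing 4 is a 2-group -/
lemma isPGroup_zpowers_of_pow_four {G : Type*} [Group G] (x : G) (hx : x ^ 4 = 1) :
    IsPGroup 2 (Subgroup.zpowers x) := by
  rintro ⟨g, hg⟩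
  obtain ⟨m, rfl⟩ := Subgroup.mem_zpowers_iff.mp hg
  refine ⟨2, Subtype.ext ?_⟩
  show (x ^ m) ^ (2 ^ 2) = 1
  have : (x ^ m) ^ (2 ^ 2) = (x ^ 4) ^ m := by
    rw [← zpow_natCast, ← zpow_natCast, ← _root_.zpow_mul, ← _root_.zpow_mul, mul_comm]
    norm_num
  rw [this, hx, _root_.one_zpow]

/-- if `x y x = y` then `y` normalises `⟨x⟩` -/
lemma mem_normalizer_zpowers {G : Type*} [Group G] (x y : G) (h : x * y * x = y) :
    y ∈ Subgroup.normalizer ((Subgroup.zpowers x : Subgroup G) : Set G) := by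
  have h1 : y * x * y⁻¹ = x⁻¹ := by
    have : y * x = x⁻¹ * y := by
      rw [eq_inv_mul_iff_mul_eq, ← mul_assoc]; exact h
    rw [this, mul_assoc, mul_inv_cancel, mul_one]
  have h2 : y⁻¹ * x * y = x⁻¹ := by
    have : x * y = y * x⁻¹ := by
      rw [eq_mul_inv_iff_mul_eq]; exact h
    rw [mul_assoc, this, ← mul_assoc, inv_mul_cancel, one_mul]
  rw [Subgroup.mem_normalizer_iff]
  intro g
  constructor
  · intro hg
    obtain ⟨m, rfl⟩ := Subgroup.mem_zpowers_iff.mp hg
    have : y * x ^ m * y⁻¹ = (x⁻¹) ^ m := by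
      have h3 := map_zpow (MulAut.conj y) x m
      simp only [MulAut.conj_apply] at h3
      rw [h3, h1]
    rw [this]
    exact Subgroup.zpow_mem _ (Subgroup.inv_mem _ (Subgroup.mem_zpowers x)) m
  · intro hg
    obtain ⟨m, hm⟩ := Subgroup.mem_zpowers_iff.mp hg
    have hg' : g = y⁻¹ * (x ^ m) * y := by rw [hm]; group
    have : y⁻¹ * x ^ m * y = (x⁻¹) ^ m := by
      have h3 := map_zpow (MulAut.conj y⁻¹) x m
      simp only [MulAut.conj_apply, inv_inv] at h3
      rw [h3, h2]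
    rw [hg', this]
    exact Subgroup.zpow_mem _ (Subgroup.inv_mem _ (Subgroup.mem_zpowers x)) m

/-- `SL(2, p)`, `p` odd, has a non-abelian 2-subgroup (a quaternion group of order 8). -/
theorem exists_nonabelian_two_subgroup (hp : p ≠ 2) :
    ∃ Q : Subgroup (Matrix.SpecialLinearGroup (Fin 2) (ZMod p)), IsPGroup 2 Q ∧
      ∃ x ∈ Q, ∃ y ∈ Q, x * y ≠ y * x := by
  obtain ⟨a, b, hab⟩ := ZMod.sq_add_sq p (-1)
  refine ⟨Subgroup.zpowers jMat ⊔ Subgroup.zpowers (iMat a b hab), ?_, iMat a b hab, ?_, jMat, ?_,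
    iMat_jMat_ne hp a b hab⟩
  · refine IsPGroup.to_sup_of_normal_right' (isPGroup_zpowers_of_pow_four _ jMat_pow_four)
      (isPGroup_zpowers_of_pow_four _ (iMat_pow_four a b hab)) ?_
    rw [Subgroup.zpowers_le]
    exact mem_normalizer_zpowers _ _ (iMat_jMat_iMat a b hab)
  · exact Subgroup.mem_sup_right (Subgroup.mem_zpowers _)
  · exact Subgroup.mem_sup_left (Subgroup.mem_zpowers _)

/-- **S1936-[Q8]** (`hfree` of S0118): a finite group all of whose 2-subgroups are abelian has no section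
isomorphic to `SL(2, p)`, `p` odd. -/
theorem hfree_of_two_subgroups_abelian {G : Type*} [Group G] [Finite G] (hp : p ≠ 2)
    (hab : ∀ Q : Subgroup G, IsPGroup 2 Q → ∀ a ∈ Q, ∀ b ∈ Q, a * b = b * a) :
    ¬ ∃ (H K : Subgroup G) (hK : (K.subgroupOf H).Normal),
      Nonempty ((H ⧸ K.subgroupOf H) ≃* Matrix.SpecialLinearGroup (Fin 2) (ZMod p)) := by
  rintro ⟨H, K, hK, ⟨e⟩⟩
  obtain ⟨Q, hQ, x, hx, y, hy, hxy⟩ := exists_nonabelian_two_subgroup (p := p) hp
  have hQ' : IsPGroup 2 (Q.comap e.toMonoidHom) := hQ.comap_of_injective e.toMonoidHom e.injective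
  obtain ⟨P', hP'⟩ := hQ'.exists_le_sylow
  obtain ⟨S, hS⟩ := Sylow.mapSurjective_surjective
    (QuotientGroup.mk'_surjective (K.subgroupOf H)) 2 P'
  have hSab : ∀ a ∈ (S : Subgroup ↥H), ∀ b ∈ (S : Subgroup ↥H), a * b = b * a := by
    intro a ha b hb
    have h2 : IsPGroup 2 ((S : Subgroup ↥H).map H.subtype) := S.isPGroup'.map _
    have := hab _ h2 a ⟨a, ha, rfl⟩ b ⟨b, hb, rfl⟩
    exact Subtype.ext this
  have hP'ab : ∀ a ∈ (P' : Subgroup (↥H ⧸ K.subgroupOf H)), ∀ b ∈ (P' : Subgroup (↥H ⧸ K.subgroupOf H)),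
      a * b = b * a := by
    intro a ha b hb
    rw [← hS, Sylow.coe_mapSurjective] at ha hb
    obtain ⟨a', ha', rfl⟩ := ha
    obtain ⟨b', hb', rfl⟩ := hb
    rw [← map_mul, ← map_mul, hSab a' ha' b' hb']
  have hx' : e.symm x ∈ Q.comap e.toMonoidHom := by
    show e (e.symm x) ∈ Q
    rw [e.apply_symm_apply]; exact hx
  have hy' : e.symm y ∈ Q.comap e.toMonoidHom := by
    show e (e.symm y) ∈ Q
    rw [e.apply_symm_apply]; exact hy
  have h3 := hP'ab _ (hP' hx') _ (hP' hy')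
  apply hxy
  have h4 := congrArg e h3
  rwa [map_mul, map_mul, e.apply_symm_apply, e.apply_symm_apply] at h4

/-- the form used in S1936: the hypothesis `HP(p, G)` with `p` odd gives `hfree`. -/
theorem hfree_of_HP {G : Type*} [Group G] [Finite G] (hp : p ≠ 2)
    (h : ∀ H : Subgroup G, (Nat.card ↥H).Coprime p →
      IsMulCommutative ↥H ∧ ∀ x ∈ H, x ^ (p - 1) = 1) :
    ¬ ∃ (H K : Subgroup G) (hK : (K.subgroupOf H).Normal),
      Nonempty ((H ⧸ K.subgroupOf H) ≃* Matrix.SpecialLinearGroup (Fin 2) (ZMod p)) := by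
  apply hfree_of_two_subgroups_abelian hp
  intro Q hQ a ha b hb
  obtain ⟨m, hm⟩ := IsPGroup.iff_card.mp hQ
  have hcop : (Nat.card ↥Q).Coprime p := by
    rw [hm]
    apply Nat.Coprime.pow_left
    exact (Nat.coprime_primes Nat.prime_two (Fact.out : p.Prime)).mpr (Ne.symm hp)
  obtain ⟨hc, -⟩ := h Q hcop
  have := hc.is_comm.comm (⟨a, ha⟩ : ↥Q) ⟨b, hb⟩
  exact congrArg Subtype.val this

end Cfsg.Agent.Lib.Helper81.S1936Q8
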