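import Mathlib

set_option autoImplicit false

namespace Cfsg.Agent.Lib.Helper81.S1936NT

/-- odd squares are `1` mod `8` -/
lemma sq_mod_eight_of_odd {a : ℕ} (ha : a % 2 = 1) : a ^ 2 % 8 = 1 := by
  have h8 : a % 8 = 1 ∨ a % 8 = 3 ∨ a % 8 = 5 ∨ a % 8 = 7 := by omega
  have : a ^ 2 % 8 = (a % 8) ^ 2 % 8 := by rw [Nat.pow_mod]
  rcases h8 with h | h | h | h <;> rw [this, h] <;> norm_num

/-- **S1936-[NT]**: if `2^k - 1 = p^j` with `p` prime and `k ≥ 3` then `j = 1`, `p ≡ 7 (mod 8)` and `p + 1 = 2^k`. -/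
theorem two_pow_sub_one_eq_prime_pow {p k j : ℕ} (hp : p.Prime) (hk : 3 ≤ k) (h : 2 ^ k - 1 = p ^ j) :
    j = 1 ∧ p % 8 = 7 ∧ p + 1 = 2 ^ k := by
  have h2k : 8 ∣ 2 ^ k := by
    obtain ⟨m, rfl⟩ : ∃ m, k = 3 + m := ⟨k - 3, by omega⟩
    rw [pow_add]; exact Dvd.intro _ rfl
  have hpos : 8 ≤ 2 ^ k := Nat.le_of_dvd (by positivity) h2k
  have hpj : p ^ j + 1 = 2 ^ k := by omega
  have hmod : p ^ j % 8 = 7 := by omega
  -- p is odd
  have hpodd : p % 2 = 1 := by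
    rcases hp.eq_two_or_odd with h2 | h2
    · exfalso
      subst h2
      rcases Nat.eq_zero_or_pos j with hj | hj
      · subst hj; simp at hmod
      · have : 2 ∣ 2 ^ j := dvd_pow_self 2 hj.ne'
        omega
    · exact h2
  -- j is odd
  have hjodd : j % 2 = 1 := by
    by_contra hcon
    have hj2 : j % 2 = 0 := by omega
    obtain ⟨m, rfl⟩ : ∃ m, j = 2 * m := ⟨j / 2, by omega⟩
    have hodd : p ^ m % 2 = 1 := by
      rw [Nat.pow_mod, hpodd]; simp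
    have := sq_mod_eight_of_odd hodd
    rw [← pow_mul, mul_comm] at this
    omega
  obtain ⟨m, rfl⟩ : ∃ m, j = 2 * m + 1 := ⟨j / 2, by omega⟩
  -- p ≡ p^j mod 8
  have hp8 : p % 8 = 7 := by
    have hodd : p ^ m % 2 = 1 := by
      rw [Nat.pow_mod, hpodd]; simp
    have h1 := sq_mod_eight_of_odd hodd
    have h2 : p ^ (2 * m + 1) = (p ^ m) ^ 2 * p := by rw [← pow_mul, mul_comm m 2, pow_succ]
    rw [h2, Nat.mul_mod, h1] at hmod
    omega
  -- p + 1 is a power of 2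
  have hdvd : p + 1 ∣ 2 ^ k := by
    rw [← hpj]
    have := Odd.nat_add_dvd_pow_add_pow p 1 (n := 2 * m + 1) ⟨m, rfl⟩
    simpa using this
  obtain ⟨i, hik, hi⟩ := (Nat.dvd_prime_pow Nat.prime_two).mp hdvd
  have hi2 : 2 ≤ i := by
    by_contra hcon
    have : i = 0 ∨ i = 1 := by omega
    rcases this with rfl | rfl <;> omega
  -- p^2 ≡ 1 mod 2^(i+1)
  have hsq : p ^ 2 % 2 ^ (i + 1) = 1 := by
    obtain ⟨c, hc⟩ : ∃ c, p = 2 * c + 1 := ⟨p / 2, by omega⟩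
    have e : p ^ 2 = c * 2 ^ (i + 1) + 1 := by
      have : p ^ 2 = (p - 1) * (p + 1) + 1 := by
        have hp1 : 1 ≤ p := hp.one_le
        obtain ⟨d, rfl⟩ : ∃ d, p = d + 1 := ⟨p - 1, by omega⟩
        simp only [Nat.add_sub_cancel]
        ring
      rw [this, hi]
      have : p - 1 = 2 * c := by omega
      rw [this, pow_succ]; ring
    rw [e, Nat.mul_add_mod_self_right]
    exact Nat.mod_eq_of_lt (by
      have : 2 ^ 1 < 2 ^ (i + 1) := Nat.pow_lt_pow_right (by norm_num) (by omega)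
      simp at this; omega)
  -- p^j ≡ p mod 2^(i+1)
  have hpjmod : p ^ (2 * m + 1) % 2 ^ (i + 1) = p % 2 ^ (i + 1) := by
    have h2 : p ^ (2 * m + 1) = (p ^ 2) ^ m * p := by rw [← pow_mul, pow_succ]
    rw [h2, Nat.mul_mod, Nat.pow_mod, hsq]
    simp
  have hki : k = i := by
    by_contra hne
    have hlt : i + 1 ≤ k := by omega
    have hd : 2 ^ (i + 1) ∣ p ^ (2 * m + 1) + 1 := by
      rw [hpj]; exact pow_dvd_pow 2 hlt
    have h3 : (p ^ (2 * m + 1) + 1) % 2 ^ (i + 1) = 0 := Nat.mod_eq_zero_of_dvd hd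
    rw [Nat.add_mod, hpjmod, ← Nat.add_mod, hi] at h3
    have h4 : 2 ^ i < 2 ^ (i + 1) := Nat.pow_lt_pow_right (by norm_num) (by omega)
    rw [Nat.mod_eq_of_lt h4] at h3
    have : 0 < 2 ^ i := by positivity
    omega
  subst hki
  refine ⟨?_, hp8, hi⟩
  have hpp : p ^ (2 * m + 1) = p ^ 1 := by rw [pow_one]; omega
  have := Nat.pow_right_injective hp.two_le hpp
  omega

end Cfsg.Agent.Lib.Helper81.S1936NT
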