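/-
helper81: PROJECT BP (coordinator helper92), module BP-[L3-INV]:
for idempotents `c, c'` of `A^<u>` (`u` a `p`-element) with the same Brauer image, `χ(u c) = χ(u c')`.

`evAt_eq_of_br_eq_of` takes the conclusions of BP-[L3-VAN] and BP-[L3-MVN] as hypotheses.
-/
import Cfsg.Agent.Lib.Helper92.BPChar
import Cfsg.Agent.Lib.Helper1.BPEqv
import Cfsg.Agent.Lib.Helper11.BPRank
import Cfsg.Agent.Lib.Helper23.BPFixedFin
import Cfsg.Agent.Lib.Helper23.BPBrMul
import Cfsg.Agent.Lib.Helper40.BPBr1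
import Cfsg.Agent.Lib.Helper80.BPRad

set_option autoImplicit false

namespace Cfsg.Agent.Lib.Helper81.BP

open Cfsg.Agent.Lib.Helper92.BP

section
variable {R : Type*} [CommRing R] [Algebra R ℂ] {G : Type*} [Group G]

/-- additivity of `evAt` in the group-algebra argument -/
theorem h81_evAt_add (χ : G → ℂ) (u : G) (a b : MonoidAlgebra R G) :
    evAt χ u (a + b) = evAt χ u a + evAt χ u b := by
  unfold evAt ev
  rw [MonoidAlgebra.coeff_add]
  refine Finsupp.sum_add_index' (fun g => ?_) (fun g r s => ?_)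
  · rw [map_zero, zero_mul]
  · rw [map_add, add_mul]

end

section
variable {R : Type*} [CommRing R] [IsLocalRing R] {G : Type*} [Group G]

/-- The kernel of `Br_Q` on `A^Q`, as an ideal of `A^Q`. -/
noncomputable def brKer [Finite G] (p : ℕ) [Fact p.Prime] [CharP (IsLocalRing.ResidueField R) p]
    (Q : Subgroup G) (hQ : IsPGroup p Q) : Ideal (fixedAlg R Q) where
  carrier := {x | br R Q (x : MonoidAlgebra R G) = 0}
  add_mem' := by
    intro x y hx hy
    show br R Q ((x + y : fixedAlg R Q) : MonoidAlgebra R G) = 0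
    rw [Subalgebra.coe_add, Cfsg.Agent.Lib.Helper40.BP.br_add, hx, hy, add_zero]
  zero_mem' := by
    show br R Q ((0 : fixedAlg R Q) : MonoidAlgebra R G) = 0
    rw [Subalgebra.coe_zero, Cfsg.Agent.Lib.Helper40.BP.br_zero]
  smul_mem' := by
    intro a x hx
    show br R Q ((a • x : fixedAlg R Q) : MonoidAlgebra R G) = 0
    rw [smul_eq_mul, Subalgebra.coe_mul, Cfsg.Agent.Lib.Helper23.BP.br_mul hQ a.2 x.2, hx, mul_zero]

theorem mem_brKer [Finite G] (p : ℕ) [Fact p.Prime] [CharP (IsLocalRing.ResidueField R) p]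
    (Q : Subgroup G) (hQ : IsPGroup p Q) (x : fixedAlg R Q) :
    x ∈ brKer p Q hQ ↔ br R Q (x : MonoidAlgebra R G) = 0 := Iff.rfl

instance brKer_isTwoSided [Finite G] (p : ℕ) [Fact p.Prime] [CharP (IsLocalRing.ResidueField R) p]
    (Q : Subgroup G) (hQ : IsPGroup p Q) : (brKer (R := R) p Q hQ).IsTwoSided := by
  refine ⟨fun {a} b ha => ?_⟩
  rw [mem_brKer] at ha ⊢
  rw [Subalgebra.coe_mul, Cfsg.Agent.Lib.Helper23.BP.br_mul hQ a.2 b.2, ha, zero_mul]

end

section
variable {R : Type*} [CommRing R] [IsDomain R] [IsLocalRing R] [Algebra R ℂ]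
variable {G : Type*} [Group G]

/-- BP-[L3-INV], with the conclusions of BP-[L3-VAN] (`hVAN`) and BP-[L3-MVN] (`hMVN`) as hypotheses. -/
theorem evAt_eq_of_br_eq_of [Finite G] (hR : MonicSplits R) {p : ℕ} [Fact p.Prime]
    [CharP (IsLocalRing.ResidueField R) p] {χ : G → ℂ} {u : G}
    (hu : IsPGroup p (Subgroup.zpowers u))
    (hVAN : ∀ c : MonoidAlgebra R G, c ∈ fixedAlg R (Subgroup.zpowers u) → IsIdempotentElem c →
      br R (Subgroup.zpowers u) c = 0 → evAt χ u c = 0)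
    (hMVN : ∀ x y : MonoidAlgebra R G,
      MonoidAlgebra.of R G u * y = y * MonoidAlgebra.of R G u → evAt χ u (x * y) = evAt χ u (y * x))
    {c c' : MonoidAlgebra R G}
    (hc : c ∈ fixedAlg R (Subgroup.zpowers u)) (hci : IsIdempotentElem c)
    (hc' : c' ∈ fixedAlg R (Subgroup.zpowers u)) (hci' : IsIdempotentElem c')
    (h : br R (Subgroup.zpowers u) c = br R (Subgroup.zpowers u) c') :
    evAt χ u c = evAt χ u c' := by
  classical
  set Q : Subgroup G := Subgroup.zpowers u with hQdef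
  have : Module.Finite R (fixedAlg R Q) := Cfsg.Agent.Lib.Helper23.BP.finite_fixedAlg Q
  have : NoZeroSMulDivisors R (fixedAlg R Q) := Cfsg.Agent.Lib.Helper23.BP.noZeroSMulDivisors_fixedAlg Q
  obtain ⟨rk, hpos, hadd⟩ := Cfsg.Agent.Lib.Helper11.BP.exists_rank_fun (R := R) (Λ := fixedAlg R Q)
  set J : Ideal (fixedAlg R Q) := brKer p Q hu with hJdef
  have hRAD : ∀ e : fixedAlg R Q, IsIdempotentElem e →
      (∀ f : fixedAlg R Q, IdemLE f e → f ∈ J → f = 0) →
      ∀ x : fixedAlg R Q, InCorner e x → x ∈ J → CornerUnit e (e - x) :=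
    fun e he hJ x hx hxJ => Cfsg.Agent.Lib.Helper80.BP.cornerUnit_sub_of_no_idem hR he J hJ x hx hxJ
  have hcΛ : IsIdempotentElem (⟨c, hc⟩ : fixedAlg R Q) := Subtype.ext hci
  have hcΛ' : IsIdempotentElem (⟨c', hc'⟩ : fixedAlg R Q) := Subtype.ext hci'
  have hdiff : (⟨c, hc⟩ : fixedAlg R Q) - ⟨c', hc'⟩ ∈ J := by
    rw [hJdef, mem_brKer]
    have e1 : (((⟨c, hc⟩ : fixedAlg R Q) - ⟨c', hc'⟩ : fixedAlg R Q) : MonoidAlgebra R G) + c' = c := by
      rw [Subalgebra.coe_sub]
      exact sub_add_cancel c c'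
    have e2 := Cfsg.Agent.Lib.Helper40.BP.br_add Q
      (((⟨c, hc⟩ : fixedAlg R Q) - ⟨c', hc'⟩ : fixedAlg R Q) : MonoidAlgebra R G) c'
    rw [e1, h] at e2
    exact (add_eq_right.mp e2.symm)
  obtain ⟨c₁, c₀, c₁', c₀', _h1, h0, _ho, hs, _h1', h0', _ho', hs', h0J, h0J', a, b, hab, hba⟩ :=
    Cfsg.Agent.Lib.Helper1.BP.exists_mvn_decomp_of rk hpos hadd J hRAD ⟨c, hc⟩ ⟨c', hc'⟩ hcΛ hcΛ' hdiff
  -- the pieces in `J` do not contribute
  have hz0 : evAt χ u (c₀ : MonoidAlgebra R G) = 0 := by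
    refine hVAN _ c₀.2 ?_ ((mem_brKer p Q hu c₀).mp h0J)
    have := congrArg Subtype.val h0.1.eq
    rwa [Subalgebra.coe_mul] at this
  have hz0' : evAt χ u (c₀' : MonoidAlgebra R G) = 0 := by
    refine hVAN _ c₀'.2 ?_ ((mem_brKer p Q hu c₀').mp h0J')
    have := congrArg Subtype.val h0'.1.eq
    rwa [Subalgebra.coe_mul] at this
  -- the equivalent pieces contribute equally
  have hcomm : MonoidAlgebra.of R G u * (b : MonoidAlgebra R G) = (b : MonoidAlgebra R G) * MonoidAlgebra.of R G u := by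
    have hb := b.2
    unfold fixedAlg at hb
    rw [Subalgebra.mem_centralizer_iff] at hb
    exact hb _ ⟨u, Subgroup.mem_zpowers u, rfl⟩
  have hmv : evAt χ u (c₁ : MonoidAlgebra R G) = evAt χ u (c₁' : MonoidAlgebra R G) := by
    have e1 : (c₁ : MonoidAlgebra R G) = (a : MonoidAlgebra R G) * (b : MonoidAlgebra R G) := by
      rw [← Subalgebra.coe_mul, hab]
    have e2 : (c₁' : MonoidAlgebra R G) = (b : MonoidAlgebra R G) * (a : MonoidAlgebra R G) := by
      rw [← Subalgebra.coe_mul, hba]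
    rw [e1, e2]
    exact hMVN _ _ hcomm
  have ec : c = (c₁ : MonoidAlgebra R G) + (c₀ : MonoidAlgebra R G) := by
    have := congrArg Subtype.val hs
    rw [Subalgebra.coe_add] at this
    exact this.symm
  have ec' : c' = (c₁' : MonoidAlgebra R G) + (c₀' : MonoidAlgebra R G) := by
    have := congrArg Subtype.val hs'
    rw [Subalgebra.coe_add] at this
    exact this.symm
  rw [ec, ec', h81_evAt_add, h81_evAt_add, hz0, hz0', hmv]

end

end Cfsg.Agent.Lib.Helper81.BP
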