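import Mathlib
import Cfsg.Prelude.Def_Characters
import Cfsg.Agent.S0886
import Cfsg.Agent.Lib.Helper15.GallagherExt
import Cfsg.Agent.Lib.Helper81.Gallagher

/-!
# Characters over an extendible character with cyclic quotient (helper81)

* `cyclic_twist_decomp`: let `N ⊴ H` with `H/N` cyclic, `θ ∈ Irr(N)` invariant, and `Ψ` a
  character of `H` with `Ψ_N = e θ`.  Then there is a family of `|H:N|` natural numbers `a`
  (the multiplicities of the extensions of `θ`) with `∑ a = e` and `[Ψ, Ψ] = ∑ a²`.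
-/

set_option autoImplicit false

namespace Cfsg.Agent.Lib.Helper81

open Cfsg
open scoped ComplexConjugate

universe u

theorem cyclic_twist_decomp {H : Type u} [Group H] [Fintype H] (N : Subgroup H) [hN : N.Normal]
    [Fintype N] (hcyc : IsCyclic (H ⧸ N)) (θ : N → ℂ) (hθ : IsIrrCharacter N θ)
    (hinv : ∀ (g : H) (n : N), θ ⟨g * n * g⁻¹, hN.conj_mem (n : H) n.2 g⟩ = θ n)
    (Ψ : H → ℂ) (hΨ : IsCharacter H Ψ) (e : ℕ) (hres : ∀ y : N, Ψ y = (e : ℂ) * θ y) :
    ∃ (Λ : Type u) (_ : Fintype Λ) (a : Λ → ℕ), Fintype.card Λ = N.index ∧ ∑ i, a i = e ∧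
      classInner Ψ Ψ = ((∑ i, a i ^ 2 : ℕ) : ℂ) := by
  classical
  let _ : CommGroup (H ⧸ N) := IsCyclic.commGroup
  have : Fintype ((H ⧸ N) →* ℂˣ) := Fintype.ofFinite _
  obtain ⟨ϑh, hϑh, hext⟩ := Cfsg.Agent.S0886.result N hcyc θ hθ hinv
  have hϑhres : IsIrrCharacter N (fun n : N => ϑh n) := by
    have : (fun n : N => ϑh n) = θ := funext hext
    rw [this]; exact hθ
  -- the twists
  let tw : ((H ⧸ N) →* ℂˣ) → (H →* ℂˣ) := fun β => β.comp (QuotientGroup.mk' N)
  have htwN : ∀ (β : (H ⧸ N) →* ℂˣ) (n : N), tw β (n : H) = 1 := by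
    intro β n
    simp only [tw, MonoidHom.comp_apply, QuotientGroup.mk'_apply]
    rw [(QuotientGroup.eq_one_iff (n : H)).2 n.2, map_one]
  let η : ((H ⧸ N) →* ℂˣ) → H → ℂ := fun β h => ((tw β h : ℂˣ) : ℂ) * ϑh h
  have hηirr : ∀ β, IsIrrCharacter H (η β) := fun β => isIrrCharacter_monoidHom_mul (tw β) hϑh
  let ι : ((H ⧸ N) →* ℂˣ) → IrrCharacter H := fun β => ⟨η β, hηirr β⟩
  have hιinj : Function.Injective ι := by
    intro β β' h
    have h1 : η β = η β' := congrArg Subtype.val h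
    have h2 : tw β = tw β' := Cfsg.Agent.Lib.Helper15.twist_injective N ϑh hϑh hϑhres (tw β)
      (tw β') (htwN β) (htwN β') h1
    apply MonoidHom.ext
    intro q
    obtain ⟨h, rfl⟩ := QuotientGroup.mk_surjective q
    have := congrArg (fun f : H →* ℂˣ => f h) h2
    exact this
  -- multiplicities
  obtain ⟨m, hm⟩ := (Cfsg.Agent.Lib.Helper78.isCharacter_iff_exists_nat_combination Ψ).1 hΨ
  have hmcoef : ∀ χ' : IrrCharacter H, classInner Ψ (χ' : H → ℂ) = (m χ' : ℂ) := by
    intro χ'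
    rw [hm]
    exact Cfsg.Agent.Lib.Helper78.classInner_nat_combination (fun ψ => (m ψ : ℂ)) χ'
  let a : ((H ⧸ N) →* ℂˣ) → ℕ := fun β => m (ι β)
  have hcardQ : Nat.card (H ⧸ N) = N.index := (Subgroup.index_eq_card N).symm
  have hcardΛ : Fintype.card ((H ⧸ N) →* ℂˣ) = N.index := by
    have h1 := Cfsg.Agent.Lib.Helper15.sum_monoidHom_apply_one (Q := H ⧸ N)
    simp only [map_one, Units.val_one, Finset.sum_const, Finset.card_univ, nsmul_eq_mul,
      mul_one] at h1
    rw [← hcardQ]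
    exact_mod_cast h1
  have hHne : (Nat.card H : ℂ) ≠ 0 := by
    have : 0 < Nat.card H := Nat.card_pos
    exact_mod_cast this.ne'
  -- the sum of the multiplicities
  have hsum : ∑ β : (H ⧸ N) →* ℂˣ, a β = e := by
    have h1 : ((∑ β : (H ⧸ N) →* ℂˣ, a β : ℕ) : ℂ) =
        ∑ β : (H ⧸ N) →* ℂˣ, classInner Ψ (η β) := by
      push_cast
      apply Finset.sum_congr rfl
      intro β _
      exact (hmcoef (ι β)).symm
    have h2 : ∑ β : (H ⧸ N) →* ℂˣ, classInner Ψ (η β) =
        (Nat.card H : ℂ)⁻¹ * ∑ h : H, Ψ h * conj (ϑh h) *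
          conj (∑ β : (H ⧸ N) →* ℂˣ, ((β (h : H ⧸ N) : ℂˣ) : ℂ)) := by
      unfold classInner
      rw [← Finset.mul_sum, Finset.sum_comm]
      congr 1
      apply Finset.sum_congr rfl
      intro h _
      rw [map_sum, Finset.mul_sum]
      apply Finset.sum_congr rfl
      intro β _
      simp only [η, tw, MonoidHom.comp_apply, QuotientGroup.mk'_apply, map_mul]
      ring
    have h3 : ∀ h : H, h ∉ N → Ψ h * conj (ϑh h) *
        conj (∑ β : (H ⧸ N) →* ℂˣ, ((β (h : H ⧸ N) : ℂˣ) : ℂ)) = 0 := by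
      intro h hh
      have : (h : H ⧸ N) ≠ 1 := fun h1 => hh ((QuotientGroup.eq_one_iff h).1 h1)
      rw [Cfsg.Agent.Lib.Helper15.sum_monoidHom_apply_ne this, map_zero, mul_zero]
    rw [sum_eq_sum_subgroup_of_vanish N _ h3] at h2
    have h4 : ∀ y : N, Ψ y * conj (ϑh y) *
        conj (∑ β : (H ⧸ N) →* ℂˣ, ((β ((y : H) : H ⧸ N) : ℂˣ) : ℂ)) =
        (e : ℂ) * (N.index : ℂ) * (θ y * conj (θ y)) := by
      intro y
      have h5 : ((y : H) : H ⧸ N) = 1 := (QuotientGroup.eq_one_iff (y : H)).2 y.2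
      rw [h5, Cfsg.Agent.Lib.Helper15.sum_monoidHom_apply_one, hcardQ, Complex.conj_natCast,
        hres y, hext y]
      ring
    rw [Finset.sum_congr rfl (fun y _ => h4 y), ← Finset.mul_sum] at h2
    have h6 : ∑ y : N, θ y * conj (θ y) = (Nat.card N : ℂ) := by
      have := Cfsg.Agent.Lib.Helper78.classInner_irr_self hθ
      unfold classInner at this
      have hNne : (Nat.card N : ℂ) ≠ 0 := by
        have : 0 < Nat.card N := Nat.card_pos
        exact_mod_cast this.ne'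
      field_simp at this
      exact this
    rw [h6] at h2
    have h7 : (Nat.card H : ℂ) = (Nat.card N : ℂ) * (N.index : ℂ) := by
      exact_mod_cast (Subgroup.card_mul_index N).symm
    rw [h2, h7] at h1
    have hNne : (Nat.card N : ℂ) ≠ 0 := by
      have : 0 < Nat.card N := Nat.card_pos
      exact_mod_cast this.ne'
    have hidxne : (N.index : ℂ) ≠ 0 := by
      have := Subgroup.index_ne_zero_of_finite (H := N)
      exact_mod_cast this
    have h8 : ((∑ β : (H ⧸ N) →* ℂˣ, a β : ℕ) : ℂ) = (e : ℂ) := by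
      rw [h1]
      field_simp
    exact_mod_cast h8
  -- degrees
  have hdθ : θ 1 = (charDegree θ : ℂ) := Cfsg.Agent.Lib.Helper80.char_one_eq_charDegree
    (Cfsg.Agent.Lib.Helper78.IsIrrCharacter.isCharacter hθ)
  have hdθpos : 0 < charDegree θ := Cfsg.Agent.Lib.Helper80.charDegree_pos_of_isIrr hθ
  have hdeg : ∀ χ' : IrrCharacter H, (χ' : H → ℂ) 1 = (charDegree (χ' : H → ℂ) : ℂ) := fun χ' =>
    Cfsg.Agent.Lib.Helper80.char_one_eq_charDegree
      (Cfsg.Agent.Lib.Helper78.IsIrrCharacter.isCharacter χ'.2)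
  have hdegι : ∀ β, charDegree ((ι β : IrrCharacter H) : H → ℂ) = charDegree θ := by
    intro β
    apply Cfsg.Agent.Lib.Helper80.charDegree_natCast
    show η β 1 = _
    simp only [η, map_one, Units.val_one, one_mul]
    have := hext 1
    rw [Subgroup.coe_one] at this
    rw [this, hdθ]
  have hΨ1 : ∑ χ' : IrrCharacter H, m χ' * charDegree (χ' : H → ℂ) = e * charDegree θ := by
    have h1 := congrFun hm 1
    simp only [Finset.sum_apply, Pi.smul_apply, smul_eq_mul] at h1
    have h2 := hres 1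
    rw [Subgroup.coe_one] at h2
    rw [h2, hdθ] at h1
    have : ((∑ χ' : IrrCharacter H, m χ' * charDegree (χ' : H → ℂ) : ℕ) : ℂ) =
        ((e * charDegree θ : ℕ) : ℂ) := by
      push_cast
      rw [h1]
      apply Finset.sum_congr rfl
      intro χ' _
      rw [hdeg χ']
    exact_mod_cast this
  -- split the sum over the image of `ι`
  have hsplit : ∀ f : IrrCharacter H → ℕ, ∑ χ', f χ' =
      ∑ β, f (ι β) + ∑ χ' ∈ Finset.univ.filter (fun χ' => χ' ∉ Finset.univ.image ι), f χ' := by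
    intro f
    rw [← Finset.sum_image (f := f) (fun β _ β' _ h => hιinj h)]
    rw [← Finset.sum_filter_add_sum_filter_not Finset.univ (fun χ' => χ' ∈ Finset.univ.image ι) f]
    congr 1
    apply Finset.sum_congr _ (fun _ _ => rfl)
    ext χ'
    simp
  have hzero : ∀ χ' : IrrCharacter H, χ' ∉ Finset.univ.image ι → m χ' = 0 := by
    have h1 := hsplit (fun χ' => m χ' * charDegree (χ' : H → ℂ))
    rw [hΨ1] at h1
    have h2 : ∑ β, m (ι β) * charDegree ((ι β : IrrCharacter H) : H → ℂ) = e * charDegree θ := by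
      rw [Finset.sum_congr rfl (fun β _ => by rw [hdegι β]), ← Finset.sum_mul, hsum]
    rw [h2] at h1
    have h3 : ∑ χ' ∈ Finset.univ.filter (fun χ' => χ' ∉ Finset.univ.image ι),
        m χ' * charDegree (χ' : H → ℂ) = 0 := by omega
    intro χ' hχ'
    have h4 := (Finset.sum_eq_zero_iff.1 h3) χ' (Finset.mem_filter.2 ⟨Finset.mem_univ _, hχ'⟩)
    rcases Nat.mul_eq_zero.1 h4 with h | h
    · exact h
    · exact absurd h (Cfsg.Agent.Lib.Helper80.charDegree_pos_of_isIrr χ'.2).ne'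
  refine ⟨(H ⧸ N) →* ℂˣ, inferInstance, a, hcardΛ, hsum, ?_⟩
  conv_lhs => rw [hm]
  rw [Cfsg.Agent.Lib.Helper15.classInner_self_nat_combination m]
  congr 1
  rw [hsplit (fun χ' => m χ' ^ 2)]
  have : ∑ χ' ∈ Finset.univ.filter (fun χ' => χ' ∉ Finset.univ.image ι), m χ' ^ 2 = 0 := by
    apply Finset.sum_eq_zero
    intro χ' hχ'
    rw [hzero χ' (Finset.mem_filter.1 hχ').2]
    rfl
  rw [this, add_zero]

end Cfsg.Agent.Lib.Helper81
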