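import Mathlib
import Cfsg.Prelude.Def_Characters
import Cfsg.Agent.Lib.Helper75.Clifford
import Cfsg.Agent.Lib.Helper75.Clifford2
import Cfsg.Agent.Lib.Helper75.Ramified
import Cfsg.Agent.Lib.Helper81.CyclicTwist

/-!
# Sections of a fully ramified character (helper81)

Setting: `ψ ∈ Irr(G)` fully ramified over `Z ⊴ G` (`ψ_Z = d θ`, `d² = |G:Z|`) and `Z ≤ N ⊴ G`.

* `classInner_comp_ne_zero_of_constituent`: transitivity of "lies over".
* `exists_irr_constituent`
* `ramified_over_of_constituent`, `ramified_constituent_of_over`, `ramified_section_conj`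
* `ramified_section_free`: if `[ψ_N, ζ] = 1` then the inertia group of `ζ` is `N`.
* `classInner_res_eq_one_of_cyclic`: if `G/N` is cyclic then `ψ_N` is multiplicity free.
-/

set_option autoImplicit false

namespace Cfsg.Agent.Lib.Helper81

open Cfsg Cfsg.Agent.Lib.Helper75 Cfsg.Agent.Lib.Helper78
open scoped ComplexConjugate

universe u

theorem classInner_comp_ne_zero_of_constituent {L W : Type*} [Group L] [Fintype L] [Group W]
    [Fintype W] (ι : W →* L) {α : L → ℂ} (hα : IsCharacter L α) {μ : L → ℂ}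
    (hμ : IsIrrCharacter L μ) (h1 : classInner α μ ≠ 0) {β : W → ℂ} (hβ : IsIrrCharacter W β)
    (h2 : classInner (μ ∘ ι) β ≠ 0) : classInner (α ∘ ι) β ≠ 0 := by
  classical
  obtain ⟨m, hm⟩ := (isCharacter_iff_exists_nat_combination α).1 hα
  choose kk hkk using fun ν : IrrCharacter L =>
    IsCharacter.exists_nat_classInner (isCharacter_comp (IsIrrCharacter.isCharacter ν.2) ι)
      (⟨β, hβ⟩ : IrrCharacter W)
  have hsum : classInner (α ∘ ι) β = ((∑ ν : IrrCharacter L, m ν * kk ν : ℕ) : ℂ) := by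
    have h3 : α ∘ ι = ∑ ν : IrrCharacter L, (m ν : ℂ) • ((ν : L → ℂ) ∘ ι) := by
      funext w
      rw [Function.comp_apply, hm]
      simp [Finset.sum_apply]
    rw [h3, classInner_sum_left]
    push_cast
    apply Finset.sum_congr rfl
    intro ν _
    rw [classInner_smul_left, ← hkk ν]
  have hmμ : m ⟨μ, hμ⟩ ≠ 0 := by
    intro h0
    apply h1
    rw [hm, classInner_nat_combination (fun ν => (m ν : ℂ)) ⟨μ, hμ⟩, h0, Nat.cast_zero]
  have hkμ : kk ⟨μ, hμ⟩ ≠ 0 := by
    intro h0
    apply h2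
    have := hkk ⟨μ, hμ⟩
    rw [h0, Nat.cast_zero] at this
    exact this
  rw [hsum]
  have hpos : 0 < ∑ ν : IrrCharacter L, m ν * kk ν := by
    have hle : m ⟨μ, hμ⟩ * kk ⟨μ, hμ⟩ ≤ ∑ ν : IrrCharacter L, m ν * kk ν :=
      Finset.single_le_sum (f := fun ν : IrrCharacter L => m ν * kk ν)
        (fun _ _ => Nat.zero_le _) (Finset.mem_univ _)
    exact lt_of_lt_of_le (Nat.mul_pos (Nat.pos_of_ne_zero hmμ) (Nat.pos_of_ne_zero hkμ)) hle
  exact_mod_cast hpos.ne'

theorem exists_irr_constituent {L : Type*} [Group L] [Fintype L] {α : L → ℂ}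
    (hα : IsCharacter L α) (h1 : α 1 ≠ 0) : ∃ μ : IrrCharacter L, classInner α (μ : L → ℂ) ≠ 0 := by
  by_contra h
  push Not at h
  apply h1
  have h0 := eq_zero_of_forall_classInner_irr_eq_zero (IsCharacter.isClassFunction hα) h
  rw [h0]
  rfl

section Section

variable {G : Type u} [Group G] [Fintype G] (Z N : Subgroup G) [hZ : Z.Normal] [hN : N.Normal]
  [Fintype Z] [Fintype N] (hZN : Z ≤ N)
  {ψ : G → ℂ} (hψ : IsIrrCharacter G ψ) {θ : Z → ℂ} (hθ : IsIrrCharacter Z θ) (d : ℕ)
  (hres : (fun z : Z => ψ z) = (d : ℂ) • θ) (hd : d ^ 2 = Z.index)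

include hψ hθ hres hd

omit hN [Fintype N] in
/-- uniqueness: an irreducible character of `G` over `θ` is `ψ` -/
theorem ramified_unique {χ : G → ℂ} (hχ : IsIrrCharacter G χ)
    (hover : classInner (fun z : Z => χ z) θ ≠ 0) : χ = ψ := by
  apply ramified_a_to_c Z hψ hθ d hres hd χ hχ
  rw [frobenius_reciprocity Z θ (IsCharacter.isClassFunction (IsIrrCharacter.isCharacter hχ)),
    ← classInner_conj_symm]
  intro h
  apply hover
  have := congrArg conj h
  simpa using this

omit hZ in
/-- an irreducible constituent of `ψ_N` lies over `θ` -/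
theorem ramified_over_of_constituent {ζ : N → ℂ} (hζ : IsIrrCharacter N ζ)
    (hcon : classInner (fun n : N => ψ n) ζ ≠ 0) : classInner (resNT Z N hZN ζ) θ ≠ 0 := by
  classical
  have hd0 : d ≠ 0 := by
    rintro rfl
    have : Z.index ≠ 0 := Subgroup.index_ne_zero_of_finite
    apply this
    rw [← hd]; simp
  have hζZ : IsCharacter Z (resNT Z N hZN ζ) := isCharacter_resNT Z N hZN (IsIrrCharacter.isCharacter hζ)
  have h1 : resNT Z N hZN ζ 1 ≠ 0 := by
    show ζ ⟨((1 : Z) : G), _⟩ ≠ 0
    have : (⟨((1 : Z) : G), hZN (1 : Z).2⟩ : N) = 1 := rfl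
    rw [this]
    exact IsIrrCharacter.apply_one_ne_zero hζ
  obtain ⟨θ', hθ'⟩ := exists_irr_constituent hζZ h1
  have h2 : classInner ((fun n : N => ψ n) ∘ (Subgroup.inclusion hZN)) (θ' : Z → ℂ) ≠ 0 :=
    classInner_comp_ne_zero_of_constituent (Subgroup.inclusion hZN)
      (isCharacter_res N (IsIrrCharacter.isCharacter hψ)) hζ hcon θ'.2 hθ'
  have h3 : ((fun n : N => ψ n) ∘ (Subgroup.inclusion hZN)) = (d : ℂ) • θ := by
    rw [← hres]
    rfl
  rw [h3, classInner_smul_left] at h2
  have h4 : (θ' : Z → ℂ) = θ := by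
    by_contra hne
    apply h2
    rw [classInner_irr_ne hθ θ'.2 (fun h => hne h.symm), mul_zero]
  rw [← h4]
  exact hθ'

/-- an irreducible character of `N` over `θ` is a constituent of `ψ_N` -/
theorem ramified_constituent_of_over {ζ : N → ℂ} (hζ : IsIrrCharacter N ζ)
    (hover : classInner (resNT Z N hZN ζ) θ ≠ 0) : classInner (fun n : N => ψ n) ζ ≠ 0 := by
  classical
  obtain ⟨χ, hχ⟩ := exists_classInner_indFun_ne_zero N hζ
  have hχcf : IsClassFunction G (χ : G → ℂ) := isClassFunction_irr χ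
  rw [frobenius_reciprocity N ζ hχcf, ← classInner_conj_symm] at hχ
  have h1 : classInner (fun n : N => (χ : G → ℂ) n) ζ ≠ 0 := by
    intro h
    apply hχ
    rw [h]; simp
  have h2 : classInner ((fun n : N => (χ : G → ℂ) n) ∘ (Subgroup.inclusion hZN)) θ ≠ 0 :=
    classInner_comp_ne_zero_of_constituent (Subgroup.inclusion hZN)
      (isCharacter_res N (IsIrrCharacter.isCharacter χ.2)) hζ h1 hθ hover
  have h3 : (χ : G → ℂ) = ψ := ramified_unique Z hψ hθ d hres hd χ.2 h2
  rw [← h3]
  exact h1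

/-- two irreducible characters of `N` over `θ` are conjugate -/
theorem ramified_section_conj {ζ ζ' : N → ℂ} (hζ : IsIrrCharacter N ζ)
    (hζ' : IsIrrCharacter N ζ') (hover : classInner (resNT Z N hZN ζ) θ ≠ 0)
    (hover' : classInner (resNT Z N hZN ζ') θ ≠ 0) : ∃ g : G, Helper75.conjFun N g ζ = ζ' :=
  clifford_conj N hψ hζ hζ' (ramified_constituent_of_over Z N hZN hψ hθ d hres hd hζ hover)
    (ramified_constituent_of_over Z N hZN hψ hθ d hres hd hζ' hover')

end Section

/-- the inertia group of a function on a normal subgroup -/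
def inertiaSubgroup {G : Type u} [Group G] (N : Subgroup G) [hN : N.Normal] (ζ : N → ℂ) :
    Subgroup G where
  carrier := {g | Helper75.conjFun N g ζ = ζ}
  mul_mem' := by
    intro a b ha hb
    show Helper75.conjFun N (a * b) ζ = ζ
    rw [conjFun_mul]
    have ha' : Helper75.conjFun N a ζ = ζ := ha
    have hb' : Helper75.conjFun N b ζ = ζ := hb
    rw [ha', hb']
  one_mem' := conjFun_one N ζ
  inv_mem' := by
    intro a ha
    show Helper75.conjFun N a⁻¹ ζ = ζ
    have ha' : Helper75.conjFun N a ζ = ζ := ha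
    have := conjFun_inv_conjFun N a ζ
    rw [ha'] at this
    exact this

theorem mem_inertiaSubgroup {G : Type u} [Group G] (N : Subgroup G) [hN : N.Normal] (ζ : N → ℂ)
    (g : G) : g ∈ inertiaSubgroup N ζ ↔ Helper75.conjFun N g ζ = ζ := Iff.rfl

theorem le_inertiaSubgroup {G : Type u} [Group G] (N : Subgroup G) [hN : N.Normal] {ζ : N → ℂ}
    (hζ : IsClassFunction N ζ) : N ≤ inertiaSubgroup N ζ := by
  intro n hn
  rw [mem_inertiaSubgroup]
  exact conjFun_of_mem N hζ ⟨n, hn⟩

section Section2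

variable {G : Type u} [Group G] [Fintype G] (Z N : Subgroup G) [hZ : Z.Normal] [hN : N.Normal]
  [Fintype Z] [Fintype N] (hZN : Z ≤ N)
  {ψ : G → ℂ} (hψ : IsIrrCharacter G ψ) {θ : Z → ℂ} (hθ : IsIrrCharacter Z θ) (d : ℕ)
  (hres : (fun z : Z => ψ z) = (d : ℂ) • θ) (hd : d ^ 2 = Z.index)

include hZN hψ hθ hres hd

/-- if `ζ` has multiplicity one in `ψ_N` then its inertia group is `N` -/
theorem ramified_section_free {ζ : N → ℂ} (hζ : IsIrrCharacter N ζ)
    (he₀ : classInner (fun n : N => ψ n) ζ = 1) (g : G) (hg : Helper75.conjFun N g ζ = ζ) :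
    g ∈ N := by
  classical
  have hcon : classInner (fun n : N => ψ n) ζ ≠ 0 := by rw [he₀]; exact one_ne_zero
  have hover := ramified_over_of_constituent Z N hZN hψ hθ d hres hd hζ hcon
  let T : Subgroup G := inertiaSubgroup N ζ
  have : Fintype T := Fintype.ofFinite T
  have hT : ∀ g : G, g ∈ T ↔ Helper75.conjFun N g ζ = ζ := fun g => Iff.rfl
  have hNT : N ≤ T :=
    le_inertiaSubgroup N (IsCharacter.isClassFunction (IsIrrCharacter.isCharacter hζ))
  have h1 := classInner_indFun_self N T hζ hT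
  have h2 := classInner_eq_sum_mul_conj (indFun N ζ) (isClassFunction_indFun N ζ)
  have h3 : ∀ χ : IrrCharacter G, classInner (indFun N ζ) (χ : G → ℂ) =
      if χ = ⟨ψ, hψ⟩ then 1 else 0 := by
    intro χ
    rw [frobenius_reciprocity N ζ (isClassFunction_irr χ)]
    split_ifs with h
    · rw [h, ← classInner_conj_symm]
      show conj (classInner (fun n : N => ψ n) ζ) = 1
      rw [he₀, map_one]
    · by_contra hne
      apply h
      have h4 : classInner (fun n : N => (χ : G → ℂ) n) ζ ≠ 0 := by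
        intro h0
        apply hne
        rw [← classInner_conj_symm, h0, map_zero]
      have h5 : classInner ((fun n : N => (χ : G → ℂ) n) ∘ (Subgroup.inclusion hZN)) θ ≠ 0 :=
        classInner_comp_ne_zero_of_constituent (Subgroup.inclusion hZN)
          (isCharacter_res N (IsIrrCharacter.isCharacter χ.2)) hζ h4 hθ hover
      exact Subtype.ext (ramified_unique Z hψ hθ d hres hd χ.2 h5)
  rw [h2] at h1
  rw [Finset.sum_congr rfl (fun χ _ => by rw [h3 χ])] at h1
  have h6 : ∑ χ : IrrCharacter G, (if χ = ⟨ψ, hψ⟩ then (1 : ℂ) else 0) *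
      conj (if χ = ⟨ψ, hψ⟩ then (1 : ℂ) else 0) = 1 := by
    rw [Finset.sum_eq_single (⟨ψ, hψ⟩ : IrrCharacter G)]
    · simp
    · intro χ _ hne
      rw [if_neg hne, zero_mul]
    · intro h; exact absurd (Finset.mem_univ _) h
  rw [h6] at h1
  have hNne : (Nat.card N : ℂ) ≠ 0 := by
    have : 0 < Nat.card N := Nat.card_pos
    exact_mod_cast this.ne'
  have h7 : (Nat.card T : ℂ) = (Nat.card N : ℂ) := by
    field_simp at h1
    exact h1.symm
  have h8 : Nat.card T = Nat.card N := by exact_mod_cast h7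
  have h9 : N = T := Subgroup.eq_of_le_of_card_ge hNT h8.le
  rw [h9]
  exact (hT g).2 hg

end Section2

/-- over a cyclic quotient, restrictions of irreducible characters are multiplicity free -/
theorem classInner_res_eq_one_of_cyclic {G : Type u} [Group G] [Fintype G] (N : Subgroup G)
    [hN : N.Normal] [Fintype N] (hcyc : IsCyclic (G ⧸ N)) {ψ : G → ℂ} (hψ : IsIrrCharacter G ψ)
    {ζ : N → ℂ} (hζ : IsIrrCharacter N ζ) (hcon : classInner (fun n : N => ψ n) ζ ≠ 0) :
    classInner (fun n : N => ψ n) ζ = 1 := by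
  classical
  let T : Subgroup G := inertiaSubgroup N ζ
  have : Fintype T := Fintype.ofFinite T
  have hT : ∀ g : G, g ∈ T ↔ Helper75.conjFun N g ζ = ζ := fun g => Iff.rfl
  have hNT : N ≤ T :=
    le_inertiaSubgroup N (IsCharacter.isClassFunction (IsIrrCharacter.isCharacter hζ))
  obtain ⟨η, hη, -, hηres⟩ := exists_indFun_eq_of_over N T hNT hζ hT hψ hcon
  rw [← hηres]
  have : Fintype (N.subgroupOf T) := Fintype.ofFinite _
  have hζ' := isIrrCharacter_liftNT N T hNT hζ
  have hinv' : ∀ t : T, Helper75.conjFun (N.subgroupOf T) t (liftNT N T ζ) = liftNT N T ζ :=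
    conjFun_liftNT N T (fun g hg => (hT g).mp hg)
  have hcon' : classInner (fun m : N.subgroupOf T => η m) (liftNT N T ζ) ≠ 0 := by
    rw [res_eq_comp N T hNT, liftNT_eq_comp N T hNT, classInner_comp_equiv, hηres]
    exact hcon
  obtain ⟨e, he0, he1, he2⟩ := res_eq_smul_of_invariant (N.subgroupOf T) hη hζ' hcon' hinv'
  have heq : classInner (resNT N T hNT η) ζ = (e : ℂ) := by
    rw [← he1, res_eq_comp N T hNT, liftNT_eq_comp N T hNT, classInner_comp_equiv]
  rw [heq]
  -- cyclicity of `T / N`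
  have hcycT : IsCyclic (T ⧸ N.subgroupOf T) := by
    let f : T ⧸ N.subgroupOf T →* G ⧸ N :=
      QuotientGroup.map (N.subgroupOf T) N T.subtype (le_refl _)
    have hf : Function.Injective f := by
      rw [injective_iff_map_eq_one]
      intro q hq
      obtain ⟨t, rfl⟩ := QuotientGroup.mk_surjective q
      have h1 : f (t : T ⧸ N.subgroupOf T) = ((t : G) : G ⧸ N) := rfl
      rw [h1, QuotientGroup.eq_one_iff] at hq
      rw [QuotientGroup.eq_one_iff, Subgroup.mem_subgroupOf]
      exact hq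
    exact isCyclic_of_injective f hf
  obtain ⟨Λ, _, a, -, hsum, hnorm⟩ := cyclic_twist_decomp (N.subgroupOf T) hcycT (liftNT N T ζ) hζ'
    (fun g n => by
      have := congrFun (hinv' g) n
      rw [conjFun_apply] at this
      exact this) η (IsIrrCharacter.isCharacter hη) e (fun y => by
      have := congrFun he2 y
      simpa using this)
  rw [classInner_irr_self hη] at hnorm
  have hsq : ∑ i, a i ^ 2 = 1 := by exact_mod_cast hnorm.symm
  -- exactly one `a i` is one
  have hle : ∀ i, a i ≤ a i ^ 2 := by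
    intro i
    rcases Nat.eq_zero_or_pos (a i) with h | h
    · rw [h]; simp
    · calc a i = a i * 1 := (mul_one _).symm
        _ ≤ a i * a i := Nat.mul_le_mul_left _ h
        _ = a i ^ 2 := (pow_two _).symm
  have h1 : e ≤ 1 := by
    rw [← hsum, ← hsq]
    exact Finset.sum_le_sum (fun i _ => hle i)
  have h2 : e = 1 := le_antisymm h1 (Nat.pos_of_ne_zero he0)
  rw [h2, Nat.cast_one]

end Cfsg.Agent.Lib.Helper81
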