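import Mathlib
import Cfsg.Prelude.Def_Blocks
import Cfsg.Agent.Lib.Helper78.CharMore
import Cfsg.Agent.Lib.Helper74.FSReal

/-!
# Counting square roots via Frobenius–Schur indicators (helper81)

`sqrtCount g` is the number of `u` with `u * u = g`.  It is a class function, and
`sqrtCount g = ∑ χ, conj (ν χ) * χ g` with `ν χ = |G|⁻¹ ∑ s, χ (s * s)` the Frobenius–Schur
indicator (`sqrtCount_eq_sum`).  Consequence (`exists_real_irr_ne_zero_of_not_square`): at a
non-square `g` some non-principal real-valued irreducible character does not vanish.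
-/

set_option autoImplicit false
open Cfsg

namespace Cfsg.Agent.Lib.Helper81

open Representation
open scoped ComplexConjugate

variable {G : Type*} [Group G] [Fintype G]

/-- The number of square roots of `g`, as a complex number. -/
noncomputable def sqrtCount (g : G) : ℂ := (Nat.card {u : G // u * u = g} : ℂ)

/-- The Frobenius–Schur indicator of a function `χ : G → ℂ`. -/
noncomputable def fsIndicator (χ : G → ℂ) : ℂ := (Nat.card G : ℂ)⁻¹ * ∑ s : G, χ (s * s)

theorem sqrtCount_eq_sum [DecidableEq G] (g : G) :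
    sqrtCount g = ∑ u : G, if u * u = g then (1 : ℂ) else 0 := by
  unfold sqrtCount
  rw [Nat.card_eq_fintype_card, Fintype.card_subtype, Finset.sum_boole]

omit [Fintype G] in
theorem sqrtCount_isClassFunction : IsClassFunction G (sqrtCount (G := G)) := by
  intro g h
  unfold sqrtCount
  congr 1
  refine Nat.card_congr ?_
  refine ⟨fun p => ⟨h⁻¹ * p.1 * h, ?_⟩, fun p => ⟨h * p.1 * h⁻¹, ?_⟩, ?_, ?_⟩
  · have := p.2
    calc h⁻¹ * p.1 * h * (h⁻¹ * p.1 * h) = h⁻¹ * (p.1 * p.1) * h := by group
      _ = g := by rw [this]; group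
  · have := p.2
    calc h * p.1 * h⁻¹ * (h * p.1 * h⁻¹) = h * (p.1 * p.1) * h⁻¹ := by group
      _ = h * g * h⁻¹ := by rw [this]
  · intro p
    ext
    simp only
    group
  · intro p
    ext
    simp only
    group

theorem sum_sqrtCount_mul (c : G → ℂ) : ∑ g : G, sqrtCount g * c g = ∑ u : G, c (u * u) := by
  classical
  simp only [sqrtCount_eq_sum, Finset.sum_mul]
  rw [Finset.sum_comm]
  refine Finset.sum_congr rfl (fun u _ => ?_)
  simp

theorem classInner_sqrtCount (χ : G → ℂ) :
    classInner (sqrtCount (G := G)) χ = conj (fsIndicator χ) := by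
  unfold classInner fsIndicator
  rw [sum_sqrtCount_mul (fun g => conj (χ g))]
  simp only [map_mul, map_sum, map_inv₀, map_natCast]

/-- The number of square roots of `g` is `∑ χ, conj (ν χ) * χ g`. -/
theorem sqrtCount_eq_sum_irr (g : G) :
    sqrtCount g = ∑ χ : IrrCharacter G, conj (fsIndicator (χ : G → ℂ)) * (χ : G → ℂ) g := by
  have h := congrFun (Cfsg.Agent.Lib.Helper78.classFunction_eq_sum_irr
    (sqrtCount_isClassFunction (G := G))) g
  rw [h]
  simp only [Finset.sum_apply, Pi.smul_apply, smul_eq_mul, classInner_sqrtCount]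

/-- An irreducible character with nonzero Frobenius–Schur indicator is real valued. -/
theorem real_of_fsIndicator_ne_zero (χ : IrrCharacter G) (h : fsIndicator (χ : G → ℂ) ≠ 0) :
    ∀ g : G, ((χ : G → ℂ) g).im = 0 := by
  obtain ⟨χ, n, ρ, hirr, rfl⟩ := χ
  have := hirr
  have hfs := (Cfsg.Agent.Lib.Helper74.frobenius_schur_indicator ρ).2
  by_contra hcon
  rw [not_forall] at hcon
  exact h (hfs.mpr hcon)

/-- The principal character as an element of `IrrCharacter G`. -/
noncomputable def irrOne (G : Type*) [Group G] : IrrCharacter G :=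
  ⟨fun _ => (1 : ℂ), Cfsg.Agent.Lib.Helper78.isIrrCharacter_one⟩

theorem fsIndicator_one : fsIndicator (fun _ : G => (1 : ℂ)) = 1 := by
  unfold fsIndicator
  simp only [Finset.sum_const, Finset.card_univ, nsmul_eq_mul, mul_one, Nat.card_eq_fintype_card]
  have : (Fintype.card G : ℂ) ≠ 0 := by exact_mod_cast Fintype.card_ne_zero
  field_simp

/-- At a non-square `g`, some non-principal real-valued irreducible character does not vanish. -/
theorem exists_real_irr_ne_zero_of_not_square (g : G) (hg : ¬ ∃ u : G, u * u = g) :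
    ∃ χ : IrrCharacter G, ¬ ((χ : G → ℂ) = fun _ => (1 : ℂ)) ∧
      (∀ s : G, ((χ : G → ℂ) s).im = 0) ∧ (χ : G → ℂ) g ≠ 0 := by
  classical
  have h0 : sqrtCount g = 0 := by
    unfold sqrtCount
    have : IsEmpty {u : G // u * u = g} := ⟨fun u => hg ⟨u.1, u.2⟩⟩
    simp
  rw [sqrtCount_eq_sum_irr g, ← Finset.add_sum_erase _ _ (Finset.mem_univ (irrOne G))] at h0
  have h1 : conj (fsIndicator ((irrOne G : IrrCharacter G) : G → ℂ)) *
      ((irrOne G : IrrCharacter G) : G → ℂ) g = 1 := by
    show conj (fsIndicator (fun _ : G => (1 : ℂ))) * (1 : ℂ) = 1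
    rw [fsIndicator_one]; simp
  rw [h1] at h0
  have hne : ∑ χ ∈ Finset.univ.erase (irrOne G),
      conj (fsIndicator (χ : G → ℂ)) * (χ : G → ℂ) g ≠ 0 := by
    intro hz
    rw [hz] at h0
    norm_num at h0
  obtain ⟨χ, hχmem, hχne⟩ := Finset.exists_ne_zero_of_sum_ne_zero hne
  refine ⟨χ, ?_, ?_, ?_⟩
  · intro heq
    have : χ = irrOne G := Subtype.ext heq
    exact (Finset.ne_of_mem_erase hχmem) this
  · apply real_of_fsIndicator_ne_zero
    intro hz
    rw [hz] at hχne
    simp at hχne
  · intro hz
    rw [hz] at hχne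
    simp at hχne

end Cfsg.Agent.Lib.Helper81
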