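import Mathlib
import Cfsg.Prelude.Def_Characters
import Cfsg.Prelude.Def_CharExt
import Cfsg.Agent.S0863
import Cfsg.Agent.S0865
import Cfsg.Agent.Lib.Helper15.DetChar
import Cfsg.Agent.Lib.Helper15.DetChar2
import Cfsg.Agent.Lib.Helper4.LinearExt
import Cfsg.Agent.Lib.Helper78.CharMore
import Cfsg.Agent.Lib.Helper79.Integrality

set_option autoImplicit false

namespace Cfsg.Agent.Lib.Helper81

open Cfsg

universe u

/-- An invariant irreducible character of a normal subgroup `K` with `(|K|, |G : K|) = 1` and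
`G ⧸ K` solvable extends to `G`. -/
theorem exists_irr_extension_of_coprime {G : Type u} [Group G] [Finite G] (K : Subgroup G)
    [hK : K.Normal] (hsolv : Group.IsSolvable (G ⧸ K)) (hcop : (Nat.card K).Coprime K.index)
    (ϑ : K → ℂ) (hϑ : IsIrrCharacter K ϑ)
    (hinv : ∀ (g : G) (n : K), ϑ ⟨g * n * g⁻¹, hK.conj_mem (n : G) n.2 g⟩ = ϑ n) :
    ∃ χ : G → ℂ, IsIrrCharacter G χ ∧ ∀ n : K, χ n = ϑ n := by
  classical
  have hϑc : IsCharacter K ϑ := Cfsg.Agent.Lib.Helper78.IsIrrCharacter.isCharacter hϑ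
  have hd : ϑ 1 = (charDegree ϑ : ℂ) :=
    Cfsg.Agent.Lib.Helper78.IsCharacter.apply_one_eq_charDegree hϑc
  have hdvd : charDegree ϑ ∣ Nat.card K :=
    Cfsg.Agent.Lib.Helper79.irr_charDegree_dvd_card (⟨ϑ, hϑ⟩ : IrrCharacter K)
  have hcop' : Nat.Coprime K.index (charDegree ϑ) :=
    (Nat.Coprime.coprime_dvd_left hdvd hcop).symm
  apply (Cfsg.Agent.S0863.result K hsolv ϑ hϑ hinv (charDegree ϑ) hd hcop').mpr
  obtain ⟨δ, hδ⟩ := Cfsg.Agent.Lib.Helper15.exists_detHom hϑc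
  have hlamfun : detChar ϑ = Cfsg.Agent.Lib.Helper4.homToFun K δ := funext hδ
  have hlam : IsCharacter K (detChar ϑ) ∧ detChar ϑ 1 = 1 := by
    rw [hlamfun]
    exact ⟨Cfsg.Agent.Lib.Helper4.isCharacter_homToFun δ, Cfsg.Agent.Lib.Helper4.homToFun_one δ⟩
  have hinvlam : ∀ (g : G) (n : K),
      detChar ϑ ⟨g * n * g⁻¹, hK.conj_mem (n : G) n.2 g⟩ = detChar ϑ n := by
    intro g n
    have h1 := Cfsg.Agent.Lib.Helper15.detChar_comp_hom (MulAut.conjNormal g : K ≃* K).toMonoidHom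
      hϑc n
    have h2 : (fun x : K => ϑ ((MulAut.conjNormal g : K ≃* K).toMonoidHom x)) = ϑ := by
      funext x
      have : (MulAut.conjNormal g : K ≃* K).toMonoidHom x =
          ⟨g * x * g⁻¹, hK.conj_mem (x : G) x.2 g⟩ := Subtype.ext (by simp)
      rw [this]
      exact hinv g x
    rw [h2] at h1
    have h3 : (MulAut.conjNormal g : K ≃* K).toMonoidHom n =
        ⟨g * n * g⁻¹, hK.conj_mem (n : G) n.2 g⟩ := Subtype.ext (by simp)
    rw [h3] at h1
    exact h1.symm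
  have hord : orderOf (detChar ϑ) ∣ Nat.card K := by
    rw [hlamfun, Cfsg.Agent.Lib.Helper4.orderOf_homToFun]
    apply orderOf_dvd_of_pow_eq_one
    ext k
    rw [MonoidHom.pow_apply, ← map_pow, pow_card_eq_one', map_one]
    rfl
  have hcoplam : Nat.Coprime K.index (orderOf (detChar ϑ)) :=
    (Nat.Coprime.coprime_dvd_left hord hcop).symm
  obtain ⟨μ, ⟨hμ1, hμ2, hμ3, -⟩, -⟩ :=
    Cfsg.Agent.S0865.result K (detChar ϑ) hlam hinvlam hcoplam
  exact ⟨μ, hμ1, hμ2, hμ3⟩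

end Cfsg.Agent.Lib.Helper81
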