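import Mathlib

/-!
# Sums of roots of unity fixed by all power maps are integers (helper81)

* `exists_int_of_sum_pow_invariant`: if `ζ i` are `n`-th roots of unity in `ℂ`, `m i ∈ ℤ`, and
  `∑ m i * ζ i ^ j = ∑ m i * ζ i` for all `j` coprime to `n`, then the sum is an integer.
  (Irreducibility of cyclotomic polynomials, via `IsGalois ℚ (CyclotomicField n ℚ)`.)
-/

set_option autoImplicit false

namespace Cfsg.Agent.Lib.Helper81

/-- A `ℤ`-combination of `n`-th roots of unity which is invariant under all the power maps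
`ζ ↦ ζ ^ j`, `j` coprime to `n`, is a rational integer. -/
theorem exists_int_of_sum_pow_invariant {ι : Type*} [Fintype ι] (n : ℕ) (hn : 0 < n)
    (m : ι → ℤ) (ζ : ι → ℂ) (hζ : ∀ i, ζ i ^ n = 1)
    (hinv : ∀ j : ℕ, j.Coprime n → ∑ i, (m i : ℂ) * ζ i ^ j = ∑ i, (m i : ℂ) * ζ i) :
    ∃ z : ℤ, ∑ i, (m i : ℂ) * ζ i = z := by
  classical
  have : NeZero n := ⟨hn.ne'⟩
  let K := CyclotomicField n ℚ
  have hcyc : IsCyclotomicExtension {n} ℚ K := CyclotomicField.isCyclotomicExtension n ℚ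
  have hgal : IsGalois ℚ K := IsCyclotomicExtension.isGalois {n} ℚ K
  have hfd : FiniteDimensional ℚ K := IsCyclotomicExtension.finiteDimensional {n} ℚ K
  let z0 : K := IsCyclotomicExtension.zeta n ℚ K
  have hz0 : IsPrimitiveRoot z0 n := IsCyclotomicExtension.zeta_spec n ℚ K
  let φ : K →ₐ[ℚ] ℂ := IsAlgClosed.lift
  have hφinj : Function.Injective φ := (φ : K →+* ℂ).injective
  have hω : IsPrimitiveRoot (φ z0) n := hz0.map_of_injective hφinj
  -- exponents
  have hex : ∀ i, ∃ t : ℕ, t < n ∧ (φ z0) ^ t = ζ i := fun i =>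
    hω.eq_pow_of_pow_eq_one (hζ i)
  choose t _ ht using hex
  let a : K := ∑ i, (m i : K) * z0 ^ t i
  have hφa : ∀ j : ℕ, φ (∑ i, (m i : K) * (z0 ^ j) ^ t i) = ∑ i, (m i : ℂ) * ζ i ^ j := by
    intro j
    rw [map_sum]
    apply Finset.sum_congr rfl
    intro i _
    rw [map_mul, map_intCast, map_pow, map_pow, ← ht i, ← pow_mul, ← pow_mul, mul_comm j]
  have hφa1 : φ a = ∑ i, (m i : ℂ) * ζ i := by
    have := hφa 1
    simpa [a] using this
  have hfix : ∀ f : Gal(K/ℚ), f a = a := by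
    intro f
    have hfz : IsPrimitiveRoot (f z0) n := hz0.map_of_injective f.injective
    obtain ⟨j, _, hj⟩ := hz0.eq_pow_of_pow_eq_one hfz.pow_eq_one
    have hjc : j.Coprime n := by
      rw [← hz0.pow_iff_coprime hn j, hj]
      exact hfz
    apply hφinj
    have h1 : f a = ∑ i, (m i : K) * (z0 ^ j) ^ t i := by
      simp only [a]
      rw [map_sum]
      apply Finset.sum_congr rfl
      intro i _
      rw [map_mul, map_intCast, map_pow, hj]
    rw [h1, hφa j, hφa1, hinv j hjc]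
  have hbot : a ∈ (⊥ : IntermediateField ℚ K) := (IsGalois.mem_bot_iff_fixed a).2 hfix
  rw [IntermediateField.mem_bot] at hbot
  obtain ⟨q, hq⟩ := hbot
  have hA : ∑ i, (m i : ℂ) * ζ i = (q : ℂ) := by
    rw [← hφa1, ← hq]
    simp
  -- integrality
  have hint : IsIntegral ℤ (∑ i, (m i : ℂ) * ζ i) := by
    apply IsIntegral.sum
    intro i _
    apply IsIntegral.mul
    · exact isIntegral_algebraMap (R := ℤ) (A := ℂ) (x := m i)
    · exact IsIntegral.of_pow hn (by rw [hζ i]; exact isIntegral_one)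
  rw [hA] at hint
  have hint' : IsIntegral ℤ (q : ℚ) := by
    have h2 : (q : ℂ) = algebraMap ℚ ℂ q := rfl
    rw [h2] at hint
    exact (isIntegral_algebraMap_iff (algebraMap ℚ ℂ).injective).1 hint
  obtain ⟨z, hz⟩ := IsIntegrallyClosed.algebraMap_eq_of_integral hint'
  refine ⟨z, ?_⟩
  rw [hA, ← hz]
  simp

end Cfsg.Agent.Lib.Helper81
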