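import Mathlib
import Cfsg.Prelude.Def_Characters
import Cfsg.Agent.Lib.Helper78.CharMore
import Cfsg.Agent.Lib.Helper81.IrrTwist
import Cfsg.Agent.Lib.Helper81.CoprimeLinAlg

/-!
# Characters and classes fixed by a coprime `p`-group action (helper81)

`P` acts on the finite group `K` through `act : P →* MulAut K`, `P` a `p`-group, `p ∤ |K|`.

* `autActElt`, `autActIrr`: the actions on elements and on `IrrCharacter K`.
* `InvIrr act`, `InvClass act`, `invTable act`: invariant irreducible characters, invariant
  classes and the corresponding part of the character table.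
* `invTable_row_relation`, `invTable_col_relation`: the orthogonality relations modulo `p`.
* `exists_inverses_invTable`: this part of the character table is invertible.
* `card_invIrr_eq_card_invClass`: `|Irr_P(K)| = |Cl_P(K)|` (Glauberman count for `p`-groups).
* `card_real_invariant_irr_eq_card_real_invariant_classes`: the same for real-valued invariant
  characters and real invariant classes.
* `exists_fixed_of_invariant_class`: an invariant class contains a fixed element.
-/

set_option autoImplicit false

namespace Cfsg.Agent.Lib.Helper81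

open Cfsg MulAction
open scoped ComplexConjugate

universe u v

section CoprimeChar

variable {K : Type u} [Group K] {P : Type v} [Group P] (act : P →* MulAut K)

/-- the action of `P` on the elements of `K` through `act : P →* MulAut K` -/
@[reducible] def autActElt : MulAction P K := MulAction.compHom K act

/-- the action of `P` on the irreducible characters of `K`: `(x • θ) k = θ (x⁻¹ • k)` -/
@[reducible] def autActIrr : MulAction P (IrrCharacter K) where
  smul x θ := ⟨fun k => (θ : K → ℂ) (act x⁻¹ k), isIrrCharacter_comp_mulEquiv θ.2 (act x⁻¹)⟩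
  one_smul θ := by
    apply Subtype.ext
    funext k
    show (θ : K → ℂ) (act 1⁻¹ k) = _
    simp
  mul_smul x y θ := by
    apply Subtype.ext
    funext k
    show (θ : K → ℂ) (act (x * y)⁻¹ k) = (θ : K → ℂ) (act y⁻¹ (act x⁻¹ k))
    rw [mul_inv_rev, map_mul]
    rfl

/-- the `P`-invariant irreducible characters of `K` -/
abbrev InvIrr : Type u := {θ : IrrCharacter K // ∀ (x : P) (k : K), (θ : K → ℂ) (act x k) = (θ : K → ℂ) k}

/-- the `P`-invariant conjugacy classes of `K` -/
abbrev InvClass : Type u :=
  {c : ConjClasses K // ∀ x : P, ConjClasses.map (act x).toMonoidHom c = c}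

/-- the `P`-fixed elements of `K` -/
abbrev FixElt : Type u := {k : K // ∀ x : P, act x k = k}

/-- an irreducible character as a function on conjugacy classes -/
noncomputable def irrOnClass (θ : IrrCharacter K) : ConjClasses K → ℂ :=
  Quotient.lift (θ : K → ℂ) (fun _ _ hab =>
    Cfsg.Agent.Lib.Helper78.IsClassFunction.eq_of_isConj
      (Cfsg.Agent.Lib.Helper78.isClassFunction_irr θ) hab)

@[simp] theorem irrOnClass_mk (θ : IrrCharacter K) (k : K) :
    irrOnClass θ (ConjClasses.mk k) = (θ : K → ℂ) k := rfl

theorem irrOnClass_eq_out (θ : IrrCharacter K) (c : ConjClasses K) :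
    irrOnClass θ c = (θ : K → ℂ) (Quotient.out c) := by
  conv_lhs => rw [← Quotient.out_eq c]
  rfl

/-- inversion on conjugacy classes -/
def invClass : ConjClasses K → ConjClasses K :=
  Quotient.map (fun k => k⁻¹) (fun _ _ hab => by
    obtain ⟨c, hc⟩ := isConj_iff.mp hab
    exact isConj_iff.mpr ⟨c, by rw [← hc]; group⟩)

@[simp] theorem invClass_mk (k : K) : invClass (ConjClasses.mk k) = ConjClasses.mk k⁻¹ := rfl

theorem invClass_invClass (c : ConjClasses K) : invClass (invClass c) = c := by
  induction c using Quotient.inductionOn with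
  | _ k => show ConjClasses.mk (k⁻¹)⁻¹ = ConjClasses.mk k; rw [inv_inv]

theorem map_invClass (f : K →* K) (c : ConjClasses K) :
    ConjClasses.map f (invClass c) = invClass (ConjClasses.map f c) := by
  induction c using Quotient.inductionOn with
  | _ k => show ConjClasses.mk (f k⁻¹) = ConjClasses.mk (f k)⁻¹; rw [map_inv]

/-- the character table restricted to invariant characters and invariant classes -/
noncomputable def invTable : Matrix (InvIrr act) (InvClass act) ℂ :=
  fun θ c => irrOnClass θ.1 c.1

/-- complex conjugation on invariant irreducible characters -/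
noncomputable def conjInvIrr : Equiv.Perm (InvIrr act) :=
  Function.Involutive.toPerm
    (fun θ => ⟨⟨fun k => conj ((θ.1 : K → ℂ) k), isIrrCharacter_conj θ.1.2⟩,
      fun x k => by show conj _ = conj _; rw [θ.2 x k]⟩)
    (fun θ => by
      apply Subtype.ext
      apply Subtype.ext
      funext k
      show conj (conj ((θ.1 : K → ℂ) k)) = _
      simp)

/-- inversion on invariant classes -/
def invInvClass : Equiv.Perm (InvClass act) :=
  Function.Involutive.toPerm
    (fun c => ⟨invClass c.1, fun x => by rw [map_invClass, c.2 x]⟩)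
    (fun c => Subtype.ext (invClass_invClass c.1))

theorem invTable_conj_inv [Finite K] (θ : InvIrr act) (c : InvClass act) :
    invTable act (conjInvIrr act θ) (invInvClass act c) = invTable act θ c := by
  obtain ⟨c, hc⟩ := c
  induction c using Quotient.inductionOn with
  | _ k =>
    show conj ((θ.1 : K → ℂ) k⁻¹) = (θ.1 : K → ℂ) k
    rw [Cfsg.Agent.Lib.Helper78.IsCharacter.inv
      (Cfsg.Agent.Lib.Helper78.IsIrrCharacter.isCharacter θ.1.2)]
    simp

/-- the class of a fixed element is an invariant class -/
def fixCls (k : FixElt act) : InvClass act :=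
  ⟨ConjClasses.mk k.1, fun x => by
    show ConjClasses.mk (act x k.1) = ConjClasses.mk k.1
    rw [k.2 x]⟩

/-- **Row relation mod `p`** for the invariant part of the character table. -/
theorem invTable_row_relation [Fintype K] [Fintype (InvClass act)] [DecidableEq (InvIrr act)]
    (p : ℕ) [Fact p.Prime] (hP : IsPGroup p P) :
    ∃ w : InvClass act → ℕ, ∀ θ θ' : InvIrr act, ∃ r : ℂ, IsIntegral ℤ r ∧
      ∑ c : InvClass act, invTable act θ c * ((w c : ℂ) * conj (invTable act θ' c)) =
        (if θ = θ' then (Nat.card K : ℂ) else 0) + (p : ℂ) * r := by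
  classical
  refine ⟨fun c => (Finset.univ.filter (fun k : FixElt act => fixCls act k = c)).card, ?_⟩
  intro θ θ'
  let _ : MulAction P K := autActElt act
  have hF : ∀ (x : P) (k : K), (fun k => (θ.1 : K → ℂ) k * conj ((θ'.1 : K → ℂ) k)) (x • k) =
      (fun k => (θ.1 : K → ℂ) k * conj ((θ'.1 : K → ℂ) k)) k := by
    intro x k
    show (θ.1 : K → ℂ) (act x k) * conj ((θ'.1 : K → ℂ) (act x k)) = _
    rw [θ.2 x k, θ'.2 x k]
  have hint : ∀ k : K, IsIntegral ℤ ((θ.1 : K → ℂ) k * conj ((θ'.1 : K → ℂ) k)) := by
    intro k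
    apply IsIntegral.mul
    · exact Cfsg.Agent.Lib.Helper78.IsCharacter.isIntegral
        (Cfsg.Agent.Lib.Helper78.IsIrrCharacter.isCharacter θ.1.2) k
    · exact Cfsg.Agent.Lib.Helper78.IsCharacter.isIntegral
        (isCharacter_conj (Cfsg.Agent.Lib.Helper78.IsIrrCharacter.isCharacter θ'.1.2)) k
  obtain ⟨r, hr, hsum⟩ := sum_eq_sum_fixedPoints_add p hP _ hF hint
  have htot : ∑ k : K, (θ.1 : K → ℂ) k * conj ((θ'.1 : K → ℂ) k) =
      if θ = θ' then (Nat.card K : ℂ) else 0 := by
    have h1 := Cfsg.Agent.Lib.Helper78.classInner_irr θ.1.2 θ'.1.2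
    unfold classInner at h1
    have hK0 : (Nat.card K : ℂ) ≠ 0 := by exact_mod_cast (Nat.card_pos (α := K)).ne'
    have h2 : ∑ k : K, (θ.1 : K → ℂ) k * conj ((θ'.1 : K → ℂ) k) =
        (Nat.card K : ℂ) * (if (θ.1 : K → ℂ) = (θ'.1 : K → ℂ) then 1 else 0) := by
      rw [← h1, ← mul_assoc, mul_inv_cancel₀ hK0, one_mul]
    rw [h2]
    by_cases h : θ = θ'
    · rw [if_pos h, if_pos (by rw [h]), mul_one]
    · rw [if_neg h, if_neg, mul_zero]
      intro h'
      exact h (Subtype.ext (Subtype.ext h'))
  refine ⟨-r, hr.neg, ?_⟩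
  rw [← htot, hsum]
  have hfix : ∑ k ∈ Finset.univ.filter (· ∈ fixedPoints P K),
      (θ.1 : K → ℂ) k * conj ((θ'.1 : K → ℂ) k) =
      ∑ c : InvClass act, invTable act θ c *
        (((Finset.univ.filter (fun k : FixElt act => fixCls act k = c)).card : ℂ) *
          conj (invTable act θ' c)) := by
    rw [Finset.sum_subtype (p := fun k : K => ∀ x : P, act x k = k)
      (Finset.univ.filter (· ∈ fixedPoints P K)) (by
        intro k
        simp only [Finset.mem_filter, Finset.mem_univ, true_and, mem_fixedPoints]
        rfl)]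
    rw [← Finset.sum_fiberwise Finset.univ (fixCls act)]
    apply Finset.sum_congr rfl
    intro c _
    have : ∀ k ∈ Finset.univ.filter (fun k : FixElt act => fixCls act k = c),
        (θ.1 : K → ℂ) k.1 * conj ((θ'.1 : K → ℂ) k.1) =
          invTable act θ c * conj (invTable act θ' c) := by
      intro k hk
      rw [← (Finset.mem_filter.mp hk).2]
      rfl
    rw [Finset.sum_congr rfl this, Finset.sum_const, nsmul_eq_mul]
    ring
  rw [hfix]
  ring

theorem irr_apply_act_out (χ : IrrCharacter K) (c : InvClass act) (x : P) :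
    (χ : K → ℂ) (act x (Quotient.out c.1)) = (χ : K → ℂ) (Quotient.out c.1) := by
  rw [← irrOnClass_eq_out, ← irrOnClass_mk]
  congr 1
  have h1 : ConjClasses.mk (act x (Quotient.out c.1)) =
      ConjClasses.map (act x).toMonoidHom (ConjClasses.mk (Quotient.out c.1)) := rfl
  have h2 : ConjClasses.mk (Quotient.out c.1) = c.1 := Quotient.out_eq c.1
  rw [h1, h2, c.2 x]

theorem mem_fixedPoints_autActIrr_iff (χ : IrrCharacter K) :
    (letI := autActIrr act; χ ∈ fixedPoints P (IrrCharacter K)) ↔
      ∀ (x : P) (k : K), (χ : K → ℂ) (act x k) = (χ : K → ℂ) k := by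
  let _ := autActIrr act
  rw [mem_fixedPoints]
  constructor
  · intro h x k
    have h1 := congrArg (fun θ : IrrCharacter K => (θ : K → ℂ) k) (h x⁻¹)
    have h2 : ((x⁻¹ • χ : IrrCharacter K) : K → ℂ) k = (χ : K → ℂ) (act x⁻¹⁻¹ k) := rfl
    simp only [h2, inv_inv] at h1
    exact h1
  · intro h x
    apply Subtype.ext
    funext k
    exact h x⁻¹ k

/-- **Column relation mod `p`** for the invariant part of the character table. -/
theorem invTable_col_relation [Fintype K] [Fintype (InvIrr act)] [DecidableEq (InvClass act)]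
    (p : ℕ) [Fact p.Prime] (hP : IsPGroup p P) (c c' : InvClass act) : ∃ r : ℂ, IsIntegral ℤ r ∧
      ∑ θ : InvIrr act, conj (invTable act θ c) * invTable act θ c' =
        (if c = c' then
          (Nat.card (Subgroup.centralizer ({Quotient.out c.1} : Set K)) : ℂ) else 0)
          + (p : ℂ) * r := by
  classical
  let _ : MulAction P (IrrCharacter K) := autActIrr act
  have hF : ∀ (x : P) (χ : IrrCharacter K),
      (fun χ : IrrCharacter K => (χ : K → ℂ) (Quotient.out c'.1) *
        conj ((χ : K → ℂ) (Quotient.out c.1))) (x • χ) =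
      (fun χ : IrrCharacter K => (χ : K → ℂ) (Quotient.out c'.1) *
        conj ((χ : K → ℂ) (Quotient.out c.1))) χ := by
    intro x χ
    show (χ : K → ℂ) (act x⁻¹ (Quotient.out c'.1)) *
      conj ((χ : K → ℂ) (act x⁻¹ (Quotient.out c.1))) = _
    rw [irr_apply_act_out, irr_apply_act_out]
  have hint : ∀ χ : IrrCharacter K, IsIntegral ℤ ((χ : K → ℂ) (Quotient.out c'.1) *
        conj ((χ : K → ℂ) (Quotient.out c.1))) := by
    intro χ
    apply IsIntegral.mul
    · exact Cfsg.Agent.Lib.Helper78.IsCharacter.isIntegral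
        (Cfsg.Agent.Lib.Helper78.IsIrrCharacter.isCharacter χ.2) _
    · exact Cfsg.Agent.Lib.Helper78.IsCharacter.isIntegral
        (isCharacter_conj (Cfsg.Agent.Lib.Helper78.IsIrrCharacter.isCharacter χ.2)) _
  obtain ⟨r, hr, hsum⟩ := sum_eq_sum_fixedPoints_add p hP _ hF hint
  have htot : ∑ χ : IrrCharacter K, (χ : K → ℂ) (Quotient.out c'.1) *
        conj ((χ : K → ℂ) (Quotient.out c.1)) =
      if c = c' then
        (Nat.card (Subgroup.centralizer ({Quotient.out c.1} : Set K)) : ℂ) else 0 := by
    by_cases h : c = c'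
    · subst h
      rw [if_pos rfl]
      exact Cfsg.Agent.Lib.Helper78.second_orthogonality_of_isConj (IsConj.refl _)
    · rw [if_neg h]
      apply Cfsg.Agent.Lib.Helper78.second_orthogonality_of_not_isConj
      intro hconj
      apply h
      apply Subtype.ext
      have h1 := ConjClasses.mk_eq_mk_iff_isConj.mpr hconj
      have h2 : ConjClasses.mk (Quotient.out c.1) = c.1 := Quotient.out_eq c.1
      have h3 : ConjClasses.mk (Quotient.out c'.1) = c'.1 := Quotient.out_eq c'.1
      rw [← h2, ← h3, h1]
  refine ⟨-r, hr.neg, ?_⟩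
  rw [← htot, hsum]
  have hfix : ∑ χ ∈ Finset.univ.filter (· ∈ fixedPoints P (IrrCharacter K)),
      (χ : K → ℂ) (Quotient.out c'.1) * conj ((χ : K → ℂ) (Quotient.out c.1)) =
      ∑ θ : InvIrr act, conj (invTable act θ c) * invTable act θ c' := by
    rw [Finset.sum_subtype (p := fun χ : IrrCharacter K =>
        ∀ (x : P) (k : K), (χ : K → ℂ) (act x k) = (χ : K → ℂ) k)
      (Finset.univ.filter (· ∈ fixedPoints P (IrrCharacter K))) (by
        intro χ
        simp only [Finset.mem_filter, Finset.mem_univ, true_and]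
        exact mem_fixedPoints_autActIrr_iff act χ)]
    apply Finset.sum_congr rfl
    intro θ _
    show _ = conj (irrOnClass θ.1 c.1) * irrOnClass θ.1 c'.1
    rw [irrOnClass_eq_out, irrOnClass_eq_out, mul_comm]
  rw [hfix]
  ring

/-- The invariant part of the character table has a right and a left inverse, when the
`p`-group `P` acts on the group `K` of order prime to `p`. -/
theorem exists_inverses_invTable [Finite K] [Fintype (InvIrr act)] [Fintype (InvClass act)]
    [DecidableEq (InvIrr act)] [DecidableEq (InvClass act)]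
    (p : ℕ) [Fact p.Prime] (hP : IsPGroup p P) (hK : ¬ p ∣ Nat.card K) :
    (∃ N₁ : Matrix (InvClass act) (InvIrr act) ℂ, invTable act * N₁ = 1) ∧
      (∃ N₂ : Matrix (InvClass act) (InvIrr act) ℂ, N₂ * invTable act = 1) := by
  have := Fintype.ofFinite K
  constructor
  · obtain ⟨w, hw⟩ := invTable_row_relation act p hP
    choose r hr hrel using hw
    apply exists_right_inverse_of_det_mul_ne_zero (invTable act)
      (Matrix.of (fun c θ' => (w c : ℂ) * conj (invTable act θ' c)))
    apply det_ne_zero_of_modEq_diagonal p _ (fun _ => Nat.card K) (fun _ => hK)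
      (fun θ θ' => r θ θ') (fun θ θ' => hr θ θ')
    intro θ θ'
    rw [Matrix.mul_apply]
    simp only [Matrix.of_apply]
    exact hrel θ θ'
  · choose r hr hrel using invTable_col_relation act p hP
    apply exists_left_inverse_of_det_mul_ne_zero (invTable act)
      (Matrix.of (fun c θ => conj (invTable act θ c)))
    apply det_ne_zero_of_modEq_diagonal p _
      (fun c => Nat.card (Subgroup.centralizer ({Quotient.out c.1} : Set K)))
      (fun c h => hK (dvd_trans h (Subgroup.card_subgroup_dvd_card _)))
      (fun c c' => r c c') (fun c c' => hr c c')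
    intro c c'
    rw [Matrix.mul_apply]
    simp only [Matrix.of_apply]
    exact hrel c c'

/-- **Glauberman count for `p`-groups**: a `p`-group acting on a group of order prime to `p`
fixes as many irreducible characters as conjugacy classes. -/
theorem card_invIrr_eq_card_invClass [Finite K] (p : ℕ) [Fact p.Prime] (hP : IsPGroup p P)
    (hK : ¬ p ∣ Nat.card K) : Nat.card (InvIrr act) = Nat.card (InvClass act) := by
  classical
  have := Fintype.ofFinite K
  have := Fintype.ofFinite (InvIrr act)
  have := Fintype.ofFinite (InvClass act)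
  obtain ⟨⟨N₁, h1⟩, ⟨N₂, h2⟩⟩ := exists_inverses_invTable act p hP hK
  have h := card_fixed_eq_of_intertwine (invTable act) N₁ N₂ h1 h2 1 1 (fun _ _ => rfl)
  have e1 : {a : InvIrr act // (1 : Equiv.Perm (InvIrr act)) a = a} ≃ InvIrr act :=
    Equiv.subtypeUnivEquiv (fun _ => rfl)
  have e2 : {a : InvClass act // (1 : Equiv.Perm (InvClass act)) a = a} ≃ InvClass act :=
    Equiv.subtypeUnivEquiv (fun _ => rfl)
  rw [Nat.card_congr e1, Nat.card_congr e2] at h
  exact h

/-- A `p`-group acting on a group of order prime to `p` fixes as many real-valued irreducible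
characters as real conjugacy classes (permutation form). -/
theorem card_fixed_conjInvIrr_eq [Finite K] (p : ℕ) [Fact p.Prime] (hP : IsPGroup p P)
    (hK : ¬ p ∣ Nat.card K) :
    Nat.card {θ : InvIrr act // conjInvIrr act θ = θ} =
      Nat.card {c : InvClass act // invInvClass act c = c} := by
  classical
  have := Fintype.ofFinite K
  have := Fintype.ofFinite (InvIrr act)
  have := Fintype.ofFinite (InvClass act)
  obtain ⟨⟨N₁, h1⟩, ⟨N₂, h2⟩⟩ := exists_inverses_invTable act p hP hK
  exact card_fixed_eq_of_intertwine (invTable act) N₁ N₂ h1 h2 (conjInvIrr act)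
    (invInvClass act) (invTable_conj_inv act)

theorem conjInvIrr_eq_self_iff (θ : InvIrr act) :
    conjInvIrr act θ = θ ↔ ∀ k : K, ((θ.1 : K → ℂ) k).im = 0 := by
  constructor
  · intro h k
    have h1 := congrArg (fun θ : InvIrr act => (θ.1 : K → ℂ) k) h
    exact Complex.conj_eq_iff_im.mp h1
  · intro h
    apply Subtype.ext
    apply Subtype.ext
    funext k
    exact Complex.conj_eq_iff_im.mpr (h k)

theorem invClass_eq_self_iff (c : ConjClasses K) :
    invClass c = c ↔ ∀ k : K, ConjClasses.mk k = c → IsConj k k⁻¹ := by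
  constructor
  · intro h k hk
    subst hk
    exact (ConjClasses.mk_eq_mk_iff_isConj.mp h).symm
  · intro h
    obtain ⟨k, rfl⟩ := ConjClasses.exists_rep c
    exact (ConjClasses.mk_eq_mk_iff_isConj.mpr (h k rfl)).symm

theorem map_eq_self_iff (c : ConjClasses K) :
    (∀ x : P, ConjClasses.map (act x).toMonoidHom c = c) ↔
      ∀ (x : P) (k : K), ConjClasses.mk k = c → ConjClasses.mk (act x k) = c := by
  constructor
  · intro h x k hk
    subst hk
    exact h x
  · intro h x
    obtain ⟨k, rfl⟩ := ConjClasses.exists_rep c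
    exact h x k rfl

/-- A `p`-group acting on a group of order prime to `p` fixes as many real-valued irreducible
characters as real conjugacy classes (explicit form). -/
theorem card_real_invariant_irr_eq_card_real_invariant_classes [Finite K] (p : ℕ)
    [Fact p.Prime] (hP : IsPGroup p P) (hK : ¬ p ∣ Nat.card K) :
    Nat.card {θ : IrrCharacter K // (∀ k : K, ((θ : K → ℂ) k).im = 0) ∧
        ∀ (x : P) (k : K), (θ : K → ℂ) (act x k) = (θ : K → ℂ) k} =
      Nat.card {c : ConjClasses K // (∀ k : K, ConjClasses.mk k = c → IsConj k k⁻¹) ∧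
        ∀ (x : P) (k : K), ConjClasses.mk k = c → ConjClasses.mk (act x k) = c} := by
  have e1 : {θ : InvIrr act // conjInvIrr act θ = θ} ≃
      {θ : IrrCharacter K // (∀ k : K, ((θ : K → ℂ) k).im = 0) ∧
        ∀ (x : P) (k : K), (θ : K → ℂ) (act x k) = (θ : K → ℂ) k} :=
    { toFun := fun a => ⟨a.1.1, (conjInvIrr_eq_self_iff act a.1).mp a.2, a.1.2⟩
      invFun := fun b => ⟨⟨b.1, b.2.2⟩, (conjInvIrr_eq_self_iff act ⟨b.1, b.2.2⟩).mpr b.2.1⟩
      left_inv := fun a => rfl
      right_inv := fun b => rfl }
  have e2 : {c : InvClass act // invInvClass act c = c} ≃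
      {c : ConjClasses K // (∀ k : K, ConjClasses.mk k = c → IsConj k k⁻¹) ∧
        ∀ (x : P) (k : K), ConjClasses.mk k = c → ConjClasses.mk (act x k) = c} :=
    { toFun := fun a => ⟨a.1.1, (invClass_eq_self_iff a.1.1).mp
        (congrArg Subtype.val a.2), (map_eq_self_iff act a.1.1).mp a.1.2⟩
      invFun := fun b => ⟨⟨b.1, (map_eq_self_iff act b.1).mpr b.2.2⟩,
        Subtype.ext ((invClass_eq_self_iff b.1).mpr b.2.1)⟩
      left_inv := fun a => rfl
      right_inv := fun b => rfl }
  rw [← Nat.card_congr e1, ← Nat.card_congr e2]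
  exact card_fixed_conjInvIrr_eq act p hP hK

/-- A conjugacy class of `K` invariant under the `p`-group `P`, where `p ∤ |K|`, contains a
`P`-fixed element. -/
theorem exists_fixed_of_invariant_class [Finite K] (p : ℕ) [Fact p.Prime] (hP : IsPGroup p P)
    (hK : ¬ p ∣ Nat.card K) (g : K) (hg : ∀ x : P, IsConj g (act x g)) :
    ∃ k : K, IsConj g k ∧ ∀ x : P, act x k = k := by
  classical
  have := Fintype.ofFinite K
  let _ : MulAction P K := autActElt act
  have hS : ∀ (x : P) (k : K), k ∈ {k : K | IsConj g k} → x • k ∈ {k : K | IsConj g k} := by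
    intro x k hk
    exact (hg x).trans ((act x).toMonoidHom.map_isConj hk)
  have h1 := card_invariant_modEq_card_fixed p hP {k : K | IsConj g k} hS
  have h2 : Nat.card {k : K | IsConj g k} = (Subgroup.centralizer ({g} : Set K)).index := by
    rw [← Cfsg.Agent.Lib.Helper78.card_isConj_eq_index g, Nat.card_eq_fintype_card,
      Fintype.card_subtype]
    rfl
  have h3 : ¬ p ∣ Nat.card {k : K | IsConj g k} := by
    rw [h2]
    intro h
    exact hK (dvd_trans h (Subgroup.index_dvd_card _))
  have h4 : Nat.card ({k : K | IsConj g k} ∩ fixedPoints P K : Set K) ≠ 0 := by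
    intro h0
    rw [h0] at h1
    exact h3 ((Nat.modEq_zero_iff_dvd).mp h1)
  have h5 : Nonempty ({k : K | IsConj g k} ∩ fixedPoints P K : Set K) := by
    by_contra hne
    rw [not_nonempty_iff] at hne
    exact h4 Nat.card_of_isEmpty
  obtain ⟨⟨k, hk1, hk2⟩⟩ := h5
  exact ⟨k, hk1, fun x => hk2 x⟩

end CoprimeChar

end Cfsg.Agent.Lib.Helper81
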