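import Mathlib
import Cfsg.Prelude.Def_Characters
import Cfsg.Agent.Lib.Helper78.CharMore
import Cfsg.Agent.Lib.Helper81.SchurClassSum
import Cfsg.Agent.Lib.Helper81.CoprimeChar

/-!
# Two character identities (helper81)

* `irr_mul_eq_sum_conj`: `|K| θ(x) θ(y) = θ(1) ∑ₖ θ(x · k y k⁻¹)`.
* `sum_conj_irr_mul_irr_mul`: generalised orthogonality
  `∑ₓ conj γ(x) β(x y) = δ_{γβ} |K| β(y) / β(1)`.
-/

set_option autoImplicit false

namespace Cfsg.Agent.Lib.Helper81

open Cfsg MulAction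
open scoped ComplexConjugate

universe u v

section Identities

variable {K : Type u} [Group K] [Fintype K]

/-- Product formula for an irreducible character:
`|K| θ(x) θ(y) = θ(1) ∑ₖ θ(x · k y k⁻¹)`. -/
theorem irr_mul_eq_sum_conj (θ : IrrCharacter K) (x y : K) :
    (Nat.card K : ℂ) * (θ : K → ℂ) x * (θ : K → ℂ) y =
      (θ : K → ℂ) 1 * ∑ k : K, (θ : K → ℂ) (x * (k * y * k⁻¹)) := by
  obtain ⟨n, ρ, hirr, hχ⟩ := θ.2
  have := hirr
  rw [← hχ]
  have h1 := classSum_eq_smul ρ y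
  have hn := finrank_ne_zero_of_irreducible ρ
  have h2 : ∑ k : K, ρ.character (x * (k * y * k⁻¹)) =
      ((Fintype.card K : ℂ) * ρ.character y / (Module.finrank ℂ (Fin n → ℂ) : ℂ)) *
        ρ.character x := by
    have : ∀ k : K, ρ.character (x * (k * y * k⁻¹)) =
        LinearMap.trace ℂ _ (ρ x * ρ (k * y * k⁻¹)) := by
      intro k
      rw [← map_mul]
      rfl
    simp only [this]
    rw [← map_sum, ← Finset.mul_sum, h1, mul_smul_comm, map_smul, smul_eq_mul]
    congr 1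
  rw [h2, Representation.char_one, Nat.card_eq_fintype_card]
  field_simp

/-- Generalised orthogonality: `∑ₓ conj γ(x) β(x y) = δ_{γβ} |C| β(y) / β(1)`. -/
theorem sum_conj_irr_mul_irr_mul (γ β : IrrCharacter K) (y : K) :
    ∑ x : K, conj ((γ : K → ℂ) x) * (β : K → ℂ) (x * y) =
      if γ = β then (Nat.card K : ℂ) * (β : K → ℂ) y / (β : K → ℂ) 1 else 0 := by
  obtain ⟨n, ρ, hirr, hχ⟩ := β.2
  have hcf : IsClassFunction K (fun x => conj ((γ : K → ℂ) x)) :=
    Cfsg.Agent.Lib.Helper78.isClassFunction_conj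
      (Cfsg.Agent.Lib.Helper78.isClassFunction_irr γ)
  have h1 := Cfsg.Agent.Lib.Helper78.weightedSum_eq_smul_of_irreducible hcf ρ hirr
  have hn : (Module.finrank ℂ (Fin n → ℂ) : ℂ) ≠ 0 := by
    have := hirr
    exact finrank_ne_zero_of_irreducible ρ
  have hK0 : (Nat.card K : ℂ) ≠ 0 := by exact_mod_cast (Nat.card_pos (α := K)).ne'
  have h2 : ∑ x : K, conj ((γ : K → ℂ) x) * ρ.character x =
      if γ = β then (Nat.card K : ℂ) else 0 := by
    have h3 := Cfsg.Agent.Lib.Helper78.classInner_irr β.2 γ.2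
    unfold classInner at h3
    rw [hχ]
    have h4 : ∑ x : K, conj ((γ : K → ℂ) x) * (β : K → ℂ) x =
        (Nat.card K : ℂ) * (if (β : K → ℂ) = (γ : K → ℂ) then 1 else 0) := by
      rw [← h3, ← mul_assoc, mul_inv_cancel₀ hK0, one_mul]
      exact Finset.sum_congr rfl (fun x _ => mul_comm _ _)
    rw [h4]
    by_cases h : γ = β
    · rw [if_pos h, if_pos (by rw [h]), mul_one]
    · rw [if_neg h, if_neg, mul_zero]
      intro h'
      exact h (Subtype.ext h'.symm)
  have h5 : ∑ x : K, conj ((γ : K → ℂ) x) * (β : K → ℂ) (x * y) =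
      LinearMap.trace ℂ _ (Cfsg.Agent.Lib.Helper78.weightedSum
        (fun x => conj ((γ : K → ℂ) x)) ρ * ρ y) := by
    unfold Cfsg.Agent.Lib.Helper78.weightedSum
    rw [Finset.sum_mul, map_sum]
    apply Finset.sum_congr rfl
    intro x _
    rw [smul_mul_assoc, map_smul, smul_eq_mul, ← map_mul, ← hχ]
    rfl
  rw [h5, h1, h2, smul_mul_assoc, one_mul, map_smul, smul_eq_mul]
  have h6 : LinearMap.trace ℂ _ (ρ y) = (β : K → ℂ) y := by rw [← hχ]; rfl
  have h7 : (β : K → ℂ) 1 = (Module.finrank ℂ (Fin n → ℂ) : ℂ) := by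
    rw [← hχ, Representation.char_one]
  rw [h6, h7]
  by_cases h : γ = β
  · rw [if_pos h, if_pos h]; field_simp
  · rw [if_neg h, if_neg h]; simp

end Identities

end Cfsg.Agent.Lib.Helper81
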