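import Mathlib
import Cfsg.Prelude.Def_Characters
import Cfsg.Agent.Lib.Helper78.CharMore
import Cfsg.Agent.Lib.Helper81.SchurClassSum
import Cfsg.Agent.Lib.Helper81.CoprimeChar
import Cfsg.Agent.Lib.Helper81.GlaubermanId

set_option autoImplicit false

namespace Cfsg.Agent.Lib.Helper81

open Cfsg MulAction
open scoped ComplexConjugate

universe u v

section Glauberman

variable {K : Type u} [Group K] {P : Type v} [Group P] (act : P →* MulAut K)

/-- The subgroup of `P`-fixed elements of `K`. -/
def fixSub : Subgroup K where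
  carrier := {k | ∀ x : P, act x k = k}
  one_mem' := fun x => map_one _
  mul_mem' := fun {a b} ha hb x => by
    rw [map_mul, ha x, hb x]
  inv_mem' := fun {a} ha x => by
    rw [map_inv, ha x]

theorem mem_fixSub (k : K) : k ∈ fixSub act ↔ ∀ x : P, act x k = k := Iff.rfl

/-- `∑ θ(x) conj γ(x)` over the fixed subgroup in terms of the multiplicity. -/
theorem sum_conj_mul_eq_of_classInner [Fintype K] [Fintype (fixSub act)] (θ : K → ℂ)
    (γ : IrrCharacter (fixSub act)) (m : ℕ)
    (hm : classInner (fun c : fixSub act => θ c) (γ : fixSub act → ℂ) = m) :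
    ∑ x : fixSub act, conj ((γ : fixSub act → ℂ) x) * θ x = (Nat.card (fixSub act) : ℂ) * m := by
  have hC0 : (Nat.card (fixSub act) : ℂ) ≠ 0 := by
    exact_mod_cast (Nat.card_pos (α := fixSub act)).ne'
  rw [← hm]
  unfold classInner
  rw [← mul_assoc, mul_inv_cancel₀ hC0, one_mul]
  exact Finset.sum_congr rfl (fun x _ => mul_comm _ _)

/-- The sum over `K` of `θ(x · k y k⁻¹)` is congruent mod `p` to the sum over the fixed
subgroup, for fixed elements `x, y` and an invariant irreducible character `θ`. -/
theorem sum_conj_modEq_fix [Fintype K] [Fintype (fixSub act)] (p : ℕ) [Fact p.Prime]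
    (hP : IsPGroup p P) (θ : IrrCharacter K)
    (hθ : ∀ (x : P) (k : K), (θ : K → ℂ) (act x k) = (θ : K → ℂ) k) (x y : fixSub act) :
    ∃ r : ℂ, IsIntegral ℤ r ∧
      ∑ k : K, (θ : K → ℂ) ((x : K) * (k * y * k⁻¹)) =
        ∑ k : fixSub act, (θ : K → ℂ) ((x : K) * ((k : K) * y * (k : K)⁻¹)) + (p : ℂ) * r := by
  classical
  let _ : MulAction P K := autActElt act
  have hF : ∀ (u : P) (k : K),
      (fun k : K => (θ : K → ℂ) ((x : K) * (k * y * k⁻¹))) (u • k) =
      (fun k : K => (θ : K → ℂ) ((x : K) * (k * y * k⁻¹))) k := by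
    intro u k
    show (θ : K → ℂ) ((x : K) * (act u k * y * (act u k)⁻¹)) = _
    have h1 : (x : K) * (act u k * y * (act u k)⁻¹) = act u ((x : K) * (k * y * k⁻¹)) := by
      rw [map_mul, map_mul, map_mul, map_inv, x.2 u, y.2 u]
    rw [h1, hθ]
  have hint : ∀ k : K, IsIntegral ℤ ((θ : K → ℂ) ((x : K) * (k * y * k⁻¹))) := fun k =>
    Cfsg.Agent.Lib.Helper78.IsCharacter.isIntegral
      (Cfsg.Agent.Lib.Helper78.IsIrrCharacter.isCharacter θ.2) _
  obtain ⟨r, hr, hsum⟩ := sum_eq_sum_fixedPoints_add p hP _ hF hint
  refine ⟨r, hr, ?_⟩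
  rw [hsum]
  congr 1
  rw [Finset.sum_subtype (p := fun k : K => k ∈ fixSub act)
    (Finset.univ.filter (· ∈ fixedPoints P K)) (by
      intro k
      simp only [Finset.mem_filter, Finset.mem_univ, true_and, mem_fixedPoints]
      rfl)]

/-- `Q = ∑ₓ ∑_y conj γ(x) conj γ'(y) θ(x y) = 0` over the fixed subgroup for `γ ≠ γ'`. -/
theorem sum_sum_conj_conj_mul_eq_zero [Fintype K] [Fintype (fixSub act)] (θ : IrrCharacter K)
    (γ γ' : IrrCharacter (fixSub act)) (hne : γ ≠ γ') :
    ∑ x : fixSub act, ∑ y : fixSub act, conj ((γ : fixSub act → ℂ) x) *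
      conj ((γ' : fixSub act → ℂ) y) * (θ : K → ℂ) ((x : K) * (y : K)) = 0 := by
  classical
  have hres : IsCharacter (fixSub act) (fun c : fixSub act => (θ : K → ℂ) c) :=
    isCharacter_comp (Cfsg.Agent.Lib.Helper78.IsIrrCharacter.isCharacter θ.2) (fixSub act).subtype
  have hexp := Cfsg.Agent.Lib.Helper78.IsCharacter.eq_sum_irr hres
  have hval : ∀ x y : fixSub act, (θ : K → ℂ) ((x : K) * (y : K)) =
      ∑ β : IrrCharacter (fixSub act),
        classInner (fun c : fixSub act => (θ : K → ℂ) c) (β : fixSub act → ℂ) *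
          (β : fixSub act → ℂ) (x * y) := by
    intro x y
    have := congrFun hexp (x * y)
    simp only [Finset.sum_apply, Pi.smul_apply, smul_eq_mul] at this
    exact this
  simp only [hval]
  -- swap the sums so that `β` is outermost and `x` innermost
  have h1 : ∀ β : IrrCharacter (fixSub act), ∀ y : fixSub act,
      ∑ x : fixSub act, conj ((γ : fixSub act → ℂ) x) * (β : fixSub act → ℂ) (x * y) =
        if γ = β then (Nat.card (fixSub act) : ℂ) * (β : fixSub act → ℂ) y /
          (β : fixSub act → ℂ) 1 else 0 := fun β y => sum_conj_irr_mul_irr_mul γ β y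
  rw [Finset.sum_comm]
  calc ∑ y : fixSub act, ∑ x : fixSub act, conj ((γ : fixSub act → ℂ) x) *
        conj ((γ' : fixSub act → ℂ) y) * ∑ β : IrrCharacter (fixSub act),
          classInner (fun c : fixSub act => (θ : K → ℂ) c) (β : fixSub act → ℂ) *
            (β : fixSub act → ℂ) (x * y)
      = ∑ y : fixSub act, ∑ β : IrrCharacter (fixSub act),
          classInner (fun c : fixSub act => (θ : K → ℂ) c) (β : fixSub act → ℂ) *
            conj ((γ' : fixSub act → ℂ) y) *
            ∑ x : fixSub act, conj ((γ : fixSub act → ℂ) x) * (β : fixSub act → ℂ) (x * y) := by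
        apply Finset.sum_congr rfl
        intro y _
        simp only [Finset.mul_sum]
        rw [Finset.sum_comm]
        apply Finset.sum_congr rfl
        intro β _
        apply Finset.sum_congr rfl
        intro x _
        ring
    _ = ∑ y : fixSub act,
          classInner (fun c : fixSub act => (θ : K → ℂ) c) (γ : fixSub act → ℂ) *
            conj ((γ' : fixSub act → ℂ) y) *
            ((Nat.card (fixSub act) : ℂ) * (γ : fixSub act → ℂ) y /
              (γ : fixSub act → ℂ) 1) := by
        apply Finset.sum_congr rfl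
        intro y _
        simp only [h1]
        rw [Finset.sum_eq_single γ]
        · simp
        · intro β _ hβ
          simp [hβ.symm]
        · intro h; exact absurd (Finset.mem_univ _) h
    _ = classInner (fun c : fixSub act => (θ : K → ℂ) c) (γ : fixSub act → ℂ) *
          ((Nat.card (fixSub act) : ℂ) / (γ : fixSub act → ℂ) 1) *
          ∑ y : fixSub act, (γ : fixSub act → ℂ) y * conj ((γ' : fixSub act → ℂ) y) := by
        rw [Finset.mul_sum]
        apply Finset.sum_congr rfl
        intro y _
        ring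
    _ = 0 := by
        have h2 := Cfsg.Agent.Lib.Helper78.classInner_irr_ne γ.2 γ'.2
          (fun h => hne (Subtype.ext h))
        unfold classInner at h2
        have hC0 : (Nat.card (fixSub act) : ℂ) ≠ 0 := by
          exact_mod_cast (Nat.card_pos (α := fixSub act)).ne'
        have h3 : ∑ y : fixSub act, (γ : fixSub act → ℂ) y * conj ((γ' : fixSub act → ℂ) y) = 0 := by
          rcases mul_eq_zero.mp h2 with h | h
          · exact absurd (inv_eq_zero.mp h) hC0
          · exact h
        rw [h3, mul_zero]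

end Glauberman

end Cfsg.Agent.Lib.Helper81
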