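import Mathlib
import Cfsg.Prelude.Def_Characters
import Cfsg.Agent.Lib.Helper78.CharMore
import Cfsg.Agent.Lib.Helper81.SchurClassSum
import Cfsg.Agent.Lib.Helper81.CoprimeChar
import Cfsg.Agent.Lib.Helper81.GlaubermanId
import Cfsg.Agent.Lib.Helper81.GlaubermanP
import Cfsg.Agent.Lib.Helper79.Integrality

set_option autoImplicit false

namespace Cfsg.Agent.Lib.Helper81

open Cfsg MulAction
open scoped ComplexConjugate

universe u v

section Glauberman

variable {K : Type u} [Group K] {P : Type v} [Group P] (act : P →* MulAut K)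

theorem card_fixSub_dvd [Finite K] : Nat.card (fixSub act) ∣ Nat.card K :=
  Subgroup.card_subgroup_dvd_card _

/-- Key congruence: for an invariant `θ` and distinct `γ ≠ γ'` in `Irr(C)`, `p ∣ m_γ m_γ'`. -/
theorem dvd_mul_of_ne [Fintype K] [Fintype (fixSub act)] (p : ℕ) [Fact p.Prime]
    (hP : IsPGroup p P) (hpK : ¬ p ∣ Nat.card K) (θ : IrrCharacter K)
    (hθ : ∀ (x : P) (k : K), (θ : K → ℂ) (act x k) = (θ : K → ℂ) k)
    (γ γ' : IrrCharacter (fixSub act)) (hne : γ ≠ γ') (m m' : ℕ)
    (hm : classInner (fun c : fixSub act => (θ : K → ℂ) c) (γ : fixSub act → ℂ) = m)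
    (hm' : classInner (fun c : fixSub act => (θ : K → ℂ) c) (γ' : fixSub act → ℂ) = m') :
    p ∣ m * m' := by
  classical
  have hp := (Fact.out : p.Prime)
  choose r hr hsum using fun x y : fixSub act => sum_conj_modEq_fix act p hP θ hθ x y
  have hS := sum_conj_mul_eq_of_classInner act (θ : K → ℂ) γ m hm
  have hS' := sum_conj_mul_eq_of_classInner act (θ : K → ℂ) γ' m' hm'
  -- integrality
  have hintγ : ∀ (β : IrrCharacter (fixSub act)) (x : fixSub act),
      IsIntegral ℤ (conj ((β : fixSub act → ℂ) x)) := by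
    intro β x
    have h1 : IsIntegral ℤ ((β : fixSub act → ℂ) x) :=
      Cfsg.Agent.Lib.Helper78.IsCharacter.isIntegral
        (Cfsg.Agent.Lib.Helper78.IsIrrCharacter.isCharacter β.2) _
    exact h1.map (starRingEnd ℂ).toIntAlgHom
  have hθ1 : IsIntegral ℤ ((θ : K → ℂ) 1) :=
    Cfsg.Agent.Lib.Helper78.IsCharacter.isIntegral
      (Cfsg.Agent.Lib.Helper78.IsIrrCharacter.isCharacter θ.2) _
  -- the reindexing for each `k`
  have hQ := sum_sum_conj_conj_mul_eq_zero act θ γ γ' hne
  have hk : ∀ k : fixSub act, ∑ x : fixSub act, ∑ y : fixSub act,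
      conj ((γ : fixSub act → ℂ) x) * conj ((γ' : fixSub act → ℂ) y) *
        (θ : K → ℂ) ((x : K) * ((k : K) * y * (k : K)⁻¹)) = 0 := by
    intro k
    rw [← hQ]
    apply Finset.sum_congr rfl
    intro x _
    have hcf : ∀ y : fixSub act, (γ' : fixSub act → ℂ) y = (γ' : fixSub act → ℂ) (k * y * k⁻¹) := by
      intro y
      exact ((Cfsg.Agent.Lib.Helper78.isClassFunction_irr γ') y k).symm
    rw [← Equiv.sum_comp (MulAut.conj k).toEquiv
      (fun y : fixSub act => conj ((γ : fixSub act → ℂ) x) * conj ((γ' : fixSub act → ℂ) y) *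
        (θ : K → ℂ) ((x : K) * (y : K)))]
    apply Finset.sum_congr rfl
    intro y _
    rw [hcf y]
    rfl
  -- main computation
  have hmain : ((Nat.card K * (Nat.card (fixSub act)) ^ 2 * (m * m') : ℕ) : ℂ) =
      (p : ℂ) * ((θ : K → ℂ) 1 * ∑ x : fixSub act, ∑ y : fixSub act,
        conj ((γ : fixSub act → ℂ) x) * conj ((γ' : fixSub act → ℂ) y) * r x y) := by
    have h1 : (Nat.card K : ℂ) * (∑ x : fixSub act, conj ((γ : fixSub act → ℂ) x) * (θ : K → ℂ) x) *
        (∑ y : fixSub act, conj ((γ' : fixSub act → ℂ) y) * (θ : K → ℂ) y) =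
        ∑ x : fixSub act, ∑ y : fixSub act, conj ((γ : fixSub act → ℂ) x) *
          conj ((γ' : fixSub act → ℂ) y) *
          ((Nat.card K : ℂ) * (θ : K → ℂ) x * (θ : K → ℂ) y) := by
      rw [mul_assoc, Finset.sum_mul_sum, Finset.mul_sum]
      apply Finset.sum_congr rfl
      intro x _
      rw [Finset.mul_sum]
      apply Finset.sum_congr rfl
      intro y _
      ring
    have h2 : ∑ x : fixSub act, ∑ y : fixSub act, conj ((γ : fixSub act → ℂ) x) *
          conj ((γ' : fixSub act → ℂ) y) *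
          ((Nat.card K : ℂ) * (θ : K → ℂ) x * (θ : K → ℂ) y) =
        (θ : K → ℂ) 1 * (∑ k : fixSub act, ∑ x : fixSub act, ∑ y : fixSub act,
          conj ((γ : fixSub act → ℂ) x) * conj ((γ' : fixSub act → ℂ) y) *
            (θ : K → ℂ) ((x : K) * ((k : K) * y * (k : K)⁻¹))) +
        (p : ℂ) * ((θ : K → ℂ) 1 * ∑ x : fixSub act, ∑ y : fixSub act,
          conj ((γ : fixSub act → ℂ) x) * conj ((γ' : fixSub act → ℂ) y) * r x y) := by
      have h3 : ∀ x y : fixSub act, conj ((γ : fixSub act → ℂ) x) *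
          conj ((γ' : fixSub act → ℂ) y) *
          ((Nat.card K : ℂ) * (θ : K → ℂ) x * (θ : K → ℂ) y) =
          (θ : K → ℂ) 1 * (∑ k : fixSub act, conj ((γ : fixSub act → ℂ) x) *
            conj ((γ' : fixSub act → ℂ) y) *
            (θ : K → ℂ) ((x : K) * ((k : K) * y * (k : K)⁻¹))) +
          (p : ℂ) * ((θ : K → ℂ) 1 * (conj ((γ : fixSub act → ℂ) x) *
            conj ((γ' : fixSub act → ℂ) y) * r x y)) := by
        intro x y
        rw [irr_mul_eq_sum_conj θ (x : K) (y : K), hsum x y, ← Finset.mul_sum]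
        ring
      simp only [h3, Finset.sum_add_distrib]
      congr 1
      · simp only [Finset.mul_sum]
        calc ∑ x : fixSub act, ∑ y : fixSub act, ∑ k : fixSub act, (θ : K → ℂ) 1 *
              (conj ((γ : fixSub act → ℂ) x) * conj ((γ' : fixSub act → ℂ) y) *
                (θ : K → ℂ) ((x : K) * ((k : K) * y * (k : K)⁻¹)))
            = ∑ x : fixSub act, ∑ k : fixSub act, ∑ y : fixSub act, (θ : K → ℂ) 1 *
              (conj ((γ : fixSub act → ℂ) x) * conj ((γ' : fixSub act → ℂ) y) *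
                (θ : K → ℂ) ((x : K) * ((k : K) * y * (k : K)⁻¹))) :=
              Finset.sum_congr rfl (fun x _ => Finset.sum_comm)
          _ = _ := Finset.sum_comm
      · simp only [Finset.mul_sum]
    rw [h2] at h1
    simp only [hk, Finset.sum_const_zero, mul_zero, zero_add] at h1
    rw [← h1, hS, hS']
    push_cast
    ring
  have hR : IsIntegral ℤ ((θ : K → ℂ) 1 * ∑ x : fixSub act, ∑ y : fixSub act,
        conj ((γ : fixSub act → ℂ) x) * conj ((γ' : fixSub act → ℂ) y) * r x y) := by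
    refine hθ1.mul (IsIntegral.sum _ (fun x _ => IsIntegral.sum _ (fun y _ => ?_)))
    exact ((hintγ γ x).mul (hintγ γ' y)).mul (hr x y)
  have hdvd := dvd_of_eq_mul_isIntegral hp.ne_zero hR hmain
  have hpC : ¬ p ∣ Nat.card (fixSub act) := fun h => hpK (h.trans (card_fixSub_dvd act))
  rcases hp.dvd_mul.mp hdvd with h | h
  · rcases hp.dvd_mul.mp h with h | h
    · exact absurd h hpK
    · exact absurd (hp.dvd_of_dvd_pow h) hpC
  · exact h

/-- The Glauberman relation: `γ` appears in `θ|_C` with multiplicity prime to `p`. -/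
def GlaubRel [Fintype (fixSub act)] (p : ℕ) (θ : IrrCharacter K)
    (γ : IrrCharacter (fixSub act)) : Prop :=
  ∃ m : ℕ, classInner (fun c : fixSub act => (θ : K → ℂ) c) (γ : fixSub act → ℂ) = m ∧ ¬ p ∣ m

theorem isCharacter_res_fixSub (θ : IrrCharacter K) :
    IsCharacter (fixSub act) (fun c : fixSub act => (θ : K → ℂ) c) :=
  isCharacter_comp (Cfsg.Agent.Lib.Helper78.IsIrrCharacter.isCharacter θ.2) (fixSub act).subtype

/-- Existence and uniqueness of the Glauberman correspondent. -/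
theorem existsUnique_glaubRel [Fintype K] [Fintype (fixSub act)] (p : ℕ) [Fact p.Prime]
    (hP : IsPGroup p P) (hpK : ¬ p ∣ Nat.card K) (θ : IrrCharacter K)
    (hθ : ∀ (x : P) (k : K), (θ : K → ℂ) (act x k) = (θ : K → ℂ) k) :
    ∃! γ : IrrCharacter (fixSub act), GlaubRel act p θ γ := by
  classical
  have hp := (Fact.out : p.Prime)
  have hres := isCharacter_res_fixSub act θ
  choose m hm using fun γ : IrrCharacter (fixSub act) =>
    Cfsg.Agent.Lib.Helper78.IsCharacter.exists_nat_classInner hres γ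
  -- degree equation
  have hdeg : charDegree (θ : K → ℂ) =
      ∑ γ : IrrCharacter (fixSub act), m γ * charDegree (γ : fixSub act → ℂ) := by
    have h1 := congrFun (Cfsg.Agent.Lib.Helper78.IsCharacter.eq_sum_irr hres) 1
    simp only [Finset.sum_apply, Pi.smul_apply, smul_eq_mul, hm] at h1
    have h2 : (θ : K → ℂ) ((1 : fixSub act) : K) = (charDegree (θ : K → ℂ) : ℂ) := by
      rw [OneMemClass.coe_one]
      exact Cfsg.Agent.Lib.Helper78.IsCharacter.apply_one_eq_charDegree
        (Cfsg.Agent.Lib.Helper78.IsIrrCharacter.isCharacter θ.2)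
    rw [h2] at h1
    have h3 : ∀ γ : IrrCharacter (fixSub act), (γ : fixSub act → ℂ) 1 =
        (charDegree (γ : fixSub act → ℂ) : ℂ) := fun γ =>
      Cfsg.Agent.Lib.Helper78.IsCharacter.apply_one_eq_charDegree
        (Cfsg.Agent.Lib.Helper78.IsIrrCharacter.isCharacter γ.2)
    simp only [h3] at h1
    exact_mod_cast h1
  have hndvd : ¬ p ∣ charDegree (θ : K → ℂ) := fun h =>
    hpK (h.trans (Cfsg.Agent.Lib.Helper79.irr_charDegree_dvd_card θ))
  have hex : ∃ γ : IrrCharacter (fixSub act), ¬ p ∣ m γ := by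
    by_contra hcon
    push Not at hcon
    apply hndvd
    rw [hdeg]
    exact Finset.dvd_sum (fun γ _ => (hcon γ).mul_right _)
  obtain ⟨γ, hγ⟩ := hex
  refine ⟨γ, ⟨m γ, hm γ, hγ⟩, ?_⟩
  rintro γ' ⟨m', hm', hγ'⟩
  by_contra hne
  have := dvd_mul_of_ne act p hP hpK θ hθ γ' γ hne m' (m γ) hm' (hm γ)
  rcases hp.dvd_mul.mp this with h | h
  · exact hγ' h
  · exact hγ h

/-- Injectivity of the Glauberman correspondence. -/
theorem glaubRel_injective [Fintype K] [Fintype (fixSub act)] (p : ℕ) [Fact p.Prime]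
    (hP : IsPGroup p P) (hpK : ¬ p ∣ Nat.card K) (θ θ' : IrrCharacter K)
    (hθ : ∀ (x : P) (k : K), (θ : K → ℂ) (act x k) = (θ : K → ℂ) k)
    (hθ' : ∀ (x : P) (k : K), (θ' : K → ℂ) (act x k) = (θ' : K → ℂ) k)
    (γ : IrrCharacter (fixSub act)) (h : GlaubRel act p θ γ) (h' : GlaubRel act p θ' γ) :
    θ = θ' := by
  classical
  have hp := (Fact.out : p.Prime)
  by_contra hne
  have hres := isCharacter_res_fixSub act θ
  have hres' := isCharacter_res_fixSub act θ'
  choose m hm using fun γ : IrrCharacter (fixSub act) =>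
    Cfsg.Agent.Lib.Helper78.IsCharacter.exists_nat_classInner hres γ
  choose m' hm' using fun γ : IrrCharacter (fixSub act) =>
    Cfsg.Agent.Lib.Helper78.IsCharacter.exists_nat_classInner hres' γ
  obtain ⟨m₀, hm₀, hγ⟩ := h
  obtain ⟨m₀', hm₀', hγ'⟩ := h'
  have e1 : m γ = m₀ := by exact_mod_cast (hm γ).symm.trans hm₀
  have e1' : m' γ = m₀' := by exact_mod_cast (hm' γ).symm.trans hm₀'
  -- p-group orbit sum
  let _ : MulAction P K := autActElt act
  have hF : ∀ (u : P) (k : K),
      (fun k : K => (θ : K → ℂ) k * conj ((θ' : K → ℂ) k)) (u • k) =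
      (fun k : K => (θ : K → ℂ) k * conj ((θ' : K → ℂ) k)) k := by
    intro u k
    show (θ : K → ℂ) (act u k) * conj ((θ' : K → ℂ) (act u k)) = _
    rw [hθ, hθ']
  have hint : ∀ k : K, IsIntegral ℤ ((θ : K → ℂ) k * conj ((θ' : K → ℂ) k)) := by
    intro k
    have h1 : IsIntegral ℤ ((θ : K → ℂ) k) :=
      Cfsg.Agent.Lib.Helper78.IsCharacter.isIntegral
        (Cfsg.Agent.Lib.Helper78.IsIrrCharacter.isCharacter θ.2) _
    have h2 : IsIntegral ℤ ((θ' : K → ℂ) k) :=
      Cfsg.Agent.Lib.Helper78.IsCharacter.isIntegral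
        (Cfsg.Agent.Lib.Helper78.IsIrrCharacter.isCharacter θ'.2) _
    exact h1.mul (h2.map (starRingEnd ℂ).toIntAlgHom)
  obtain ⟨r, hr, hsum⟩ := sum_eq_sum_fixedPoints_add p hP _ hF hint
  have hzero : ∑ k : K, (θ : K → ℂ) k * conj ((θ' : K → ℂ) k) = 0 := by
    have h2 := Cfsg.Agent.Lib.Helper78.classInner_irr_ne θ.2 θ'.2
      (fun h => hne (Subtype.ext h))
    unfold classInner at h2
    have hK0 : (Nat.card K : ℂ) ≠ 0 := by
      exact_mod_cast (Nat.card_pos (α := K)).ne'
    rcases mul_eq_zero.mp h2 with h | h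
    · exact absurd (inv_eq_zero.mp h) hK0
    · exact h
  have hfix : ∑ k ∈ Finset.univ.filter (· ∈ fixedPoints P K),
      (θ : K → ℂ) k * conj ((θ' : K → ℂ) k) =
      ∑ c : fixSub act, (θ : K → ℂ) c * conj ((θ' : K → ℂ) c) := by
    rw [Finset.sum_subtype (p := fun k : K => k ∈ fixSub act)
      (Finset.univ.filter (· ∈ fixedPoints P K)) (by
        intro k
        simp only [Finset.mem_filter, Finset.mem_univ, true_and, mem_fixedPoints]
        rfl)]
  -- Parseval on `C`
  have hpars : ∑ c : fixSub act, (θ : K → ℂ) c * conj ((θ' : K → ℂ) c) =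
      (Nat.card (fixSub act) : ℂ) * ∑ β : IrrCharacter (fixSub act), ((m β * m' β : ℕ) : ℂ) := by
    have h1 := Cfsg.Agent.Lib.Helper78.classInner_eq_sum_mul_conj
      (fun c : fixSub act => (θ' : K → ℂ) c)
      (Cfsg.Agent.Lib.Helper78.IsCharacter.isClassFunction hres)
    have hC0 : (Nat.card (fixSub act) : ℂ) ≠ 0 := by
      exact_mod_cast (Nat.card_pos (α := fixSub act)).ne'
    simp only [hm, hm', Complex.conj_natCast] at h1
    have h2 : ∑ β : IrrCharacter (fixSub act), ((m β * m' β : ℕ) : ℂ) =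
        ∑ β : IrrCharacter (fixSub act), (m β : ℂ) * (m' β : ℂ) := by
      push_cast; rfl
    rw [h2, ← h1]
    unfold classInner
    rw [← mul_assoc, mul_inv_cancel₀ hC0, one_mul]
  rw [hzero, hfix, hpars] at hsum
  -- now `0 = |C| Σ m m' + p r`
  have hmain : ((Nat.card (fixSub act) * ∑ β : IrrCharacter (fixSub act), m β * m' β : ℕ) : ℂ) =
      (p : ℂ) * (-r) := by
    push_cast
    have := hsum
    push_cast at this
    linear_combination -this
  have hdvd := dvd_of_eq_mul_isIntegral hp.ne_zero hr.neg hmain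
  have hpC : ¬ p ∣ Nat.card (fixSub act) := fun h => hpK (h.trans (card_fixSub_dvd act))
  have hdvd2 : p ∣ ∑ β : IrrCharacter (fixSub act), m β * m' β := by
    rcases hp.dvd_mul.mp hdvd with h | h
    · exact absurd h hpC
    · exact h
  -- all terms except `γ` are divisible by `p`
  have hother : ∀ β : IrrCharacter (fixSub act), β ≠ γ → p ∣ m β * m' β := by
    intro β hβ
    have := dvd_mul_of_ne act p hP hpK θ hθ β γ hβ (m β) (m γ) (hm β) (hm γ)
    rcases hp.dvd_mul.mp this with h | h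
    · exact h.mul_right _
    · exact absurd (e1 ▸ h) hγ
  have hsplit : ∑ β : IrrCharacter (fixSub act), m β * m' β =
      m γ * m' γ + ∑ β ∈ Finset.univ.erase γ, m β * m' β := by
    exact (Finset.add_sum_erase Finset.univ (fun β => m β * m' β) (Finset.mem_univ γ)).symm
  have hrest : p ∣ ∑ β ∈ Finset.univ.erase γ, m β * m' β :=
    Finset.dvd_sum (fun β hβ => hother β (Finset.ne_of_mem_erase hβ))
  rw [hsplit] at hdvd2
  have hγγ : p ∣ m γ * m' γ := (Nat.dvd_add_left hrest).mp hdvd2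
  rcases hp.dvd_mul.mp hγγ with h | h
  · exact hγ (e1 ▸ h)
  · exact hγ' (e1' ▸ h)

end Glauberman

end Cfsg.Agent.Lib.Helper81
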