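import Mathlib
import Cfsg.Prelude.Def_Characters
import Cfsg.Agent.Lib.Helper78.CharMore
import Cfsg.Agent.Lib.Helper81.CoprimeChar
import Cfsg.Agent.Lib.Helper81.GlaubermanP
import Cfsg.Agent.Lib.Helper81.GlaubermanRel

set_option autoImplicit false

namespace Cfsg.Agent.Lib.Helper81

open Cfsg MulAction
open scoped ComplexConjugate

universe u v

/-- An integer `a` with `a / p` an algebraic integer is divisible by `p`. -/
theorem int_dvd_of_eq_mul_isIntegral {a : ℤ} {p : ℕ} (hp : p ≠ 0) {r : ℂ} (hr : IsIntegral ℤ r)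
    (h : (a : ℂ) = (p : ℂ) * r) : (p : ℤ) ∣ a := by
  have hpc : (p : ℂ) ≠ 0 := by exact_mod_cast hp
  have hr' : r = algebraMap ℚ ℂ ((a : ℚ) / (p : ℚ)) := by
    have : r = (a : ℂ) / (p : ℂ) := by rw [h]; field_simp
    rw [this]; simp
  rw [hr'] at hr
  have h2 : IsIntegral ℤ ((a : ℚ) / (p : ℚ)) :=
    (isIntegral_algebraMap_iff (algebraMap ℚ ℂ).injective).mp hr
  obtain ⟨z, hz⟩ := IsIntegrallyClosed.isIntegral_iff.mp h2
  have hbq : (p : ℚ) ≠ 0 := by exact_mod_cast hp
  have h3 : (a : ℚ) = (p : ℚ) * z := by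
    field_simp at hz
    simp at hz
    linarith
  have h4 : a = (p : ℤ) * z := by exact_mod_cast h3
  exact ⟨z, h4⟩

section Sign

variable {K : Type u} [Group K] {P : Type v} [Group P] (act : P →* MulAut K)

/-- `|K| ≡ |C_K(P)| (mod p)`. -/
theorem card_modEq_card_fixSub [Finite K] (p : ℕ) [Fact p.Prime] (hP : IsPGroup p P) :
    Nat.card K ≡ Nat.card (fixSub act) [MOD p] := by
  let _ : MulAction P K := autActElt act
  have h := hP.card_modEq_card_fixedPoints K
  have e : fixedPoints P K ≃ fixSub act :=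
    { toFun := fun a => ⟨a.1, fun x => a.2 x⟩
      invFun := fun b => ⟨b.1, fun x => b.2 x⟩
      left_inv := fun a => rfl
      right_inv := fun b => rfl }
  rw [Nat.card_congr e] at h
  exact h

/-- The multiplicity of the Glauberman correspondent is `≡ ±1 (mod p)`. -/
theorem glaubRel_modEq_one_or_neg_one [Fintype K] [Fintype (fixSub act)] (p : ℕ) [Fact p.Prime]
    (hP : IsPGroup p P) (hpK : ¬ p ∣ Nat.card K) (θ : IrrCharacter K)
    (hθ : ∀ (x : P) (k : K), (θ : K → ℂ) (act x k) = (θ : K → ℂ) k)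
    (γ : IrrCharacter (fixSub act)) (m₀ : ℕ)
    (hm₀ : classInner (fun c : fixSub act => (θ : K → ℂ) c) (γ : fixSub act → ℂ) = m₀)
    (hγ : ¬ p ∣ m₀) :
    (m₀ : ℤ) ≡ 1 [ZMOD p] ∨ (m₀ : ℤ) ≡ -1 [ZMOD p] := by
  classical
  have hp := (Fact.out : p.Prime)
  have hres := isCharacter_res_fixSub act θ
  choose m hm using fun γ : IrrCharacter (fixSub act) =>
    Cfsg.Agent.Lib.Helper78.IsCharacter.exists_nat_classInner hres γ
  have e1 : m γ = m₀ := by exact_mod_cast (hm γ).symm.trans hm₀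
  -- p-group orbit sum
  let _ : MulAction P K := autActElt act
  have hF : ∀ (u : P) (k : K),
      (fun k : K => (θ : K → ℂ) k * conj ((θ : K → ℂ) k)) (u • k) =
      (fun k : K => (θ : K → ℂ) k * conj ((θ : K → ℂ) k)) k := by
    intro u k
    show (θ : K → ℂ) (act u k) * conj ((θ : K → ℂ) (act u k)) = _
    rw [hθ]
  have hint : ∀ k : K, IsIntegral ℤ ((θ : K → ℂ) k * conj ((θ : K → ℂ) k)) := by
    intro k
    have h1 : IsIntegral ℤ ((θ : K → ℂ) k) :=
      Cfsg.Agent.Lib.Helper78.IsCharacter.isIntegral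
        (Cfsg.Agent.Lib.Helper78.IsIrrCharacter.isCharacter θ.2) _
    exact h1.mul (h1.map (starRingEnd ℂ).toIntAlgHom)
  obtain ⟨r, hr, hsum⟩ := sum_eq_sum_fixedPoints_add p hP _ hF hint
  have hK0 : (Nat.card K : ℂ) ≠ 0 := by
    exact_mod_cast (Nat.card_pos (α := K)).ne'
  have hone : ∑ k : K, (θ : K → ℂ) k * conj ((θ : K → ℂ) k) = (Nat.card K : ℂ) := by
    have h2 := Cfsg.Agent.Lib.Helper78.classInner_irr_self θ.2
    unfold classInner at h2
    rw [← mul_one (Nat.card K : ℂ), ← h2, ← mul_assoc, mul_inv_cancel₀ hK0, one_mul]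
  have hfix : ∑ k ∈ Finset.univ.filter (· ∈ fixedPoints P K),
      (θ : K → ℂ) k * conj ((θ : K → ℂ) k) =
      ∑ c : fixSub act, (θ : K → ℂ) c * conj ((θ : K → ℂ) c) := by
    rw [Finset.sum_subtype (p := fun k : K => k ∈ fixSub act)
      (Finset.univ.filter (· ∈ fixedPoints P K)) (by
        intro k
        simp only [Finset.mem_filter, Finset.mem_univ, true_and, mem_fixedPoints]
        rfl)]
  have hpars : ∑ c : fixSub act, (θ : K → ℂ) c * conj ((θ : K → ℂ) c) =
      (Nat.card (fixSub act) : ℂ) * ∑ β : IrrCharacter (fixSub act), ((m β * m β : ℕ) : ℂ) := by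
    have h1 := Cfsg.Agent.Lib.Helper78.classInner_eq_sum_mul_conj
      (fun c : fixSub act => (θ : K → ℂ) c)
      (Cfsg.Agent.Lib.Helper78.IsCharacter.isClassFunction hres)
    have hC0 : (Nat.card (fixSub act) : ℂ) ≠ 0 := by
      exact_mod_cast (Nat.card_pos (α := fixSub act)).ne'
    simp only [hm, Complex.conj_natCast] at h1
    have h2 : ∑ β : IrrCharacter (fixSub act), ((m β * m β : ℕ) : ℂ) =
        ∑ β : IrrCharacter (fixSub act), (m β : ℂ) * (m β : ℂ) := by
      push_cast; rfl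
    rw [h2, ← h1]
    unfold classInner
    rw [← mul_assoc, mul_inv_cancel₀ hC0, one_mul]
  rw [hone, hfix, hpars] at hsum
  -- `|K| = |C| + p t`
  have hKC := card_modEq_card_fixSub act p hP
  have hKC' : ((Nat.card K : ℤ)) ≡ (Nat.card (fixSub act) : ℤ) [ZMOD p] :=
    Int.natCast_modEq_iff.mpr hKC
  obtain ⟨t, ht⟩ := hKC'.symm.dvd
  -- combine
  have hmain : (((Nat.card (fixSub act) : ℤ) *
      ((∑ β : IrrCharacter (fixSub act), m β * m β : ℕ) - 1) : ℤ) : ℂ) =
      (p : ℂ) * ((t : ℂ) - r) := by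
    have ht' : ((Nat.card K : ℤ) : ℂ) - ((Nat.card (fixSub act) : ℤ) : ℂ) = (p : ℂ) * (t : ℂ) := by
      have := congrArg (fun z : ℤ => (z : ℂ)) ht
      simp only [Int.cast_sub, Int.cast_mul, Int.cast_natCast] at this
      simpa using this
    push_cast at ht' hsum ⊢
    linear_combination ht' - hsum
  have hint2 : IsIntegral ℤ ((t : ℂ) - r) := by
    refine IsIntegral.sub ?_ hr
    exact isIntegral_algebraMap (R := ℤ) (A := ℂ) (x := t)
  have hdvd := int_dvd_of_eq_mul_isIntegral hp.ne_zero hint2 hmain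
  have hpC : ¬ (p : ℤ) ∣ (Nat.card (fixSub act) : ℤ) := by
    intro h
    exact hpK ((Int.natCast_dvd_natCast.mp h).trans (card_fixSub_dvd act))
  have hpi : Prime (p : ℤ) := Nat.prime_iff_prime_int.mp hp
  have hdvd2 : (p : ℤ) ∣ ((∑ β : IrrCharacter (fixSub act), m β * m β : ℕ) : ℤ) - 1 := by
    rcases hpi.dvd_or_dvd hdvd with h | h
    · exact absurd h hpC
    · exact h
  -- all other multiplicities are divisible by `p`
  have hother : ∀ β : IrrCharacter (fixSub act), β ≠ γ → p ∣ m β * m β := by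
    intro β hβ
    have := dvd_mul_of_ne act p hP hpK θ hθ β γ hβ (m β) (m γ) (hm β) (hm γ)
    rcases hp.dvd_mul.mp this with h | h
    · exact h.mul_right _
    · exact absurd (e1 ▸ h) hγ
  have hsplit : ∑ β : IrrCharacter (fixSub act), m β * m β =
      m γ * m γ + ∑ β ∈ Finset.univ.erase γ, m β * m β :=
    (Finset.add_sum_erase Finset.univ (fun β => m β * m β) (Finset.mem_univ γ)).symm
  have hrest : p ∣ ∑ β ∈ Finset.univ.erase γ, m β * m β :=
    Finset.dvd_sum (fun β hβ => hother β (Finset.ne_of_mem_erase hβ))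
  have hsq : (p : ℤ) ∣ ((m₀ : ℤ) - 1) * ((m₀ : ℤ) + 1) := by
    rw [hsplit, e1] at hdvd2
    obtain ⟨s, hs⟩ := hrest
    rw [hs] at hdvd2
    push_cast at hdvd2
    have : ((m₀ : ℤ) - 1) * ((m₀ : ℤ) + 1) =
        ((m₀ : ℤ) * (m₀ : ℤ) + (p : ℤ) * (s : ℤ) - 1) - (p : ℤ) * s := by ring
    rw [this]
    exact dvd_sub hdvd2 (dvd_mul_right _ _)
  rcases hpi.dvd_or_dvd hsq with h | h
  · left
    apply Int.ModEq.symm
    exact Int.modEq_iff_dvd.mpr h
  · right
    apply Int.ModEq.symm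
    apply Int.modEq_iff_dvd.mpr
    simpa using h

end Sign

end Cfsg.Agent.Lib.Helper81
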