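import Mathlib
import Cfsg.Prelude.Def_Characters
import Cfsg.Agent.Lib.Helper81.CoprimeChar
import Cfsg.Agent.Lib.Helper81.GlaubermanP

set_option autoImplicit false

namespace Cfsg.Agent.Lib.Helper81

open Cfsg MulAction

universe u v

section GlaubermanClass

variable {K : Type u} [Group K] {P : Type v} [Group P] (act : P →* MulAut K)

/-- The map from classes of the fixed subgroup to classes of `K`. -/
def fixClassMap : ConjClasses (fixSub act) → ConjClasses K :=
  ConjClasses.map (fixSub act).subtype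

@[simp] theorem fixClassMap_mk (c : fixSub act) :
    fixClassMap act (ConjClasses.mk c) = ConjClasses.mk (c : K) := rfl

theorem map_fixClassMap (x : P) (d : ConjClasses (fixSub act)) :
    ConjClasses.map (act x).toMonoidHom (fixClassMap act d) = fixClassMap act d := by
  obtain ⟨c, rfl⟩ := ConjClasses.mk_surjective d
  show ConjClasses.mk (act x (c : K)) = ConjClasses.mk (c : K)
  rw [c.2 x]

theorem exists_fixClassMap_eq [Finite K] (p : ℕ) [Fact p.Prime] (hP : IsPGroup p P)
    (hK : ¬ p ∣ Nat.card K) (c : ConjClasses K)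
    (hc : ∀ x : P, ConjClasses.map (act x).toMonoidHom c = c) :
    ∃ d : ConjClasses (fixSub act), fixClassMap act d = c := by
  obtain ⟨g, rfl⟩ := ConjClasses.mk_surjective c
  have hg : ∀ x : P, IsConj g (act x g) := by
    intro x
    have := hc x
    exact (ConjClasses.mk_eq_mk_iff_isConj.mp this).symm
  obtain ⟨k, hk1, hk2⟩ := exists_fixed_of_invariant_class act p hP hK g hg
  refine ⟨ConjClasses.mk ⟨k, hk2⟩, ?_⟩
  show ConjClasses.mk k = ConjClasses.mk g
  exact ConjClasses.mk_eq_mk_iff_isConj.mpr hk1.symm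

theorem fixClassMap_injective [Finite K] (p : ℕ) [Fact p.Prime] (hP : IsPGroup p P)
    (hK : ¬ p ∣ Nat.card K) : Function.Injective (fixClassMap act) := by
  classical
  intro d d' hdd
  obtain ⟨x, rfl⟩ := ConjClasses.mk_surjective d
  obtain ⟨y, rfl⟩ := ConjClasses.mk_surjective d'
  have hxy : IsConj (x : K) (y : K) := ConjClasses.mk_eq_mk_iff_isConj.mp hdd
  obtain ⟨k₀, hk₀⟩ := isConj_iff.mp hxy
  let _ : MulAction P K := autActElt act
  have hS : ∀ (u : P) (k : K), k ∈ {k : K | k * x * k⁻¹ = y} →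
      u • k ∈ {k : K | k * x * k⁻¹ = y} := by
    intro u k hk
    show act u k * x * (act u k)⁻¹ = y
    have h1 : act u k * x * (act u k)⁻¹ = act u (k * x * k⁻¹) := by
      rw [map_mul, map_mul, map_inv, x.2 u]
    rw [h1, hk, y.2 u]
  have h1 := card_invariant_modEq_card_fixed p hP {k : K | k * x * k⁻¹ = y} hS
  have himg : {k : K | k * x * k⁻¹ = y} =
      (fun c => k₀ * c) '' (Subgroup.centralizer ({(x : K)} : Set K) : Set K) := by
    ext k
    simp only [Set.mem_ofPred_eq, Set.mem_image, SetLike.mem_coe, Subgroup.mem_centralizer_iff,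
      Set.mem_singleton_iff, forall_eq]
    constructor
    · intro hk
      refine ⟨k₀⁻¹ * k, ?_, by group⟩
      have : k₀⁻¹ * (k * x * k⁻¹) * k₀ = x := by
        rw [hk, ← hk₀]; group
      calc (x : K) * (k₀⁻¹ * k) = (k₀⁻¹ * (k * x * k⁻¹) * k₀) * (k₀⁻¹ * k) := by rw [this]
        _ = k₀⁻¹ * k * x := by group
    · rintro ⟨c, hc, rfl⟩
      rw [← hk₀]
      calc k₀ * c * x * (k₀ * c)⁻¹ = k₀ * (c * x) * c⁻¹ * k₀⁻¹ := by group
        _ = k₀ * (x * c) * c⁻¹ * k₀⁻¹ := by rw [hc]
        _ = k₀ * x * k₀⁻¹ := by group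
  have h2 : Nat.card {k : K | k * x * k⁻¹ = y} =
      Nat.card (Subgroup.centralizer ({(x : K)} : Set K)) := by
    rw [himg]
    exact Nat.card_image_of_injective (mul_right_injective k₀) _
  have h3 : ¬ p ∣ Nat.card {k : K | k * x * k⁻¹ = y} := by
    rw [h2]
    intro h
    exact hK (dvd_trans h (Subgroup.card_subgroup_dvd_card _))
  have h4 : Nat.card ({k : K | k * x * k⁻¹ = y} ∩ fixedPoints P K : Set K) ≠ 0 := by
    intro h0
    rw [h0] at h1
    exact h3 ((Nat.modEq_zero_iff_dvd).mp h1)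
  have h5 : Nonempty ({k : K | k * x * k⁻¹ = y} ∩ fixedPoints P K : Set K) := by
    by_contra hne
    rw [not_nonempty_iff] at hne
    exact h4 Nat.card_of_isEmpty
  obtain ⟨⟨k, hk1, hk2⟩⟩ := h5
  apply ConjClasses.mk_eq_mk_iff_isConj.mpr
  refine isConj_iff.mpr ⟨⟨k, fun u => hk2 u⟩, ?_⟩
  apply Subtype.ext
  exact hk1

end GlaubermanClass

end Cfsg.Agent.Lib.Helper81
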