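import Mathlib
import Cfsg.Prelude.Def_Characters
import Cfsg.Agent.Lib.Helper78.CharOrtho
import Cfsg.Agent.Lib.Helper81.CoprimeChar
import Cfsg.Agent.Lib.Helper81.GlaubermanP
import Cfsg.Agent.Lib.Helper81.GlaubermanRel
import Cfsg.Agent.Lib.Helper81.GlaubermanClass

set_option autoImplicit false

namespace Cfsg.Agent.Lib.Helper81

open Cfsg MulAction

universe u v

section GlaubermanBij

variable {K : Type u} [Group K] {P : Type v} [Group P] (act : P →* MulAut K)

/-- The invariant classes of `K` are in bijection with the classes of the fixed subgroup. -/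
theorem card_invClass_eq_card_conjClasses_fixSub [Finite K] (p : ℕ) [Fact p.Prime]
    (hP : IsPGroup p P) (hK : ¬ p ∣ Nat.card K) :
    Nat.card (InvClass act) = Nat.card (ConjClasses (fixSub act)) := by
  symm
  apply Nat.card_eq_of_bijective
    (fun d : ConjClasses (fixSub act) => (⟨fixClassMap act d, fun x => map_fixClassMap act x d⟩ :
      InvClass act))
  constructor
  · intro d d' h
    exact fixClassMap_injective act p hP hK (congrArg Subtype.val h)
  · rintro ⟨c, hc⟩
    obtain ⟨d, hd⟩ := exists_fixClassMap_eq act p hP hK c hc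
    exact ⟨d, Subtype.ext hd⟩

theorem card_invIrr_eq_card_irr_fixSub [Fintype K] [Fintype (fixSub act)] (p : ℕ) [Fact p.Prime]
    (hP : IsPGroup p P) (hK : ¬ p ∣ Nat.card K) :
    Nat.card (InvIrr act) = Nat.card (IrrCharacter (fixSub act)) := by
  rw [card_invIrr_eq_card_invClass act p hP hK,
    card_invClass_eq_card_conjClasses_fixSub act p hP hK,
    Cfsg.Agent.Lib.Helper78.card_irrCharacter]

/-- Surjectivity of the Glauberman correspondence. -/
theorem exists_glaubRel [Fintype K] [Fintype (fixSub act)] (p : ℕ) [Fact p.Prime]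
    (hP : IsPGroup p P) (hK : ¬ p ∣ Nat.card K) (γ : IrrCharacter (fixSub act)) :
    ∃ θ : IrrCharacter K, (∀ (x : P) (k : K), (θ : K → ℂ) (act x k) = (θ : K → ℂ) k) ∧
      GlaubRel act p θ γ := by
  classical
  have hfin : Finite (IrrCharacter (fixSub act)) := inferInstance
  let Φ : InvIrr act → IrrCharacter (fixSub act) := fun θ =>
    (existsUnique_glaubRel act p hP hK θ.1 θ.2).choose
  have hΦ : ∀ θ : InvIrr act, GlaubRel act p θ.1 (Φ θ) := fun θ =>
    (existsUnique_glaubRel act p hP hK θ.1 θ.2).choose_spec.1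
  have hinj : Function.Injective Φ := by
    intro θ θ' h
    apply Subtype.ext
    have h1 := hΦ θ
    have h2 := hΦ θ'
    rw [h] at h1
    exact glaubRel_injective act p hP hK θ.1 θ'.1 θ.2 θ'.2 _ h1 h2
  have hbij : Function.Bijective Φ :=
    (Nat.bijective_iff_injective_and_card Φ).mpr
      ⟨hinj, card_invIrr_eq_card_irr_fixSub act p hP hK⟩
  obtain ⟨θ, rfl⟩ := hbij.2 γ
  exact ⟨θ.1, θ.2, hΦ θ⟩

end GlaubermanBij

end Cfsg.Agent.Lib.Helper81
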