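import Mathlib
import Cfsg.Prelude.Def_Characters
import Cfsg.Agent.Lib.Helper81.IrrTwist
import Cfsg.Agent.Lib.Helper81.CoprimeChar
import Cfsg.Agent.Lib.Helper81.GlaubermanP
import Cfsg.Agent.Lib.Helper81.GlaubermanRel
import Cfsg.Agent.Lib.Helper81.GlaubermanClass
import Cfsg.Agent.Lib.Helper81.GlaubermanBij

set_option autoImplicit false

namespace Cfsg.Agent.Lib.Helper81

open Cfsg MulAction

universe u v

/-- Abstract transfer of fixed points along an equivariant one-to-one relation. -/
theorem card_fixed_eq_of_rel {X Y ι : Type*} (R : X → Y → Prop) (fX : ι → X → X)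
    (fY : ι → Y → Y) (X₀ : X → Prop)
    (h1 : ∀ x, X₀ x → ∃! y, R x y)
    (h2 : ∀ y, ∃ x, X₀ x ∧ R x y)
    (h2' : ∀ x x' y, X₀ x → X₀ x' → R x y → R x' y → x = x')
    (h3 : ∀ a x y, X₀ x → R x y → R (fX a x) (fY a y))
    (h3' : ∀ a x, X₀ x → X₀ (fX a x))
    (h4 : ∀ x, (∀ a, fX a x = x) → X₀ x) :
    Nat.card {x // ∀ a, fX a x = x} = Nat.card {y // ∀ a, fY a y = y} := by
  have hfix : ∀ x : {x // ∀ a, fX a x = x}, ∀ a,
      fY a (h1 x.1 (h4 x.1 x.2)).choose = (h1 x.1 (h4 x.1 x.2)).choose := by
    intro x a
    have hx := (h1 x.1 (h4 x.1 x.2)).choose_spec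
    have h5 := h3 a x.1 _ (h4 x.1 x.2) hx.1
    rw [x.2 a] at h5
    exact hx.2 _ h5
  apply Nat.card_eq_of_bijective
    (fun x : {x // ∀ a, fX a x = x} =>
      (⟨(h1 x.1 (h4 x.1 x.2)).choose, hfix x⟩ : {y // ∀ a, fY a y = y}))
  constructor
  · intro x x' hxx
    have hy : (h1 x.1 (h4 x.1 x.2)).choose = (h1 x'.1 (h4 x'.1 x'.2)).choose :=
      congrArg Subtype.val hxx
    have hx := (h1 x.1 (h4 x.1 x.2)).choose_spec.1
    have hx' := (h1 x'.1 (h4 x'.1 x'.2)).choose_spec.1
    rw [← hy] at hx'
    exact Subtype.ext (h2' _ _ _ (h4 x.1 x.2) (h4 x'.1 x'.2) hx hx')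
  · rintro ⟨y, hy⟩
    obtain ⟨x, hx0, hxy⟩ := h2 y
    have hxfix : ∀ a, fX a x = x := by
      intro a
      have h5 := h3 a x y hx0 hxy
      rw [hy a] at h5
      exact h2' _ _ _ (h3' a x hx0) hx0 h5 hxy
    refine ⟨⟨x, hxfix⟩, Subtype.ext ?_⟩
    exact ((h1 x (h4 x hxfix)).choose_spec.2 y hxy).symm

section Step

variable {K : Type u} [Group K] {A : Type v} [Group A] (act : A →* MulAut K)
  (N : Subgroup A) [hN : N.Normal]

/-- `act a` preserves the fixed subgroup of a normal subgroup. -/
theorem act_mem_fixSub (a : A) (c : K) (hc : c ∈ fixSub (act.comp N.subtype)) :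
    act a c ∈ fixSub (act.comp N.subtype) := by
  intro x
  show act (x : A) (act a c) = act a c
  have h1 : (x : A) * a = a * (a⁻¹ * x * a) := by group
  have h2 : a⁻¹ * (x : A) * a ∈ N := by
    have := hN.conj_mem (x : A) x.2 a⁻¹
    simpa using this
  have h3 : act (a⁻¹ * (x : A) * a) c = c := hc ⟨_, h2⟩
  calc act (x : A) (act a c) = act ((x : A) * a) c := by rw [map_mul]; rfl
    _ = act (a * (a⁻¹ * x * a)) c := by rw [h1]
    _ = act a (act (a⁻¹ * x * a) c) := by rw [map_mul]; rfl
    _ = act a c := by rw [h3]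

/-- The induced action of `A` on the fixed subgroup of the normal subgroup `N`. -/
def actFix : A →* MulAut (fixSub (act.comp N.subtype)) where
  toFun a :=
    { toFun := fun c => ⟨act a c, act_mem_fixSub act N a c c.2⟩
      invFun := fun c => ⟨act a⁻¹ c, act_mem_fixSub act N a⁻¹ c c.2⟩
      left_inv := fun c => by
        apply Subtype.ext
        show act a⁻¹ (act a (c : K)) = c
        rw [map_inv]; simp
      right_inv := fun c => by
        apply Subtype.ext
        show act a (act a⁻¹ (c : K)) = c
        rw [map_inv]; simp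
      map_mul' := fun c d => by
        apply Subtype.ext
        show act a ((c : K) * d) = act a c * act a d
        rw [map_mul] }
  map_one' := by
    apply MulEquiv.ext
    intro c
    apply Subtype.ext
    show act 1 (c : K) = c
    rw [map_one]; rfl
  map_mul' a b := by
    apply MulEquiv.ext
    intro c
    apply Subtype.ext
    show act (a * b) (c : K) = act a (act b c)
    rw [map_mul]; rfl

@[simp] theorem actFix_apply_coe (a : A) (c : fixSub (act.comp N.subtype)) :
    ((actFix act N a c : fixSub (act.comp N.subtype)) : K) = act a c := rfl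

theorem le_ker_actFix : N ≤ (actFix act N).ker := by
  intro x hx
  rw [MonoidHom.mem_ker]
  apply MulEquiv.ext
  intro c
  apply Subtype.ext
  show act x (c : K) = c
  exact c.2 ⟨x, hx⟩

/-- The action of `A ⧸ N` on the fixed subgroup of `N`. -/
def actQuot : A ⧸ N →* MulAut (fixSub (act.comp N.subtype)) :=
  QuotientGroup.lift N (actFix act N) (le_ker_actFix act N)

@[simp] theorem actQuot_mk (a : A) : actQuot act N (QuotientGroup.mk a) = actFix act N a := rfl

end Step

section Step2

variable {K : Type u} [Group K] {A : Type v} [Group A] (act : A →* MulAut K)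
  (N : Subgroup A) [hN : N.Normal]

/-- Precomposition of an irreducible character with an automorphism. -/
noncomputable def irrComp {C : Type*} [Group C] (e : C ≃* C) (θ : IrrCharacter C) : IrrCharacter C :=
  ⟨(θ : C → ℂ) ∘ e, isIrrCharacter_comp_mulEquiv θ.2 e⟩

theorem irrComp_apply {C : Type*} [Group C] (e : C ≃* C) (θ : IrrCharacter C) (c : C) :
    (irrComp e θ : C → ℂ) c = (θ : C → ℂ) (e c) := rfl

theorem irrComp_eq_self_iff {C : Type*} [Group C] (e : C ≃* C) (θ : IrrCharacter C) :
    irrComp e θ = θ ↔ ∀ c : C, (θ : C → ℂ) (e c) = (θ : C → ℂ) c := by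
  constructor
  · intro h c
    have := congrArg (fun θ : IrrCharacter C => (θ : C → ℂ) c) h
    exact this
  · intro h
    apply Subtype.ext
    funext c
    exact h c

theorem classInner_comp_mulEquiv {C : Type*} [Group C] [Fintype C] (e : C ≃* C) (f h : C → ℂ) :
    classInner (f ∘ e) (h ∘ e) = classInner f h := by
  unfold classInner
  congr 1
  exact Fintype.sum_equiv e.toEquiv _ _ (fun a => rfl)

/-- Equivariance of the Glauberman relation. -/
theorem glaubRel_irrComp [Fintype (fixSub (act.comp N.subtype))] (p : ℕ) (a : A)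
    (θ : IrrCharacter K) (γ : IrrCharacter (fixSub (act.comp N.subtype)))
    (h : GlaubRel (act.comp N.subtype) p θ γ) :
    GlaubRel (act.comp N.subtype) p (irrComp (act a) θ) (irrComp (actFix act N a) γ) := by
  obtain ⟨m, hm, hpm⟩ := h
  refine ⟨m, ?_, hpm⟩
  rw [← hm]
  have h1 : (fun c : fixSub (act.comp N.subtype) => (irrComp (act a) θ : K → ℂ) c) =
      (fun c : fixSub (act.comp N.subtype) => (θ : K → ℂ) c) ∘ (actFix act N a) := by
    funext c; rfl
  have h2 : (irrComp (actFix act N a) γ : fixSub (act.comp N.subtype) → ℂ) =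
      (γ : fixSub (act.comp N.subtype) → ℂ) ∘ (actFix act N a) := rfl
  rw [h1, h2]
  exact classInner_comp_mulEquiv _ _ _

/-- Character step of the induction: the `A`-invariant irreducible characters of `K` correspond
to the `A ⧸ N`-invariant irreducible characters of the fixed subgroup of the normal
`p`-subgroup `N`. -/
theorem card_invIrr_step [Finite K] (p : ℕ) [Fact p.Prime] (hNp : IsPGroup p N)
    (hK : ¬ p ∣ Nat.card K) :
    Nat.card (InvIrr act) = Nat.card (InvIrr (actQuot act N)) := by
  classical
  have := Fintype.ofFinite K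
  have := Fintype.ofFinite (fixSub (act.comp N.subtype))
  have key := card_fixed_eq_of_rel (X := IrrCharacter K)
    (Y := IrrCharacter (fixSub (act.comp N.subtype))) (ι := A)
    (GlaubRel (act.comp N.subtype) p)
    (fun a θ => irrComp (act a) θ) (fun a γ => irrComp (actFix act N a) γ)
    (fun θ => ∀ (x : N) (k : K), (θ : K → ℂ) (act.comp N.subtype x k) = (θ : K → ℂ) k)
    (fun θ hθ => existsUnique_glaubRel _ p hNp hK θ hθ)
    (fun γ => exists_glaubRel _ p hNp hK γ)
    (fun θ θ' γ hθ hθ' h h' => glaubRel_injective _ p hNp hK θ θ' hθ hθ' γ h h')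
    (fun a θ γ _ h => glaubRel_irrComp act N p a θ γ h)
    (by
      intro a θ hθ x k
      show (θ : K → ℂ) (act a (act (x : A) k)) = (θ : K → ℂ) (act a k)
      have h2 : a * (x : A) * a⁻¹ ∈ N := hN.conj_mem (x : A) x.2 a
      have h3 := hθ ⟨_, h2⟩ (act a k)
      have h4 : act (a * (x : A) * a⁻¹) (act a k) = act a (act (x : A) k) := by
        rw [map_mul, map_mul, map_inv]
        simp
      rw [← h4]
      exact h3)
    (by
      intro θ hθ x k
      exact (irrComp_eq_self_iff _ _).mp (hθ (x : A)) k)
  have e1 : InvIrr act ≃ {θ : IrrCharacter K // ∀ a : A, irrComp (act a) θ = θ} :=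
    Equiv.subtypeEquivRight (fun θ => by
      constructor
      · intro h a
        exact (irrComp_eq_self_iff _ _).mpr (h a)
      · intro h a
        exact (irrComp_eq_self_iff _ _).mp (h a))
  have e2 : InvIrr (actQuot act N) ≃ {γ : IrrCharacter (fixSub (act.comp N.subtype)) //
      ∀ a : A, irrComp (actFix act N a) γ = γ} :=
    Equiv.subtypeEquivRight (fun γ => by
      constructor
      · intro h a
        exact (irrComp_eq_self_iff _ _).mpr (h (QuotientGroup.mk a))
      · intro h q
        obtain ⟨a, rfl⟩ := QuotientGroup.mk_surjective q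
        exact (irrComp_eq_self_iff _ _).mp (h a))
  rw [Nat.card_congr e1, Nat.card_congr e2]
  exact key

/-- Class step of the induction. -/
theorem card_invClass_step [Finite K] (p : ℕ) [Fact p.Prime] (hNp : IsPGroup p N)
    (hK : ¬ p ∣ Nat.card K) :
    Nat.card (InvClass act) = Nat.card (InvClass (actQuot act N)) := by
  classical
  have key := card_fixed_eq_of_rel (X := ConjClasses K)
    (Y := ConjClasses (fixSub (act.comp N.subtype))) (ι := A)
    (fun c d => fixClassMap (act.comp N.subtype) d = c)
    (fun a c => ConjClasses.map (act a).toMonoidHom c)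
    (fun a d => ConjClasses.map (actFix act N a).toMonoidHom d)
    (fun c => ∀ x : N, ConjClasses.map (act.comp N.subtype x).toMonoidHom c = c)
    (by
      intro c hc
      obtain ⟨d, hd⟩ := exists_fixClassMap_eq _ p hNp hK c hc
      refine ⟨d, hd, ?_⟩
      intro d' hd'
      exact fixClassMap_injective _ p hNp hK (hd'.trans hd.symm))
    (fun d => ⟨fixClassMap (act.comp N.subtype) d,
      fun x => map_fixClassMap _ x d, rfl⟩)
    (by
      intro c c' d _ _ h h'
      exact h.symm.trans h')
    (by
      rintro a c d - rfl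
      obtain ⟨x, rfl⟩ := ConjClasses.mk_surjective d
      rfl)
    (by
      intro a c hc x
      obtain ⟨k, rfl⟩ := ConjClasses.mk_surjective c
      show ConjClasses.mk (act (x : A) (act a k)) = ConjClasses.mk (act a k)
      have h2 : a⁻¹ * (x : A) * a ∈ N := by
        have := hN.conj_mem (x : A) x.2 a⁻¹
        simpa using this
      have h3 : ConjClasses.mk (act (a⁻¹ * (x : A) * a) k) = ConjClasses.mk k := hc ⟨_, h2⟩
      have h4 : act (x : A) (act a k) = act a (act (a⁻¹ * (x : A) * a) k) := by
        rw [map_mul, map_mul, map_inv]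
        simp
      rw [h4]
      have := congrArg (ConjClasses.map (act a).toMonoidHom) h3
      exact this)
    (by
      intro c hc x
      exact hc (x : A))
  have e2 : InvClass (actQuot act N) ≃ {d : ConjClasses (fixSub (act.comp N.subtype)) //
      ∀ a : A, ConjClasses.map (actFix act N a).toMonoidHom d = d} :=
    Equiv.subtypeEquivRight (fun d => by
      constructor
      · intro h a
        exact h (QuotientGroup.mk a)
      · intro h q
        obtain ⟨a, rfl⟩ := QuotientGroup.mk_surjective q
        exact h a)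
  rw [Nat.card_congr e2]
  exact key

end Step2

end Cfsg.Agent.Lib.Helper81
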