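import Mathlib
import Cfsg.Prelude.Def_Characters
import Cfsg.Agent.Lib.Helper78.CharMore
import Cfsg.Agent.Lib.Helper81.IrrTwist
import Cfsg.Agent.Lib.Helper81.CoprimeLinAlg
import Cfsg.Agent.Lib.Helper81.CoprimeChar
import Cfsg.Agent.Lib.Helper81.GlaubermanP
import Cfsg.Agent.Lib.Helper81.GlaubermanRel
import Cfsg.Agent.Lib.Helper81.GlaubermanSign
import Cfsg.Agent.Lib.Helper81.GlaubermanStep

set_option autoImplicit false

namespace Cfsg.Agent.Lib.Helper81

open Cfsg MulAction Cfsg.Agent.Lib.Helper78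
open scoped ComplexConjugate

universe u v

/-- Restriction in stages: the multiplicity of `ψ` in a pulled-back character, through the
irreducible constituents of the character. -/
theorem classInner_comp_eq_sum {M D : Type*} [Group M] [Fintype M] [Group D] [Fintype D]
    (f : D →* M) {χ : M → ℂ} (hχ : IsCharacter M χ) (ψ : D → ℂ) :
    classInner (fun d : D => χ (f d)) ψ =
      ∑ φ : IrrCharacter M, classInner χ (φ : M → ℂ) *
        classInner (fun d : D => (φ : M → ℂ) (f d)) ψ := by
  have h1 : (fun d : D => χ (f d)) =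
      ∑ φ : IrrCharacter M, classInner χ (φ : M → ℂ) • (fun d : D => (φ : M → ℂ) (f d)) := by
    funext d
    have := congrFun (IsCharacter.eq_sum_irr hχ) (f d)
    simp only [Finset.sum_apply, Pi.smul_apply, smul_eq_mul] at this ⊢
    exact this
  rw [h1, classInner_sum_left]
  apply Finset.sum_congr rfl
  intro φ _
  rw [classInner_smul_left]

/-- Sums of invariant natural-number valued functions over a finite `P`-set, `P` a `p`-group:
congruent mod `p` to the sum over the fixed points. -/
theorem sum_nat_modEq_sum_fixedPoints {P Ω : Type*} [Group P] [MulAction P Ω] [Fintype Ω]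
    (p : ℕ) [Fact p.Prime] (hP : IsPGroup p P) (F : Ω → ℕ) (hF : ∀ (x : P) (ω : Ω), F (x • ω) = F ω)
    [DecidablePred (· ∈ fixedPoints P Ω)] :
    ∑ ω, F ω ≡ ∑ ω ∈ Finset.univ.filter (· ∈ fixedPoints P Ω), F ω [MOD p] := by
  have hp := (Fact.out : p.Prime)
  obtain ⟨r, hr, hsum⟩ := sum_eq_sum_fixedPoints_add p hP (fun ω => (F ω : ℂ))
    (fun x ω => by simp only [hF x ω]) (fun ω => isIntegral_algebraMap (R := ℤ) (A := ℂ) (x := (F ω : ℤ)) |>
      fun h => by simpa using h)
  have hC : ((((∑ ω, F ω : ℕ) : ℤ) -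
      ((∑ ω ∈ Finset.univ.filter (· ∈ fixedPoints P Ω), F ω : ℕ) : ℤ) : ℤ) : ℂ) = (p : ℂ) * r := by
    push_cast
    rw [hsum]
    ring
  have hdvd := int_dvd_of_eq_mul_isIntegral hp.ne_zero hr hC
  apply Int.natCast_modEq_iff.mp
  exact (Int.modEq_iff_dvd.mpr hdvd).symm

section Over

variable {G : Type u} [Group G] {P : Type v} [Group P] (act : P →* MulAut G) (N : Subgroup G)
  (hN : ∀ (x : P) (n : G), n ∈ N → act x n ∈ N)

/-- The restriction of an action by automorphisms to an invariant subgroup. -/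
def actSub : P →* MulAut N where
  toFun x :=
    { toFun := fun n => ⟨act x n, hN x n n.2⟩
      invFun := fun n => ⟨act x⁻¹ n, hN x⁻¹ n n.2⟩
      left_inv := fun n => by
        apply Subtype.ext
        show act x⁻¹ (act x (n : G)) = n
        rw [map_inv]; simp
      right_inv := fun n => by
        apply Subtype.ext
        show act x (act x⁻¹ (n : G)) = n
        rw [map_inv]; simp
      map_mul' := fun a b => by
        apply Subtype.ext
        show act x ((a : G) * b) = act x a * act x b
        rw [map_mul] }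
  map_one' := by
    apply MulEquiv.ext
    intro n
    apply Subtype.ext
    show act 1 (n : G) = n
    rw [map_one]; rfl
  map_mul' a b := by
    apply MulEquiv.ext
    intro n
    apply Subtype.ext
    show act (a * b) (n : G) = act a (act b n)
    rw [map_mul]; rfl

@[simp] theorem actSub_apply_coe (x : P) (n : N) :
    ((actSub act N hN x n : N) : G) = act x n := rfl

end Over

section Over2

variable {G : Type u} [Group G] {P : Type v} [Group P] (act : P →* MulAut G) (N : Subgroup G)
  (actN : P →* MulAut N) (hc : ∀ (x : P) (n : N), ((actN x n : N) : G) = act x n)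

/-- The inclusion of the fixed subgroup of `N` into the fixed subgroup of `G`. -/
def fixSubIncl : fixSub actN →* fixSub act where
  toFun c := ⟨((c : N) : G), fun x => by
    rw [← hc]
    exact congrArg Subtype.val (c.2 x)⟩
  map_one' := rfl
  map_mul' _ _ := rfl

@[simp] theorem fixSubIncl_coe (c : fixSub (actN)) :
    ((fixSubIncl act N actN hc c : fixSub act) : G) = ((c : N) : G) := rfl

/-- **Key congruence for lying over**: with `χ* = β`, `θ* = ψ` the Glauberman correspondents,
`[χ_C, β] · [β_{C_N}, ψ] ≡ [χ_N, θ] · [θ_{C_N}, ψ] (mod p)`. -/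
theorem glaub_over_modEq [Fintype G] [Fintype N] [Fintype (fixSub act)]
    [Fintype (fixSub (actN))] (p : ℕ) [Fact p.Prime] (hP : IsPGroup p P)
    (hpG : ¬ p ∣ Nat.card G) (χ : IrrCharacter G)
    (hχ : ∀ (x : P) (g : G), (χ : G → ℂ) (act x g) = (χ : G → ℂ) g) (θ : IrrCharacter N)
    (hθ : ∀ (x : P) (n : N), (θ : N → ℂ) (actN x n) = (θ : N → ℂ) n)
    (β : IrrCharacter (fixSub act)) (ψ : IrrCharacter (fixSub (actN)))
    (hψ : GlaubRel (actN) p θ ψ) (a b mχ mθ : ℕ)
    (hβ : ∀ β' : IrrCharacter (fixSub act), β' ≠ β → ∀ m : ℕ,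
      classInner (fun c : fixSub act => (χ : G → ℂ) c) (β' : fixSub act → ℂ) = m → p ∣ m)
    (ha : classInner (fun n : N => (χ : G → ℂ) n) (θ : N → ℂ) = a)
    (hb : classInner (fun c : fixSub (actN) =>
      (β : fixSub act → ℂ) (fixSubIncl act N actN hc c)) (ψ : fixSub (actN) → ℂ) = b)
    (hmχ : classInner (fun c : fixSub act => (χ : G → ℂ) c) (β : fixSub act → ℂ) = mχ)
    (hmθ : classInner (fun c : fixSub (actN) => (θ : N → ℂ) c)
      (ψ : fixSub (actN) → ℂ) = mθ) :
    mχ * b ≡ a * mθ [MOD p] := by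
  classical
  have hp := (Fact.out : p.Prime)
  have hpN : ¬ p ∣ Nat.card N := fun h => hpG (h.trans (Subgroup.card_subgroup_dvd_card N))
  have hχc : IsCharacter G (χ : G → ℂ) := IsIrrCharacter.isCharacter χ.2
  have hχN : IsCharacter N (fun n : N => (χ : G → ℂ) n) := isCharacter_comp hχc N.subtype
  have hχC : IsCharacter (fixSub act) (fun c : fixSub act => (χ : G → ℂ) c) :=
    isCharacter_comp hχc (fixSub act).subtype
  -- multiplicities as natural numbers
  choose aφ haφ using fun φ : IrrCharacter N => IsCharacter.exists_nat_classInner hχN φ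
  have hres : ∀ φ : IrrCharacter N, IsCharacter (fixSub (actN))
      (fun c : fixSub (actN) => (φ : N → ℂ) c) := fun φ =>
    isCharacter_comp (IsIrrCharacter.isCharacter φ.2) (fixSub (actN)).subtype
  choose bφ hbφ using fun φ : IrrCharacter N => IsCharacter.exists_nat_classInner (hres φ) ψ
  choose mβ hmβ using fun β' : IrrCharacter (fixSub act) =>
    IsCharacter.exists_nat_classInner hχC β'
  have hresC : ∀ β' : IrrCharacter (fixSub act), IsCharacter (fixSub (actN))
      (fun c : fixSub (actN) => (β' : fixSub act → ℂ) (fixSubIncl act N actN hc c)) :=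
    fun β' => isCharacter_comp (IsIrrCharacter.isCharacter β'.2) (fixSubIncl act N actN hc)
  choose dβ hdβ using fun β' : IrrCharacter (fixSub act) =>
    IsCharacter.exists_nat_classInner (hresC β') ψ
  -- the two computations of `X`
  have hX1 : classInner (fun c : fixSub (actN) => (χ : G → ℂ) ((c : N) : G))
      (ψ : fixSub (actN) → ℂ) = ((∑ φ : IrrCharacter N, aφ φ * bφ φ : ℕ) : ℂ) := by
    have := classInner_comp_eq_sum (fixSub (actN)).subtype hχN
      (ψ : fixSub (actN) → ℂ)
    simp only [Subgroup.coe_subtype] at this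
    rw [this]
    push_cast
    apply Finset.sum_congr rfl
    intro φ _
    rw [haφ, hbφ]
  have hX2 : classInner (fun c : fixSub (actN) => (χ : G → ℂ) ((c : N) : G))
      (ψ : fixSub (actN) → ℂ) =
      ((∑ β' : IrrCharacter (fixSub act), mβ β' * dβ β' : ℕ) : ℂ) := by
    have := classInner_comp_eq_sum (fixSubIncl act N actN hc) hχC
      (ψ : fixSub (actN) → ℂ)
    simp only [fixSubIncl_coe] at this
    rw [this]
    push_cast
    apply Finset.sum_congr rfl
    intro β' _
    rw [hmβ, hdβ]
  have hXeq : ∑ φ : IrrCharacter N, aφ φ * bφ φ =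
      ∑ β' : IrrCharacter (fixSub act), mβ β' * dβ β' := by
    have := hX1.symm.trans hX2
    exact_mod_cast this
  -- side 2: only `β` survives mod `p`
  have e1 : mβ β = mχ := by exact_mod_cast (hmβ β).symm.trans hmχ
  have e2 : dβ β = b := by exact_mod_cast (hdβ β).symm.trans hb
  have hside2 : ∑ β' : IrrCharacter (fixSub act), mβ β' * dβ β' ≡ mχ * b [MOD p] := by
    rw [← Finset.add_sum_erase Finset.univ (fun β' => mβ β' * dβ β') (Finset.mem_univ β), e1, e2]
    have hrest : p ∣ ∑ β' ∈ Finset.univ.erase β, mβ β' * dβ β' :=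
      Finset.dvd_sum (fun β' hβ' =>
        (hβ β' (Finset.ne_of_mem_erase hβ') (mβ β') (hmβ β')).mul_right _)
    obtain ⟨s, hs⟩ := hrest
    rw [hs]
    exact Nat.add_mul_mod_self_left _ p s
  -- side 1: fixed points of `P` on `Irr(N)`
  let _ : MulAction P (IrrCharacter N) := autActIrr (actN)
  have hFinv : ∀ (x : P) (φ : IrrCharacter N), aφ (x • φ) * bφ (x • φ) = aφ φ * bφ φ := by
    intro x φ
    have h1 : aφ (x • φ) = aφ φ := by
      have hc : classInner (fun n : N => (χ : G → ℂ) n) ((x • φ : IrrCharacter N) : N → ℂ) =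
          classInner (fun n : N => (χ : G → ℂ) n) (φ : N → ℂ) := by
        have h2 := classInner_comp_mulEquiv (actN x⁻¹)
          (fun n : N => (χ : G → ℂ) n) (φ : N → ℂ)
        rw [← h2]
        congr 1
        funext n
        show (χ : G → ℂ) n = (χ : G → ℂ) ((actN x⁻¹ n : N) : G)
        rw [hc, hχ]
      have := (haφ (x • φ)).symm.trans (hc.trans (haφ φ))
      exact_mod_cast this
    have h3 : bφ (x • φ) = bφ φ := by
      have hc : (fun c : fixSub (actN) => ((x • φ : IrrCharacter N) : N → ℂ) c) =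
          fun c : fixSub (actN) => (φ : N → ℂ) c := by
        funext c
        show (φ : N → ℂ) (actN x⁻¹ c) = (φ : N → ℂ) c
        rw [c.2 x⁻¹]
      have h4 := hbφ (x • φ)
      rw [hc] at h4
      have := h4.symm.trans (hbφ φ)
      exact_mod_cast this
    rw [h1, h3]
  have hside1a := sum_nat_modEq_sum_fixedPoints p hP (fun φ : IrrCharacter N => aφ φ * bφ φ) hFinv
  have e3 : aφ θ = a := by exact_mod_cast (haφ θ).symm.trans ha
  have e4 : bφ θ = mθ := by exact_mod_cast (hbφ θ).symm.trans hmθ
  have hθfix : θ ∈ Finset.univ.filter (· ∈ fixedPoints P (IrrCharacter N)) := by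
    rw [Finset.mem_filter]
    exact ⟨Finset.mem_univ _, (mem_fixedPoints_autActIrr_iff (actN) θ).mpr hθ⟩
  have hside1b : ∑ φ ∈ Finset.univ.filter (· ∈ fixedPoints P (IrrCharacter N)), aφ φ * bφ φ ≡
      a * mθ [MOD p] := by
    rw [← Finset.add_sum_erase _ (fun φ => aφ φ * bφ φ) hθfix, e3, e4]
    have hrest : p ∣ ∑ φ ∈ (Finset.univ.filter (· ∈ fixedPoints P (IrrCharacter N))).erase θ,
        aφ φ * bφ φ := by
      apply Finset.dvd_sum
      intro φ hφ
      have hφne : φ ≠ θ := Finset.ne_of_mem_erase hφ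
      have hφfix : ∀ (x : P) (n : N), (φ : N → ℂ) (actN x n) = (φ : N → ℂ) n :=
        (mem_fixedPoints_autActIrr_iff (actN) φ).mp
          (Finset.mem_filter.mp (Finset.mem_of_mem_erase hφ)).2
      apply Dvd.dvd.mul_left
      by_contra hnd
      exact hφne (glaubRel_injective (actN) p hP hpN φ θ hφfix hθ ψ
        ⟨bφ φ, hbφ φ, hnd⟩ hψ)
    obtain ⟨s, hs⟩ := hrest
    rw [hs]
    exact Nat.add_mul_mod_self_left _ p s
  have h5 : ∑ φ : IrrCharacter N, aφ φ * bφ φ ≡ a * mθ [MOD p] := hside1a.trans hside1b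
  rw [hXeq] at h5
  exact hside2.symm.trans h5

end Over2

end Cfsg.Agent.Lib.Helper81
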