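import Mathlib
import Cfsg.Prelude.Def_Characters
import Cfsg.Agent.Lib.Helper72.SolvableNormal
import Cfsg.Agent.Lib.Helper75.Clifford
import Cfsg.Agent.Lib.Helper75.Clifford2
import Cfsg.Agent.Lib.Helper78.CharMore
import Cfsg.Agent.Lib.Helper81.CoprimeChar
import Cfsg.Agent.Lib.Helper81.GlaubermanP
import Cfsg.Agent.Lib.Helper81.GlaubermanRel
import Cfsg.Agent.Lib.Helper81.GlaubermanBij
import Cfsg.Agent.Lib.Helper81.GlaubermanStep
import Cfsg.Agent.Lib.Helper81.GlaubermanOver
import Cfsg.Agent.Lib.Helper81.GlaubermanOverLemma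
import Cfsg.Agent.Lib.Helper81.IrrTransport

set_option autoImplicit false

namespace Cfsg.Agent.Lib.Helper81

open Cfsg MulAction Cfsg.Agent.Lib.Helper78

universe u v

/-- Every irreducible character of a subgroup lies under an irreducible character of the
group. -/
theorem exists_irr_over {G : Type u} [Group G] [Fintype G] (N : Subgroup G) [Fintype N]
    (θ : IrrCharacter N) :
    ∃ χ : IrrCharacter G, classInner (fun m : N => (χ : G → ℂ) m) (θ : N → ℂ) ≠ 0 := by
  obtain ⟨χ, hχ⟩ := Cfsg.Agent.Lib.Helper75.exists_classInner_indFun_ne_zero N θ.2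
  refine ⟨χ, ?_⟩
  have hcl : IsClassFunction G (χ : G → ℂ) :=
    IsCharacter.isClassFunction (IsIrrCharacter.isCharacter χ.2)
  rw [Cfsg.Agent.Lib.Helper75.frobenius_reciprocity N _ hcl, ← classInner_conj_symm] at hχ
  intro h
  apply hχ
  rw [h, map_zero]

/-- **Invariant characters over invariant characters** (Isaacs 13.31, solvable case): if the
solvable group `A` acts coprimely on `G` stabilising the normal subgroup `N`, every
`A`-invariant irreducible character of `N` lies under an `A`-invariant irreducible character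
of `G`. -/
theorem exists_invariant_over_aux :
    ∀ (n : ℕ) (A : Type v) [Group A] [Finite A] (G : Type u) [Group G] [Finite G]
      (act : A →* MulAut G) (N : Subgroup G) [N.Normal] [Fintype N]
      (hN : ∀ (a : A) (g : G), g ∈ N → act a g ∈ N),
      Nat.card A = n → Group.IsSolvable A → (Nat.card G).Coprime (Nat.card A) →
      ∀ θ : IrrCharacter N,
        (∀ (a : A) (m : N), (θ : N → ℂ) (actSub act N hN a m) = (θ : N → ℂ) m) →
      ∃ χ : IrrCharacter G, classInner (fun m : N => (χ : G → ℂ) m) (θ : N → ℂ) ≠ 0 ∧
        ∀ (a : A) (g : G), (χ : G → ℂ) (act a g) = (χ : G → ℂ) g := by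
  intro n
  induction n using Nat.strong_induction_on with
  | _ n ih =>
    intro A _ _ G _ _ act N _ _ hN hn hsolv hcop θ hθ
    classical
    have := Fintype.ofFinite G
    rcases subsingleton_or_nontrivial A with hA | hA
    · obtain ⟨χ, hχ⟩ := exists_irr_over N θ
      refine ⟨χ, hχ, fun a g => ?_⟩
      rw [Subsingleton.elim a 1, map_one]
      rfl
    · obtain ⟨q, hq, P₀, hPn, hPbot, hPp⟩ :=
        Cfsg.Agent.Lib.Helper72.exists_normal_pgroup_of_solvable hsolv
      have : Fact q.Prime := ⟨hq⟩
      have hqP : q ∣ Nat.card P₀ := by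
        obtain ⟨k, hk⟩ := hPp.exists_card_eq
        rcases Nat.eq_zero_or_pos k with h0 | h0
        · exfalso
          rw [h0, pow_zero] at hk
          exact hPbot (Subgroup.card_eq_one.mp hk)
        · rw [hk]
          exact dvd_pow_self q h0.ne'
      have hqA : q ∣ Nat.card A := hqP.trans (Subgroup.card_subgroup_dvd_card P₀)
      have hqG : ¬ q ∣ Nat.card G := by
        intro h
        have := Nat.dvd_gcd h hqA
        rw [hcop.gcd_eq_one] at this
        exact hq.one_lt.ne' (Nat.dvd_one.mp this)
      have hqN : ¬ q ∣ Nat.card N := fun h => hqG (h.trans (Subgroup.card_subgroup_dvd_card N))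
      have hcard : Nat.card A = Nat.card (A ⧸ P₀) * Nat.card P₀ :=
        Subgroup.card_eq_card_quotient_mul_card_subgroup P₀
      have hPgt : 1 < Nat.card P₀ :=
        lt_of_lt_of_le hq.one_lt (Nat.le_of_dvd Nat.card_pos hqP)
      have hlt : Nat.card (A ⧸ P₀) < n := by
        rw [← hn, hcard]
        have hpos : 0 < Nat.card (A ⧸ P₀) := Nat.card_pos
        nlinarith
      have hsolvQ : Group.IsSolvable (A ⧸ P₀) := by
        have := hsolv
        infer_instance
      have hcopQ : (Nat.card (fixSub (act.comp P₀.subtype))).Coprime (Nat.card (A ⧸ P₀)) := by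
        apply Nat.Coprime.coprime_dvd_left (card_fixSub_dvd _)
        apply Nat.Coprime.coprime_dvd_right _ hcop
        rw [hcard]
        exact dvd_mul_right _ _
      -- the correspondent of `θ`
      have hcc : ∀ (x : P₀) (m : N),
          ((((actSub act N hN).comp P₀.subtype) x m : N) : G) = (act.comp P₀.subtype) x m :=
        fun x m => rfl
      have hθP : ∀ (x : P₀) (m : N),
          (θ : N → ℂ) (((actSub act N hN).comp P₀.subtype) x m) = (θ : N → ℂ) m :=
        fun x m => hθ x m
      have := Fintype.ofFinite (fixSub ((actSub act N hN).comp P₀.subtype))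
      have := Fintype.ofFinite (fixSub (act.comp P₀.subtype))
      have := Fintype.ofFinite (N.subgroupOf (fixSub (act.comp P₀.subtype)))
      obtain ⟨ψ, hψ, hψuniq⟩ :=
        existsUnique_glaubRel ((actSub act N hN).comp P₀.subtype) q hPp hqN θ hθP
      have hψinv : ∀ a : A, irrComp (actFix (actSub act N hN) P₀ a) ψ = ψ := by
        intro a
        have h1 := glaubRel_irrComp (actSub act N hN) P₀ q a θ ψ hψ
        have h2 : irrComp (actSub act N hN a) θ = θ := (irrComp_eq_self_iff _ _).mpr (hθ a)
        rw [h2] at h1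
        exact hψuniq _ h1
      -- the action of the quotient on the fixed subgroup
      have hN' : ∀ (x : A ⧸ P₀) (c : fixSub (act.comp P₀.subtype)),
          c ∈ N.subgroupOf (fixSub (act.comp P₀.subtype)) →
          actQuot act P₀ x c ∈ N.subgroupOf (fixSub (act.comp P₀.subtype)) := by
        intro x c hc'
        obtain ⟨a, rfl⟩ := QuotientGroup.mk_surjective x
        exact hN a c hc'
      have hθ' : ∀ (x : A ⧸ P₀) (m : N.subgroupOf (fixSub (act.comp P₀.subtype))),
          (irrTransport (fixSubEquivSubgroupOf (act.comp P₀.subtype) N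
            ((actSub act N hN).comp P₀.subtype) hcc) ψ :
              N.subgroupOf (fixSub (act.comp P₀.subtype)) → ℂ)
            (actSub (actQuot act P₀) (N.subgroupOf (fixSub (act.comp P₀.subtype))) hN' x m) =
          (irrTransport (fixSubEquivSubgroupOf (act.comp P₀.subtype) N
            ((actSub act N hN).comp P₀.subtype) hcc) ψ :
              N.subgroupOf (fixSub (act.comp P₀.subtype)) → ℂ) m := by
        intro x m
        obtain ⟨a, rfl⟩ := QuotientGroup.mk_surjective x
        rw [irrTransport_apply, irrTransport_apply]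
        have h1 := (irrComp_eq_self_iff _ _).mp (hψinv a)
          ((fixSubEquivSubgroupOf (act.comp P₀.subtype) N
            ((actSub act N hN).comp P₀.subtype) hcc).symm m)
        rw [← h1]
        congr 1
      obtain ⟨β, hβover, hβinv⟩ := ih (Nat.card (A ⧸ P₀)) hlt (A ⧸ P₀)
        (fixSub (act.comp P₀.subtype)) (actQuot act P₀)
        (N.subgroupOf (fixSub (act.comp P₀.subtype))) hN' rfl hsolvQ hcopQ
        (irrTransport (fixSubEquivSubgroupOf (act.comp P₀.subtype) N
            ((actSub act N hN).comp P₀.subtype) hcc) ψ) hθ'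
      obtain ⟨χ, hχP, hχβ⟩ := exists_glaubRel (act.comp P₀.subtype) q hPp hqG β
      refine ⟨χ, ?_, ?_⟩
      · exact glaub_over_of_over (act.comp P₀.subtype) N ((actSub act N hN).comp P₀.subtype) hcc
          q hPp hqG χ hχP θ hθP β hχβ ψ hψ hβover
      · intro a g
        have h1 := glaubRel_irrComp act P₀ q a χ β hχβ
        have h2 : irrComp (actFix act P₀ a) β = β :=
          (irrComp_eq_self_iff _ _).mpr (fun c => hβinv (QuotientGroup.mk a) c)
        rw [h2] at h1
        have hχaP : ∀ (x : P₀) (k : G),
            (irrComp (act a) χ : G → ℂ) ((act.comp P₀.subtype) x k) =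
              (irrComp (act a) χ : G → ℂ) k := by
          intro x k
          show (χ : G → ℂ) (act a (act (x : A) k)) = (χ : G → ℂ) (act a k)
          have h3 : a * (x : A) * a⁻¹ ∈ P₀ := hPn.conj_mem (x : A) x.2 a
          have h4 := hχP ⟨_, h3⟩ (act a k)
          have h5 : act (a * (x : A) * a⁻¹) (act a k) = act a (act (x : A) k) := by
            rw [map_mul, map_mul, map_inv]
            simp
          rw [← h5]
          exact h4
        have h6 := glaubRel_injective (act.comp P₀.subtype) q hPp hqG (irrComp (act a) χ) χ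
          hχaP hχP β h1 hχβ
        exact (irrComp_eq_self_iff _ _).mp h6 g

theorem exists_invariant_over_of_isSolvable {A : Type v} [Group A] [Finite A] {G : Type u}
    [Group G] [Finite G] (act : A →* MulAut G) (N : Subgroup G) [N.Normal] [Fintype N]
    (hN : ∀ (a : A) (g : G), g ∈ N → act a g ∈ N) (hsolv : Group.IsSolvable A)
    (hcop : (Nat.card G).Coprime (Nat.card A)) (θ : IrrCharacter N)
    (hθ : ∀ (a : A) (m : N), (θ : N → ℂ) (actSub act N hN a m) = (θ : N → ℂ) m) :
    ∃ χ : IrrCharacter G, classInner (fun m : N => (χ : G → ℂ) m) (θ : N → ℂ) ≠ 0 ∧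
      ∀ (a : A) (g : G), (χ : G → ℂ) (act a g) = (χ : G → ℂ) g :=
  exists_invariant_over_aux _ A G act N hN rfl hsolv hcop θ hθ

end Cfsg.Agent.Lib.Helper81
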