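/-
helper81: PROJECT BP (coordinator helper92), module BP-[L4-E-EPS] (hedge):
the central idempotent of `ζ ∈ Irr(L)` lies in `Rm[L]` when `p ∤ |L|`, and evaluating a class function
on it gives `ζ(1) ⟨ϑ, ζ⟩`.
-/
import Cfsg.Agent.Lib.Helper77.BPBlockD1R
import Cfsg.Agent.Lib.Helper51.BPEv
import Cfsg.Agent.S0914

set_option autoImplicit false

namespace Cfsg.Agent.Lib.Helper81.BP

open Cfsg Cfsg.Agent.Lib.Helper16 Cfsg.Agent.Lib.Helper92.BP
open scoped ComplexConjugate

section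
variable {p : ℕ} [Fact p.Prime] {M : Ideal AlgInt}

/-- when `p ∤ |L|` every irreducible character of `L` is alone in its `p`-block -/
theorem isPBlock_singleton_of_not_dvd (hM : IsPModular p M) {L : Type*} [Group L] [Finite L]
    (hL : ¬ p ∣ Nat.card L) (ζ : IrrCharacter L) : IsPBlock M ({ζ} : Set (IrrCharacter L)) := by
  have h1 : ¬ p ∣ Nat.card L / charDegree (ζ : L → ℂ) := fun h =>
    hL (dvd_trans h (Nat.div_dvd_of_dvd (Cfsg.Agent.Lib.Helper79.irr_charDegree_dvd_card ζ)))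
  exact ⟨ζ, ((Cfsg.Agent.S0914.result p M hM ζ).mp h1).symm⟩

variable [hMp : M.IsPrime]

/-- BP-[L4-E-EPS] : the central idempotent of `ζ ∈ Irr(L)` lies in `Rm[L]` when `p ∤ |L|` -/
theorem blockIdemR_singleton_idem (hM : IsPModular p M) {L : Type*} [Group L] [Finite L]
    (hL : ¬ p ∣ Nat.card L) (ζ : IrrCharacter L) :
    IsIdempotentElem (blockIdemR M ({ζ} : Set (IrrCharacter L))) :=
  Cfsg.Agent.Lib.Helper77.BP.blockIdemR_isIdempotentElem hM (isPBlock_singleton_of_not_dvd hM hL ζ)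

set_option linter.unusedVariables false in
theorem ev_blockIdemR_singleton (hM : IsPModular p M) {L : Type*} [Group L] [Fintype L]
    (hL : ¬ p ∣ Nat.card L) (ζ : IrrCharacter L) {ϑ : L → ℂ} (hϑ : IsClassFunction L ϑ) :
    ev ϑ (blockIdemR M ({ζ} : Set (IrrCharacter L))) =
      (charDegree (ζ : L → ℂ) : ℂ) * classInner ϑ (ζ : L → ℂ) := by
  classical
  have hB := isPBlock_singleton_of_not_dvd hM hL ζ
  rw [Cfsg.Agent.Lib.Helper51.BP.ev_eq_sum]
  have hcoef : ∀ g : L, algebraMap (localSubring M) ℂ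
      ((blockIdemR M ({ζ} : Set (IrrCharacter L))).coeff g) =
      (Nat.card L : ℂ)⁻¹ * ((charDegree (ζ : L → ℂ) : ℂ) * conj ((ζ : L → ℂ) g)) := by
    intro g
    rw [Cfsg.Agent.Lib.Helper77.BP.coeff_blockIdemR, Cfsg.Agent.Lib.Helper77.BlockRed.algebraMap_complex_apply,
      Cfsg.Agent.Lib.Helper77.BP.toLocal_val (blockCoeff_memLocalRing hB g)]
    unfold blockCoeff
    rw [finsum_mem_singleton, Cfsg.Agent.Lib.Helper79.irr_apply_one_eq_charDegree ζ]
  simp_rw [hcoef]
  unfold classInner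
  rw [Finset.mul_sum, Finset.mul_sum]
  refine Finset.sum_congr rfl (fun g _ => ?_)
  ring

end

end Cfsg.Agent.Lib.Helper81.BP
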