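/-
helper81: PROJECT BP (coordinator helper92), module BP-[L4-E-PROD] (hedge):
characters of an internal direct product `E = Q × L` (`Q` a `p`-group, `L` a `p'`-group).
-/
import Cfsg.Agent.Lib.Helper80.CharBasic
import Mathlib

set_option autoImplicit false

namespace Cfsg.Agent.Lib.Helper81.BP

open Cfsg

section GenChar
variable {G : Type*} [Group G]

theorem h81_isGenChar_comp {H : Type*} [Group H] (f : H →* G) {θ : G → ℂ}
    (hθ : IsGeneralizedCharacter G θ) : IsGeneralizedCharacter H (fun h => θ (f h)) := by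
  obtain ⟨χ, ψ, hχ, hψ, rfl⟩ := hθ
  exact ⟨_, _, Cfsg.Agent.Lib.Helper80.isCharacter_comp f hχ,
    Cfsg.Agent.Lib.Helper80.isCharacter_comp f hψ, rfl⟩

theorem h81_isGenChar_mul_char {θ ζ : G → ℂ} (hθ : IsGeneralizedCharacter G θ)
    (hζ : IsCharacter G ζ) : IsGeneralizedCharacter G (θ * ζ) := by
  obtain ⟨χ, ψ, hχ, hψ, rfl⟩ := hθ
  exact ⟨χ * ζ, ψ * ζ, Cfsg.Agent.Lib.Helper80.isCharacter_mul hχ hζ,
    Cfsg.Agent.Lib.Helper80.isCharacter_mul hψ hζ, sub_mul χ ψ ζ⟩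

theorem h81_isGenChar_zero : IsGeneralizedCharacter G 0 :=
  ⟨0, 0, Cfsg.Agent.Lib.Helper80.isCharacter_zero, Cfsg.Agent.Lib.Helper80.isCharacter_zero,
    (sub_zero 0).symm⟩

theorem h81_isGenChar_add {a b : G → ℂ} (ha : IsGeneralizedCharacter G a)
    (hb : IsGeneralizedCharacter G b) : IsGeneralizedCharacter G (a + b) := by
  obtain ⟨χ, ψ, hχ, hψ, rfl⟩ := ha
  obtain ⟨χ', ψ', hχ', hψ', rfl⟩ := hb
  exact ⟨χ + χ', ψ + ψ', Cfsg.Agent.Lib.Helper80.isCharacter_add hχ hχ',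
    Cfsg.Agent.Lib.Helper80.isCharacter_add hψ hψ', by abel⟩

theorem h81_isGenChar_sum {ι : Type*} (s : Finset ι) (f : ι → G → ℂ)
    (h : ∀ i ∈ s, IsGeneralizedCharacter G (f i)) : IsGeneralizedCharacter G (∑ i ∈ s, f i) := by
  classical
  induction s using Finset.induction with
  | empty => simpa using h81_isGenChar_zero
  | insert i s hi ih =>
    rw [Finset.sum_insert hi]
    exact h81_isGenChar_add (h i (Finset.mem_insert_self i s))
      (ih fun j hj => h j (Finset.mem_insert_of_mem hj))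

end GenChar

/-- BP-[L4-E-PROD] : characters of an internal direct product `E = Q × L` -/
theorem isGeneralizedCharacter_of_prod {G : Type*} [Group G] [Finite G] {p : ℕ} [Fact p.Prime]
    {E Q L : Subgroup G} (hQE : Q ≤ E)
    (hLE : L ≤ E) (hQ : IsPGroup p Q) (hL : ∀ s ∈ L, ¬ p ∣ orderOf s)
    (hcomm : ∀ u ∈ Q, ∀ s ∈ L, u * s = s * u) (hgen : ∀ g ∈ E, ∃ u ∈ Q, ∃ s ∈ L, g = u * s)
    {Φ : G → ℂ} {ι : Type*} (J : Finset ι) (ν : ι → Q → ℂ) (ζ : ι → L → ℂ)
    (hν : ∀ j ∈ J, IsGeneralizedCharacter Q (ν j)) (hζ : ∀ j ∈ J, IsCharacter L (ζ j))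
    (hΦ : ∀ (u : Q) (s : L), Φ ((u : G) * (s : G)) = ∑ j ∈ J, ν j u * ζ j s) :
    IsGeneralizedCharacter E (fun e : E => Φ e) := by
  classical
  -- `Q ∩ L = 1`
  have hQL : ∀ x : G, x ∈ Q → x ∈ L → x = 1 := by
    intro x hxQ hxL
    obtain ⟨k, hk⟩ := hQ ⟨x, hxQ⟩
    have hk' : x ^ p ^ k = 1 := by
      have := congrArg Subtype.val hk
      simpa using this
    have hdvd : orderOf x ∣ p ^ k := orderOf_dvd_of_pow_eq_one hk'
    obtain ⟨m, -, hxm⟩ := (Nat.dvd_prime_pow (Fact.out : p.Prime)).mp hdvd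
    have hm : m = 0 := by
      by_contra hne
      exact hL x hxL (hxm ▸ dvd_pow_self p hne)
    rw [hm, pow_zero] at hxm
    exact orderOf_eq_one_iff.mp hxm
  -- the product map
  let φ : Q × L →* E :=
    { toFun := fun x => ⟨(x.1 : G) * (x.2 : G), E.mul_mem (hQE x.1.2) (hLE x.2.2)⟩
      map_one' := by
        apply Subtype.ext
        simp
      map_mul' := by
        rintro ⟨u, s⟩ ⟨u', s'⟩
        apply Subtype.ext
        have h1 := hcomm u' u'.2 s s.2
        show ((u * u' : Q) : G) * ((s * s' : L) : G) = ((u : G) * (s : G)) * ((u' : G) * (s' : G))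
        rw [Subgroup.coe_mul, Subgroup.coe_mul]
        calc (u : G) * u' * ((s : G) * s') = u * ((u' : G) * s) * s' := by group
          _ = u * ((s : G) * u') * s' := by rw [h1]
          _ = (u : G) * s * ((u' : G) * s') := by group }
  have hφ : ∀ (u : Q) (s : L), ((φ (u, s) : E) : G) = (u : G) * (s : G) := fun _ _ => rfl
  have hinj : Function.Injective φ := by
    rintro ⟨u, s⟩ ⟨u', s'⟩ h
    have h' : (u : G) * s = u' * s' := congrArg Subtype.val h
    have e1 : (u' : G)⁻¹ * u = s' * (s : G)⁻¹ := by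
      have : (u' : G)⁻¹ * ((u : G) * s) * (s : G)⁻¹ = (u' : G)⁻¹ * ((u' : G) * s') * (s : G)⁻¹ := by
        rw [h']
      calc (u' : G)⁻¹ * u = (u' : G)⁻¹ * ((u : G) * s) * (s : G)⁻¹ := by group
        _ = (u' : G)⁻¹ * ((u' : G) * s') * (s : G)⁻¹ := this
        _ = s' * (s : G)⁻¹ := by group
    have hx1 : (u' : G)⁻¹ * u = 1 :=
      hQL _ (Q.mul_mem (Q.inv_mem u'.2) u.2) (e1 ▸ L.mul_mem s'.2 (L.inv_mem s.2))
    have hu : u = u' := Subtype.ext (inv_mul_eq_one.mp hx1).symm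
    have hs : s = s' := by
      have : (s' : G) * (s : G)⁻¹ = 1 := by rw [← e1, hx1]
      exact Subtype.ext (mul_inv_eq_one.mp this).symm
    rw [hu, hs]
  have hsurj : Function.Surjective φ := by
    rintro ⟨g, hg⟩
    obtain ⟨u, hu, s, hs, rfl⟩ := hgen g hg
    exact ⟨(⟨u, hu⟩, ⟨s, hs⟩), rfl⟩
  let e : (Q × L) ≃* E := MulEquiv.ofBijective φ ⟨hinj, hsurj⟩
  -- the function on `Q × L`
  have hΨ : IsGeneralizedCharacter (Q × L) (fun x => ∑ j ∈ J, ν j x.1 * ζ j x.2) := by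
    have hrw : (fun x : Q × L => ∑ j ∈ J, ν j x.1 * ζ j x.2) =
        ∑ j ∈ J, ((fun x : Q × L => ν j x.1) * (fun x : Q × L => ζ j x.2)) := by
      funext x
      rw [Finset.sum_apply]
      rfl
    rw [hrw]
    refine h81_isGenChar_sum J _ (fun j hj => ?_)
    exact h81_isGenChar_mul_char (h81_isGenChar_comp (MonoidHom.fst Q L) (hν j hj))
      (Cfsg.Agent.Lib.Helper80.isCharacter_comp (MonoidHom.snd Q L) (hζ j hj))
  have hfin := h81_isGenChar_comp e.symm.toMonoidHom hΨ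
  have heq : (fun x : E => Φ x) =
      (fun x : E => ∑ j ∈ J, ν j (e.symm.toMonoidHom x).1 * ζ j (e.symm.toMonoidHom x).2) := by
    funext x
    obtain ⟨⟨u, s⟩, rfl⟩ := hsurj x
    have h1 : e.symm.toMonoidHom (φ (u, s)) = (u, s) := e.symm_apply_apply (u, s)
    rw [h1, hφ]
    exact hΦ u s
  rw [heq]
  exact hfin

end Cfsg.Agent.Lib.Helper81.BP
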