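/-
helper81: PROJECT BP (coordinator helper92), module BP-[L3-INV], exact sheet statement:
`χ(u c)` depends only on `Br_u(c)`, for idempotents `c` of `A^<u>`.
-/
import Cfsg.Agent.Lib.Helper81.BPInv
import Cfsg.Agent.Lib.Helper51.BPEv
import Cfsg.Agent.Lib.Helper74.BPVan

set_option autoImplicit false

namespace Cfsg.Agent.Lib.Helper81.BP

open Cfsg.Agent.Lib.Helper92.BP

variable {R : Type*} [CommRing R] [IsDomain R] [IsLocalRing R] [Algebra R ℂ]
variable {G : Type*} [Group G]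

/-- BP-[L3-INV] : `χ(u c)` depends only on `Br_u(c)`, for IDEMPOTENTS `c` of `A^<u>` -/
theorem evAt_eq_of_br_eq [Finite G] (hR : MonicSplits R) {p : ℕ} [Fact p.Prime]
    [CharP (IsLocalRing.ResidueField R) p] {χ : G → ℂ} (hχ : Cfsg.IsClassFunction G χ) {u : G}
    (hu : IsPGroup p (Subgroup.zpowers u)) {c c' : MonoidAlgebra R G}
    (hc : c ∈ fixedAlg R (Subgroup.zpowers u)) (hci : IsIdempotentElem c)
    (hc' : c' ∈ fixedAlg R (Subgroup.zpowers u)) (hci' : IsIdempotentElem c')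
    (h : br R (Subgroup.zpowers u) c = br R (Subgroup.zpowers u) c') :
    evAt χ u c = evAt χ u c' :=
  evAt_eq_of_br_eq_of hR hu
    (fun _ hc0 hci0 hbr => Cfsg.Agent.Lib.Helper74.BP.evAt_eq_zero_of_br_eq_zero hR hχ hu hc0 hci0 hbr)
    (fun x y hy => Cfsg.Agent.Lib.Helper51.BP.evAt_mul_comm χ hχ u x y hy) hc hci hc' hci' h

end Cfsg.Agent.Lib.Helper81.BP
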