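import Mathlib
import Cfsg.Prelude.Def_GeometricClasses
import Cfsg.Prelude.Def_ClassicalGeometry
import Cfsg.Agent.Lib.Helper37.BHRSU.Defs
import Cfsg.Agent.Lib.Helper37.BHRSU.Kit
import Cfsg.Agent.Lib.Helper65.BhrsuP1
import Cfsg.Agent.Lib.Helper81.BhrsuP2

/-!
BHRSU-[P2] (helper37's sheet), exact skeleton statement: `SU_n(q)`, `n ≥ 4`, lies in no stabiliser of a
decomposition.  One-liner from `Cfsg.Agent.Lib.Helper81.BhrsuP2.not_SUg_le_decompositionStabilizer_of`
with [K-GEN], [K-PERF] (helper37) and [P1] (helper65).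
-/

set_option autoImplicit false

namespace Cfsg.Agent.Lib.Helper37.BHRSU

open Cfsg Cfsg.Geo Cfsg.Agent.Lib.Helper70.AschU
open scoped MatrixGroups Matrix Kronecker

variable {F : Type*} [Field F] [Fintype F] {n q : ℕ}

/-- BHRSU-[P2] -/
theorem not_SUg_le_decompositionStabilizer (hF : Fintype.card F = q ^ 2) (hn : 4 ≤ n) {t : ℕ} (k : ℕ)
    (D : Fin t → Submodule F (Fin n → F)) (hD : IsMDecomposition k D) :
    ¬ SUg n F q ≤ decompositionStabilizer D :=
  Cfsg.Agent.Lib.Helper81.BhrsuP2.not_SUg_le_decompositionStabilizer_of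
    (fun K h => SUg_le_of_tv hF hn K h) (commutator_SUg hF hn)
    (fun W h1 h2 => not_SUg_le_subspaceStabilizer hF (by omega) W h1 h2) k D hD

end Cfsg.Agent.Lib.Helper37.BHRSU
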