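import Mathlib
import Cfsg.Prelude.Def_Characters
import Cfsg.Prelude.Def_CharExt
import Cfsg.Agent.S0867
import Cfsg.Agent.Lib.Helper15.DetChar
import Cfsg.Agent.Lib.Helper75.GaloisPow
import Cfsg.Agent.Lib.Helper79.Integrality
import Cfsg.Agent.Lib.Helper81.IrrTwist

/-!
# Rationality of the canonical extension (helper81)

* `detChar_galois`: `det (σ ∘ χ) = σ ∘ det χ`.
* `detOrder_galois`: `o(σ ∘ χ) = o(χ)` for a field automorphism `σ` of `ℂ`.
* `detOrder_dvd_card`: `o(χ)` divides `|G|`.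
* `canonical_ext_pow_eq`: if `χh ∈ Irr(Γ)` restricts irreducibly to `N ⊴ Γ`, `(|N|, |Γ:N|) = 1` and
  `o(χh)` is coprime to `|Γ:N|`, then `χh (y ^ m) = χh y` whenever `m ≡ 1 mod |N|` is coprime to
  `|Γ|`.
-/

set_option autoImplicit false

namespace Cfsg.Agent.Lib.Helper81

open Cfsg

variable {G : Type*} [Group G] [Finite G]

theorem detChar_galois {χ : G → ℂ} (hχ : IsCharacter G χ) (σ : ℂ →+* ℂ) (g : G) :
    Cfsg.detChar (fun x => σ (χ x)) g = σ (Cfsg.detChar χ g) := by
  obtain ⟨n, ρ, rfl⟩ := hχ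
  have h1 : (fun x => σ (ρ.character x)) = (galoisTwist σ ρ).character := by
    funext x
    exact (galoisTwist_character σ ρ x).symm
  rw [h1, Cfsg.Agent.Lib.Helper15.detChar_eq_det, Cfsg.Agent.Lib.Helper15.detChar_eq_det,
    galoisTwist_apply, LinearMap.det_toLin', ← LinearMap.det_toMatrix' (ρ g)]
  exact (RingHom.map_det σ _).symm

theorem detOrder_galois {χ : G → ℂ} (hχ : IsCharacter G χ) (σ : ℂ ≃+* ℂ) :
    Cfsg.detOrder (fun x => σ (χ x)) = Cfsg.detOrder χ := by
  unfold Cfsg.detOrder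
  have h1 : Cfsg.detChar (fun x => σ (χ x)) =
      (MonoidHom.compLeft ((σ : ℂ →+* ℂ) : ℂ →* ℂ) G) (Cfsg.detChar χ) := by
    funext g
    exact detChar_galois hχ (σ : ℂ →+* ℂ) g
  rw [h1]
  apply orderOf_injective
  intro f₁ f₂ h
  funext g
  have := congrFun h g
  exact σ.injective this

theorem detOrder_dvd_card {χ : G → ℂ} (hχ : IsCharacter G χ) :
    Cfsg.detOrder χ ∣ Nat.card G := by
  obtain ⟨δ, hδ⟩ := Cfsg.Agent.Lib.Helper15.exists_detHom hχ
  unfold Cfsg.detOrder
  apply orderOf_dvd_of_pow_eq_one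
  funext g
  rw [Pi.pow_apply, Pi.one_apply, hδ, ← Units.val_pow_eq_pow_val, ← map_pow,
    pow_card_eq_one', map_one, Units.val_one]

/-- The canonical extension is fixed by the Galois automorphisms fixing the `|N|`-th roots of
unity. -/
theorem canonical_ext_pow_eq {Γ : Type*} [Group Γ] [Finite Γ] (N : Subgroup Γ) [hN : N.Normal]
    (χh : Γ → ℂ) (hχh : IsIrrCharacter Γ χh) (hres : IsIrrCharacter N (fun n : N => χh n))
    (hcop : (Nat.card N).Coprime N.index) (hdet : Nat.Coprime N.index (Cfsg.detOrder χh))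
    (m : ℕ) (hm1 : m ≡ 1 [MOD Nat.card N]) (hmc : m.Coprime (Nat.card Γ)) (y : Γ) :
    χh (y ^ m) = χh y := by
  obtain ⟨σ, -, hσ⟩ := Cfsg.Agent.Lib.Helper75.exists_ringEquiv_character_pow (G := Γ) m hmc
  have hchar : IsCharacter Γ χh := Cfsg.Agent.Lib.Helper78.IsIrrCharacter.isCharacter hχh
  have hcf : IsClassFunction Γ χh := Cfsg.Agent.Lib.Helper78.IsCharacter.isClassFunction hchar
  have hirr' : IsIrrCharacter Γ (fun x => σ (χh x)) := isIrrCharacter_galois hχh σ
  have hres' : ∀ n : N, (fun x => σ (χh x)) n = (fun n : N => χh n) n := by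
    intro n
    show σ (χh n) = χh n
    rw [hσ χh hchar]
    congr 1
    have h1 : ((n : Γ) ^ m) = (n : Γ) ^ 1 := by
      rw [pow_eq_pow_iff_modEq]
      exact hm1.of_dvd (Subgroup.orderOf_dvd_natCard N n.2)
    rw [h1, pow_one]
  have hdet' : Nat.Coprime N.index (Cfsg.detOrder (fun x => σ (χh x))) := by
    rw [detOrder_galois hchar σ]
    exact hdet
  -- apply the uniqueness of the canonical extension
  have hcharN : IsCharacter N (fun n : N => χh n) :=
    Cfsg.Agent.Lib.Helper78.IsIrrCharacter.isCharacter hres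
  have hd : (fun n : N => χh n) 1 = (charDegree (fun n : N => χh n) : ℂ) :=
    Cfsg.Agent.Lib.Helper80.char_one_eq_charDegree (G := N) (χ := fun n : N => χh n) hcharN
  have hddvd : charDegree (fun n : N => χh n) ∣ Nat.card N :=
    Cfsg.Agent.Lib.Helper79.irr_charDegree_dvd_card ⟨_, hres⟩
  have hodvd : Cfsg.detOrder (fun n : N => χh n) ∣ Nat.card N := detOrder_dvd_card hcharN
  have hcop' : Nat.Coprime N.index (Cfsg.detOrder (fun n : N => χh n) *
      charDegree (fun n : N => χh n)) := by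
    apply Nat.Coprime.mul_right
    · exact (Nat.Coprime.coprime_dvd_left hodvd hcop).symm
    · exact (Nat.Coprime.coprime_dvd_left hddvd hcop).symm
  obtain ⟨χ0, -, huniq⟩ := Cfsg.Agent.S0867.result N (fun n : N => χh n) hres
    (fun g n => hcf _ g) _ hd hcop'
  have e1 : χh = χ0 := huniq χh hχh (fun n => rfl) hdet
  have e2 : (fun x => σ (χh x)) = χ0 := huniq _ hirr' hres' hdet'
  have e3 := congrFun (e2.trans e1.symm) y
  rw [← e3]
  exact (hσ χh hchar y).symm

end Cfsg.Agent.Lib.Helper81
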