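import Mathlib
import Cfsg.Prelude.Def_Characters
import Cfsg.Agent.Lib.Helper81.GlaubermanP
import Cfsg.Agent.Lib.Helper81.GlaubermanOver

/-!
# Actions on subgroups and quotients (helper81)

`act : P →* MulAut K`.

* `ActStable act H`: the subgroup `H` is mapped into itself.
* `quotAct act Q hQ : P →* MulAut (K ⧸ Q)` (the action on a stable subgroup is `actSub`).
* `relFix act Q hQ`: the preimage in `K` of the fixed points of `P` on `K ⧸ Q`.
* `IsActInv act H ψ`: the function `ψ` on `H` is `P`-invariant.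
-/

set_option autoImplicit false

namespace Cfsg.Agent.Lib.Helper81

open Cfsg

universe u v

section RelAct

variable {K : Type u} [Group K] {P : Type v} [Group P] (act : P →* MulAut K)

/-- the subgroup `H` is stable under the action -/
def ActStable (H : Subgroup K) : Prop := ∀ (x : P) (k : K), k ∈ H → act x k ∈ H

theorem ActStable.inf {H L : Subgroup K} (hH : ActStable act H) (hL : ActStable act L) :
    ActStable act (H ⊓ L) := fun x k hk => ⟨hH x k hk.1, hL x k hk.2⟩

theorem map_eq_of_actStable {Q : Subgroup K} (hQ : ActStable act Q) (x : P) :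
    Q.map ((act x : K ≃* K) : K →* K) = Q := by
  apply le_antisymm
  · rintro _ ⟨q, hq, rfl⟩
    exact hQ x q hq
  · intro q hq
    refine ⟨act x⁻¹ q, hQ x⁻¹ q hq, ?_⟩
    show act x (act x⁻¹ q) = q
    rw [← MulAut.mul_apply, ← map_mul, mul_inv_cancel, map_one, MulAut.one_apply]

/-- the induced action on the quotient by a stable normal subgroup -/
def quotAct (Q : Subgroup K) [Q.Normal] (hQ : ActStable act Q) : P →* MulAut (K ⧸ Q) where
  toFun x := QuotientGroup.congr Q Q (act x) (map_eq_of_actStable act hQ x)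
  map_one' := by
    ext q
    obtain ⟨k, rfl⟩ := QuotientGroup.mk_surjective q
    show QuotientGroup.congr Q Q (act 1) _ (k : K ⧸ Q) = (k : K ⧸ Q)
    rw [QuotientGroup.congr_mk]
    simp
  map_mul' x y := by
    ext q
    obtain ⟨k, rfl⟩ := QuotientGroup.mk_surjective q
    rw [MulAut.mul_apply]
    show QuotientGroup.congr Q Q (act (x * y)) _ (k : K ⧸ Q) =
      QuotientGroup.congr Q Q (act x) _ (QuotientGroup.congr Q Q (act y) _ (k : K ⧸ Q))
    rw [QuotientGroup.congr_mk, QuotientGroup.congr_mk, QuotientGroup.congr_mk, map_mul,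
      MulAut.mul_apply]

theorem quotAct_mk (Q : Subgroup K) [Q.Normal] (hQ : ActStable act Q) (x : P) (k : K) :
    quotAct act Q hQ x (k : K ⧸ Q) = ((act x k : K) : K ⧸ Q) :=
  QuotientGroup.congr_mk Q Q (act x) (map_eq_of_actStable act hQ x) k

/-- the preimage of the fixed points on `K ⧸ Q` -/
def relFix (Q : Subgroup K) [Q.Normal] (hQ : ActStable act Q) : Subgroup K :=
  (fixSub (quotAct act Q hQ)).comap (QuotientGroup.mk' Q)

theorem mem_relFix (Q : Subgroup K) [hQn : Q.Normal] (hQ : ActStable act Q) (k : K) :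
    k ∈ relFix act Q hQ ↔ ∀ x : P, act x k * k⁻¹ ∈ Q := by
  unfold relFix
  rw [Subgroup.mem_comap, mem_fixSub]
  apply forall_congr'
  intro x
  rw [QuotientGroup.mk'_apply, quotAct_mk, eq_comm, QuotientGroup.eq]
  constructor
  · intro h
    have h1 := hQn.conj_mem _ h k
    have h2 : k * (k⁻¹ * act x k) * k⁻¹ = act x k * k⁻¹ := by group
    rwa [h2] at h1
  · intro h
    have h1 := hQn.conj_mem _ h k⁻¹
    have h2 : k⁻¹ * (act x k * k⁻¹) * k⁻¹⁻¹ = k⁻¹ * act x k := by group
    rwa [h2] at h1

theorem le_relFix (Q : Subgroup K) [hQn : Q.Normal] (hQ : ActStable act Q) :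
    Q ≤ relFix act Q hQ := by
  intro q hq
  rw [mem_relFix]
  intro x
  exact Q.mul_mem (hQ x q hq) (Q.inv_mem hq)

theorem mk_act_eq_of_mem_relFix (Q : Subgroup K) [hQn : Q.Normal] (hQ : ActStable act Q) {k : K}
    (hk : k ∈ relFix act Q hQ) (x : P) : ((act x k : K) : K ⧸ Q) = (k : K ⧸ Q) := by
  have h1 : (QuotientGroup.mk' Q k) ∈ fixSub (quotAct act Q hQ) := hk
  have h2 := (mem_fixSub _ _).1 h1 x
  rw [QuotientGroup.mk'_apply, quotAct_mk] at h2
  exact h2

theorem actStable_relFix (Q : Subgroup K) [hQn : Q.Normal] (hQ : ActStable act Q) :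
    ActStable act (relFix act Q hQ) := by
  intro y k hk
  show (QuotientGroup.mk' Q (act y k)) ∈ fixSub (quotAct act Q hQ)
  rw [QuotientGroup.mk'_apply, mk_act_eq_of_mem_relFix act Q hQ hk y]
  exact hk

/-- `ψ : H → ℂ` is invariant under the action -/
def IsActInv (H : Subgroup K) (ψ : H → ℂ) : Prop :=
  ∀ (x : P) (h h' : H), (h' : K) = act x h → ψ h' = ψ h

theorem isActInv_iff (H : Subgroup K) (hH : ActStable act H) (ψ : H → ℂ) :
    IsActInv act H ψ ↔ ∀ (x : P) (h : H), ψ (actSub act H hH x h) = ψ h := by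
  constructor
  · intro h x k
    exact h x k _ rfl
  · intro h x k k' hk'
    have : k' = actSub act H hH x k := Subtype.ext hk'
    rw [this]
    exact h x k

end RelAct

end Cfsg.Agent.Lib.Helper81
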