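import Mathlib
import Cfsg.Prelude.Def_Characters
import Cfsg.Prelude.Def_CharExt
import Cfsg.Agent.S0867
import Cfsg.Agent.Lib.Helper81.RelAct
import Cfsg.Agent.Lib.Helper81.CanonicalRational
import Cfsg.Agent.Lib.Helper15.DetChar2

/-!
# The canonical extension is invariant under automorphisms (helper81)

* `detOrder_comp_mulEquiv`: the determinantal order is invariant under automorphisms.
* `exists_actInv_extension`: an invariant irreducible character `ϑ` of a normal subgroup `N` of
  coprime index which is invariant under an action `a : P →* MulAut Y` stabilising `N`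
  has an `a`-invariant irreducible extension.
-/

set_option autoImplicit false

namespace Cfsg.Agent.Lib.Helper81

open Cfsg

universe u v

theorem detOrder_comp_mulEquiv {Y : Type*} [Group Y] [Finite Y] {χ : Y → ℂ}
    (hχ : IsCharacter Y χ) (e : Y ≃* Y) :
    Cfsg.detOrder (fun y => χ (e y)) = Cfsg.detOrder χ := by
  unfold Cfsg.detOrder
  have h1 : Cfsg.detChar (fun y => χ (e y)) = fun y => Cfsg.detChar χ (e y) := by
    funext y
    exact Cfsg.Agent.Lib.Helper15.detChar_comp_hom e.toMonoidHom hχ y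
  rw [h1]
  let c : (Y → ℂ) →* (Y → ℂ) :=
    { toFun := fun F => fun y => F (e y)
      map_one' := rfl
      map_mul' := fun _ _ => rfl }
  have hc : Function.Injective c := by
    intro F F' h
    funext y
    have := congrFun h (e.symm y)
    simpa [c] using this
  exact orderOf_injective c hc (Cfsg.detChar χ)

theorem exists_actInv_extension {Y : Type u} [Group Y] [Finite Y] {P : Type v} [Group P]
    (a : P →* MulAut Y) (N : Subgroup Y) [hN : N.Normal] (hNs : ActStable a N)
    (hcop : (Nat.card N).Coprime N.index) (ϑ : N → ℂ) (hϑ : IsIrrCharacter N ϑ)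
    (hinv : ∀ (g : Y) (n : N), ϑ ⟨g * n * g⁻¹, hN.conj_mem (n : Y) n.2 g⟩ = ϑ n)
    (hP : ∀ (x : P) (n : N), ϑ (actSub a N hNs x n) = ϑ n) :
    ∃ χ : Y → ℂ, IsIrrCharacter Y χ ∧ (∀ n : N, χ n = ϑ n) ∧
      ∀ (x : P) (y : Y), χ (a x y) = χ y := by
  have hcharN : IsCharacter N ϑ := Cfsg.Agent.Lib.Helper78.IsIrrCharacter.isCharacter hϑ
  have hd : ϑ 1 = (charDegree ϑ : ℂ) := Cfsg.Agent.Lib.Helper80.char_one_eq_charDegree hcharN
  have hddvd : charDegree ϑ ∣ Nat.card N :=
    Cfsg.Agent.Lib.Helper79.irr_charDegree_dvd_card ⟨_, hϑ⟩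
  have hodvd : Cfsg.detOrder ϑ ∣ Nat.card N := detOrder_dvd_card hcharN
  have hcop' : Nat.Coprime N.index (Cfsg.detOrder ϑ * charDegree ϑ) := by
    apply Nat.Coprime.mul_right
    · exact (Nat.Coprime.coprime_dvd_left hodvd hcop).symm
    · exact (Nat.Coprime.coprime_dvd_left hddvd hcop).symm
  obtain ⟨χ0, ⟨h1, h2, h3⟩, huniq⟩ := Cfsg.Agent.S0867.result N ϑ hϑ hinv _ hd hcop'
  refine ⟨χ0, h1, h2, ?_⟩
  intro x y
  have hchar0 : IsCharacter Y χ0 := Cfsg.Agent.Lib.Helper78.IsIrrCharacter.isCharacter h1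
  have h4 : (fun y => χ0 (a x y)) = χ0 := by
    apply huniq
    · exact isIrrCharacter_comp_mulEquiv h1 (a x)
    · intro n
      show χ0 (a x (n : Y)) = ϑ n
      have : a x (n : Y) = ((actSub a N hNs x n : N) : Y) := rfl
      rw [this, h2, hP]
    · rw [detOrder_comp_mulEquiv hchar0 (a x), h3]
      exact (Nat.Coprime.coprime_dvd_left hodvd hcop).symm
  exact congrFun h4 y

end Cfsg.Agent.Lib.Helper81
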