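import Mathlib
import Cfsg.Agent.Lib.Helper88.Chen.Defs
import Cfsg.Agent.Lib.Helper88.Chen.ChenA

set_option autoImplicit false

namespace Cfsg.Agent.Lib.Helper81.ChenKey0

open Cfsg.Agent.Lib.Helper88.Chen

/-- a non-trivial `q`-element whose class size is prime to `q` (in the centre of a Sylow subgroup) -/
theorem exists_central_sylow_elt {G : Type*} [Group G] [Finite G] (q : ℕ) [Fact q.Prime]
    (hq : q ∣ Nat.card G) :
    ∃ s : G, s ≠ 1 ∧ (∃ k : ℕ, orderOf s = q ^ k) ∧ ¬ q ∣ cls s := by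
  obtain ⟨Q⟩ : Nonempty (Sylow q G) := inferInstance
  have hQ : (Q : Subgroup G) ≠ ⊥ := Q.ne_bot_of_dvd_card hq
  have : Nontrivial ↥(Q : Subgroup G) := (Subgroup.nontrivial_iff_ne_bot _).mpr hQ
  have := IsPGroup.center_nontrivial Q.isPGroup'
  obtain ⟨z, hz⟩ := exists_ne (1 : ↥(Subgroup.center ↥(Q : Subgroup G)))
  refine ⟨((z : ↥(Q : Subgroup G)) : G), ?_, ?_, ?_⟩
  · intro h
    apply hz
    apply Subtype.ext
    apply Subtype.ext
    simpa using h
  · obtain ⟨k, hk⟩ := (IsPGroup.iff_orderOf.mp Q.isPGroup') (z : ↥(Q : Subgroup G))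
    exact ⟨k, by rw [← hk, Subgroup.orderOf_coe]⟩
  · have hle : (Q : Subgroup G) ≤ Subgroup.centralizer ({((z : ↥(Q : Subgroup G)) : G)} : Set G) := by
      intro g hg
      rw [Subgroup.mem_centralizer_singleton_iff]
      have := (Subgroup.mem_center_iff.mp z.2) ⟨g, hg⟩
      exact congrArg Subtype.val this
    intro hdvd
    exact Q.not_dvd_index (hdvd.trans (Subgroup.index_dvd_of_le hle))

/-- a centraliser of index prime to `p` contains a Sylow `p`-subgroup -/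
theorem exists_sylow_le_centralizer {G : Type*} [Group G] [Finite G] (p : ℕ) [Fact p.Prime] (s : G)
    (hps : ¬ p ∣ cls s) :
    ∃ P : Sylow p G, (P : Subgroup G) ≤ Subgroup.centralizer ({s} : Set G) := by
  obtain ⟨P'⟩ : Nonempty (Sylow p ↥(Subgroup.centralizer ({s} : Set G))) := inferInstance
  have hcard : Nat.card ((P' : Subgroup _).map (Subgroup.centralizer ({s} : Set G)).subtype) =
      p ^ (Nat.card G).factorization p := by
    rw [Subgroup.card_map_of_injective (Subgroup.subtype_injective _), P'.card_eq_multiplicity]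
    congr 1
    have h1 := card_centralizer_mul_cls s
    rw [← h1, Nat.factorization_mul Nat.card_pos.ne' (cls_pos s).ne', Finsupp.add_apply,
      Nat.factorization_eq_zero_of_not_dvd hps, add_zero]
  refine ⟨Sylow.ofCard _ hcard, ?_⟩
  rw [Sylow.coe_ofCard]
  exact Subgroup.map_subtype_le _

/-- elements of a Sylow `p`-subgroup inside the centraliser of a `q`-element commute with it, coprime orders -/
theorem commute_coprime_of_mem {G : Type*} [Group G] [Finite G] (p q : ℕ) [Fact p.Prime] [Fact q.Prime]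
    (hpq : p ≠ q) (s : G) (k : ℕ) (hs : orderOf s = q ^ k) (P : Sylow p G)
    (hP : (P : Subgroup G) ≤ Subgroup.centralizer ({s} : Set G)) (u : G) (hu : u ∈ (P : Subgroup G)) :
    s * u = u * s ∧ (orderOf s).Coprime (orderOf u) := by
  refine ⟨?_, ?_⟩
  · have := hP hu
    rw [Subgroup.mem_centralizer_singleton_iff] at this
    exact this.symm
  · obtain ⟨j, hj⟩ := (IsPGroup.iff_orderOf.mp P.isPGroup') ⟨u, hu⟩
    rw [Subgroup.orderOf_mk] at hj
    rw [hs, hj]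
    exact Nat.Coprime.pow _ _ ((Nat.coprime_primes Fact.out Fact.out).mpr (Ne.symm hpq))

end Cfsg.Agent.Lib.Helper81.ChenKey0

namespace Cfsg.Agent.Lib.Helper88.Chen

open Cfsg.Agent.Lib.Helper81.ChenKey0

/-- **[CHEN-KEY0]** a prime dividing `|G|` but no class size -/
theorem key0 {G : Type*} [Group G] [Finite G] (T₁ T₂ : ℕ → Prop)
    (ha : ∀ x : G, x ≠ 1 → T₁ (cls x) ∨ T₂ (cls x))
    (hb : ∀ x : G, ¬ (T₁ (cls x) ∧ T₂ (cls x)))
    (hc₁ : ∀ x y : G, cls x ∣ cls y → T₁ (cls x) → T₁ (cls y))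
    (hc₂ : ∀ x y : G, cls x ∣ cls y → T₂ (cls x) → T₂ (cls y))
    (p a₀ b₀ : ℕ) [Fact p.Prime] [Fact a₀.Prime] [Fact b₀.Prime] (hpa : p ≠ a₀) (hpb : p ≠ b₀)
    (ha₀ : a₀ ∣ Nat.card G) (hb₀ : b₀ ∣ Nat.card G)
    (hi₁ : ∀ x : G, T₁ (cls x) → b₀ ∣ cls x)
    (hi₂ : ∀ x : G, T₂ (cls x) → a₀ ∣ cls x)
    (hp : ∀ x : G, ¬ p ∣ cls x) (hpG : p ∣ Nat.card G) : False := by
  obtain ⟨s, hs1, ⟨ks, hsk⟩, hsa⟩ := exists_central_sylow_elt (G := G) a₀ ha₀
  obtain ⟨w, hw1, ⟨kw, hwk⟩, hwb⟩ := exists_central_sylow_elt (G := G) b₀ hb₀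
  have hsT1 : T₁ (cls s) := (ha s hs1).resolve_right (fun h => hsa (hi₂ s h))
  have hwT2 : T₂ (cls w) := (ha w hw1).resolve_left (fun h => hwb (hi₁ w h))
  obtain ⟨P1, hP1⟩ := exists_sylow_le_centralizer p s (hp s)
  obtain ⟨P2, hP2⟩ := exists_sylow_le_centralizer p w (hp w)
  have h1 : ∀ u ∈ (P1 : Subgroup G), u ≠ 1 → T₁ (cls u) := by
    intro u hu hu1
    obtain ⟨hc, hco⟩ := commute_coprime_of_mem p a₀ hpa s ks hsk P1 hP1 u hu
    obtain ⟨d1, d2⟩ := cls_dvd_cls_mul s u hc hco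
    rcases ha u hu1 with h | h
    · exact h
    · exact absurd ⟨hc₁ s (s * u) d1 hsT1, hc₂ u (s * u) d2 h⟩ (hb (s * u))
  have h2 : ∀ u ∈ (P2 : Subgroup G), u ≠ 1 → T₂ (cls u) := by
    intro u hu hu1
    obtain ⟨hc, hco⟩ := commute_coprime_of_mem p b₀ hpb w kw hwk P2 hP2 u hu
    obtain ⟨d1, d2⟩ := cls_dvd_cls_mul w u hc hco
    rcases ha u hu1 with h | h
    · exact absurd ⟨hc₁ u (w * u) d2 h, hc₂ w (w * u) d1 hwT2⟩ (hb (w * u))
    · exact h
  obtain ⟨g, hg⟩ := MulAction.exists_smul_eq G P1 P2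
  have hne : (P1 : Subgroup G) ≠ ⊥ := P1.ne_bot_of_dvd_card hpG
  obtain ⟨⟨u, hu⟩, hu1⟩ := (Subgroup.ne_bot_iff_exists_ne_one).mp hne
  have hu1' : u ≠ 1 := fun h => hu1 (Subtype.ext h)
  have hmem : g * u * g⁻¹ ∈ (P2 : Subgroup G) := by
    rw [← hg, Sylow.coe_subgroup_smul]
    have := Subgroup.smul_mem_pointwise_smul u (MulAut.conj g) (P1 : Subgroup G) hu
    simpa [MulAut.smul_def] using this
  have hne2 : g * u * g⁻¹ ≠ 1 := by
    intro h
    apply hu1'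
    have : u = g⁻¹ * (g * u * g⁻¹) * g := by group
    rw [this, h]; group
  have t2 := h2 _ hmem hne2
  rw [cls_conj] at t2
  exact hb u ⟨h1 u hu hu1', t2⟩

end Cfsg.Agent.Lib.Helper88.Chen
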