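import Mathlib
import Cfsg.Agent.Lib.Helper88.Chen.Defs

set_option autoImplicit false

namespace Cfsg.Agent.Lib.Helper81.ChenM

theorem exists_orderOf_eq_mul {M : Type*} [Group M] [Finite M] (x : M) (r b : ℕ) (hr : r.Prime)
    (hb : b.Prime) (hrb : r ≠ b) (hrx : r ∣ orderOf x)
    (hbc : b ∣ Nat.card (Subgroup.centralizer ({x} : Set M))) : ∃ w : M, orderOf w = r * b := by
  have : Fact b.Prime := ⟨hb⟩
  obtain ⟨y, hy⟩ := exists_prime_orderOf_dvd_card' b hbc
  have hy' : orderOf (y : M) = b := by rw [Subgroup.orderOf_coe]; exact hy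
  have hcomm : Commute (y : M) x := by
    have := y.2
    rw [Subgroup.mem_centralizer_iff] at this
    exact (this x rfl).symm
  have hz : orderOf (x ^ (orderOf x / r)) = r :=
    orderOf_pow_orderOf_div (orderOf_pos x).ne' hrx
  have hc2 : Commute (x ^ (orderOf x / r)) (y : M) := (hcomm.pow_right _).symm
  refine ⟨x ^ (orderOf x / r) * y, ?_⟩
  rw [hc2.orderOf_mul_eq_mul_orderOf_of_coprime (by rw [hz, hy']; exact (Nat.coprime_primes hr hb).mpr hrb),
    hz, hy']

end Cfsg.Agent.Lib.Helper81.ChenM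

namespace Cfsg.Agent.Lib.Helper88.Chen

open Cfsg.Agent.Lib.Helper81.ChenM

/-- **[CHEN-M]** elements of `M` whose order is divisible by a prime of `A` have centralisers of `A`-order -/
theorem typeA_of_prime_dvd {M : Type*} [Group M] [Finite M] (A : Set ℕ)
    (hA : ∀ a ∈ A, ∀ b ∉ A, a.Prime → b.Prime → a ∣ Nat.card M → b ∣ Nat.card M →
      ¬ ∃ x : M, orderOf x = a * b)
    (x : M) (r : ℕ) (hr : r.Prime) (hrx : r ∣ orderOf x) (hrA : r ∈ A) :
    ∀ b : ℕ, b.Prime → b ∉ A → ¬ b ∣ Nat.card (Subgroup.centralizer ({x} : Set M)) := by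
  intro b hb hbA hbc
  have hrb : r ≠ b := fun h => hbA (h ▸ hrA)
  refine hA r hrA b hbA hr hb (hrx.trans (orderOf_dvd_natCard x))
    (hbc.trans (Subgroup.card_subgroup_dvd_card _)) ?_
  exact exists_orderOf_eq_mul x r b hr hb hrb hrx hbc

/-- **[CHEN-M]** elements of `M` whose order is divisible by a prime outside `A` -/
theorem typeB_of_prime_dvd {M : Type*} [Group M] [Finite M] (A : Set ℕ)
    (hA : ∀ a ∈ A, ∀ b ∉ A, a.Prime → b.Prime → a ∣ Nat.card M → b ∣ Nat.card M →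
      ¬ ∃ x : M, orderOf x = a * b)
    (x : M) (r : ℕ) (hr : r.Prime) (hrx : r ∣ orderOf x) (hrA : r ∉ A) :
    ∀ a : ℕ, a.Prime → a ∈ A → ¬ a ∣ Nat.card (Subgroup.centralizer ({x} : Set M)) := by
  intro a ha haA hac
  have hra : r ≠ a := fun h => hrA (h ▸ haA)
  refine hA a haA r hrA ha hr (hac.trans (Subgroup.card_subgroup_dvd_card _))
    (hrx.trans (orderOf_dvd_natCard x)) ?_
  obtain ⟨w, hw⟩ := exists_orderOf_eq_mul x r a hr ha hra hrx hac
  exact ⟨w, by rw [hw, mul_comm]⟩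

end Cfsg.Agent.Lib.Helper88.Chen
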