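import Mathlib
import Cfsg.Prelude.Def_Characters
import Cfsg.Agent.Lib.Helper75.Clifford
import Cfsg.Agent.Lib.Helper78.CharMore
import Cfsg.Agent.Lib.Helper79.Integrality

set_option autoImplicit false

namespace Cfsg.Agent.Lib.Helper81

open Cfsg Cfsg.Agent.Lib.Helper75 Cfsg.Agent.Lib.Helper78

universe u

/-- The multiplicity of an irreducible constituent of the restriction of `χ ∈ Irr(G)` to a normal
subgroup divides `χ(1)`. -/
theorem dvd_charDegree_of_constituent {G : Type u} [Group G] [Fintype G] (K : Subgroup G)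
    [hK : K.Normal] [Fintype K] {χ : G → ℂ} (hχ : IsIrrCharacter G χ) {θ : K → ℂ}
    (hθ : IsIrrCharacter K θ) (e : ℕ) (he : classInner (fun n : K => χ n) θ = e) (he0 : e ≠ 0) :
    e ∣ charDegree χ := by
  classical
  have hconst : classInner (fun n : K => χ n) θ ≠ 0 := by
    rw [he]
    exact_mod_cast he0
  have hfin := clifford_finset K hχ hθ hconst
  have h1 := congrFun hfin 1
  simp only [Pi.smul_apply, Finset.sum_apply, smul_eq_mul] at h1
  have h2 : ∀ φ ∈ conjOrbit K θ, (φ : K → ℂ) 1 = (charDegree θ : ℂ) := by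
    intro φ hφ
    obtain ⟨g, hg⟩ := (mem_conjOrbit K).mp hφ
    rw [← hg, conjFun_apply]
    have : (⟨g * ((1 : K) : G) * g⁻¹, hK.conj_mem _ (1 : K).2 g⟩ : K) = 1 := by
      apply Subtype.ext
      simp
    rw [this]
    exact IsCharacter.apply_one_eq_charDegree (IsIrrCharacter.isCharacter hθ)
  rw [Finset.sum_congr rfl h2, Finset.sum_const, nsmul_eq_mul] at h1
  have h3 : χ ((1 : K) : G) = (charDegree χ : ℂ) := by
    rw [OneMemClass.coe_one]
    exact IsCharacter.apply_one_eq_charDegree (IsIrrCharacter.isCharacter hχ)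
  rw [h3, he] at h1
  have h4 : charDegree χ = e * ((conjOrbit K θ).card * charDegree θ) := by exact_mod_cast h1
  exact ⟨_, h4⟩

/-- In a group of order prime to `p`, a non-zero multiplicity in the restriction to a normal
subgroup is prime to `p`. -/
theorem not_dvd_of_constituent {G : Type u} [Group G] [Fintype G] (K : Subgroup G)
    [hK : K.Normal] [Fintype K] (p : ℕ) (hp : ¬ p ∣ Nat.card G) (χ : IrrCharacter G)
    (θ : IrrCharacter K) (e : ℕ) (he : classInner (fun n : K => (χ : G → ℂ) n) (θ : K → ℂ) = e)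
    (he0 : e ≠ 0) : ¬ p ∣ e := by
  intro h
  apply hp
  exact (h.trans (dvd_charDegree_of_constituent K χ.2 θ.2 e he he0)).trans
    (Cfsg.Agent.Lib.Helper79.irr_charDegree_dvd_card χ)

end Cfsg.Agent.Lib.Helper81
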