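import Mathlib
import Cfsg.Prelude.Def_Blocks
import Cfsg.Agent.Lib.Helper81.SchurClassSum

/-!
# Counting commutators via characters (helper81)

`commCount z` is the number of pairs `(x, y)` with `x y x⁻¹ y⁻¹ = z`; it is a class function with
`classInner commCount χ = |G| / χ 1` for every irreducible character `χ`.
-/

set_option autoImplicit false
open Cfsg

namespace Cfsg.Agent.Lib.Helper81

open Representation
open scoped ComplexConjugate

variable {G : Type*} [Group G] [Fintype G]

/-- The number of pairs `(x, y)` with commutator `x y x⁻¹ y⁻¹ = z`, as a complex number. -/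
noncomputable def commCount (z : G) : ℂ :=
  (Nat.card {xy : G × G // xy.1 * xy.2 * xy.1⁻¹ * xy.2⁻¹ = z} : ℂ)

theorem commCount_eq_sum [DecidableEq G] (z : G) :
    commCount z = ∑ x : G, ∑ y : G, if x * y * x⁻¹ * y⁻¹ = z then (1 : ℂ) else 0 := by
  unfold commCount
  rw [Nat.card_eq_fintype_card, Fintype.card_subtype, ← Finset.sum_product', Finset.sum_boole]
  simp

omit [Fintype G] in
theorem commCount_isClassFunction : IsClassFunction G (commCount (G := G)) := by
  intro g h
  unfold commCount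
  congr 1
  refine Nat.card_congr ?_
  refine ⟨fun p => ⟨(h⁻¹ * p.1.1 * h, h⁻¹ * p.1.2 * h), ?_⟩,
    fun p => ⟨(h * p.1.1 * h⁻¹, h * p.1.2 * h⁻¹), ?_⟩, ?_, ?_⟩
  · have := p.2
    simp only
    calc h⁻¹ * p.1.1 * h * (h⁻¹ * p.1.2 * h) * (h⁻¹ * p.1.1 * h)⁻¹ * (h⁻¹ * p.1.2 * h)⁻¹
        = h⁻¹ * (p.1.1 * p.1.2 * p.1.1⁻¹ * p.1.2⁻¹) * h := by group
      _ = g := by rw [this]; group
  · have := p.2
    simp only
    calc h * p.1.1 * h⁻¹ * (h * p.1.2 * h⁻¹) * (h * p.1.1 * h⁻¹)⁻¹ * (h * p.1.2 * h⁻¹)⁻¹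
        = h * (p.1.1 * p.1.2 * p.1.1⁻¹ * p.1.2⁻¹) * h⁻¹ := by group
      _ = h * g * h⁻¹ := by rw [this]
  · intro p
    ext <;> simp <;> group
  · intro p
    ext <;> simp <;> group

theorem sum_commCount_mul (c : G → ℂ) :
    ∑ g : G, commCount g * c g = ∑ x : G, ∑ y : G, c (x * y * x⁻¹ * y⁻¹) := by
  classical
  simp only [commCount_eq_sum, Finset.sum_mul]
  rw [Finset.sum_comm]
  refine Finset.sum_congr rfl (fun x _ => ?_)
  rw [Finset.sum_comm]
  refine Finset.sum_congr rfl (fun y _ => ?_)
  simp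

end Cfsg.Agent.Lib.Helper81

namespace Cfsg.Agent.Lib.Helper81
open Representation
open scoped ComplexConjugate

variable {G : Type*} [Group G] [Fintype G]

theorem classInner_commCount (χ : IrrCharacter G) :
    classInner (commCount (G := G)) (χ : G → ℂ) = (Nat.card G : ℂ) / (χ : G → ℂ) 1 := by
  obtain ⟨χ, n, ρ, hirr, rfl⟩ := χ
  have := hirr
  unfold classInner
  rw [sum_commCount_mul (fun g => conj (ρ.character g))]
  simp only [← map_sum]
  rw [sum_char_commutator ρ, Representation.char_one]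
  have hne : (Nat.card G : ℂ) ≠ 0 := by
    rw [Nat.card_eq_fintype_card]
    exact_mod_cast Fintype.card_ne_zero
  have hn := finrank_ne_zero_of_irreducible ρ
  simp only [map_div₀, map_mul, map_natCast, Nat.card_eq_fintype_card]
  rw [Nat.card_eq_fintype_card] at hne
  field_simp

/-- The commutator count formula, assuming completeness of the irreducible characters. -/
theorem commCount_formula_of_complete [Finite (IrrCharacter G)]
    (hcomplete : ∀ f : G → ℂ, IsClassFunction G f → ∀ z : G,
      f z = ∑ᶠ χ : IrrCharacter G, classInner f (χ : G → ℂ) * (χ : G → ℂ) z) (z : G) :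
    commCount z = (Nat.card G : ℂ) * ∑ᶠ χ : IrrCharacter G, (χ : G → ℂ) z / (χ : G → ℂ) 1 := by
  rw [hcomplete _ commCount_isClassFunction z]
  simp only [classInner_commCount]
  rw [mul_finsum]
  refine finsum_congr (fun χ => ?_)
  ring

end Cfsg.Agent.Lib.Helper81
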