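import Mathlib
import Cfsg.Prelude.Def_Characters
import Cfsg.Agent.Lib.Helper75.Clifford
import Cfsg.Agent.Lib.Helper75.Clifford3
import Cfsg.Agent.Lib.Helper78.CharMore

set_option autoImplicit false

namespace Cfsg.Agent.Lib.Helper81

open Cfsg Cfsg.Agent.Lib.Helper75 Cfsg.Agent.Lib.Helper78

universe u

/-- An irreducible constituent of the restriction to a normal subgroup `K` of an irreducible
character of degree coprime to `|G : K|` is `G`-invariant. -/
theorem constituent_invariant_of_coprime {G : Type u} [Group G] [Fintype G] (K : Subgroup G)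
    [hK : K.Normal] [Fintype K] {χ : G → ℂ} (hχ : IsIrrCharacter G χ)
    (hcop : (charDegree χ).Coprime K.index) {θ : K → ℂ} (hθ : IsIrrCharacter K θ)
    (hconst : classInner (fun n : K => χ n) θ ≠ 0) :
    ∀ g : G, conjFun K g θ = θ := by
  classical
  have hcl : IsClassFunction G χ := IsCharacter.isClassFunction (IsIrrCharacter.isCharacter hχ)
  have hres : IsCharacter K (fun n : K => χ n) :=
    isCharacter_res K (IsIrrCharacter.isCharacter hχ)
  -- the constituents are the orbit
  have hset : ∀ φ : IrrCharacter K,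
      classInner (fun n : K => χ n) (φ : K → ℂ) ≠ 0 ↔ φ ∈ conjOrbit K θ := by
    intro φ
    rw [mem_conjOrbit]
    constructor
    · intro hφ
      exact clifford_conj K hχ hθ φ.2 hconst hφ
    · rintro ⟨g, hg⟩
      rw [← hg, classInner_res_conjFun K hcl]
      exact hconst
  have hcard : Nat.card {φ : IrrCharacter K // classInner (fun n : K => χ n) (φ : K → ℂ) ≠ 0} =
      (conjOrbit K θ).card := by
    rw [Nat.card_congr (Equiv.subtypeEquivRight hset), Nat.card_eq_fintype_card,
      Fintype.card_coe]
  have hdvd1 : (conjOrbit K θ).card ∣ K.index := by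
    rw [← hcard]
    exact card_constituents_dvd_index K hχ
  -- degree equation
  obtain ⟨e, he⟩ := IsCharacter.exists_nat_classInner hres ⟨θ, hθ⟩
  have hfin := clifford_finset K hχ hθ hconst
  have hdeg : charDegree χ = e * ((conjOrbit K θ).card * charDegree θ) := by
    have h1 := congrFun hfin 1
    simp only [Pi.smul_apply, Finset.sum_apply, smul_eq_mul] at h1
    have h2 : ∀ φ ∈ conjOrbit K θ, (φ : K → ℂ) 1 = (charDegree θ : ℂ) := by
      intro φ hφ
      obtain ⟨g, hg⟩ := (mem_conjOrbit K).mp hφ
      rw [← hg, conjFun_apply]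
      have : (⟨g * ((1 : K) : G) * g⁻¹, hK.conj_mem _ (1 : K).2 g⟩ : K) = 1 := by
        apply Subtype.ext
        simp
      rw [this]
      exact IsCharacter.apply_one_eq_charDegree (IsIrrCharacter.isCharacter hθ)
    rw [Finset.sum_congr rfl h2, Finset.sum_const, nsmul_eq_mul] at h1
    have h3 : χ ((1 : K) : G) = (charDegree χ : ℂ) := by
      rw [OneMemClass.coe_one]
      exact IsCharacter.apply_one_eq_charDegree (IsIrrCharacter.isCharacter hχ)
    have he' : classInner (fun n : K => χ n) θ = (e : ℂ) := he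
    rw [h3, he'] at h1
    exact_mod_cast h1
  have hdvd2 : (conjOrbit K θ).card ∣ charDegree χ := by
    rw [hdeg]
    exact ⟨e * charDegree θ, by ring⟩
  have hone : (conjOrbit K θ).card = 1 := by
    have := Nat.dvd_gcd hdvd2 hdvd1
    rw [hcop.gcd_eq_one] at this
    exact Nat.dvd_one.mp this
  obtain ⟨φ₀, hφ₀⟩ := Finset.card_eq_one.mp hone
  have hθmem : (⟨θ, hθ⟩ : IrrCharacter K) ∈ conjOrbit K θ :=
    (mem_conjOrbit K).mpr ⟨1, conjFun_one K θ⟩
  intro g
  have hgmem : (⟨conjFun K g θ, isIrrCharacter_conjFun K hθ g⟩ : IrrCharacter K) ∈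
      conjOrbit K θ := (mem_conjOrbit K).mpr ⟨g, rfl⟩
  rw [hφ₀, Finset.mem_singleton] at hθmem hgmem
  have := hgmem.trans hθmem.symm
  exact congrArg Subtype.val this

end Cfsg.Agent.Lib.Helper81
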