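import Mathlib
import Cfsg.Prelude.Def_Characters
import Cfsg.Agent.Lib.Helper15.Gallagher
import Cfsg.Agent.Lib.Helper4.LinearExt
import Cfsg.Agent.Lib.Helper75.Clifford
import Cfsg.Agent.Lib.Helper75.Ramified
import Cfsg.Agent.Lib.Helper78.CharMore
import Cfsg.Agent.Lib.Helper80.Codegree

set_option autoImplicit false

namespace Cfsg.Agent.Lib.Helper81

open Cfsg Cfsg.Agent.Lib.Helper75 Cfsg.Agent.Lib.Helper78

universe u

/-- **Gallagher, coprime degree form**: if `ψ ∈ Irr(G)` restricts irreducibly to the normal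
subgroup `K` and `χ ∈ Irr(G)` lies over `ψ|_K` with degree coprime to `|G : K|`, then
`χ = ν ψ` for a linear character `ν` of `G` trivial on `K`. -/
theorem exists_monoidHom_mul_of_over {G : Type u} [Group G] [Fintype G] (K : Subgroup G)
    [hK : K.Normal] [Fintype K] {ψ : G → ℂ} (hψ : IsIrrCharacter G ψ)
    (hψK : IsIrrCharacter K (fun n : K => ψ n)) {χ : G → ℂ} (hχ : IsIrrCharacter G χ)
    (hover : classInner (fun n : K => χ n) (fun n : K => ψ n) ≠ 0)
    (hcop : (charDegree χ).Coprime K.index) :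
    ∃ ν : G →* ℂˣ, K ≤ ν.ker ∧ χ = fun g => ((ν g : ℂˣ) : ℂ) * ψ g := by
  classical
  have hψcl : IsClassFunction G ψ := IsCharacter.isClassFunction (IsIrrCharacter.isCharacter hψ)
  have hχcl : IsClassFunction G χ := IsCharacter.isClassFunction (IsIrrCharacter.isCharacter hχ)
  have hone : IsIrrCharacter K (fun _ : K => (1 : ℂ)) := isIrrCharacter_one
  have hprodeq : (fun _ : K => (1 : ℂ)) * (fun n : K => ψ n) = fun n : K => ψ n := by
    funext n
    simp
  obtain ⟨-, -, h3⟩ := Cfsg.Agent.Lib.Helper15.gallagher_core K (fun _ : K => (1 : ℂ))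
    (fun n : K => ψ n) hone (fun g n => rfl) (fun g n => hψcl n g)
    (by rw [hprodeq]; exact hψK) ψ hψ (fun n => rfl)
  have hχover : classInner (indFun K ((fun _ : K => (1 : ℂ)) * (fun n : K => ψ n))) χ ≠ 0 := by
    rw [hprodeq, frobenius_reciprocity K _ hχcl, ← classInner_conj_symm]
    intro h
    apply hover
    have := congrArg (starRingEnd ℂ) h
    simpa using this
  obtain ⟨β, hβ1, hβ2⟩ := h3 ⟨χ, hχ⟩ hχover
  -- `β` is trivial on `K`
  have hβcl : IsClassFunction G (β : G → ℂ) :=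
    IsCharacter.isClassFunction (IsIrrCharacter.isCharacter β.2)
  have hβover : classInner (fun n : K => (β : G → ℂ) n) (fun _ : K => (1 : ℂ)) ≠ 0 := by
    rw [frobenius_reciprocity K _ hβcl, ← classInner_conj_symm] at hβ1
    intro h
    apply hβ1
    rw [h, map_zero]
  obtain ⟨e, he0, -, he⟩ := res_eq_smul_of_invariant K β.2 hone hβover (fun g => rfl)
  have hβK : ∀ k : K, (β : G → ℂ) k = (β : G → ℂ) 1 := by
    intro k
    have h1 := congrFun he k
    have h2 := congrFun he 1
    simp only [Pi.smul_apply, smul_eq_mul, mul_one] at h1 h2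
    rw [h1]
    rw [OneMemClass.coe_one] at h2
    exact h2.symm
  -- degree of `β`
  have hdeg : charDegree χ = charDegree (β : G → ℂ) * charDegree ψ := by
    have h1 := congrFun hβ2 1
    rw [Pi.mul_apply,
      IsCharacter.apply_one_eq_charDegree (IsIrrCharacter.isCharacter β.2),
      IsCharacter.apply_one_eq_charDegree (IsIrrCharacter.isCharacter hψ)] at h1
    have h2 : χ 1 = (charDegree χ : ℂ) :=
      IsCharacter.apply_one_eq_charDegree (IsIrrCharacter.isCharacter hχ)
    have h3 : ((⟨χ, hχ⟩ : IrrCharacter G) : G → ℂ) 1 = χ 1 := rfl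
    rw [h3, h2] at h1
    exact_mod_cast h1.symm
  have hβdvd1 : charDegree (β : G → ℂ) ∣ charDegree χ := ⟨_, hdeg⟩
  have hβdvd2 : charDegree (β : G → ℂ) ∣ K.index := by
    have h1 := Cfsg.Agent.Lib.Helper80.charDegree_dvd_index_charKer β
    refine h1.trans (Subgroup.index_dvd_of_le ?_)
    intro k hk
    exact hβK ⟨k, hk⟩
  have hβone : charDegree (β : G → ℂ) = 1 := by
    have := Nat.dvd_gcd hβdvd1 hβdvd2
    rw [hcop.gcd_eq_one] at this
    exact Nat.dvd_one.mp this
  have hβ1' : (β : G → ℂ) 1 = 1 := by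
    rw [IsCharacter.apply_one_eq_charDegree (IsIrrCharacter.isCharacter β.2), hβone]
    simp
  obtain ⟨ν, hν⟩ := Cfsg.Agent.Lib.Helper4.exists_hom_of_linear
    (IsIrrCharacter.isCharacter β.2) hβ1'
  refine ⟨ν, ?_, ?_⟩
  · intro k hk
    rw [MonoidHom.mem_ker]
    have h1 := hβK ⟨k, hk⟩
    rw [hβ1', hν, Cfsg.Agent.Lib.Helper4.homToFun_apply] at h1
    exact Units.ext h1
  · funext g
    have h1 := congrFun hβ2 g
    rw [Pi.mul_apply, hν, Cfsg.Agent.Lib.Helper4.homToFun_apply] at h1
    exact h1.symm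

end Cfsg.Agent.Lib.Helper81
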