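import Mathlib
import Cfsg.Prelude.Def_Characters
import Cfsg.Agent.Lib.Helper75.Clifford
import Cfsg.Agent.Lib.Helper78.CharMore
import Cfsg.Agent.Lib.Helper79.Integrality
import Cfsg.Agent.Lib.Helper81.Gallagher
import Cfsg.Agent.Lib.Helper81.CoprimeExt
import Cfsg.Agent.Lib.Helper81.CoprimeClifford
import Cfsg.Agent.Lib.Helper81.CoprimeGallagher

set_option autoImplicit false

namespace Cfsg.Agent.Lib.Helper81

open Cfsg Cfsg.Agent.Lib.Helper75 Cfsg.Agent.Lib.Helper78

universe u

/-- `charDegree` only depends on the value at `1`. -/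
theorem charDegree_congr {G H : Type*} [Group G] [Group H] {f : G → ℂ} {g : H → ℂ}
    (h : f 1 = g 1) : charDegree f = charDegree g := by
  unfold charDegree
  rw [h]

/-- **Counting characters of degree coprime to the index of a normal Hall subgroup** with
solvable quotient: they are parametrised by the invariant irreducible characters of `K` and the
linear characters of `G ⧸ K`. -/
theorem card_irr_coprime_degree {G : Type u} [Group G] [Finite G] (K : Subgroup G)
    [hK : K.Normal] (hsolv : Group.IsSolvable (G ⧸ K)) (hcop : (Nat.card K).Coprime K.index) :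
    Nat.card {χ : IrrCharacter G // (charDegree (χ : G → ℂ)).Coprime K.index} =
      Nat.card {θ : IrrCharacter K // ∀ g : G, conjFun K g (θ : K → ℂ) = (θ : K → ℂ)} *
        Nat.card (G ⧸ K →* ℂˣ) := by
  classical
  have := Fintype.ofFinite G
  have := Fintype.ofFinite K
  rw [← Nat.card_prod]
  symm
  -- chosen extensions
  have hext : ∀ θ : {θ : IrrCharacter K // ∀ g : G, conjFun K g (θ : K → ℂ) = (θ : K → ℂ)},
      ∃ ψ : G → ℂ, IsIrrCharacter G ψ ∧ ∀ n : K, ψ n = (θ.1 : K → ℂ) n := fun θ =>
    exists_irr_extension_of_coprime K hsolv hcop (θ.1 : K → ℂ) θ.1.2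
      (fun g n => congrFun (θ.2 g) n)
  choose ext hextirr hextres using hext
  have hresirr : ∀ θ, IsIrrCharacter K (fun n : K => ext θ n) := by
    intro θ
    have : (fun n : K => ext θ n) = (θ.1 : K → ℂ) := funext (hextres θ)
    rw [this]
    exact θ.1.2
  -- the map
  let F : {θ : IrrCharacter K // ∀ g : G, conjFun K g (θ : K → ℂ) = (θ : K → ℂ)} ×
      (G ⧸ K →* ℂˣ) → {χ : IrrCharacter G // (charDegree (χ : G → ℂ)).Coprime K.index} :=
    fun x => ⟨⟨fun g => ((x.2 (QuotientGroup.mk g) : ℂˣ) : ℂ) * ext x.1 g,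
      isIrrCharacter_monoidHom_mul (x.2.comp (QuotientGroup.mk' K)) (hextirr x.1)⟩, by
        have h1 : charDegree (fun g => ((x.2 (QuotientGroup.mk g) : ℂˣ) : ℂ) * ext x.1 g) =
            charDegree (x.1.1 : K → ℂ) := by
          apply charDegree_congr
          rw [QuotientGroup.mk_one, map_one, Units.val_one, one_mul]
          have := hextres x.1 1
          rw [OneMemClass.coe_one] at this
          exact this
        show (charDegree (fun g => ((x.2 (QuotientGroup.mk g) : ℂˣ) : ℂ) * ext x.1 g)).Coprime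
          K.index
        rw [h1]
        exact Nat.Coprime.coprime_dvd_left
          (Cfsg.Agent.Lib.Helper79.irr_charDegree_dvd_card x.1.1) hcop⟩
  have hFval : ∀ x g, ((F x).1 : G → ℂ) g =
      ((x.2 (QuotientGroup.mk g) : ℂˣ) : ℂ) * ext x.1 g := fun x g => rfl
  apply Nat.card_eq_of_bijective F
  constructor
  · -- injective
    rintro ⟨θ, ν⟩ ⟨θ', ν'⟩ h
    have hfun : ∀ g, ((ν (QuotientGroup.mk g) : ℂˣ) : ℂ) * ext θ g =
        ((ν' (QuotientGroup.mk g) : ℂˣ) : ℂ) * ext θ' g := by
      intro g
      have := congrArg (fun χ : {χ : IrrCharacter G // (charDegree (χ : G → ℂ)).Coprime K.index} =>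
        (χ.1 : G → ℂ) g) h
      simpa [hFval] using this
    have hθ : θ = θ' := by
      apply Subtype.ext
      apply Subtype.ext
      funext n
      have h1 := hfun n
      have hmk : (QuotientGroup.mk (n : G) : G ⧸ K) = 1 :=
        (QuotientGroup.eq_one_iff _).mpr n.2
      rw [hmk, map_one, map_one, Units.val_one, one_mul, one_mul, hextres, hextres] at h1
      exact h1
    subst hθ
    have hν : ν = ν' := by
      have hquot : (ν'⁻¹ * ν).comp (QuotientGroup.mk' K) = 1 := by
        apply monoidHom_eq_one_of_mul_eq K.subtype (hextirr θ) (hresirr θ)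
        · intro m
          show (ν'⁻¹ * ν) (QuotientGroup.mk (m : G)) = 1
          have hmk : (QuotientGroup.mk (m : G) : G ⧸ K) = 1 :=
            (QuotientGroup.eq_one_iff _).mpr m.2
          rw [hmk, map_one]
        · intro t
          show (((ν'⁻¹ * ν) (QuotientGroup.mk t) : ℂˣ) : ℂ) * ext θ t = ext θ t
          have h1 := hfun t
          rw [MonoidHom.mul_apply, MonoidHom.inv_apply, Units.val_mul, mul_assoc, h1,
            ← mul_assoc, ← Units.val_mul, inv_mul_cancel, Units.val_one, one_mul]
      apply MonoidHom.ext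
      intro q
      obtain ⟨g, rfl⟩ := QuotientGroup.mk_surjective q
      have h1 := congrArg (fun f : G →* ℂˣ => f g) hquot
      simp only [MonoidHom.comp_apply, QuotientGroup.mk'_apply, MonoidHom.mul_apply,
        MonoidHom.inv_apply, MonoidHom.one_apply] at h1
      have h2 : ν (QuotientGroup.mk g) = ν' (QuotientGroup.mk g) := by
        have := congrArg (fun z => ν' (QuotientGroup.mk g) * z) h1
        simpa using this
      rw [h2]
    rw [hν]
  · -- surjective
    rintro ⟨χ, hχcop⟩
    obtain ⟨θ, hθ⟩ := exists_constituent_res K χ.2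
    have hθinv := constituent_invariant_of_coprime K χ.2 hχcop θ.2 hθ
    have hover : classInner (fun n : K => (χ : G → ℂ) n)
        (fun n : K => ext ⟨θ, hθinv⟩ n) ≠ 0 := by
      have : (fun n : K => ext ⟨θ, hθinv⟩ n) = (θ : K → ℂ) := funext (hextres ⟨θ, hθinv⟩)
      rw [this]
      exact hθ
    obtain ⟨ν, hνK, hνχ⟩ := exists_monoidHom_mul_of_over K (hextirr ⟨θ, hθinv⟩)
      (hresirr ⟨θ, hθinv⟩) χ.2 hover hχcop
    refine ⟨(⟨θ, hθinv⟩, QuotientGroup.lift K ν hνK), ?_⟩
    apply Subtype.ext
    apply Subtype.ext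
    funext g
    rw [hFval]
    show ((QuotientGroup.lift K ν hνK (QuotientGroup.mk g) : ℂˣ) : ℂ) * ext ⟨θ, hθinv⟩ g = _
    rw [QuotientGroup.lift_mk, hνχ]

end Cfsg.Agent.Lib.Helper81
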