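import Mathlib
import Cfsg.Prelude.Def_Characters
import Cfsg.Agent.Lib.Helper72.SolvableNormal
import Cfsg.Agent.Lib.Helper81.CoprimeChar
import Cfsg.Agent.Lib.Helper81.GlaubermanP
import Cfsg.Agent.Lib.Helper81.GlaubermanRel
import Cfsg.Agent.Lib.Helper81.GlaubermanStep
import Cfsg.Agent.Lib.Helper81.IrrTransport

set_option autoImplicit false

namespace Cfsg.Agent.Lib.Helper81

open Cfsg MulAction

universe u v

/-- Isomorphic groups have equally many irreducible characters. -/
theorem card_irrCharacter_congr {C D : Type*} [Group C] [Group D] (e : C ≃* D) :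
    Nat.card (IrrCharacter C) = Nat.card (IrrCharacter D) :=
  Nat.card_congr
    { toFun := irrTransport e
      invFun := irrTransport e.symm
      left_inv := irrTransport_symm_irrTransport e
      right_inv := irrTransport_irrTransport_symm e }

/-- The fixed subgroup of `A ⧸ N` on the fixed subgroup of `N` is the fixed subgroup of `A`. -/
def fixSubQuotEquiv {K : Type u} [Group K] {A : Type v} [Group A] (act : A →* MulAut K)
    (N : Subgroup A) [N.Normal] : fixSub (actQuot act N) ≃* fixSub act where
  toFun d := ⟨((d : fixSub (act.comp N.subtype)) : K), fun a => by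
    have := d.2 (QuotientGroup.mk a)
    exact congrArg Subtype.val this⟩
  invFun c := ⟨⟨(c : K), fun x => c.2 (x : A)⟩, fun q => by
    obtain ⟨a, rfl⟩ := QuotientGroup.mk_surjective q
    apply Subtype.ext
    exact c.2 a⟩
  left_inv d := rfl
  right_inv c := rfl
  map_mul' a b := rfl

/-- **Glauberman count, character form**: a finite solvable group `A` acting coprimely on a
finite group `K` fixes as many irreducible characters of `K` as `C_K(A)` has irreducible
characters. -/
theorem card_invIrr_eq_card_irr_fixSub_of_isSolvable_aux :
    ∀ (n : ℕ) (A : Type v) [Group A] [Finite A] (K : Type u) [Group K] [Finite K]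
      (act : A →* MulAut K), Nat.card A = n → Group.IsSolvable A →
      (Nat.card K).Coprime (Nat.card A) →
      Nat.card (InvIrr act) = Nat.card (IrrCharacter (fixSub act)) := by
  intro n
  induction n using Nat.strong_induction_on with
  | _ n ih =>
    intro A _ _ K _ _ act hn hsolv hcop
    classical
    rcases subsingleton_or_nontrivial A with hA | hA
    · have h1 : ∀ x : A, act x = 1 := by
        intro x
        rw [Subsingleton.elim x 1, map_one]
      have e1 : InvIrr act ≃ IrrCharacter K :=
        Equiv.subtypeUnivEquiv (fun θ x k => by rw [h1 x]; rfl)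
      have htop : fixSub act = ⊤ := by
        ext k
        simp only [Subgroup.mem_top, iff_true]
        intro x
        rw [h1 x]; rfl
      rw [Nat.card_congr e1]
      exact card_irrCharacter_congr
        ((Subgroup.topEquiv (G := K)).symm.trans (MulEquiv.subgroupCongr htop.symm))
    · obtain ⟨q, hq, N, hNn, hNbot, hNp⟩ :=
        Cfsg.Agent.Lib.Helper72.exists_normal_pgroup_of_solvable hsolv
      have : Fact q.Prime := ⟨hq⟩
      have hqN : q ∣ Nat.card N := by
        obtain ⟨k, hk⟩ := hNp.exists_card_eq
        rcases Nat.eq_zero_or_pos k with h0 | h0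
        · exfalso
          rw [h0, pow_zero] at hk
          exact hNbot (Subgroup.card_eq_one.mp hk)
        · rw [hk]
          exact dvd_pow_self q h0.ne'
      have hqA : q ∣ Nat.card A := hqN.trans (Subgroup.card_subgroup_dvd_card N)
      have hK : ¬ q ∣ Nat.card K := by
        intro h
        have := Nat.dvd_gcd h hqA
        rw [hcop.gcd_eq_one] at this
        exact hq.one_lt.ne' (Nat.dvd_one.mp this)
      rw [card_invIrr_step act N q hNp hK]
      have hcard : Nat.card A = Nat.card (A ⧸ N) * Nat.card N :=
        Subgroup.card_eq_card_quotient_mul_card_subgroup N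
      have hNgt : 1 < Nat.card N :=
        lt_of_lt_of_le hq.one_lt (Nat.le_of_dvd Nat.card_pos hqN)
      have hlt : Nat.card (A ⧸ N) < n := by
        rw [← hn, hcard]
        have hpos : 0 < Nat.card (A ⧸ N) := Nat.card_pos
        nlinarith
      have hsolvQ : Group.IsSolvable (A ⧸ N) := by
        have := hsolv
        infer_instance
      have hcopQ : (Nat.card (fixSub (act.comp N.subtype))).Coprime (Nat.card (A ⧸ N)) := by
        apply Nat.Coprime.coprime_dvd_left (card_fixSub_dvd _)
        apply Nat.Coprime.coprime_dvd_right _ hcop
        rw [hcard]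
        exact dvd_mul_right _ _
      rw [ih (Nat.card (A ⧸ N)) hlt (A ⧸ N) (fixSub (act.comp N.subtype)) (actQuot act N) rfl
        hsolvQ hcopQ]
      exact card_irrCharacter_congr (fixSubQuotEquiv act N)

theorem card_invIrr_eq_card_irr_fixSub_of_isSolvable {A : Type v} [Group A] [Finite A]
    {K : Type u} [Group K] [Finite K] (act : A →* MulAut K) (hsolv : Group.IsSolvable A)
    (hcop : (Nat.card K).Coprime (Nat.card A)) :
    Nat.card (InvIrr act) = Nat.card (IrrCharacter (fixSub act)) :=
  card_invIrr_eq_card_irr_fixSub_of_isSolvable_aux _ A K act rfl hsolv hcop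

end Cfsg.Agent.Lib.Helper81
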