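import Mathlib
import Cfsg.Prelude.Def_Characters
import Cfsg.Agent.S4911
import Cfsg.Agent.Lib.Helper75.Clifford
import Cfsg.Agent.Lib.Helper78.CharMore
import Cfsg.Agent.Lib.Helper81.CoprimeChar
import Cfsg.Agent.Lib.Helper81.CoprimeCount
import Cfsg.Agent.Lib.Helper81.GlaubermanP
import Cfsg.Agent.Lib.Helper81.GlaubermanFix

set_option autoImplicit false

namespace Cfsg.Agent.Lib.Helper81

open Cfsg Cfsg.Agent.Lib.Helper75 Cfsg.Agent.Lib.Helper78

universe u

/-- **Characters of degree coprime to a solvable Hall complement**: if `G = K ⋊ H` with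
`(|K|, |H|) = 1` and `H` solvable, the irreducible characters of `G` of degree coprime to `|H|`
are counted by `|Irr(C_K(H))| · |Hom(H, ℂˣ)|`. -/
theorem card_irr_coprime_of_isComplement' {G : Type u} [Group G] [Finite G] (K H : Subgroup G)
    [hK : K.Normal] (hc : K.IsComplement' H) (hcop : (Nat.card K).Coprime (Nat.card H))
    (hsolv : Group.IsSolvable H) (hHK : H ≤ Subgroup.normalizer (K : Set G)) :
    Nat.card {χ : IrrCharacter G // (charDegree (χ : G → ℂ)).Coprime (Nat.card H)} =
      Nat.card (IrrCharacter (fixSub (Cfsg.Agent.S4911.normAct H K hHK))) *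
        Nat.card (H →* ℂˣ) := by
  classical
  have hidx : K.index = Nat.card H := hc.symm.index_eq_card
  let e : G ⧸ K ≃* H := hc.symm.QuotientMulEquiv
  have hsolvQ : Group.IsSolvable (G ⧸ K) := by
    have := hsolv
    exact Group.isSolvable_of_isSolvable_injective (f := e.toMonoidHom) e.injective
  have hcop' : (Nat.card K).Coprime K.index := by rw [hidx]; exact hcop
  have hL := card_irr_coprime_degree K hsolvQ hcop'
  rw [hidx] at hL
  rw [hL, Nat.card_congr (MulEquiv.monoidHomCongrLeftEquiv e)]
  congr 1
  rw [← card_invIrr_eq_card_irr_fixSub_of_isSolvable (Cfsg.Agent.S4911.normAct H K hHK) hsolv hcop]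
  apply Nat.card_congr
  apply Equiv.subtypeEquivRight
  intro θ
  have hθcl : IsClassFunction K (θ : K → ℂ) :=
    IsCharacter.isClassFunction (IsIrrCharacter.isCharacter θ.2)
  constructor
  · intro h x k
    have := congrFun (h (x : G)) k
    rw [conjFun_apply] at this
    exact this
  · intro h g
    obtain ⟨⟨k₀, x⟩, hkx⟩ := hc.2 g
    simp only at hkx
    rw [← hkx, conjFun_mul, conjFun_of_mem K hθcl k₀]
    funext k
    rw [conjFun_apply]
    exact h x k

end Cfsg.Agent.Lib.Helper81
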