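import Mathlib

/-!
# Cyclic `p`-sections from a cyclic Sylow subgroup of the quotient (helper81)

* `isCyclic_section_of_sylow`: if `H / K` has a cyclic Sylow `p`-subgroup and `|S : S ∩ K|` is a
  power of `p`, then `S / (S ∩ K)` is cyclic.
* `exists_complement_of_index`: a subgroup of index the full `p`-part complements a Sylow
  `p`-subgroup.
-/

set_option autoImplicit false

namespace Cfsg.Agent.Lib.Helper81

theorem isCyclic_section_of_sylow {H : Type*} [Group H] [Finite H] (K S : Subgroup H)
    [hK : K.Normal] (p : ℕ) [hp : Fact p.Prime] (P : Sylow p (H ⧸ K)) (hcyc : IsCyclic P)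
    (b : ℕ) (hKS : K.relIndex S = p ^ b) : IsCyclic (S ⧸ K.subgroupOf S) := by
  classical
  let f : S ⧸ K.subgroupOf S →* H ⧸ K :=
    QuotientGroup.map (K.subgroupOf S) K S.subtype (le_refl _)
  have hf : Function.Injective f := by
    rw [injective_iff_map_eq_one]
    intro q hq
    obtain ⟨t, rfl⟩ := QuotientGroup.mk_surjective q
    have h1 : f (t : S ⧸ K.subgroupOf S) = ((t : H) : H ⧸ K) := rfl
    rw [h1, QuotientGroup.eq_one_iff] at hq
    rw [QuotientGroup.eq_one_iff, Subgroup.mem_subgroupOf]
    exact hq
  have hpg : IsPGroup p (S ⧸ K.subgroupOf S) := by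
    apply IsPGroup.of_card (n := b)
    rw [← hKS]
    rfl
  have hpr : IsPGroup p f.range := hpg.of_surjective f.rangeRestrict f.rangeRestrict_surjective
  obtain ⟨Q, hQ⟩ := hpr.exists_le_sylow
  have hQcyc : IsCyclic Q := (MulEquiv.isCyclic (Sylow.equiv P Q)).1 hcyc
  let g : S ⧸ K.subgroupOf S →* Q := (Subgroup.inclusion hQ).comp f.rangeRestrict
  have hg : Function.Injective g := by
    intro x y hxy
    apply hf
    have h1 := congrArg (fun q : Q => (q : H ⧸ K)) hxy
    exact h1
  exact isCyclic_of_injective g hg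

theorem exists_complement_of_index {Q : Type*} [Group Q] [Finite Q] (p : ℕ) [hp : Fact p.Prime]
    (P : Sylow p Q) (M : Subgroup Q) (hM : M.index = p ^ (Nat.card Q).factorization p) :
    M.IsComplement' (P : Subgroup Q) := by
  have h1 : Nat.card M * M.index = Nat.card Q := M.card_mul_index
  have h2 : Nat.card (P : Subgroup Q) = p ^ (Nat.card Q).factorization p := P.card_eq_multiplicity
  apply Subgroup.isComplement'_of_coprime
  · rw [h2, ← hM, h1]
  · rw [h2]
    apply Nat.Coprime.pow_right
    rw [Nat.coprime_comm, Nat.Prime.coprime_iff_not_dvd hp.out]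
    intro hdvd
    have hQ0 : Nat.card Q ≠ 0 := Nat.card_pos.ne'
    apply Nat.pow_succ_factorization_not_dvd hQ0 hp.out
    have h3 : p ^ (Nat.card Q).factorization p * Nat.card M = Nat.card Q := by
      rw [← hM, mul_comm]
      exact h1
    rw [pow_succ]
    calc p ^ (Nat.card Q).factorization p * p ∣ p ^ (Nat.card Q).factorization p * Nat.card M :=
          Nat.mul_dvd_mul_left _ hdvd
      _ = Nat.card Q := h3

end Cfsg.Agent.Lib.Helper81
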