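import Mathlib
import Cfsg.Prelude.Def_Blocks
import Cfsg.Agent.Lib.Helper16.LocalRing
import Cfsg.Agent.Lib.Helper77.W2pEig
import Cfsg.Agent.Lib.Helper78.CharOrtho

/-!
# S4481: two small inputs (helper81)

* `apply_ne_zero_of_mem_principalBlock`: a character of the principal `p`-block does not vanish
  at an element whose class has size prime to `p`.
* `exists_mult`: the multiplicity of an eigenvalue of an element of finite order, as a character
  sum, is a natural number.
-/

set_option autoImplicit false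

namespace Cfsg.Agent.Lib.Helper81.Dih

open Cfsg Cfsg.Agent.Lib.Helper16

theorem apply_ne_zero_of_mem_principalBlock {G : Type*} [Group G] (p : ℕ)
    (M : Ideal AlgInt) (hM : IsPModular p M) (z : G)
    (hz : ¬ p ∣ (Subgroup.centralizer ({z} : Set G)).index) (χ : IrrCharacter G)
    (hχ : χ ∈ principalBlock M G) : (χ : G → ℂ) z ≠ 0 := by
  intro h0
  have h1 : MemLocalIdeal M (centralChar (fun _ : G => (1 : ℂ)) z - centralChar (χ : G → ℂ) z) :=
    hχ z
  have h2 : centralChar (χ : G → ℂ) z = 0 := by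
    unfold centralChar
    rw [h0, mul_zero, zero_div]
  have h3 : centralChar (fun _ : G => (1 : ℂ)) z =
      ((Subgroup.centralizer ({z} : Set G)).index : ℂ) := by
    unfold centralChar
    simp
  rw [h2, h3, sub_zero] at h1
  exact hz ((memLocalIdeal_natCast_iff hM _).mp h1)

theorem exists_mult {G : Type*} [Group G] (χ : G → ℂ) (hχ : IsCharacter G χ) (σ : G) (m : ℕ)
    (hm : 0 < m) (hσ : σ ^ m = 1) (ω : ℂ) (hω : ω ^ m = 1) :
    ∃ c : ℕ, (c : ℂ) = (m : ℂ)⁻¹ * ∑ s ∈ Finset.range m, (ω⁻¹) ^ s * χ (σ ^ s) := by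
  obtain ⟨n, ρ, rfl⟩ := hχ
  exact ⟨_, Cfsg.Agent.Lib.Helper77.finrank_eigenspace_eq ρ σ m hm hσ ω hω⟩

end Cfsg.Agent.Lib.Helper81.Dih
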