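import Mathlib

/-!
# S4481: elementary facts about a dihedral subgroup with a marked generator of the rotations
(helper81)
-/

set_option autoImplicit false

namespace Cfsg.Agent.Lib.Helper81.Dih

open DihedralGroup

theorem dihedral_facts {G : Type*} [Group G] (m : ℕ) (hm : 3 ≤ m) (P : Subgroup G)
    (e : ↥P ≃* DihedralGroup m) (σ : G) (hσ : σ ∈ P) (hσo : orderOf σ = m) :
    (∃ τ ∈ P, τ * σ * τ⁻¹ = σ⁻¹) ∧
      (Even m → ∀ x ∈ P, x * σ ^ (m / 2) = σ ^ (m / 2) * x) := by
  haveI : NeZero m := ⟨by omega⟩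
  set s : DihedralGroup m := e ⟨σ, hσ⟩ with hs
  have hso : orderOf s = m := by
    rw [hs, MulEquiv.orderOf_eq, Subgroup.orderOf_mk, hσo]
  obtain ⟨k, hk⟩ : ∃ k : ZMod m, s = r k := by
    rcases hsk : s with k | k
    · exact ⟨k, rfl⟩
    · exfalso
      rw [hsk, orderOf_sr] at hso
      omega
  have hsymm : ∀ y : ↥P, e.symm (e y) = y := fun y => e.symm_apply_apply y
  constructor
  · refine ⟨(e.symm (sr 0) : ↥P), (e.symm (sr 0)).2, ?_⟩
    have h1 : e.symm (sr 0) * ⟨σ, hσ⟩ * (e.symm (sr 0))⁻¹ = (⟨σ, hσ⟩ : ↥P)⁻¹ := by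
      apply e.injective
      rw [map_mul, map_mul, map_inv, map_inv, e.apply_symm_apply, ← hs, hk, inv_sr, sr_mul_r,
        sr_mul_sr, inv_r]
      congr 1
      ring
    have h2 := congrArg (fun y : ↥P => (y : G)) h1
    simpa using h2
  · intro hev x hx
    obtain ⟨h, hh⟩ := hev
    have hm2 : m / 2 = h := by omega
    rw [hm2]
    have h1 : (⟨x, hx⟩ : ↥P) * (⟨σ, hσ⟩ : ↥P) ^ h = (⟨σ, hσ⟩ : ↥P) ^ h * ⟨x, hx⟩ := by
      apply e.injective
      rw [map_mul, map_mul, map_pow, ← hs, hk, r_pow]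
      have h2h : ((k * (h : ZMod m)) + (k * (h : ZMod m)) : ZMod m) = 0 := by
        have : ((h : ZMod m) + (h : ZMod m)) = 0 := by
          have h3 : ((h + h : ℕ) : ZMod m) = 0 := by
            rw [← hh]; exact ZMod.natCast_self m
          push_cast at h3
          exact h3
        calc k * (h : ZMod m) + k * (h : ZMod m) = k * ((h : ZMod m) + (h : ZMod m)) := by ring
          _ = 0 := by rw [this, mul_zero]
      rcases hx' : e ⟨x, hx⟩ with j | j
      · rw [r_mul_r, r_mul_r, add_comm]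
      · rw [sr_mul_r, r_mul_sr]
        congr 1
        have : j - k * (h : ZMod m) = j + k * (h : ZMod m) - (k * (h : ZMod m) + k * (h : ZMod m)) := by
          ring
        rw [this, h2h, sub_zero]
    have h2 := congrArg (fun y : ↥P => (y : G)) h1
    simpa using h2

end Cfsg.Agent.Lib.Helper81.Dih
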