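import Mathlib
import Cfsg.Prelude.Def_Blocks
import Cfsg.Agent.Lib.Helper78.SMTOrtho
import Cfsg.Agent.Lib.Helper52.NormThree
import Cfsg.Agent.Lib.Helper81.DihBasic
import Cfsg.Agent.Lib.Helper81.DihGroup
import Cfsg.Agent.Lib.Helper14.DihGTA
import Cfsg.Agent.Lib.Helper14.DihGTB
import Cfsg.Agent.Lib.Helper14.DihGTC
import Cfsg.Agent.Lib.Helper25.DihCol
import Cfsg.Agent.Lib.Helper25.DihLat
import Cfsg.Agent.Lib.Helper66.DihDft

/-!
# S4481: the columns of the powers of `σ` in the principal 2-block (helper81)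
-/

set_option autoImplicit false

namespace Cfsg.Agent.Lib.Helper81.Dih

open Cfsg Cfsg.Agent.Lib.Helper78
open scoped ComplexConjugate Classical

section Orders

variable {G : Type*} [Group G] (n : ℕ) (hn : 3 ≤ n) (σ : G) (hσo : orderOf σ = 2 ^ (n - 1))

include hσo in
theorem pow_ne_one' {l : ℕ} (hl0 : 0 < l) (hl : l < 2 ^ (n - 1)) : σ ^ l ≠ 1 := by
  intro h
  have := orderOf_dvd_of_pow_eq_one h
  rw [hσo] at this
  exact absurd (Nat.le_of_dvd hl0 this) (by omega)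

include hσo in
theorem orderOf_pow_two_pow (l : ℕ) : ∃ k : ℕ, orderOf (σ ^ l) = 2 ^ k := by
  have h1 : orderOf (σ ^ l) ∣ 2 ^ (n - 1) := by
    rw [← hσo]; exact orderOf_pow_dvd l
  obtain ⟨k, _, hk⟩ := (Nat.dvd_prime_pow Nat.prime_two).mp h1
  exact ⟨k, hk⟩

include hn hσo in
theorem four_le_orderOf_pow {l : ℕ} (hl0 : 0 < l) (hl : l < 2 ^ (n - 1))
    (hne : l ≠ 2 ^ (n - 2)) : 4 ≤ orderOf (σ ^ l) := by
  obtain ⟨k, hk⟩ := orderOf_pow_two_pow n σ hσo l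
  by_contra hlt
  push Not at hlt
  have hk2 : k ≤ 1 := by
    by_contra hk2
    push Not at hk2
    have : 2 ^ 2 ≤ 2 ^ k := Nat.pow_le_pow_right (by norm_num) hk2
    omega
  have h1 : (σ ^ l) ^ 2 = 1 := by
    have h2 : orderOf (σ ^ l) ∣ 2 := by
      rw [hk]
      calc 2 ^ k ∣ 2 ^ 1 := Nat.pow_dvd_pow 2 hk2
        _ = 2 := by norm_num
    exact orderOf_dvd_iff_pow_eq_one.mp h2
  rw [← pow_mul] at h1
  have h3 := orderOf_dvd_of_pow_eq_one h1
  rw [hσo] at h3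
  have h4 : 2 ^ (n - 1) = 2 ^ (n - 2) * 2 := by
    rw [← pow_succ]; congr 1; omega
  rw [h4] at h3 hl
  have h5 : 2 ^ (n - 2) ∣ l := Nat.dvd_of_mul_dvd_mul_right (by norm_num) h3
  obtain ⟨t, ht⟩ := h5
  have ht1 : t = 1 := by
    have hpos : 0 < 2 ^ (n - 2) := by positivity
    have : t < 2 := by
      by_contra hge
      push Not at hge
      have : 2 ^ (n - 2) * 2 ≤ 2 ^ (n - 2) * t := Nat.mul_le_mul_left _ hge
      omega
    have : t ≠ 0 := by
      rintro rfl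
      omega
    omega
  apply hne
  rw [ht, ht1, mul_one]

include hn hσo in
theorem orderOf_pow_half : orderOf (σ ^ (2 ^ (n - 2))) = 2 := by
  have h4 : 2 ^ (n - 1) = 2 ^ (n - 2) * 2 := by
    rw [← pow_succ]; congr 1; omega
  rw [orderOf_pow' σ (by positivity), hσo, h4, Nat.gcd_mul_right_left]
  exact Nat.mul_div_cancel_left 2 (by positivity)

end Orders

section Cols

variable {G : Type*} [Group G] [Finite G] (M : Ideal AlgInt) (hM : IsPModular 2 M) (n : ℕ)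
  (hn : 3 ≤ n) (P : Sylow 2 G)
  (hP : Nonempty (↥(P : Subgroup G) ≃* DihedralGroup (2 ^ (n - 1))))
  (σ : G) (hσ : σ ∈ (P : Subgroup G)) (hσo : orderOf σ = 2 ^ (n - 1))

include hn hP hσ hσo in
theorem half_central : ∀ x ∈ (P : Subgroup G), x * σ ^ (2 ^ (n - 2)) = σ ^ (2 ^ (n - 2)) * x := by
  obtain ⟨e⟩ := hP
  have h4 : 2 ^ (n - 1) = 2 ^ (n - 2) * 2 := by
    rw [← pow_succ]; congr 1; omega
  have h3 : 3 ≤ 2 ^ (n - 1) := by
    have : 2 ^ 2 ≤ 2 ^ (n - 1) := Nat.pow_le_pow_right (by norm_num) (by omega)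
    omega
  have hfacts := (dihedral_facts (2 ^ (n - 1)) h3 (P : Subgroup G) e σ hσ hσo).2
    ⟨2 ^ (n - 2), by rw [h4]; ring⟩
  have hdiv : 2 ^ (n - 1) / 2 = 2 ^ (n - 2) := by
    rw [h4]; exact Nat.mul_div_cancel _ (by norm_num)
  rw [hdiv] at hfacts
  exact hfacts

include hn hP hσ hσo in
theorem exists_invert : ∃ τ : G, τ * σ * τ⁻¹ = σ⁻¹ := by
  obtain ⟨e⟩ := hP
  have h3 : 3 ≤ 2 ^ (n - 1) := by
    have : 2 ^ 2 ≤ 2 ^ (n - 1) := Nat.pow_le_pow_right (by norm_num) (by omega)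
    omega
  obtain ⟨τ, _, hτ⟩ := (dihedral_facts (2 ^ (n - 1)) h3 (P : Subgroup G) e σ hσ hσo).1
  exact ⟨τ, hτ⟩

include hn hP hσ hσo in
theorem index_core {l : ℕ} (hl0 : 0 < l) (hl : l < 2 ^ (n - 1)) :
    ∃ k : ℕ, (Cfsg.pPrimeCore 2 ↥(Subgroup.centralizer ({σ ^ l} : Set G))).index = 2 ^ k ∧
      (2 : ℂ) ^ k = ((2 ^ (n - 1) : ℕ) : ℂ) +
        if l = 2 ^ (n - 2) then ((2 ^ (n - 1) : ℕ) : ℂ) else 0 := by
  by_cases hlh : l = 2 ^ (n - 2)
  · refine ⟨n, ?_, ?_⟩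
    · rw [hlh]
      exact Cfsg.Agent.Lib.Helper14.Dih.centralizer_index_of_central_involution n hn P hP _
        (Subgroup.pow_mem _ hσ _) (orderOf_pow_half n hn σ hσo)
        (half_central n hn P hP σ hσ hσo)
    · rw [if_pos hlh]
      have : n = (n - 1) + 1 := by omega
      conv_lhs => rw [this]
      push_cast
      ring
  · refine ⟨n - 1, ?_, ?_⟩
    · exact Cfsg.Agent.Lib.Helper14.Dih.centralizer_index_of_four_le n hn P hP _ (Subgroup.pow_mem _ hσ _)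
        (four_le_orderOf_pow n hn σ hσo hl0 hl hlh)
    · rw [if_neg hlh]
      push_cast
      ring

omit [Finite G] in
theorem isPPart_self' {g : G} (hg : ∃ k : ℕ, orderOf g = 2 ^ k) : IsPPart 2 g g :=
  ⟨1, mul_one g, Commute.one_right g, hg, by simp⟩

omit [Finite G] in
theorem isPPart_one' {g : G} (hg : ¬ 2 ∣ orderOf g) : IsPPart 2 g 1 :=
  ⟨g, one_mul g, Commute.one_left g, ⟨0, by simp⟩, hg⟩

include hM hn hP hσ hσo in
theorem col_odd {l : ℕ} (hl0 : 0 < l) (hl : l < 2 ^ (n - 1)) (ρ : G) (hρ : Odd (orderOf ρ)) :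
    ∑ χ ∈ Finset.univ.filter (fun χ : IrrCharacter G => χ ∈ principalBlock M G),
      (χ : G → ℂ) (σ ^ l) * conj ((χ : G → ℂ) ρ) = 0 := by
  haveI : Fact (Nat.Prime 2) := ⟨Nat.prime_two⟩
  obtain ⟨k, hk, -⟩ := index_core n hn P hP σ hσ hσo hl0 hl
  refine (Cfsg.Agent.Lib.Helper25.DihCol.column_formula 2 M hM (σ ^ l) (orderOf_pow_two_pow n σ hσo l) k hk).2 ρ ?_
  intro x hx hc
  have hx1 : x = 1 := isPPart_unique hx (isPPart_one' (by
    intro h2
    exact (Nat.not_even_iff_odd.mpr hρ) (even_iff_two_dvd.mpr h2)))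
  rw [hx1] at hc
  exact pow_ne_one' n σ hσo hl0 hl (isConj_one_right.mp hc)

include hM hn hP hσ hσo in
theorem col_sum {l l' : ℕ} (hl0 : 0 < l) (hl : l < 2 ^ (n - 1)) (hl'0 : 0 < l')
    (hl' : l' < 2 ^ (n - 1)) :
    ∑ χ ∈ Finset.univ.filter (fun χ : IrrCharacter G => χ ∈ principalBlock M G),
      (χ : G → ℂ) (σ ^ l) * conj ((χ : G → ℂ) (σ ^ l')) =
      (if l' = l then ((2 ^ (n - 1) : ℕ) : ℂ) else 0) +
        (if l' = 2 ^ (n - 1) - l then ((2 ^ (n - 1) : ℕ) : ℂ) else 0) := by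
  haveI : Fact (Nat.Prime 2) := ⟨Nat.prime_two⟩
  obtain ⟨k, hk, hk2⟩ := index_core n hn P hP σ hσ hσo hl0 hl
  have hcol := Cfsg.Agent.Lib.Helper25.DihCol.column_formula 2 M hM (σ ^ l) (orderOf_pow_two_pow n σ hσo l) k hk
  have h4 : 2 ^ (n - 1) = 2 ^ (n - 2) * 2 := by
    rw [← pow_succ]; congr 1; omega
  have hnorm : ∑ χ ∈ Finset.univ.filter (fun χ : IrrCharacter G => χ ∈ principalBlock M G),
      (χ : G → ℂ) (σ ^ l) * conj ((χ : G → ℂ) (σ ^ l)) =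
      ((2 ^ (n - 1) : ℕ) : ℂ) + if l = 2 ^ (n - 2) then ((2 ^ (n - 1) : ℕ) : ℂ) else 0 := by
    rw [← hk2]
    exact_mod_cast hcol.1
  by_cases h1 : l' = l
  · rw [h1, hnorm, if_pos rfl]
    congr 1
    by_cases hlh : l = 2 ^ (n - 2)
    · rw [if_pos hlh, if_pos (by omega)]
    · rw [if_neg hlh, if_neg (by omega)]
  · rw [if_neg h1, zero_add]
    by_cases h2 : l' = 2 ^ (n - 1) - l
    · rw [if_pos h2]
      obtain ⟨τ, hτ⟩ := exists_invert n hn P hP σ hσ hσo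
      have hconj : σ ^ l' = τ * σ ^ l * τ⁻¹ := by
        have e1 : τ * σ ^ l * τ⁻¹ = (τ * σ * τ⁻¹) ^ l := by
          rw [conj_pow]
        rw [e1, hτ, inv_pow]
        apply eq_inv_of_mul_eq_one_left
        rw [← pow_add, h2, Nat.sub_add_cancel hl.le, ← hσo, pow_orderOf_eq_one]
      have hval : ∀ χ : IrrCharacter G, (χ : G → ℂ) (σ ^ l') = (χ : G → ℂ) (σ ^ l) := by
        intro χ
        rw [hconj]
        exact isClassFunction_irr χ (σ ^ l) τ
      simp only [hval]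
      rw [hnorm, if_neg (by omega), add_zero]
    · rw [if_neg h2]
      refine hcol.2 (σ ^ l') ?_
      intro x hx hc
      have hx1 : x = σ ^ l' :=
        isPPart_unique hx (isPPart_self' (orderOf_pow_two_pow n σ hσo l'))
      rw [hx1] at hc
      rcases Cfsg.Agent.Lib.Helper14.Dih.pow_conj n hn P hP σ hσ hσo l' l hl'0 hl' hl0 hl hc with h | h
      · exact h1 h.symm
      · omega

end Cols

end Cfsg.Agent.Lib.Helper81.Dih
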