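import Mathlib
import Cfsg.Agent.Lib.Helper81.DihCols

/-!
# S4481: assembly (helper81)
-/

set_option autoImplicit false

namespace Cfsg.Agent.Lib.Helper81.Dih

open Cfsg Cfsg.Agent.Lib.Helper78
open scoped ComplexConjugate Classical

/-- sum over `ZMod m` as a sum over `range m`. -/
theorem sum_zmod_val (m : ℕ) [NeZero m] (f : ℕ → ℂ) :
    ∑ i : ZMod m, f i.val = ∑ s ∈ Finset.range m, f s := by
  refine Finset.sum_bij (fun i _ => i.val) ?_ ?_ ?_ ?_
  · intro i _; exact Finset.mem_range.mpr (ZMod.val_lt i)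
  · intro i _ j _ h; exact ZMod.val_injective m h
  · intro s hs
    exact ⟨(s : ZMod m), Finset.mem_univ _, ZMod.val_cast_of_lt (Finset.mem_range.mp hs)⟩
  · intro i _; rfl

/-- geometric sum of a nontrivial root of unity -/
theorem geom_sum_root (m : ℕ) (ω : ℂ) (hω : ω ^ m = 1) (h1 : ω ≠ 1) :
    ∑ s ∈ Finset.range m, ω ^ s = 0 := by
  have h := mul_geom_sum ω m
  rw [hω, sub_self] at h
  rcases mul_eq_zero.mp h with h | h
  · exact absurd (sub_eq_zero.mp h) h1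
  · exact h

section Main

variable {G : Type*} [Group G] [Finite G] (M : Ideal AlgInt) (hM : IsPModular 2 M) (n : ℕ)
  (hn : 3 ≤ n) (P : Sylow 2 G)
  (hP : Nonempty (↥(P : Subgroup G) ≃* DihedralGroup (2 ^ (n - 1))))
  (σ : G) (hσ : σ ∈ (P : Subgroup G)) (hσo : orderOf σ = 2 ^ (n - 1))
  (ζ : ℂ) (hζ : IsPrimitiveRoot ζ (2 ^ (n - 1)))

/-- The principal block as a type. -/
abbrev BX (M : Ideal AlgInt) (G : Type*) [Group G] : Type _ :=
  {χ : IrrCharacter G // χ ∈ principalBlock M G}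

include hM hn hP hσ hσo hζ in
/-- the multiplicity data with all its relations. -/
theorem exists_mult_data :
    ∃ y : BX M G → ZMod (2 ^ (n - 1)) → ℤ,
      (∀ x, y x 0 = 0) ∧
      (∀ i k : ZMod (2 ^ (n - 1)), i ≠ 0 → k ≠ 0 → ∑ x, y x i * y x k =
        (if i = k then 1 else 0) + (if i = -k then 1 else 0) + 2) ∧
      (∀ w : BX M G → ℂ, (∀ l : ℕ, 0 < l → l < 2 ^ (n - 1) →
          ∑ x : BX M G, (x.1 : G → ℂ) (σ ^ l) * w x = 0) →
        ∀ i : ZMod (2 ^ (n - 1)), ∑ x, ((y x i : ℤ) : ℂ) * w x = 0) ∧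
      (∀ (x : BX M G) (l : ℕ), 0 < l → l < 2 ^ (n - 1) →
        (x.1 : G → ℂ) (σ ^ l) = ∑ i : ZMod (2 ^ (n - 1)), ((y x i : ℤ) : ℂ) * ζ ^ (i.val * l)) ∧
      (∀ (x : BX M G), (x.1 : G → ℂ) = (fun _ => 1) → ∀ i, i ≠ 0 → y x i = -1) := by
  have hpos : 0 < 2 ^ (n - 1) := by positivity
  have hσm : σ ^ (2 ^ (n - 1)) = 1 := by rw [← hσo]; exact pow_orderOf_eq_one σ
  have hζi : ∀ i : ZMod (2 ^ (n - 1)), (ζ ^ i.val) ^ (2 ^ (n - 1)) = 1 := by
    intro i
    rw [← pow_mul, mul_comm, pow_mul, hζ.pow_eq_one, one_pow]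
  have hmult : ∀ (x : BX M G) (i : ZMod (2 ^ (n - 1))), ∃ c : ℕ, (c : ℂ) =
      ((2 ^ (n - 1) : ℕ) : ℂ)⁻¹ * ∑ s ∈ Finset.range (2 ^ (n - 1)),
        ((ζ ^ i.val)⁻¹) ^ s * (x.1 : G → ℂ) (σ ^ s) := fun x i =>
    exists_mult (x.1 : G → ℂ) (IsIrrCharacter.isCharacter x.1.2) σ (2 ^ (n - 1)) hpos hσm
      (ζ ^ i.val) (hζi i)
  choose cN hcN using hmult
  set c : BX M G → ZMod (2 ^ (n - 1)) → ℤ := fun x i => (cN x i : ℤ) with hc_def
  have hc : ∀ (x : BX M G) (i : ZMod (2 ^ (n - 1))), ((c x i : ℤ) : ℂ) =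
      ((2 ^ (n - 1) : ℕ) : ℂ)⁻¹ * ∑ s ∈ Finset.range (2 ^ (n - 1)),
        ((ζ ^ i.val)⁻¹) ^ s * (fun (x : BX M G) (l : ℕ) => (x.1 : G → ℂ) (σ ^ l)) x s := by
    intro x i
    simp only [hc_def, Int.cast_natCast]
    exact hcN x i
  have hcol : ∀ l l' : ℕ, 0 < l → l < 2 ^ (n - 1) → 0 < l' → l' < 2 ^ (n - 1) →
      ∑ x : BX M G, (fun (x : BX M G) (l : ℕ) => (x.1 : G → ℂ) (σ ^ l)) x l *
        conj ((fun (x : BX M G) (l : ℕ) => (x.1 : G → ℂ) (σ ^ l)) x l') =
      (if l' = l then ((2 ^ (n - 1) : ℕ) : ℂ) else 0) +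
        (if l' = 2 ^ (n - 1) - l then ((2 ^ (n - 1) : ℕ) : ℂ) else 0) := by
    intro l l' hl0 hl hl'0 hl'
    rw [← col_sum M hM n hn P hP σ hσ hσo hl0 hl hl'0 hl']
    exact (Finset.sum_subtype (Finset.univ.filter
      (fun χ : IrrCharacter G => χ ∈ principalBlock M G)) (by simp)
      (fun χ : IrrCharacter G => (χ : G → ℂ) (σ ^ l) * conj ((χ : G → ℂ) (σ ^ l')))).symm
  obtain ⟨hR, hW, hInv⟩ := Cfsg.Agent.Lib.Helper66.Dih.dft_relations (2 ^ (n - 1)) ζ hζ
    (fun (x : BX M G) (l : ℕ) => (x.1 : G → ℂ) (σ ^ l)) c hc hcol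
  refine ⟨fun x i => c x i - c x 0, fun x => sub_self _, hR, hW, hInv, ?_⟩
  -- the trivial character
  intro x hx i hi
  have hval : ∀ j : ZMod (2 ^ (n - 1)), ((c x j : ℤ) : ℂ) = if j = 0 then 1 else 0 := by
    intro j
    rw [hc x j]
    simp only [hx, mul_one]
    have hm0 : ((2 ^ (n - 1) : ℕ) : ℂ) ≠ 0 := by exact_mod_cast hpos.ne'
    by_cases hj : j = 0
    · rw [if_pos hj, hj]
      simp only [ZMod.val_zero, pow_zero, inv_one, one_pow, Finset.sum_const, Finset.card_range,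
        nsmul_eq_mul, mul_one]
      exact inv_mul_cancel₀ hm0
    · rw [if_neg hj]
      have hne : (ζ ^ j.val)⁻¹ ≠ 1 := by
        intro h
        have h1 : ζ ^ j.val = 1 := by rw [← inv_inv (ζ ^ j.val), h, inv_one]
        have h2 := (hζ.pow_eq_one_iff_dvd j.val).mp h1
        have h3 : j.val = 0 := Nat.eq_zero_of_dvd_of_lt h2 (ZMod.val_lt j)
        exact hj ((ZMod.val_eq_zero j).mp h3)
      rw [geom_sum_root (2 ^ (n - 1)) _ (by rw [inv_pow, hζi j, inv_one]) hne, mul_zero]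
  have h1 : ((c x i - c x 0 : ℤ) : ℂ) = ((-1 : ℤ) : ℂ) := by
    push_cast
    rw [hval i, hval 0, if_neg hi, if_pos rfl]
    ring
  exact_mod_cast h1

include hM hn hP hσ hσo in
theorem half_ne_zero_of_mem (χ : IrrCharacter G) (hχ : χ ∈ principalBlock M G) :
    (χ : G → ℂ) (σ ^ (2 ^ (n - 2))) ≠ 0 := by
  haveI : Fact (Nat.Prime 2) := ⟨Nat.prime_two⟩
  refine apply_ne_zero_of_mem_principalBlock 2 M hM _ ?_ χ hχ
  have hle : (P : Subgroup G) ≤ Subgroup.centralizer ({σ ^ (2 ^ (n - 2))} : Set G) := by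
    intro x hx
    rw [Subgroup.mem_centralizer_singleton_iff]
    exact half_central n hn P hP σ hσ hσo x hx
  intro h2
  exact P.not_dvd_index (dvd_trans h2 (Subgroup.index_dvd_of_le hle))

include hM hn hP hσ hσo hζ in
/-- **Brauer**: the principal 2-block of a group with dihedral Sylow 2-subgroups. -/
theorem main :
    Nat.card (Cfsg.principalBlock M G) = 3 + 2 ^ (n - 2) ∧ ∃ (χ₁ χ₂ χ₃ : Cfsg.IrrCharacter G)
      (χ' : Fin (2 ^ (n - 2) - 1) → Cfsg.IrrCharacter G) (δ₁ δ₂ δ₃ : ℤ),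
      (δ₁ = 1 ∨ δ₁ = -1) ∧ (δ₂ = 1 ∨ δ₂ = -1) ∧ (δ₃ = 1 ∨ δ₃ = -1) ∧ Function.Injective χ' ∧
      (χ₁ : G → ℂ) ≠ (fun _ => 1) ∧ (χ₂ : G → ℂ) ≠ (fun _ => 1) ∧ (χ₃ : G → ℂ) ≠ (fun _ => 1) ∧
      χ₁ ≠ χ₂ ∧ χ₁ ≠ χ₃ ∧ χ₂ ≠ χ₃ ∧
      (∀ j, χ' j ≠ χ₁ ∧ χ' j ≠ χ₂ ∧ χ' j ≠ χ₃ ∧ (χ' j : G → ℂ) ≠ (fun _ => 1)) ∧
      Cfsg.principalBlock M G = {χ : Cfsg.IrrCharacter G | (χ : G → ℂ) = (fun _ => 1) ∨ χ = χ₁ ∨
        χ = χ₂ ∨ χ = χ₃ ∨ ∃ j, χ = χ' j} ∧
      (∀ l : ℕ, 0 < l → l < 2 ^ (n - 1) → (χ₁ : G → ℂ) (σ ^ l) = δ₁ ∧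
        (χ₂ : G → ℂ) (σ ^ l) = δ₂ * (-1) ^ (l + 1) ∧
        (χ₃ : G → ℂ) (σ ^ l) = δ₃ * (-1) ^ (l + 1) ∧
        ∀ j : Fin (2 ^ (n - 2) - 1), (χ' j : G → ℂ) (σ ^ l) =
          δ₁ * (ζ ^ (((j : ℕ) + 1) * l) + (ζ ^ (((j : ℕ) + 1) * l))⁻¹)) ∧
      ∀ ρ : G, Odd (orderOf ρ) → ∀ j : Fin (2 ^ (n - 2) - 1),
        1 + δ₁ * (χ₁ : G → ℂ) ρ = -δ₂ * (χ₂ : G → ℂ) ρ - δ₃ * (χ₃ : G → ℂ) ρ ∧
        1 + δ₁ * (χ₁ : G → ℂ) ρ = δ₁ * (χ' j : G → ℂ) ρ := by
  haveI : Fact (Nat.Prime 2) := ⟨Nat.prime_two⟩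
  have hMp : M.IsPrime := Cfsg.Agent.Lib.Helper16.isPModular_isPrime hM
  obtain ⟨y, hy0, hR, hW, hInv, hy1⟩ := exists_mult_data M hM n hn P hP σ hσ hσo ζ hζ
  have h4 : 2 ^ (n - 1) = 2 ^ (n - 2) * 2 := by
    rw [← pow_succ]; congr 1; omega
  have hpos2 : 0 < 2 ^ (n - 2) := by positivity
  have hk2 : 2 ≤ 2 ^ (n - 2) := by
    calc 2 = 2 ^ 1 := by norm_num
      _ ≤ 2 ^ (n - 2) := Nat.pow_le_pow_right (by norm_num) (by omega)
  have hx₀mem : Cfsg.Agent.Lib.Helper52.trivIrr G ∈ principalBlock M G := by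
    intro g
    show MemLocalIdeal M (centralChar (fun _ : G => (1 : ℂ)) g -
      centralChar (fun _ : G => (1 : ℂ)) g)
    rw [sub_self]
    exact Cfsg.Agent.Lib.Helper16.memLocalIdeal_zero hMp.ne_top
  set x₀ : BX M G := ⟨Cfsg.Agent.Lib.Helper52.trivIrr G, hx₀mem⟩ with hx₀
  have hdeg : ∀ x : BX M G, ∃ d : ℕ, 0 < d ∧ (x.1 : G → ℂ) 1 = (d : ℂ) := fun x =>
    @Cfsg.Agent.Lib.Helper52.irr_degree_pos G _ (Fintype.ofFinite G) x.1
  choose dN hdNpos hdN using hdeg
  have hd : ∀ x, 0 < (fun x => (dN x : ℤ)) x := fun x => by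
    show (0 : ℤ) < (dN x : ℤ)
    exact_mod_cast hdNpos x
  have hd0 : (fun x => (dN x : ℤ)) x₀ = 1 := by
    have h1 : (1 : ℂ) = (dN x₀ : ℂ) := hdN x₀
    have h2 : (dN x₀ : ℂ) = ((1 : ℕ) : ℂ) := by rw [← h1]; simp
    have h3 : dN x₀ = 1 := by exact_mod_cast h2
    simp [h3]
  have h0 : ∀ i, i ≠ 0 → y x₀ i = -1 := hy1 x₀ rfl
  -- transfer of the column orthogonality to the type `BX`
  have hcolodd : ∀ (ρ : G), Odd (orderOf ρ) → ∀ l : ℕ, 0 < l → l < 2 ^ (n - 1) →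
      ∑ x : BX M G, (x.1 : G → ℂ) (σ ^ l) * (x.1 : G → ℂ) ρ = 0 := by
    intro ρ hρ l hl0 hl
    have h1 := col_odd M hM n hn P hP σ hσ hσo hl0 hl ρ⁻¹ (by rw [orderOf_inv]; exact hρ)
    have h2 : ∑ x : BX M G, (x.1 : G → ℂ) (σ ^ l) * conj ((x.1 : G → ℂ) ρ⁻¹) =
        ∑ χ ∈ Finset.univ.filter (fun χ : IrrCharacter G => χ ∈ principalBlock M G),
          (χ : G → ℂ) (σ ^ l) * conj ((χ : G → ℂ) ρ⁻¹) :=
      (Finset.sum_subtype (Finset.univ.filter
        (fun χ : IrrCharacter G => χ ∈ principalBlock M G)) (by simp)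
        (fun χ : IrrCharacter G => (χ : G → ℂ) (σ ^ l) * conj ((χ : G → ℂ) ρ⁻¹))).symm
    rw [← h1, ← h2]
    apply Finset.sum_congr rfl
    intro x _
    rw [IsCharacter.inv (IsIrrCharacter.isCharacter x.1.2) ρ, Complex.conj_conj]
  have hD : ∀ i, i ≠ 0 → ∑ x, y x i * (fun x => (dN x : ℤ)) x = 0 := by
    intro i _
    have h := hW (fun x => ((dN x : ℕ) : ℂ)) ?_ i
    · exact_mod_cast h
    · intro l hl0 hl
      have h1 := hcolodd 1 (by simp) l hl0 hl
      rw [← h1]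
      apply Finset.sum_congr rfl
      intro x _
      rw [hdN x]
  obtain ⟨x₁, x₂, x₃, x', δ₁, δ₂, δ₃, hδ₁, hδ₂, hδ₃, hinj, h10, h20, h30, h12, h13, h23, hx'ne,
    hy_1, hy_2, hy_3, hy_p, hy_other⟩ :=
    Cfsg.Agent.Lib.Helper25.DihLat.lattice_main n hn y (fun x => (dN x : ℤ)) x₀ hd hd0 h0 hR hD
  -- the residues `h` and `a j`
  set hh : ZMod (2 ^ (n - 1)) := ((2 ^ (n - 2) : ℕ) : ZMod (2 ^ (n - 1))) with hhh
  have hhval : hh.val = 2 ^ (n - 2) := ZMod.val_cast_of_lt (by omega)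
  have hh0 : hh ≠ 0 := by
    intro h
    have := congrArg ZMod.val h
    rw [hhval, ZMod.val_zero] at this
    omega
  have haval : ∀ j : Fin (2 ^ (n - 2) - 1),
      ((((j : ℕ) + 1 : ℕ) : ZMod (2 ^ (n - 1)))).val = (j : ℕ) + 1 := fun j =>
    ZMod.val_cast_of_lt (by have := j.2; omega)
  have ha0 : ∀ j : Fin (2 ^ (n - 2) - 1), (((j : ℕ) + 1 : ℕ) : ZMod (2 ^ (n - 1))) ≠ 0 := by
    intro j h
    have := congrArg ZMod.val h
    rw [haval, ZMod.val_zero] at this
    omega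
  have hnaval : ∀ j : Fin (2 ^ (n - 2) - 1),
      (-(((j : ℕ) + 1 : ℕ) : ZMod (2 ^ (n - 1)))).val = 2 ^ (n - 1) - ((j : ℕ) + 1) := by
    intro j
    rw [ZMod.neg_val, if_neg (ha0 j), haval]
  have hna0 : ∀ j : Fin (2 ^ (n - 2) - 1), -(((j : ℕ) + 1 : ℕ) : ZMod (2 ^ (n - 1))) ≠ 0 := by
    intro j h
    exact ha0 j (neg_eq_zero.mp h)
  have hane : ∀ j : Fin (2 ^ (n - 2) - 1), (((j : ℕ) + 1 : ℕ) : ZMod (2 ^ (n - 1))) ≠
      -(((j : ℕ) + 1 : ℕ) : ZMod (2 ^ (n - 1))) := by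
    intro j h
    have := congrArg ZMod.val h
    rw [haval, hnaval] at this
    have := j.2
    omega
  have hah : ∀ j : Fin (2 ^ (n - 2) - 1), hh ≠ (((j : ℕ) + 1 : ℕ) : ZMod (2 ^ (n - 1))) ∧
      hh ≠ -(((j : ℕ) + 1 : ℕ) : ZMod (2 ^ (n - 1))) := by
    intro j
    constructor
    · intro h
      have := congrArg ZMod.val h
      rw [haval, hhval] at this
      have := j.2
      omega
    · intro h
      have := congrArg ZMod.val h
      rw [hnaval, hhval] at this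
      have := j.2
      omega
  -- total descriptions of `y`
  have Y1 : ∀ i, y x₁ i = if i = 0 then 0 else -δ₁ := by
    intro i
    by_cases hi : i = 0
    · rw [if_pos hi, hi, hy0]
    · rw [if_neg hi, hy_1 i hi]
  have Y2 : ∀ i, y x₂ i = if i = hh then -δ₂ else 0 := by
    intro i
    by_cases hi : i = 0
    · rw [hi, hy0, if_neg (Ne.symm hh0)]
    · exact hy_2 i hi
  have Y3 : ∀ i, y x₃ i = if i = hh then -δ₃ else 0 := by
    intro i
    by_cases hi : i = 0
    · rw [hi, hy0, if_neg (Ne.symm hh0)]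
    · exact hy_3 i hi
  have Yp : ∀ j i, y (x' j) i = if i = (((j : ℕ) + 1 : ℕ) : ZMod (2 ^ (n - 1))) ∨
      i = -(((j : ℕ) + 1 : ℕ) : ZMod (2 ^ (n - 1))) then δ₁ else 0 := by
    intro j i
    by_cases hi : i = 0
    · rw [hi, hy0, if_neg]
      rintro (h | h)
      · exact ha0 j h.symm
      · exact hna0 j h.symm
    · exact hy_p j i hi
  -- every element of the block is one of the listed ones
  have hsurj : ∀ x : BX M G, x = x₀ ∨ x = x₁ ∨ x = x₂ ∨ x = x₃ ∨ ∃ j, x = x' j := by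
    intro x
    by_contra hcon
    push Not at hcon
    obtain ⟨c0, c1, c2, c3, cp⟩ := hcon
    have hzero : ∀ i, y x i = 0 := by
      intro i
      by_cases hi : i = 0
      · rw [hi, hy0]
      · exact hy_other x c0 c1 c2 c3 cp i hi
    have hval := hInv x (2 ^ (n - 2)) hpos2 (by omega)
    simp only [hzero, Int.cast_zero, zero_mul, Finset.sum_const_zero] at hval
    exact half_ne_zero_of_mem M hM n hn P hP σ hσ hσo x.1 x.2 hval
  -- the universe of `BX`
  have huniv : (Finset.univ : Finset (BX M G)) =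
      insert x₀ (insert x₁ (insert x₂ (insert x₃ (Finset.univ.image x')))) := by
    ext x
    simp only [Finset.mem_univ, Finset.mem_insert, Finset.mem_image, true_and, true_iff]
    rcases hsurj x with h | h | h | h | ⟨j, h⟩
    · exact Or.inl h
    · exact Or.inr (Or.inl h)
    · exact Or.inr (Or.inr (Or.inl h))
    · exact Or.inr (Or.inr (Or.inr (Or.inl h)))
    · exact Or.inr (Or.inr (Or.inr (Or.inr ⟨j, h.symm⟩)))
  have hn3 : x₃ ∉ Finset.univ.image x' := by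
    simp only [Finset.mem_image, Finset.mem_univ, true_and, not_exists]
    intro j h
    exact (hx'ne j).2.2.1 h
  have hn2 : x₂ ∉ insert x₃ (Finset.univ.image x') := by
    simp only [Finset.mem_insert, Finset.mem_image, Finset.mem_univ, true_and, not_or, not_exists]
    exact ⟨h23, fun j h => (hx'ne j).2.1 h⟩
  have hn1 : x₁ ∉ insert x₂ (insert x₃ (Finset.univ.image x')) := by
    simp only [Finset.mem_insert, Finset.mem_image, Finset.mem_univ, true_and, not_or, not_exists]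
    exact ⟨h12, h13, fun j h => (hx'ne j).1 h⟩
  have hn0 : x₀ ∉ insert x₁ (insert x₂ (insert x₃ (Finset.univ.image x'))) := by
    simp only [Finset.mem_insert, Finset.mem_image, Finset.mem_univ, true_and, not_or, not_exists]
    exact ⟨Ne.symm h10, Ne.symm h20, Ne.symm h30, fun j h => (hx'ne j).2.2.2 h⟩
  have hsum : ∀ F : BX M G → ℂ, ∑ x, F x = F x₀ + (F x₁ + (F x₂ + (F x₃ + ∑ j, F (x' j)))) := by
    intro F
    rw [huniv, Finset.sum_insert hn0, Finset.sum_insert hn1, Finset.sum_insert hn2,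
      Finset.sum_insert hn3, Finset.sum_image (fun a _ b _ h => hinj h)]
  -- the card
  have hcard : Nat.card (Cfsg.principalBlock M G) = 3 + 2 ^ (n - 2) := by
    have h1 : Nat.card (Cfsg.principalBlock M G) = Fintype.card (BX M G) :=
      Nat.card_eq_fintype_card
    rw [h1, ← Finset.card_univ, huniv, Finset.card_insert_of_notMem hn0,
      Finset.card_insert_of_notMem hn1, Finset.card_insert_of_notMem hn2,
      Finset.card_insert_of_notMem hn3, Finset.card_image_of_injective _ hinj, Finset.card_univ,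
      Fintype.card_fin]
    omega
  -- powers of ζ
  have hζh : ζ ^ (2 ^ (n - 2)) = -1 := by
    have h1 : IsPrimitiveRoot (ζ ^ (2 ^ (n - 2))) (2 ^ (n - 1) / 2 ^ (n - 2)) :=
      hζ.pow_of_dvd hpos2.ne' ⟨2, h4⟩
    have h2 : 2 ^ (n - 1) / 2 ^ (n - 2) = 2 := by
      rw [h4]; exact Nat.mul_div_cancel_left 2 hpos2
    rw [h2] at h1
    exact h1.eq_neg_one_of_two_right
  have hgeom : ∀ l : ℕ, 0 < l → l < 2 ^ (n - 1) →
      ∑ i : ZMod (2 ^ (n - 1)), ζ ^ (i.val * l) = 0 := by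
    intro l hl0 hl
    rw [sum_zmod_val (2 ^ (n - 1)) (fun s => ζ ^ (s * l))]
    have h1 : ∀ s : ℕ, ζ ^ (s * l) = (ζ ^ l) ^ s := fun s => by rw [← pow_mul, mul_comm]
    simp only [h1]
    exact geom_sum_root _ _ (by rw [← pow_mul, mul_comm, pow_mul, hζ.pow_eq_one, one_pow])
      (hζ.pow_ne_one_of_pos_of_lt hl0.ne' hl)
  refine ⟨hcard, x₁.1, x₂.1, x₃.1, fun j => (x' j).1, δ₁, δ₂, δ₃, hδ₁, hδ₂, hδ₃, ?_, ?_, ?_, ?_,
    ?_, ?_, ?_, ?_, ?_, ?_, ?_⟩
  · intro a b hab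
    exact hinj (Subtype.ext hab)
  · intro h
    apply h10
    apply Subtype.ext
    apply Subtype.ext
    exact h
  · intro h
    apply h20
    apply Subtype.ext
    apply Subtype.ext
    exact h
  · intro h
    apply h30
    apply Subtype.ext
    apply Subtype.ext
    exact h
  · exact fun h => h12 (Subtype.ext h)
  · exact fun h => h13 (Subtype.ext h)
  · exact fun h => h23 (Subtype.ext h)
  · intro j
    refine ⟨fun h => (hx'ne j).1 (Subtype.ext h), fun h => (hx'ne j).2.1 (Subtype.ext h),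
      fun h => (hx'ne j).2.2.1 (Subtype.ext h), ?_⟩
    intro h
    apply (hx'ne j).2.2.2
    apply Subtype.ext
    apply Subtype.ext
    exact h
  · ext χ
    simp only [Set.mem_setOf_eq]
    constructor
    · intro hχ
      rcases hsurj ⟨χ, hχ⟩ with h | h | h | h | ⟨j, h⟩
      · left
        have := congrArg (fun x : BX M G => (x.1 : G → ℂ)) h
        exact this
      · right; left
        exact congrArg (fun x : BX M G => x.1) h
      · right; right; left
        exact congrArg (fun x : BX M G => x.1) h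
      · right; right; right; left
        exact congrArg (fun x : BX M G => x.1) h
      · right; right; right; right
        exact ⟨j, congrArg (fun x : BX M G => x.1) h⟩
    · rintro (h | h | h | h | ⟨j, h⟩)
      · have : χ = x₀.1 := by
          apply Subtype.ext
          exact h
        rw [this]; exact x₀.2
      · rw [h]; exact x₁.2
      · rw [h]; exact x₂.2
      · rw [h]; exact x₃.2
      · rw [h]; exact (x' j).2
  · -- the values
    intro l hl0 hl
    have hg := hgeom l hl0 hl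
    refine ⟨?_, ?_, ?_, ?_⟩
    · rw [hInv x₁ l hl0 hl]
      have h1 : ∀ i : ZMod (2 ^ (n - 1)), ((y x₁ i : ℤ) : ℂ) * ζ ^ (i.val * l) =
          -(δ₁ : ℂ) * ζ ^ (i.val * l) + if i = 0 then (δ₁ : ℂ) else 0 := by
        intro i
        rw [Y1 i]
        by_cases hi : i = 0
        · rw [if_pos hi, if_pos hi, hi]
          simp
        · rw [if_neg hi, if_neg hi]
          push_cast
          ring
      simp only [h1]
      rw [Finset.sum_add_distrib, ← Finset.mul_sum, hg, mul_zero, zero_add,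
        Finset.sum_ite_eq' Finset.univ (0 : ZMod (2 ^ (n - 1))) (fun _ => (δ₁ : ℂ))]
      simp
    · rw [hInv x₂ l hl0 hl]
      have h1 : ∀ i : ZMod (2 ^ (n - 1)), ((y x₂ i : ℤ) : ℂ) * ζ ^ (i.val * l) =
          if i = hh then -(δ₂ : ℂ) * ζ ^ (hh.val * l) else 0 := by
        intro i
        rw [Y2 i]
        by_cases hi : i = hh
        · rw [if_pos hi, if_pos hi, hi]
          push_cast
          ring
        · rw [if_neg hi, if_neg hi]
          simp
      simp only [h1]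
      rw [Finset.sum_ite_eq' Finset.univ hh (fun _ => -(δ₂ : ℂ) * ζ ^ (hh.val * l))]
      simp only [Finset.mem_univ, if_true]
      rw [hhval, pow_mul, hζh, pow_succ]
      ring
    · rw [hInv x₃ l hl0 hl]
      have h1 : ∀ i : ZMod (2 ^ (n - 1)), ((y x₃ i : ℤ) : ℂ) * ζ ^ (i.val * l) =
          if i = hh then -(δ₃ : ℂ) * ζ ^ (hh.val * l) else 0 := by
        intro i
        rw [Y3 i]
        by_cases hi : i = hh
        · rw [if_pos hi, if_pos hi, hi]
          push_cast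
          ring
        · rw [if_neg hi, if_neg hi]
          simp
      simp only [h1]
      rw [Finset.sum_ite_eq' Finset.univ hh (fun _ => -(δ₃ : ℂ) * ζ ^ (hh.val * l))]
      simp only [Finset.mem_univ, if_true]
      rw [hhval, pow_mul, hζh, pow_succ]
      ring
    · intro j
      show ((x' j).1 : G → ℂ) (σ ^ l) = _
      rw [hInv (x' j) l hl0 hl]
      set a : ZMod (2 ^ (n - 1)) := (((j : ℕ) + 1 : ℕ) : ZMod (2 ^ (n - 1))) with ha
      have h1 : ∀ i : ZMod (2 ^ (n - 1)), ((y (x' j) i : ℤ) : ℂ) * ζ ^ (i.val * l) =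
          (if i = a then (δ₁ : ℂ) * ζ ^ (a.val * l) else 0) +
            (if i = -a then (δ₁ : ℂ) * ζ ^ ((-a).val * l) else 0) := by
        intro i
        rw [Yp j i]
        by_cases hi : i = a
        · have hi' : i ≠ -a := by rw [hi]; exact hane j
          rw [if_pos (Or.inl hi), if_pos hi, if_neg hi', hi, add_zero]
        · by_cases hi2 : i = -a
          · rw [if_pos (Or.inr hi2), if_neg hi, if_pos hi2, hi2, zero_add]
          · rw [if_neg (by rintro (h | h); exact hi h; exact hi2 h), if_neg hi, if_neg hi2]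
            simp
      simp only [h1]
      rw [Finset.sum_add_distrib,
        Finset.sum_ite_eq' Finset.univ a (fun _ => (δ₁ : ℂ) * ζ ^ (a.val * l)),
        Finset.sum_ite_eq' Finset.univ (-a) (fun _ => (δ₁ : ℂ) * ζ ^ ((-a).val * l))]
      simp only [Finset.mem_univ, if_true]
      rw [haval j, hnaval j]
      have hinv : ζ ^ ((2 ^ (n - 1) - ((j : ℕ) + 1)) * l) = (ζ ^ (((j : ℕ) + 1) * l))⁻¹ := by
        apply eq_inv_of_mul_eq_one_left
        rw [← pow_add, ← add_mul, Nat.sub_add_cancel (by have := j.2; omega), pow_mul,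
          hζ.pow_eq_one, one_pow]
      rw [hinv]
      ring
  · -- the relations on elements of odd order
    intro ρ hρ j
    have hrel := hW (fun x => (x.1 : G → ℂ) ρ) (hcolodd ρ hρ)
    have hone : (x₀.1 : G → ℂ) ρ = 1 := rfl
    constructor
    · have h := hrel hh
      rw [hsum] at h
      have hp : ∀ j' : Fin (2 ^ (n - 2) - 1), ((y (x' j') hh : ℤ) : ℂ) * ((x' j').1 : G → ℂ) ρ = 0 := by
        intro j'
        rw [Yp j' hh, if_neg]
        · simp
        · rintro (h | h)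
          · exact (hah j').1 h
          · exact (hah j').2 h
      simp only [hp, Finset.sum_const_zero, add_zero] at h
      rw [h0 hh hh0, Y1 hh, if_neg hh0, Y2 hh, if_pos rfl, Y3 hh, if_pos rfl, hone] at h
      push_cast at h
      linear_combination -h
    · set a : ZMod (2 ^ (n - 1)) := (((j : ℕ) + 1 : ℕ) : ZMod (2 ^ (n - 1))) with ha
      have h := hrel a
      rw [hsum] at h
      have hp : ∀ j' : Fin (2 ^ (n - 2) - 1), ((y (x' j') a : ℤ) : ℂ) * ((x' j').1 : G → ℂ) ρ =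
          if j' = j then (δ₁ : ℂ) * ((x' j).1 : G → ℂ) ρ else 0 := by
        intro j'
        rw [Yp j' a]
        by_cases hj : j' = j
        · rw [if_pos hj, hj, if_pos (Or.inl rfl)]
        · rw [if_neg hj, if_neg]
          · simp
          · rintro (h | h)
            · apply hj
              have h1 := congrArg ZMod.val h
              rw [ha, haval, haval] at h1
              exact (Fin.ext (by omega)).symm
            · have h1 := congrArg ZMod.val h
              rw [ha, haval, hnaval] at h1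
              have := j.2
              have := j'.2
              omega
      simp only [hp] at h
      rw [Finset.sum_ite_eq' Finset.univ j (fun _ => (δ₁ : ℂ) * ((x' j).1 : G → ℂ) ρ)] at h
      simp only [Finset.mem_univ, if_true] at h
      rw [h0 a (ha0 j), Y1 a, if_neg (ha0 j), Y2 a, if_neg (Ne.symm (hah j).1), Y3 a,
        if_neg (Ne.symm (hah j).1), hone] at h
      push_cast at h
      linear_combination -h

end Main

end Cfsg.Agent.Lib.Helper81.Dih
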