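import Mathlib
import Cfsg.Prelude.Def_Characters
import Cfsg.Agent.Lib.Helper75.Ramified
import Cfsg.Agent.Lib.Helper81.IrrTwist
import Cfsg.Agent.Lib.Helper80.CharBasic

/-!
# Consequences of `θ^G = e χ` for an invariant `θ` (helper81)

* `indFun_comp_mulEquiv`: induction commutes with automorphisms fixing the induced function.
* `ramified_res_eq`: if `N ≤ G` are normal in `Γ`, `θ ∈ Irr(N)` is `Γ`-invariant and
  `θ^G = e χ` with `χ ∈ Irr(G)`, then `e ≠ 0`, `χ_N = e θ` and `χ` is `Γ`-invariant.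
-/

set_option autoImplicit false

namespace Cfsg.Agent.Lib.Helper81

open Cfsg
open scoped ComplexConjugate

theorem indFun_comp_mulEquiv {G : Type*} [Group G] [Fintype G] (H : Subgroup G) (θ : H → ℂ)
    (σ : G ≃* G) (hσ : ∀ u : G, extendByZero H θ (σ u) = extendByZero H θ u) (g : G) :
    indFun H θ (σ g) = indFun H θ g := by
  unfold indFun
  congr 1
  rw [← Equiv.sum_comp σ.toEquiv]
  apply Finset.sum_congr rfl
  intro x _
  have : (σ.toEquiv x)⁻¹ * σ g * σ.toEquiv x = σ (x⁻¹ * g * x) := by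
    simp
  rw [this, hσ]

theorem ramified_res_eq {Γ : Type*} [Group Γ] [Fintype Γ] (G N : Subgroup Γ) [hG : G.Normal]
    [hN : N.Normal] [Fintype G] [Fintype N] (hNG : N ≤ G) (θ : IrrCharacter N)
    (hinv : ∀ (x : Γ) (n : N), (θ : N → ℂ) ⟨x * n * x⁻¹, hN.conj_mem n n.2 x⟩ = (θ : N → ℂ) n)
    (χ : IrrCharacter G) (e : ℕ)
    (hram : indFun (N.subgroupOf G) (fun n : N.subgroupOf G => (θ : N → ℂ) ⟨(n : G), n.2⟩) =
      fun g => (e : ℂ) * (χ : G → ℂ) g) :
    e ≠ 0 ∧ (∀ y : N, (χ : G → ℂ) ⟨y, hNG y.2⟩ = (e : ℂ) * (θ : N → ℂ) y) ∧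
      ∀ (x : Γ) (g : G), (χ : G → ℂ) ⟨x * g * x⁻¹, hG.conj_mem g g.2 x⟩ = (χ : G → ℂ) g := by
  classical
  have := Fintype.ofFinite (N.subgroupOf G)
  set θ' : N.subgroupOf G → ℂ := fun n : N.subgroupOf G => (θ : N → ℂ) ⟨(n : G), n.2⟩ with hθ'def
  have hθ' : IsIrrCharacter (N.subgroupOf G) θ' := by
    have h1 := isIrrCharacter_comp_mulEquiv θ.2 (Subgroup.subgroupOfEquivOfLe hNG)
    have h2 : (θ : N → ℂ) ∘ (Subgroup.subgroupOfEquivOfLe hNG) = θ' := by
      funext n
      rfl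
    rw [h2] at h1
    exact h1
  have hχc : IsCharacter G (χ : G → ℂ) := Cfsg.Agent.Lib.Helper78.IsIrrCharacter.isCharacter χ.2
  have hχcf : IsClassFunction G (χ : G → ℂ) := Cfsg.Agent.Lib.Helper78.IsCharacter.isClassFunction hχc
  -- `e ≠ 0`
  have he : e ≠ 0 := by
    rintro rfl
    have h1 := congrFun hram 1
    rw [Cfsg.Agent.Lib.Helper75.indFun_one] at h1
    simp only [Nat.cast_zero, zero_mul] at h1
    have hidx : ((N.subgroupOf G).index : ℂ) ≠ 0 := by
      have := Subgroup.index_ne_zero_of_finite (H := N.subgroupOf G)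
      exact_mod_cast this
    have hθ1 : θ' 1 ≠ 0 := Cfsg.Agent.Lib.Helper80.char_one_ne_zero_of_isIrr hθ'
    exact mul_ne_zero hidx hθ1 h1
  have heC : (e : ℂ) ≠ 0 := by exact_mod_cast he
  -- the multiplicity
  have hmult : classInner (fun n : N.subgroupOf G => (χ : G → ℂ) n) θ' = (e : ℂ) := by
    rw [← Cfsg.Agent.Lib.Helper75.frobenius_reciprocity' (N.subgroupOf G) θ' hχcf, hram]
    have : (fun g => (e : ℂ) * (χ : G → ℂ) g) = (e : ℂ) • (χ : G → ℂ) := rfl
    rw [this, Cfsg.Agent.Lib.Helper78.classInner_smul_right,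
      Cfsg.Agent.Lib.Helper78.classInner_irr_self χ.2, Complex.conj_natCast, mul_one]
  -- invariance of `θ'`
  have hinv' : ∀ g : G, Cfsg.Agent.Lib.Helper75.conjFun (N.subgroupOf G) g θ' = θ' := by
    intro g
    funext n
    rw [Cfsg.Agent.Lib.Helper75.conjFun_apply]
    simp only [hθ'def]
    have := hinv (g : Γ) ⟨((n : G) : Γ), n.2⟩
    rw [← this]
    congr 1
  obtain ⟨e', -, he'1, he'2⟩ := Cfsg.Agent.Lib.Helper75.res_eq_smul_of_invariant (N.subgroupOf G)
    χ.2 hθ' (by rw [hmult]; exact heC) hinv'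
  have hee' : e' = e := by
    have : (e' : ℂ) = (e : ℂ) := by rw [← he'1, hmult]
    exact_mod_cast this
  subst hee'
  refine ⟨he, ?_, ?_⟩
  · intro y
    have := congrFun he'2 ⟨⟨y, hNG y.2⟩, y.2⟩
    simp only [Pi.smul_apply, smul_eq_mul] at this
    exact this
  · intro x g
    let σ : G ≃* G := MulAut.conjNormal x
    have hσapp : ∀ u : G, ((σ u : G) : Γ) = x * u * x⁻¹ := fun u => rfl
    have hσ : ∀ u : G, extendByZero (N.subgroupOf G) θ' (σ u) = extendByZero (N.subgroupOf G) θ' u := by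
      intro u
      by_cases hu : u ∈ N.subgroupOf G
      · have hσu : σ u ∈ N.subgroupOf G := by
          rw [Subgroup.mem_subgroupOf, hσapp]
          exact hN.conj_mem _ hu x
        rw [Cfsg.Agent.Lib.Helper75.extendByZero_of_mem _ _ hσu,
          Cfsg.Agent.Lib.Helper75.extendByZero_of_mem _ _ hu]
        simp only [hθ'def]
        have := hinv x ⟨(u : Γ), hu⟩
        rw [← this]
        congr 1
      · have hσu : σ u ∉ N.subgroupOf G := by
          intro h
          apply hu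
          rw [Subgroup.mem_subgroupOf] at h ⊢
          rw [hσapp] at h
          have := hN.conj_mem _ h x⁻¹
          have e1 : x⁻¹ * (x * (u : Γ) * x⁻¹) * x⁻¹⁻¹ = (u : Γ) := by group
          rwa [e1] at this
        rw [Cfsg.Agent.Lib.Helper75.extendByZero_of_not_mem _ _ hσu,
          Cfsg.Agent.Lib.Helper75.extendByZero_of_not_mem _ _ hu]
    have h1 := indFun_comp_mulEquiv (N.subgroupOf G) θ' σ hσ g
    rw [hram] at h1
    have h2 : (σ g : G) = ⟨x * g * x⁻¹, hG.conj_mem g g.2 x⟩ := Subtype.ext (hσapp g)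
    rw [h2] at h1
    exact mul_left_cancel₀ heC h1

end Cfsg.Agent.Lib.Helper81
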