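import Mathlib
import Cfsg.Agent.Lib.Helper81.InducedSum

/-!
# Sums over an "induced" set, cardinality version (helper81)

* `induced_fiber_card`: the fibres of `(g, x) ↦ g • x` over its image have `|C|` elements.
* `exists_translate_of_card_le`: if `|T| |C| ≤ |G| |X|` then every point of `T` is a translate of a
  point of `X`.
* `card_mul_sum_eq_card_mul_sum_of_card_le`: the sum formula of `InducedSum` with the covering
  hypothesis replaced by the inequality of cardinalities.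
-/

set_option autoImplicit false

namespace Cfsg.Agent.Lib.Helper81

theorem induced_fiber_card {G Ω : Type*} [Group G] [Fintype G] [DecidableEq Ω]
    (act : G → Ω → Ω) (h1 : ∀ t, act 1 t = t) (hmul : ∀ g h t, act (g * h) t = act g (act h t))
    (C : Subgroup G) (X : Finset Ω)
    (hCX : ∀ h ∈ C, ∀ x ∈ X, act h x ∈ X)
    (hb : ∀ g : G, ∀ x ∈ X, act g x ∈ X → g ∈ C)
    (t : Ω) (hex : ∃ g : G, ∃ x ∈ X, act g x = t) :
    ((Finset.univ ×ˢ X).filter (fun p : G × Ω => act p.1 p.2 = t)).card = Nat.card C := by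
  classical
  have hinv : ∀ g t, act g⁻¹ (act g t) = t := by
    intro g t
    rw [← hmul, inv_mul_cancel, h1]
  obtain ⟨g0, x0, hx0, hgx⟩ := hex
  rw [Nat.card_eq_fintype_card, ← Finset.card_univ (α := C)]
  symm
  apply Finset.card_bij (fun (h : C) _ => ((g0 * (h : G)⁻¹, act (h : G) x0) : G × Ω))
  · intro h _
    rw [Finset.mem_filter, Finset.mem_product]
    refine ⟨⟨Finset.mem_univ _, hCX h h.2 x0 hx0⟩, ?_⟩
    show act (g0 * (h : G)⁻¹) (act (h : G) x0) = t
    rw [hmul, hinv, hgx]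
  · intro h _ h' _ heq
    have := congrArg Prod.fst heq
    simp only [mul_right_inj, inv_inj] at this
    exact Subtype.ext this
  · rintro ⟨g, x⟩ hp
    rw [Finset.mem_filter, Finset.mem_product] at hp
    obtain ⟨⟨-, hx⟩, hgx'⟩ := hp
    simp only at hgx' hx
    have hx' : x = act (g⁻¹ * g0) x0 := by
      rw [hmul, hgx, ← hgx', hinv]
    have hmem : g⁻¹ * g0 ∈ C := hb _ x0 hx0 (hx' ▸ hx)
    refine ⟨⟨g⁻¹ * g0, hmem⟩, Finset.mem_univ _, ?_⟩
    simp only [mul_inv_rev, inv_inv, mul_inv_cancel_left]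
    rw [hx']

theorem exists_translate_of_card_le {G Ω : Type*} [Group G] [Fintype G] [DecidableEq Ω]
    (act : G → Ω → Ω) (h1 : ∀ t, act 1 t = t) (hmul : ∀ g h t, act (g * h) t = act g (act h t))
    (C : Subgroup G) (T X : Finset Ω)
    (hCX : ∀ h ∈ C, ∀ x ∈ X, act h x ∈ X)
    (hXT : ∀ g : G, ∀ x ∈ X, act g x ∈ T)
    (hb : ∀ g : G, ∀ x ∈ X, act g x ∈ X → g ∈ C)
    (hcard : T.card * Nat.card C ≤ Fintype.card G * X.card) :
    ∀ t ∈ T, ∃ g : G, ∃ x ∈ X, act g x = t := by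
  classical
  let I : Finset Ω := ((Finset.univ : Finset G) ×ˢ X).image (fun p : G × Ω => act p.1 p.2)
  have hIT : I ⊆ T := by
    intro t ht
    obtain ⟨p, hp, rfl⟩ := Finset.mem_image.1 ht
    exact hXT p.1 p.2 (Finset.mem_product.1 hp).2
  have hcount : ((Finset.univ : Finset G) ×ˢ X).card = I.card * Nat.card C := by
    rw [Finset.card_eq_sum_card_image (fun p : G × Ω => act p.1 p.2)]
    rw [Finset.sum_congr rfl (fun t ht => ?_), Finset.sum_const, smul_eq_mul]
    obtain ⟨p, hp, rfl⟩ := Finset.mem_image.1 ht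
    exact induced_fiber_card act h1 hmul C X hCX hb _
      ⟨p.1, p.2, (Finset.mem_product.1 hp).2, rfl⟩
  rw [Finset.card_product, Finset.card_univ] at hcount
  have hCpos : 0 < Nat.card C := Nat.card_pos
  have hle : T.card ≤ I.card := by
    rw [hcount] at hcard
    exact Nat.le_of_mul_le_mul_right hcard hCpos
  have hIeq : I = T := Finset.eq_of_subset_of_card_le hIT hle
  intro t ht
  rw [← hIeq] at ht
  obtain ⟨p, hp, rfl⟩ := Finset.mem_image.1 ht
  exact ⟨p.1, p.2, (Finset.mem_product.1 hp).2, rfl⟩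

theorem card_mul_sum_eq_card_mul_sum_of_card_le {G Ω : Type*} [Group G] [Fintype G]
    [DecidableEq Ω]
    (act : G → Ω → Ω) (h1 : ∀ t, act 1 t = t) (hmul : ∀ g h t, act (g * h) t = act g (act h t))
    (C : Subgroup G) (T X : Finset Ω)
    (hCX : ∀ h ∈ C, ∀ x ∈ X, act h x ∈ X)
    (hXT : ∀ g : G, ∀ x ∈ X, act g x ∈ T)
    (hb : ∀ g : G, ∀ x ∈ X, act g x ∈ X → g ∈ C)
    (hcard : T.card * Nat.card C ≤ Fintype.card G * X.card)
    (F : Ω → ℂ) (hF : ∀ g : G, ∀ t, F (act g t) = F t) :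
    (Nat.card C : ℂ) * ∑ t ∈ T, F t = (Fintype.card G : ℂ) * ∑ x ∈ X, F x :=
  card_mul_sum_eq_card_mul_sum act h1 hmul C T X hCX hXT
    (exists_translate_of_card_le act h1 hmul C T X hCX hXT hb hcard) hb F hF

end Cfsg.Agent.Lib.Helper81
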