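import Mathlib
import Cfsg.Prelude.Def_Characters
import Cfsg.Agent.Lib.Helper81.InducedSumCard

/-!
# Transfer of coset sums under a Frobenius-type action (helper81)

Let `N ≤ G` be normal subgroups of `Γ` such that every `x ∉ G` acts fixed-point-freely on `G/N`
(`[x, g] ∈ N → g ∈ N` for `g ∈ G`).

* `card_mul_sum_frob_coset_eq`: `|N| ∑_{g ∈ G} F (g x) = |G| ∑_{y ∈ N} F (y x)` for `x ∉ G` and class
  functions `F` of `Γ`.
-/

set_option autoImplicit false

namespace Cfsg.Agent.Lib.Helper81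

open Cfsg

theorem card_mul_sum_frob_coset_eq {Γ : Type*} [Group Γ] [Fintype Γ] (G N : Subgroup Γ)
    [hG : G.Normal] [hN : N.Normal] [Fintype G] [Fintype N] (hNG : N ≤ G)
    (hfrob : ∀ x : Γ, x ∉ G → ∀ g : Γ, g ∈ G → x * g * x⁻¹ * g⁻¹ ∈ N → g ∈ N)
    (x : Γ) (hx : x ∉ G) (F : Γ → ℂ) (hF : IsClassFunction Γ F) :
    (Nat.card N : ℂ) * ∑ g : G, F ((g : Γ) * x) = (Nat.card G : ℂ) * ∑ y : N, F ((y : Γ) * x) := by
  classical
  let act : G → Γ → Γ := fun g t => (g : Γ) * t * (g : Γ)⁻¹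
  let T : Finset Γ := Finset.univ.image (fun g : G => (g : Γ) * x)
  let X : Finset Γ := Finset.univ.image (fun y : N => (y : Γ) * x)
  have hinjT : Function.Injective (fun g : G => (g : Γ) * x) :=
    fun a b h => Subtype.ext (mul_right_cancel h)
  have hinjX : Function.Injective (fun y : N => (y : Γ) * x) :=
    fun a b h => Subtype.ext (mul_right_cancel h)
  have hmemT : ∀ t, t ∈ T ↔ t * x⁻¹ ∈ G := by
    intro t
    simp only [T, Finset.mem_image, Finset.mem_univ, true_and]
    constructor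
    · rintro ⟨g, rfl⟩
      simp
    · intro h
      exact ⟨⟨t * x⁻¹, h⟩, by simp⟩
  have hmemX : ∀ t, t ∈ X ↔ t * x⁻¹ ∈ N := by
    intro t
    simp only [X, Finset.mem_image, Finset.mem_univ, true_and]
    constructor
    · rintro ⟨g, rfl⟩
      simp
    · intro h
      exact ⟨⟨t * x⁻¹, h⟩, by simp⟩
  have hcardC : Nat.card (N.subgroupOf G) = Nat.card N :=
    Nat.card_congr (Subgroup.subgroupOfEquivOfLe hNG).toEquiv
  have key := card_mul_sum_eq_card_mul_sum_of_card_le act (fun t => by simp [act])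
    (fun g h t => by simp only [act, Subgroup.coe_mul, mul_inv_rev]; group)
    (N.subgroupOf G) T X ?_ ?_ ?_ ?_ F (fun g t => hF t g)
  · rw [Finset.sum_image (fun a _ b _ h => hinjT h), Finset.sum_image (fun a _ b _ h => hinjX h),
      hcardC, ← Nat.card_eq_fintype_card] at key
    exact key
  · -- `X` is `N`-stable
    intro h hh t ht
    rw [hmemX] at ht ⊢
    have hhN : (h : Γ) ∈ N := Subgroup.mem_subgroupOf.1 hh
    have h1 : act h t * x⁻¹ = (h : Γ) * (t * x⁻¹) * (x * (h : Γ)⁻¹ * x⁻¹) := by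
      simp only [act]; group
    rw [h1]
    exact N.mul_mem (N.mul_mem hhN ht) (hN.conj_mem _ (N.inv_mem hhN) x)
  · -- translates of `X` lie in `T`
    intro g t ht
    rw [hmemX] at ht
    rw [hmemT]
    have h1 : act g t * x⁻¹ = (g : Γ) * (t * x⁻¹) * (x * (g : Γ)⁻¹ * x⁻¹) := by
      simp only [act]; group
    rw [h1]
    exact G.mul_mem (G.mul_mem g.2 (hNG ht)) (hG.conj_mem _ (G.inv_mem g.2) x)
  · -- stabilizer condition
    intro g t ht hgt
    rw [hmemX] at ht hgt
    rw [Subgroup.mem_subgroupOf]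
    have htG : t ∉ G := by
      intro h
      apply hx
      have : x = (t * x⁻¹)⁻¹ * t := by group
      rw [this]
      exact G.mul_mem (G.inv_mem (hNG ht)) h
    apply hfrob t htG g g.2
    have h1 : t * (g : Γ) * t⁻¹ * (g : Γ)⁻¹ = ((act g t * x⁻¹) * (t * x⁻¹)⁻¹)⁻¹ := by
      simp only [act]; group
    rw [h1]
    exact N.inv_mem (N.mul_mem hgt (N.inv_mem ht))
  · -- cardinalities
    rw [Finset.card_image_of_injective _ hinjT, Finset.card_image_of_injective _ hinjX, hcardC,
      Finset.card_univ, Finset.card_univ, Nat.card_eq_fintype_card]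

end Cfsg.Agent.Lib.Helper81
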