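import Mathlib

/-!
# An arithmetic lemma on integer families with small variance (helper81)

* `slots_arith`: integers `a i` over an index type of size `n` with `∑ a = e` and
  `n ∑ a² = e² + n - 1` force `n ∣ e - 1` or `n ∣ e + 1`.
-/

set_option autoImplicit false

namespace Cfsg.Agent.Lib.Helper81

theorem slots_arith {Λ : Type*} [Fintype Λ] (n : ℤ) (hn : (Fintype.card Λ : ℤ) = n)
    (hnpos : 0 < n) (a : Λ → ℤ) (e : ℤ) (hsum : ∑ i, a i = e)
    (hsq : n * ∑ i, a i ^ 2 = e ^ 2 + n - 1) : n ∣ e - 1 ∨ n ∣ e + 1 := by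
  classical
  set c : ℤ := e / n with hc
  set B : ℤ := e % n with hB
  have heq : e = n * c + B := (Int.mul_ediv_add_emod e n).symm
  have hB0 : 0 ≤ B := Int.emod_nonneg _ hnpos.ne'
  have hBn : B < n := Int.emod_lt_of_pos _ hnpos
  let b : Λ → ℤ := fun i => a i - c
  have hbsum : ∑ i, b i = B := by
    simp only [b]
    rw [Finset.sum_sub_distrib, hsum, Finset.sum_const, Finset.card_univ, nsmul_eq_mul, hn]
    linarith
  have hbsq : n * ∑ i, b i ^ 2 - B ^ 2 = n - 1 := by
    have h1 : ∑ i, b i ^ 2 = ∑ i, a i ^ 2 - 2 * c * e + n * c ^ 2 := by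
      simp only [b]
      have : ∀ i, (a i - c) ^ 2 = a i ^ 2 - 2 * c * a i + c ^ 2 := fun i => by ring
      rw [Finset.sum_congr rfl (fun i _ => this i), Finset.sum_add_distrib,
        Finset.sum_sub_distrib, ← Finset.mul_sum, hsum, Finset.sum_const, Finset.card_univ,
        nsmul_eq_mul, hn]
    rw [h1]
    have : B = e - n * c := by linarith
    rw [this]
    nlinarith
  have hQB : B ≤ ∑ i, b i ^ 2 := by
    rw [← hbsum]
    apply Finset.sum_le_sum
    intro i _
    nlinarith [sq_nonneg (b i), sq_nonneg (b i - 1), Int.emod_emod_of_dvd (b i) (dvd_refl 1),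
      (show b i ≤ b i ^ 2 from by
        rcases le_or_gt (b i) 0 with h | h
        · nlinarith [sq_nonneg (b i)]
        · nlinarith)]
  -- `B (n - B) ≤ n - 1`
  have hkey : B * (n - B) ≤ n - 1 := by
    have : n * B ≤ n * ∑ i, b i ^ 2 := mul_le_mul_of_nonneg_left hQB hnpos.le
    nlinarith
  rcases eq_or_lt_of_le hB0 with h0 | hpos
  · -- `B = 0`
    have hB0' : B = 0 := h0.symm
    rw [hB0'] at hbsq
    have hdvd : n ∣ n - 1 := ⟨∑ i, b i ^ 2, by linarith⟩
    have hn1 : n ∣ 1 := by
      have := dvd_sub (dvd_refl n) hdvd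
      simpa using this
    left
    exact dvd_trans hn1 (one_dvd _)
  · have hB1 : 1 ≤ B := hpos
    have hfac : (B - 1) * (n - 1 - B) ≥ 0 := mul_nonneg (by linarith) (by linarith)
    have hzero : (B - 1) * (n - 1 - B) = 0 := by nlinarith
    rcases mul_eq_zero.1 hzero with h | h
    · left
      exact ⟨c, by linarith⟩
    · right
      exact ⟨c + 1, by linarith⟩

end Cfsg.Agent.Lib.Helper81
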