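import Mathlib
import Cfsg.Prelude.Def_Characters
import Cfsg.Agent.S0868
import Cfsg.Agent.S0886
import Cfsg.Agent.Lib.Helper81.FrobTransfer
import Cfsg.Agent.Lib.Helper81.CyclicTwist
import Cfsg.Agent.Lib.Helper81.SlotsArith
import Cfsg.Agent.Lib.Helper81.FrobRamified1

/-!
# Ramification index under a cyclic Frobenius action (helper81)

* `frob_ramified_dvd`: `N ≤ G` normal in `Γ`, `Γ/G` cyclic acting fixed-point-freely on `G/N`,
  `θ ∈ Irr(N)` and `χ ∈ Irr(G)` `Γ`-invariant with `χ_N = e θ`.  Then `|Γ:G|` divides `e - 1` or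
  `e + 1`.
-/

set_option autoImplicit false

namespace Cfsg.Agent.Lib.Helper81

open Cfsg
open scoped ComplexConjugate

theorem frob_ramified_dvd {Γ : Type*} [Group Γ] [Fintype Γ] (G N : Subgroup Γ) [hG : G.Normal]
    [hN : N.Normal] [Fintype G] [Fintype N] (hNG : N ≤ G) (hGlt : G ≠ ⊤)
    (hcyc : IsCyclic (Γ ⧸ G))
    (hfrob : ∀ x : Γ, x ∉ G → ∀ g : Γ, g ∈ G → x * g * x⁻¹ * g⁻¹ ∈ N → g ∈ N)
    (θ : IrrCharacter N)
    (hinv : ∀ (x : Γ) (n : N), (θ : N → ℂ) ⟨x * n * x⁻¹, hN.conj_mem n n.2 x⟩ = (θ : N → ℂ) n)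
    (χ : IrrCharacter G) (e : ℕ)
    (hχN : ∀ y : N, (χ : G → ℂ) ⟨y, hNG y.2⟩ = (e : ℂ) * (θ : N → ℂ) y)
    (hχinv : ∀ (x : Γ) (g : G), (χ : G → ℂ) ⟨x * g * x⁻¹, hG.conj_mem g g.2 x⟩ = (χ : G → ℂ) g) :
    (G.index : ℤ) ∣ (e : ℤ) - 1 ∨ (G.index : ℤ) ∣ (e : ℤ) + 1 := by
  classical
  -- the extension `ψ`
  obtain ⟨ψ, hψ, hψext⟩ := Cfsg.Agent.S0886.result G hcyc (χ : G → ℂ) χ.2 hχinv
  have hψc : IsCharacter Γ ψ := Cfsg.Agent.Lib.Helper78.IsIrrCharacter.isCharacter hψ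
  have hψcf : IsClassFunction Γ ψ := Cfsg.Agent.Lib.Helper78.IsCharacter.isClassFunction hψc
  have hψres : IsIrrCharacter G (fun g : G => ψ g) := by
    have : (fun g : G => ψ g) = (χ : G → ℂ) := funext hψext
    rw [this]; exact χ.2
  -- a generator of `Γ/G`
  obtain ⟨q0, hq0⟩ := hcyc.exists_generator
  obtain ⟨s, rfl⟩ := QuotientGroup.mk_surjective q0
  have hsG : s ∉ G := by
    intro hs
    apply hGlt
    rw [eq_top_iff]
    intro γ _
    obtain ⟨k, hk⟩ := Subgroup.mem_zpowers_iff.1 (hq0 (γ : Γ ⧸ G))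
    have h1 : ((s : Γ ⧸ G)) = 1 := (QuotientGroup.eq_one_iff s).2 hs
    rw [h1, one_zpow] at hk
    exact (QuotientGroup.eq_one_iff γ).1 hk.symm
  let H : Subgroup Γ := N ⊔ Subgroup.zpowers s
  have hNH : N ≤ H := le_sup_left
  have hsH : s ∈ H := (le_sup_right : Subgroup.zpowers s ≤ H) (Subgroup.mem_zpowers s)
  have hHdecomp : ∀ h ∈ H, ∃ y ∈ N, ∃ k : ℤ, h = y * s ^ k := by
    intro h hh
    have : h ∈ ((N ⊔ Subgroup.zpowers s : Subgroup Γ) : Set Γ) := hh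
    rw [Subgroup.normal_mul] at this
    obtain ⟨y, hy, z, hz, rfl⟩ := Set.mem_mul.1 this
    obtain ⟨k, rfl⟩ := Subgroup.mem_zpowers_iff.1 hz
    exact ⟨y, hy, k, rfl⟩
  have hHG : ∀ h ∈ H, h ∈ G → h ∈ N := by
    intro h hh hhG
    obtain ⟨y, hy, k, rfl⟩ := hHdecomp h hh
    have hsk : s ^ k ∈ G := by
      have : s ^ k = y⁻¹ * (y * s ^ k) := by group
      rw [this]; exact G.mul_mem (G.inv_mem (hNG hy)) hhG
    have hskN : s ^ k ∈ N := by
      apply hfrob s hsG (s ^ k) hsk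
      have : s * s ^ k * s⁻¹ * (s ^ k)⁻¹ = 1 := by group
      rw [this]; exact N.one_mem
    exact N.mul_mem hy hskN
  -- the group `H` and its normal subgroup `N`
  have : Fintype H := Fintype.ofFinite H
  let NH : Subgroup H := N.subgroupOf H
  have : Fintype NH := Fintype.ofFinite NH
  have hNHn : NH.Normal := inferInstance
  have hcycH : IsCyclic (H ⧸ NH) := by
    refine ⟨⟨((⟨s, hsH⟩ : H) : H ⧸ NH), ?_⟩⟩
    intro q
    obtain ⟨h, rfl⟩ := QuotientGroup.mk_surjective q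
    obtain ⟨y, hy, k, hk⟩ := hHdecomp h h.2
    refine ⟨k, ?_⟩
    show ((⟨s, hsH⟩ : H) : H ⧸ NH) ^ k = (h : H ⧸ NH)
    rw [← QuotientGroup.mk_zpow, QuotientGroup.eq, Subgroup.mem_subgroupOf]
    have h1 : (((⟨s, hsH⟩ : H) ^ k)⁻¹ * h : H) = (⟨(s ^ k)⁻¹ * (h : Γ), by
        exact H.mul_mem (H.inv_mem (H.zpow_mem hsH k)) h.2⟩ : H) := by
      apply Subtype.ext
      simp
    rw [h1]
    show (s ^ k)⁻¹ * (h : Γ) ∈ N
    rw [hk]
    have := hN.conj_mem y hy (s ^ k)⁻¹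
    have e1 : (s ^ k)⁻¹ * y * (s ^ k)⁻¹⁻¹ = (s ^ k)⁻¹ * (y * s ^ k) := by group
    rwa [e1] at this
  have hidx : NH.index = G.index := by
    let φ : H →* Γ ⧸ G := (QuotientGroup.mk' G).comp H.subtype
    have hφsurj : Function.Surjective φ := by
      intro q
      obtain ⟨k, hk⟩ := Subgroup.mem_zpowers_iff.1 (hq0 q)
      refine ⟨⟨s ^ k, H.zpow_mem hsH k⟩, ?_⟩
      rw [← hk]
      rfl
    have hker : φ.ker = NH := by
      ext h
      rw [MonoidHom.mem_ker, Subgroup.mem_subgroupOf]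
      show ((h : Γ) : Γ ⧸ G) = 1 ↔ _
      rw [QuotientGroup.eq_one_iff]
      exact ⟨fun hh => hHG h h.2 hh, fun hh => hNG hh⟩
    rw [← hker, Subgroup.index_ker, MonoidHom.range_eq_top.2 hφsurj, Subgroup.card_top,
      Subgroup.index_eq_card]
  have hcardNH : Nat.card NH = Nat.card N :=
    Nat.card_congr (Subgroup.subgroupOfEquivOfLe hNH).toEquiv
  have hcardH : Nat.card H = Nat.card N * G.index := by
    rw [← hcardNH, ← hidx, Subgroup.card_mul_index]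
  -- the characters on `H`
  let θH : NH → ℂ := fun n => (θ : N → ℂ) ⟨((n : H) : Γ), n.2⟩
  have hθH : IsIrrCharacter NH θH := by
    have h1 := isIrrCharacter_comp_mulEquiv θ.2 (Subgroup.subgroupOfEquivOfLe hNH)
    have h2 : (θ : N → ℂ) ∘ (Subgroup.subgroupOfEquivOfLe hNH) = θH := by
      funext n
      rfl
    rw [h2] at h1
    exact h1
  have hθHinv : ∀ (g : H) (n : NH),
      θH ⟨g * n * g⁻¹, hNHn.conj_mem (n : H) n.2 g⟩ = θH n := by
    intro g n
    have := hinv (g : Γ) ⟨((n : H) : Γ), n.2⟩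
    simp only [θH]
    rw [← this]
    congr 1
  let Ψ : H → ℂ := fun h => ψ (h : Γ)
  have hΨ : IsCharacter H Ψ := isCharacter_comp hψc H.subtype
  have hΨres : ∀ y : NH, Ψ y = (e : ℂ) * θH y := by
    intro y
    have h1 := hψext ⟨((y : H) : Γ), hNG y.2⟩
    have h2 := hχN ⟨((y : H) : Γ), y.2⟩
    show ψ ((y : H) : Γ) = _
    rw [h1, h2]
  obtain ⟨Λ, hΛ, a, hcard, hsum, hnorm⟩ :=
    cyclic_twist_decomp NH hcycH θH hθH hθHinv Ψ hΨ e hΨres
  -- the norm via coset sums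
  let F : Γ → ℂ := fun x => ψ x * conj (ψ x)
  have hF : IsClassFunction Γ F := by
    intro g h
    simp only [F]
    rw [hψcf g h]
  have hGne : (Nat.card G : ℂ) ≠ 0 := by
    have : 0 < Nat.card G := Nat.card_pos
    exact_mod_cast this.ne'
  have hNne : (Nat.card N : ℂ) ≠ 0 := by
    have : 0 < Nat.card N := Nat.card_pos
    exact_mod_cast this.ne'
  have hcosetG : ∀ x : Γ, ∑ g : G, F ((g : Γ) * x) = (Nat.card G : ℂ) := by
    intro x
    have h868 := (Cfsg.Agent.S0868.result G ψ hψ hψres ψ hψ _ rfl).2.2 rfl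
    have h1 := congrFun h868 x
    beta_reduce at h1
    field_simp at h1
    exact h1
  have hcosetN : ∀ x : Γ, x ∉ G → ∑ y : N, F ((y : Γ) * x) = (Nat.card N : ℂ) := by
    intro x hx
    have h1 := card_mul_sum_frob_coset_eq G N hNG hfrob x hx F hF
    rw [hcosetG x] at h1
    have h2 : (Nat.card G : ℂ) * (Nat.card N : ℂ) =
        (Nat.card G : ℂ) * ∑ y : N, F ((y : Γ) * x) := by
      rw [← h1]; ring
    exact (mul_left_cancel₀ hGne h2).symm
  have hN1 : ∑ y : N, F (y : Γ) = (e : ℂ) ^ 2 * (Nat.card N : ℂ) := by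
    have h1 : ∀ y : N, F (y : Γ) = (e : ℂ) ^ 2 * ((θ : N → ℂ) y * conj ((θ : N → ℂ) y)) := by
      intro y
      simp only [F]
      have h2 := hψext ⟨(y : Γ), hNG y.2⟩
      have h3 := hχN y
      have h4 : ψ (y : Γ) = (e : ℂ) * (θ : N → ℂ) y := by rw [← h3, ← h2]
      rw [h4, map_mul, Complex.conj_natCast]
      ring
    rw [Finset.sum_congr rfl (fun y _ => h1 y), ← Finset.mul_sum]
    have := Cfsg.Agent.Lib.Helper78.classInner_irr_self θ.2
    unfold classInner at this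
    field_simp at this
    rw [this]
  -- inner coset sums on `H`
  have hc : ∀ h : H, ∑ y : NH, F (((y : H) : Γ) * (h : Γ)) =
      if (h : Γ) ∈ N then (e : ℂ) ^ 2 * (Nat.card N : ℂ) else (Nat.card N : ℂ) := by
    intro h
    have h1 : ∑ y : NH, F (((y : H) : Γ) * (h : Γ)) = ∑ y : N, F ((y : Γ) * (h : Γ)) :=
      Fintype.sum_equiv (Subgroup.subgroupOfEquivOfLe hNH).toEquiv _ _ (fun y => rfl)
    rw [h1]
    split_ifs with hh
    · rw [← hN1]
      exact Fintype.sum_equiv (Equiv.mulRight (⟨(h : Γ), hh⟩ : N)) _ _ (fun y => rfl)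
    · exact hcosetN (h : Γ) (fun hG' => hh (hHG h h.2 hG'))
  have hNHne : (Nat.card NH : ℂ) ≠ 0 := by rw [hcardNH]; exact hNne
  have havg : ∑ h : H, F (h : Γ) =
      (Nat.card NH : ℂ)⁻¹ * ∑ h : H, ∑ y : NH, F (((y : H) : Γ) * (h : Γ)) := by
    rw [Finset.sum_comm]
    have h1 : ∀ y : NH, ∑ h : H, F (((y : H) : Γ) * (h : Γ)) = ∑ h : H, F (h : Γ) := by
      intro y
      exact Fintype.sum_equiv (Equiv.mulLeft (y : H)) _ _ (fun h => rfl)
    rw [Finset.sum_congr rfl (fun y _ => h1 y), Finset.sum_const, Finset.card_univ,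
      nsmul_eq_mul, ← Nat.card_eq_fintype_card, ← mul_assoc, inv_mul_cancel₀ hNHne, one_mul]
  have hcount : ∑ h : H, (if (h : Γ) ∈ N then (1 : ℂ) else 0) = (Nat.card N : ℂ) := by
    have h1 := sum_eq_sum_subgroup_of_vanish NH (fun h : H => if (h : Γ) ∈ N then (1 : ℂ) else 0)
      (fun h hh => if_neg (fun h' => hh (Subgroup.mem_subgroupOf.2 h')))
    rw [h1]
    have h2 : ∀ y : NH, (if (((y : H)) : Γ) ∈ N then (1 : ℂ) else 0) = 1 := fun y => if_pos y.2
    rw [Finset.sum_congr rfl (fun y _ => h2 y), Finset.sum_const, Finset.card_univ, nsmul_eq_mul,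
      mul_one, ← Nat.card_eq_fintype_card, hcardNH]
  have hsumH : ∑ h : H, F (h : Γ) =
      (e : ℂ) ^ 2 * (Nat.card N : ℂ) + (Nat.card N : ℂ) * ((G.index : ℂ) - 1) := by
    rw [havg, Finset.sum_congr rfl (fun h _ => hc h)]
    have h1 : ∀ h : H, (if (h : Γ) ∈ N then (e : ℂ) ^ 2 * (Nat.card N : ℂ) else (Nat.card N : ℂ)) =
        (Nat.card N : ℂ) + ((e : ℂ) ^ 2 - 1) * (Nat.card N : ℂ) *
          (if (h : Γ) ∈ N then (1 : ℂ) else 0) := by
      intro h
      split_ifs <;> ring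
    rw [Finset.sum_congr rfl (fun h _ => h1 h), Finset.sum_add_distrib, ← Finset.mul_sum, hcount,
      Finset.sum_const, Finset.card_univ, nsmul_eq_mul, ← Nat.card_eq_fintype_card, hcardH,
      hcardNH]
    push_cast
    field_simp
    ring
  have hnorm2 : classInner Ψ Ψ * (G.index : ℂ) = (e : ℂ) ^ 2 + (G.index : ℂ) - 1 := by
    unfold classInner
    have h1 : ∑ g : H, Ψ g * conj (Ψ g) = ∑ h : H, F (h : Γ) := rfl
    rw [h1, hsumH, hcardH]
    have hidxne : (G.index : ℂ) ≠ 0 := by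
      have := Subgroup.index_ne_zero_of_finite (H := G)
      exact_mod_cast this
    push_cast
    field_simp
    ring
  rw [hnorm] at hnorm2
  -- arithmetic
  have hnpos : (0 : ℤ) < (G.index : ℤ) := by
    have := Subgroup.index_ne_zero_of_finite (H := G)
    have : 0 < G.index := Nat.pos_of_ne_zero this
    exact_mod_cast this
  have hcardΛ : (Fintype.card Λ : ℤ) = (G.index : ℤ) := by
    rw [hcard, hidx]
  have hsumZ : ∑ i, (a i : ℤ) = (e : ℤ) := by exact_mod_cast hsum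
  have hsqZ : (G.index : ℤ) * ∑ i, (a i : ℤ) ^ 2 = (e : ℤ) ^ 2 + (G.index : ℤ) - 1 := by
    have : (((G.index : ℤ) * ∑ i, (a i : ℤ) ^ 2 : ℤ) : ℂ) =
        (((e : ℤ) ^ 2 + (G.index : ℤ) - 1 : ℤ) : ℂ) := by
      push_cast
      push_cast at hnorm2
      rw [← hnorm2]
      ring
    exact_mod_cast this
  exact slots_arith (G.index : ℤ) hcardΛ hnpos (fun i => (a i : ℤ)) (e : ℤ) hsumZ hsqZ

end Cfsg.Agent.Lib.Helper81
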