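import Mathlib
import Cfsg.Prelude.Def_Characters
import Cfsg.Agent.S0868
import Cfsg.Agent.Lib.Helper78.CharMore
import Cfsg.Agent.Lib.Helper78.CharOrtho
import Cfsg.Agent.Lib.Helper81.IrrTwist
import Cfsg.Agent.Lib.Helper81.Gallagher
import Cfsg.Agent.Lib.Helper81.CyclicExt

/-!
# Fully ramified characters (helper81)

* `fully_ramified_vanish`: if `χ_Z = e θ` with `e ^ 2 = |H : Z|` then `χ` vanishes off `Z`.
* `coset_sum_eq_zero_of_classInner_res_eq_zero`: coset orthogonality (from S0868).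
* `fully_ramified_centralizer_ne`: if `χ ∈ Irr(H)` is fully ramified over `Z ⊴ H`, `Z ≠ H`, then
  no cyclic subgroup of `H/Z` is its own centralizer.
-/

set_option autoImplicit false

namespace Cfsg.Agent.Lib.Helper81

open Cfsg
open scoped ComplexConjugate

theorem fully_ramified_vanish {H : Type*} [Group H] [Fintype H] (Z : Subgroup H) [Fintype Z]
    (χ : IrrCharacter H) (θ : IrrCharacter Z) (e : ℕ) (he : e ^ 2 = Z.index)
    (hres : ∀ z : Z, (χ : H → ℂ) z = (e : ℂ) * (θ : Z → ℂ) z) :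
    ∀ h : H, h ∉ Z → (χ : H → ℂ) h = 0 := by
  classical
  have hχ1 := Cfsg.Agent.Lib.Helper78.classInner_irr_self χ.2
  have hθ1 := Cfsg.Agent.Lib.Helper78.classInner_irr_self θ.2
  unfold classInner at hχ1 hθ1
  have hHne : (Nat.card H : ℂ) ≠ 0 := by
    have : 0 < Nat.card H := Nat.card_pos
    exact_mod_cast this.ne'
  have hZne : (Nat.card Z : ℂ) ≠ 0 := by
    have : 0 < Nat.card Z := Nat.card_pos
    exact_mod_cast this.ne'
  have hsumH : ∑ g : H, (χ : H → ℂ) g * conj ((χ : H → ℂ) g) = (Nat.card H : ℂ) := by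
    field_simp at hχ1
    exact hχ1
  have hsumZ : ∑ z : Z, (θ : Z → ℂ) z * conj ((θ : Z → ℂ) z) = (Nat.card Z : ℂ) := by
    field_simp at hθ1
    exact hθ1
  have hcard : (Nat.card H : ℂ) = (e : ℂ) ^ 2 * (Nat.card Z : ℂ) := by
    have := Z.card_mul_index
    rw [← he] at this
    rw [← this]
    push_cast
    ring
  -- the part of the sum on `Z`
  have hZpart : ∑ g : H, (if g ∈ Z then (χ : H → ℂ) g * conj ((χ : H → ℂ) g) else 0) =
      (Nat.card H : ℂ) := by
    rw [sum_eq_sum_subgroup_of_vanish Z _ (fun g hg => if_neg hg)]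
    have h1 : ∀ z : Z, (if (z : H) ∈ Z then (χ : H → ℂ) z * conj ((χ : H → ℂ) z) else 0) =
        (e : ℂ) ^ 2 * ((θ : Z → ℂ) z * conj ((θ : Z → ℂ) z)) := by
      intro z
      rw [if_pos z.2, hres z, map_mul, Complex.conj_natCast]
      ring
    rw [Finset.sum_congr rfl (fun z _ => h1 z), ← Finset.mul_sum, hsumZ, hcard]
  have hsplit : ∑ g : H, (χ : H → ℂ) g * conj ((χ : H → ℂ) g) =
      ∑ g : H, (if g ∈ Z then (χ : H → ℂ) g * conj ((χ : H → ℂ) g) else 0) +
      ∑ g : H, (if g ∈ Z then 0 else (χ : H → ℂ) g * conj ((χ : H → ℂ) g)) := by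
    rw [← Finset.sum_add_distrib]
    apply Finset.sum_congr rfl
    intro g _
    split_ifs <;> simp
  rw [hsumH, hZpart] at hsplit
  have hrest : ∑ g : H, (if g ∈ Z then 0 else (χ : H → ℂ) g * conj ((χ : H → ℂ) g)) = 0 := by
    have := hsplit
    linear_combination -this
  have hreal : ∀ g : H, (if g ∈ Z then 0 else (χ : H → ℂ) g * conj ((χ : H → ℂ) g)) =
      (((if g ∈ Z then 0 else Complex.normSq ((χ : H → ℂ) g)) : ℝ) : ℂ) := by
    intro g
    split_ifs
    · simp
    · rw [Complex.mul_conj]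
  rw [Finset.sum_congr rfl (fun g _ => hreal g)] at hrest
  have hrest' : ∑ g : H, (if g ∈ Z then 0 else Complex.normSq ((χ : H → ℂ) g)) = 0 := by
    exact_mod_cast hrest
  have hall := (Finset.sum_eq_zero_iff_of_nonneg (fun g _ => by
    split_ifs
    · exact le_refl _
    · exact Complex.normSq_nonneg _)).1 hrest'
  intro h hh
  have := hall h (Finset.mem_univ _)
  rw [if_neg hh] at this
  exact Complex.normSq_eq_zero.1 this

theorem coset_sum_eq_zero_of_classInner_res_eq_zero {K : Type*} [Group K] [Fintype K]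
    (N : Subgroup K) [N.Normal] [Fintype N]
    (η : K → ℂ) (hη : IsIrrCharacter K η) (hηN : IsIrrCharacter N (fun n : N => η n))
    (α : K → ℂ) (hα : IsCharacter K α)
    (h0 : classInner (fun n : N => α n) (fun n : N => η n) = 0) (g : K) :
    ∑ n : N, α ((n : K) * g) * conj (η ((n : K) * g)) = 0 := by
  classical
  obtain ⟨m, hm⟩ := (Cfsg.Agent.Lib.Helper78.isCharacter_iff_exists_nat_combination α).1 hα
  have hval : ∀ k : K, α k = ∑ μ : IrrCharacter K, (m μ : ℂ) * (μ : K → ℂ) k := by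
    intro k
    rw [hm]
    simp [Finset.sum_apply]
  choose kk hkk using fun μ : IrrCharacter K =>
    Cfsg.Agent.Lib.Helper78.IsCharacter.exists_nat_classInner
      (isCharacter_comp (Cfsg.Agent.Lib.Helper78.IsIrrCharacter.isCharacter μ.2) N.subtype)
      (⟨_, hηN⟩ : IrrCharacter N)
  have hsum : ∑ μ : IrrCharacter K, (m μ : ℂ) * (kk μ : ℂ) = 0 := by
    rw [← h0]
    have h1 : (fun n : N => α n) =
        ∑ μ : IrrCharacter K, (m μ : ℂ) • ((μ : K → ℂ) ∘ N.subtype) := by
      funext n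
      rw [hval]
      simp [Finset.sum_apply]
    rw [h1, Cfsg.Agent.Lib.Helper78.classInner_sum_left]
    apply Finset.sum_congr rfl
    intro μ _
    rw [Cfsg.Agent.Lib.Helper78.classInner_smul_left, ← hkk μ]
  have hzero : ∀ μ : IrrCharacter K, m μ * kk μ = 0 := by
    have h1 : ∑ μ : IrrCharacter K, m μ * kk μ = 0 := by exact_mod_cast hsum
    intro μ
    exact (Finset.sum_eq_zero_iff.1 h1) μ (Finset.mem_univ _)
  have hterm : ∀ μ : IrrCharacter K,
      (m μ : ℂ) * ∑ n : N, (μ : K → ℂ) ((n : K) * g) * conj (η ((n : K) * g)) = 0 := by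
    intro μ
    rcases Nat.mul_eq_zero.1 (hzero μ) with h | h
    · rw [h]; simp
    · have h2 : classInner (fun n : N => (μ : K → ℂ) n) (fun n : N => η n) = 0 := by
        have := hkk μ
        rw [h, Nat.cast_zero] at this
        exact this
      have h868 := (Cfsg.Agent.S0868.result N η hη hηN (μ : K → ℂ) μ.2 _ rfl).2.1 h2
      have h3 := congrFun h868 g
      simp only [Pi.zero_apply] at h3
      have hNne : (Nat.card N : ℂ) ≠ 0 := by
        have : 0 < Nat.card N := Nat.card_pos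
        exact_mod_cast this.ne'
      rcases mul_eq_zero.1 h3 with h4 | h4
      · exact absurd h4 (inv_ne_zero hNne)
      · rw [h4, mul_zero]
  have hexp : ∑ n : N, α ((n : K) * g) * conj (η ((n : K) * g)) =
      ∑ μ : IrrCharacter K,
        (m μ : ℂ) * ∑ n : N, (μ : K → ℂ) ((n : K) * g) * conj (η ((n : K) * g)) := by
    have h1 : ∀ n : N, α ((n : K) * g) * conj (η ((n : K) * g)) =
        ∑ μ : IrrCharacter K, (m μ : ℂ) * ((μ : K → ℂ) ((n : K) * g) * conj (η ((n : K) * g))) := by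
      intro n
      rw [hval, Finset.sum_mul]
      apply Finset.sum_congr rfl
      intro μ _
      ring
    rw [Finset.sum_congr rfl (fun n _ => h1 n), Finset.sum_comm]
    apply Finset.sum_congr rfl
    intro μ _
    rw [Finset.mul_sum]
  rw [hexp]
  exact Finset.sum_eq_zero (fun μ _ => hterm μ)

theorem fully_ramified_centralizer_ne {H : Type*} [Group H] [Fintype H] (Z : Subgroup H)
    [hZn : Z.Normal] (χ : IrrCharacter H) (θ : IrrCharacter Z) (e : ℕ) (he : e ^ 2 = Z.index)
    (hres : ∀ z : Z, (χ : H → ℂ) z = (e : ℂ) * (θ : Z → ℂ) z) (hZ : Z ≠ ⊤)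
    (C : Subgroup (H ⧸ Z)) (hC : IsCyclic C) :
    Subgroup.centralizer (C : Set (H ⧸ Z)) ≠ C := by
  classical
  intro hcent
  have : Fintype Z := Fintype.ofFinite Z
  have hvan := fully_ramified_vanish Z χ θ e he hres
  have he0 : (e : ℂ) ≠ 0 := by
    have h1 : e ≠ 0 := by
      intro h0
      rw [h0] at he
      have h2 : Z.index ≠ 0 := Subgroup.index_ne_zero_of_finite
      apply h2
      rw [← he]
      simp
    exact_mod_cast h1
  have hHne : (Nat.card H : ℂ) ≠ 0 := by
    have : 0 < Nat.card H := Nat.card_pos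
    exact_mod_cast this.ne'
  have hχcf : IsClassFunction H (χ : H → ℂ) := Cfsg.Agent.Lib.Helper78.isClassFunction_irr χ
  -- `θ` is `H`-invariant
  have hθinv : ∀ (h : H) (z : Z),
      (θ : Z → ℂ) ⟨h * z * h⁻¹, hZn.conj_mem z z.2 h⟩ = (θ : Z → ℂ) z := by
    intro h z
    have h1 := hres ⟨h * z * h⁻¹, hZn.conj_mem z z.2 h⟩
    have h2 := hres z
    have h3 : (χ : H → ℂ) (h * z * h⁻¹) = (χ : H → ℂ) z := hχcf z h
    have h4 : (e : ℂ) * (θ : Z → ℂ) ⟨h * z * h⁻¹, hZn.conj_mem z z.2 h⟩ = (e : ℂ) * (θ : Z → ℂ) z := by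
      rw [← h1, ← h2]
      exact h3
    exact mul_left_cancel₀ he0 h4
  -- a generator of `C`
  obtain ⟨⟨q0, hq0C⟩, hgen⟩ := hC.exists_generator
  obtain ⟨x, rfl⟩ := QuotientGroup.mk_surjective q0
  have hCgen : ∀ c ∈ C, ∃ k : ℤ, ((x : H ⧸ Z)) ^ k = c := by
    intro c hc
    obtain ⟨k, hk⟩ := Subgroup.mem_zpowers_iff.1 (hgen ⟨c, hc⟩)
    refine ⟨k, ?_⟩
    have := congrArg Subtype.val hk
    simpa using this
  have hxZ : x ∉ Z := by
    intro hx
    apply hZ
    rw [eq_top_iff]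
    intro h _
    have hx1 : (x : H ⧸ Z) = 1 := (QuotientGroup.eq_one_iff x).2 hx
    have hh : (h : H ⧸ Z) ∈ Subgroup.centralizer (C : Set (H ⧸ Z)) := by
      rw [Subgroup.mem_centralizer_iff]
      intro c hc
      obtain ⟨k, rfl⟩ := hCgen c hc
      rw [hx1, one_zpow, one_mul, mul_one]
    rw [hcent] at hh
    obtain ⟨k, hk⟩ := hCgen _ hh
    rw [hx1, one_zpow] at hk
    exact (QuotientGroup.eq_one_iff h).1 hk.symm
  have hself : ∀ y : H, (y : H ⧸ Z) = (x : H ⧸ Z) → ∀ h : H, h * y * h⁻¹ * y⁻¹ ∈ Z →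
      (h : H ⧸ Z) ∈ C := by
    intro y hy h hh
    rw [← hcent, Subgroup.mem_centralizer_iff]
    intro c hc
    obtain ⟨k, rfl⟩ := hCgen c hc
    have hcomm : Commute (x : H ⧸ Z) (h : H ⧸ Z) := by
      rw [← hy]
      have h1 : ((h * y * h⁻¹ * y⁻¹ : H) : H ⧸ Z) = 1 := (QuotientGroup.eq_one_iff _).2 hh
      simp only [QuotientGroup.mk_mul, QuotientGroup.mk_inv] at h1
      show (y : H ⧸ Z) * (h : H ⧸ Z) = (h : H ⧸ Z) * (y : H ⧸ Z)
      calc (y : H ⧸ Z) * (h : H ⧸ Z) = 1 * ((y : H ⧸ Z) * (h : H ⧸ Z)) := by rw [one_mul]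
        _ = ((h : H ⧸ Z) * (y : H ⧸ Z) * (h : H ⧸ Z)⁻¹ * (y : H ⧸ Z)⁻¹) *
            ((y : H ⧸ Z) * (h : H ⧸ Z)) := by rw [h1]
        _ = (h : H ⧸ Z) * (y : H ⧸ Z) := by group
    exact (hcomm.zpow_left k).eq
  -- the preimage `K` of `C`
  let K : Subgroup H := C.comap (QuotientGroup.mk' Z)
  have hmemK : ∀ h : H, h ∈ K ↔ (h : H ⧸ Z) ∈ C := fun h => Iff.rfl
  have hZK : Z ≤ K := by
    intro z hz
    rw [hmemK, (QuotientGroup.eq_one_iff z).2 hz]
    exact C.one_mem
  have hxK : x ∈ K := hq0C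
  have : Fintype K := Fintype.ofFinite K
  let ZK : Subgroup K := Z.subgroupOf K
  have : Fintype ZK := Fintype.ofFinite ZK
  have hZKn : ZK.Normal := inferInstance
  have hcycK : IsCyclic (K ⧸ ZK) := by
    refine ⟨⟨((⟨x, hxK⟩ : K) : K ⧸ ZK), ?_⟩⟩
    intro q
    obtain ⟨k, rfl⟩ := QuotientGroup.mk_surjective q
    obtain ⟨j, hj⟩ := hCgen _ ((hmemK _).1 k.2)
    refine ⟨j, ?_⟩
    show ((⟨x, hxK⟩ : K) : K ⧸ ZK) ^ j = (k : K ⧸ ZK)
    rw [← QuotientGroup.mk_zpow, QuotientGroup.eq, Subgroup.mem_subgroupOf]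
    have h1 : ((((⟨x, hxK⟩ : K) ^ j)⁻¹ * k : K) : H) = (x ^ j)⁻¹ * (k : H) := by
      simp
    rw [h1]
    rw [← QuotientGroup.mk_zpow] at hj
    exact QuotientGroup.eq.1 hj
  -- the characters on `K`
  let θK : ZK → ℂ := fun n => (θ : Z → ℂ) ⟨((n : K) : H), n.2⟩
  have hθK : IsIrrCharacter ZK θK := by
    have h1 := isIrrCharacter_comp_mulEquiv θ.2 (Subgroup.subgroupOfEquivOfLe hZK)
    have h2 : (θ : Z → ℂ) ∘ (Subgroup.subgroupOfEquivOfLe hZK) = θK := by
      funext n
      rfl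
    rw [h2] at h1
    exact h1
  have hθKinv : ∀ (g : K) (n : ZK), θK (MulAut.conjNormal g n) = θK n := by
    intro g n
    have h1 := hθinv (g : H) ⟨((n : K) : H), n.2⟩
    show (θ : Z → ℂ) ⟨(((MulAut.conjNormal g n : ZK) : K) : H), _⟩ =
      (θ : Z → ℂ) ⟨((n : K) : H), n.2⟩
    rw [← h1]
    congr 1
  obtain ⟨η, hη, hηres⟩ := exists_irr_extension_of_cyclic ZK hcycK hθK hθKinv
  have hηcf : IsClassFunction K η :=
    Cfsg.Agent.Lib.Helper78.IsCharacter.isClassFunction
      (Cfsg.Agent.Lib.Helper78.IsIrrCharacter.isCharacter hη)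
  have hηN : IsIrrCharacter ZK (fun n : ZK => η n) := by
    have : (fun n : ZK => η n) = θK := funext hηres
    rw [this]
    exact hθK
  -- orthogonality on `Z` for `ξ ≠ χ`
  have horthZ : ∀ ξ : IrrCharacter H, ξ ≠ χ →
      classInner (fun n : ZK => (ξ : H → ℂ) ((n : K) : H)) (fun n : ZK => η n) = 0 := by
    intro ξ hne
    have h1 : ∑ h : H, (ξ : H → ℂ) h * conj ((χ : H → ℂ) h) = 0 := by
      have h2 := Cfsg.Agent.Lib.Helper78.classInner_irr_ne ξ.2 χ.2 (fun h => hne (Subtype.ext h))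
      unfold classInner at h2
      rcases mul_eq_zero.1 h2 with h | h
      · exact absurd h (inv_ne_zero hHne)
      · exact h
    rw [sum_eq_sum_subgroup_of_vanish Z (fun h => (ξ : H → ℂ) h * conj ((χ : H → ℂ) h))
      (fun t ht => by rw [hvan t ht]; simp)] at h1
    have h2 : ∀ z : Z, (ξ : H → ℂ) z * conj ((χ : H → ℂ) z) =
        (e : ℂ) * ((ξ : H → ℂ) z * conj ((θ : Z → ℂ) z)) := by
      intro z
      rw [hres z, map_mul, Complex.conj_natCast]
      ring
    rw [Finset.sum_congr rfl (fun z _ => h2 z), ← Finset.mul_sum] at h1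
    have h3 : ∑ z : Z, (ξ : H → ℂ) z * conj ((θ : Z → ℂ) z) = 0 :=
      (mul_eq_zero.1 h1).resolve_left he0
    unfold classInner
    have h4 : ∑ n : ZK, (ξ : H → ℂ) ((n : K) : H) * conj (η n) =
        ∑ z : Z, (ξ : H → ℂ) z * conj ((θ : Z → ℂ) z) := by
      apply Fintype.sum_equiv (Subgroup.subgroupOfEquivOfLe hZK).toEquiv
      intro n
      rw [hηres n]
      rfl
    rw [h4, h3, mul_zero]
  -- the key vanishing
  have hkey : ∀ y : K, (((y : K) : H) : H ⧸ Z) = (x : H ⧸ Z) → η y = 0 := by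
    intro y hy
    have hyZ : ((y : K) : H) ∉ Z := by
      intro hh
      apply hxZ
      rw [← QuotientGroup.eq_one_iff, ← hy, QuotientGroup.eq_one_iff]
      exact hh
    have hB : ∀ ξ : IrrCharacter H,
        ∑ n : ZK, (ξ : H → ℂ) (((n : K) * y : K) : H) * conj (η ((n : K) * y)) = 0 := by
      intro ξ
      by_cases hξ : ξ = χ
      · apply Finset.sum_eq_zero
        intro n _
        have h1 : (((n : K) * y : K) : H) ∉ Z := by
          intro hh
          apply hyZ
          have h2 : ((y : K) : H) = (((n : K) : H))⁻¹ * ((((n : K) * y : K)) : H) := by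
            simp
          rw [h2]
          exact Z.mul_mem (Z.inv_mem n.2) hh
        rw [hξ, hvan _ h1, zero_mul]
      · exact coset_sum_eq_zero_of_classInner_res_eq_zero ZK η hη hηN
          (fun k : K => (ξ : H → ℂ) (k : H))
          (isCharacter_comp (Cfsg.Agent.Lib.Helper78.IsIrrCharacter.isCharacter ξ.2) K.subtype)
          (horthZ ξ hξ) y
    have hA : ∑ ξ : IrrCharacter H, conj ((ξ : H → ℂ) (y : H)) *
        ∑ n : ZK, (ξ : H → ℂ) (((n : K) * y : K) : H) * conj (η ((n : K) * y)) = 0 := by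
      apply Finset.sum_eq_zero
      intro ξ _
      rw [hB ξ, mul_zero]
    rw [Finset.sum_congr rfl (fun ξ _ => Finset.mul_sum _ _ _), Finset.sum_comm] at hA
    have hinner : ∀ n : ZK, ∑ ξ : IrrCharacter H, conj ((ξ : H → ℂ) (y : H)) *
        ((ξ : H → ℂ) (((n : K) * y : K) : H) * conj (η ((n : K) * y))) =
        conj (η y) * (Nat.card (Subgroup.centralizer ({((y : K) : H)} : Set H)) : ℂ) *
          (if IsConj ((y : K) : H) ((((n : K) * y : K)) : H) then (1 : ℂ) else 0) := by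
      intro n
      have h1 := Cfsg.Agent.Lib.Helper78.sum_irr_mul_conj_eq ((((n : K) * y : K)) : H)
        ((y : K) : H)
      have h2 : ∑ ξ : IrrCharacter H, conj ((ξ : H → ℂ) (y : H)) *
          ((ξ : H → ℂ) (((n : K) * y : K) : H) * conj (η ((n : K) * y))) =
          conj (η ((n : K) * y)) * ∑ ξ : IrrCharacter H,
            (ξ : H → ℂ) (((n : K) * y : K) : H) * conj ((ξ : H → ℂ) (y : H)) := by
        rw [Finset.mul_sum]
        apply Finset.sum_congr rfl
        intro ξ _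
        ring
      rw [h2, h1]
      unfold Cfsg.Agent.Lib.Helper78.classIndicator
      by_cases hc : IsConj ((y : K) : H) ((((n : K) * y : K)) : H)
      · rw [if_pos hc]
        obtain ⟨c, hc'⟩ := isConj_iff.1 hc
        have hcK : c ∈ K := by
          rw [hmemK]
          apply hself (y : H) hy c
          rw [hc']
          have : ((((n : K) * y : K)) : H) * ((y : K) : H)⁻¹ = ((n : K) : H) := by simp
          rw [this]
          exact n.2
        have h3 : (n : K) * y = (⟨c, hcK⟩ : K) * y * (⟨c, hcK⟩ : K)⁻¹ := by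
          apply Subtype.ext
          rw [← hc']
          rfl
        rw [h3, hηcf y ⟨c, hcK⟩]
        ring
      · rw [if_neg hc]
        ring
    rw [Finset.sum_congr rfl (fun n _ => hinner n), ← Finset.mul_sum, Finset.sum_boole] at hA
    have hcnt : ((Finset.univ.filter (fun n : ZK =>
        IsConj ((y : K) : H) ((((n : K) * y : K)) : H))).card : ℂ) ≠ 0 := by
      have : (Finset.univ.filter (fun n : ZK =>
          IsConj ((y : K) : H) ((((n : K) * y : K)) : H))).card ≠ 0 := by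
        apply Finset.card_ne_zero.2
        refine ⟨1, ?_⟩
        rw [Finset.mem_filter]
        refine ⟨Finset.mem_univ _, ?_⟩
        have : ((((1 : ZK) : K) * y : K) : H) = ((y : K) : H) := by simp
        rw [this]
      exact_mod_cast this
    have hcent' : (Nat.card (Subgroup.centralizer ({((y : K) : H)} : Set H)) : ℂ) ≠ 0 := by
      have : 0 < Nat.card (Subgroup.centralizer ({((y : K) : H)} : Set H)) := Nat.card_pos
      exact_mod_cast this.ne'
    have h5 : conj (η y) = 0 := by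
      rcases mul_eq_zero.1 hA with h | h
      · rcases mul_eq_zero.1 h with h' | h'
        · exact h'
        · exact absurd h' hcent'
      · exact absurd h hcnt
    have := congrArg conj h5
    simpa using this
  -- the contradiction
  have h868 := (Cfsg.Agent.S0868.result ZK η hη hηN η hη _ rfl).2.2 rfl
  have h1 := congrFun h868 (⟨x, hxK⟩ : K)
  beta_reduce at h1
  have h2 : ∑ n : ZK, η ((n : K) * (⟨x, hxK⟩ : K)) * conj (η ((n : K) * (⟨x, hxK⟩ : K))) = 0 := by
    apply Finset.sum_eq_zero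
    intro n _
    have h3 : η ((n : K) * (⟨x, hxK⟩ : K)) = 0 := by
      apply hkey
      have h4 : ((((n : K) * (⟨x, hxK⟩ : K) : K)) : H) = ((n : K) : H) * x := rfl
      have h5 : ((((n : K) : H)) : H ⧸ Z) = 1 := (QuotientGroup.eq_one_iff _).2 n.2
      rw [h4, QuotientGroup.mk_mul, h5, one_mul]
    rw [h3, zero_mul]
  rw [h2, mul_zero] at h1
  exact zero_ne_one h1

end Cfsg.Agent.Lib.Helper81
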