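import Mathlib
import Cfsg.Prelude.Def_Characters
import Cfsg.Agent.Lib.Helper80.Gallagher
import Cfsg.Agent.Lib.Helper80.PResidualExt
import Cfsg.Agent.Lib.Helper81.IrrTransport

/-!
# Gallagher's theorem along a surjective homomorphism (helper81)

`π : G →* B` surjective with kernel `N`, `χ ∈ Irr(G)` with `χ_N` irreducible.  Then
`β ↦ (β ∘ π) χ` is a bijection from `Irr(B)` onto the irreducible characters of `G` over `χ_N`.
-/

set_option autoImplicit false
set_option linter.unusedSectionVars false

namespace Cfsg.Agent.Lib.Helper81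

open Cfsg
open scoped ComplexConjugate

universe u w

section GallagherHom

variable {G : Type u} [Group G] [Fintype G] {B : Type w} [Group B] (π : G →* B)
  (hπ : Function.Surjective π) (N : Subgroup G) [hN : N.Normal] [Fintype N] (hker : π.ker = N)

/-- an irreducible character of `B` as a character of `G ⧸ ker π` -/
noncomputable def pullIrr (β : IrrCharacter B) : IrrCharacter (G ⧸ π.ker) :=
  irrTransport (QuotientGroup.quotientKerEquivOfSurjective π hπ).symm β

theorem infl_pullIrr (β : IrrCharacter B) (g : G) :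
    Cfsg.Agent.Lib.Helper80.infl π.ker (pullIrr π hπ β) g = (β : B → ℂ) (π g) := by
  show ((Cfsg.Agent.Lib.Helper77.inflate π.ker (pullIrr π hπ β) : IrrCharacter G) : G → ℂ) g = _
  rw [Cfsg.Agent.Lib.Helper77.inflate_apply]
  rfl

theorem pullIrr_injective : Function.Injective (pullIrr π hπ) := by
  intro β β' h
  have := congrArg (irrTransport (QuotientGroup.quotientKerEquivOfSurjective π hπ)) h
  unfold pullIrr at this
  rwa [irrTransport_irrTransport_symm, irrTransport_irrTransport_symm] at this

theorem pullIrr_surjective : Function.Surjective (pullIrr π hπ) := by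
  intro γ
  refine ⟨irrTransport (QuotientGroup.quotientKerEquivOfSurjective π hπ) γ, ?_⟩
  unfold pullIrr
  exact irrTransport_symm_irrTransport _ γ

variable {χ : G → ℂ} (hχ : IsIrrCharacter G χ) (hχN : IsIrrCharacter N (fun n : N => χ n))

open Classical in
include hπ hker hχ hχN in
theorem hom_gallagher_inner (β β' : IrrCharacter B) :
    classInner (fun g => (β : B → ℂ) (π g) * χ g) (fun g => (β' : B → ℂ) (π g) * χ g) =
      if β = β' then 1 else 0 := by
  classical
  subst hker
  have h1 := Cfsg.Agent.Lib.Helper80.gallagher_inner π.ker hχ hχN (pullIrr π hπ β)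
    (pullIrr π hπ β')
  have e1 : (Cfsg.Agent.Lib.Helper80.infl π.ker (pullIrr π hπ β) * χ) =
      fun g => (β : B → ℂ) (π g) * χ g := by
    funext g
    rw [Pi.mul_apply, infl_pullIrr]
  have e2 : (Cfsg.Agent.Lib.Helper80.infl π.ker (pullIrr π hπ β') * χ) =
      fun g => (β' : B → ℂ) (π g) * χ g := by
    funext g
    rw [Pi.mul_apply, infl_pullIrr]
  rw [e1, e2] at h1
  rw [h1]
  by_cases h : β = β'
  · rw [if_pos h, if_pos (by rw [h])]
  · rw [if_neg h, if_neg (fun h' => h (pullIrr_injective π hπ h'))]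

include hπ hker hχ hχN in
theorem hom_gallagher_irr (β : IrrCharacter B) :
    IsIrrCharacter G (fun g => (β : B → ℂ) (π g) * χ g) := by
  subst hker
  have h1 := Cfsg.Agent.Lib.Helper80.gallagher_irr π.ker hχ hχN (pullIrr π hπ β)
  have e1 : (Cfsg.Agent.Lib.Helper80.infl π.ker (pullIrr π hπ β) * χ) =
      fun g => (β : B → ℂ) (π g) * χ g := by
    funext g
    rw [Pi.mul_apply, infl_pullIrr]
  rwa [e1] at h1

include hπ hker hχ hχN in
theorem hom_gallagher_injective (β β' : IrrCharacter B)
    (h : (fun g => (β : B → ℂ) (π g) * χ g) = fun g => (β' : B → ℂ) (π g) * χ g) : β = β' := by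
  classical
  by_contra hne
  have h1 := hom_gallagher_inner π hπ N hker hχ hχN β β'
  rw [if_neg hne, h, hom_gallagher_inner π hπ N hker hχ hχN, if_pos rfl] at h1
  exact one_ne_zero h1

include hπ hker hχ hχN in
theorem hom_gallagher_exists {ψ : G → ℂ} (hψ : IsIrrCharacter G ψ)
    (hover : classInner (fun n : N => ψ n) (fun n : N => χ n) ≠ 0) :
    ∃ β : IrrCharacter B, ψ = fun g => (β : B → ℂ) (π g) * χ g := by
  subst hker
  obtain ⟨β', hβ'⟩ := Cfsg.Agent.Lib.Helper80.gallagher_exists π.ker hχ hχN hψ hover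
  obtain ⟨β, rfl⟩ := pullIrr_surjective π hπ β'
  refine ⟨β, ?_⟩
  rw [hβ']
  funext g
  rw [Pi.mul_apply, infl_pullIrr]

include hπ hker hχ hχN in
/-- the multiplicities of `(Φ ∘ π) χ` for a character `Φ` of `B` -/
theorem hom_gallagher_char_inner [Fintype B] {Φ : B → ℂ} (hΦ : IsCharacter B Φ)
    (β : IrrCharacter B) :
    classInner (fun g => Φ (π g) * χ g) (fun g => (β : B → ℂ) (π g) * χ g) =
      classInner Φ (β : B → ℂ) := by
  classical
  have h1 : (fun g => Φ (π g) * χ g) =
      ∑ γ : IrrCharacter B, classInner Φ (γ : B → ℂ) • (fun g => (γ : B → ℂ) (π g) * χ g) := by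
    funext g
    have h2 := congrFun (Cfsg.Agent.Lib.Helper78.IsCharacter.eq_sum_irr hΦ) (π g)
    rw [Finset.sum_apply] at h2 ⊢
    conv_lhs => rw [h2]
    rw [Finset.sum_mul]
    apply Finset.sum_congr rfl
    intro γ _
    simp only [Pi.smul_apply, smul_eq_mul]
    ring
  rw [h1, Cfsg.Agent.Lib.Helper78.classInner_sum_left]
  simp only [Cfsg.Agent.Lib.Helper78.classInner_smul_left]
  rw [Finset.sum_eq_single β]
  · rw [hom_gallagher_inner π hπ N hker hχ hχN, if_pos rfl, mul_one]
  · intro γ _ hne
    rw [hom_gallagher_inner π hπ N hker hχ hχN, if_neg hne, mul_zero]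
  · intro h; exact absurd (Finset.mem_univ β) h

end GallagherHom

end Cfsg.Agent.Lib.Helper81
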