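import Mathlib
import Cfsg.Prelude.Def_Characters
import Cfsg.Agent.Lib.Helper77.CenterIrr
import Cfsg.Agent.Lib.Helper78.CharMore
import Cfsg.Agent.Lib.Helper81.IrrTwist

/-!
# Characters of `A × B` with `B` abelian (helper81)

* `exists_central_decomp`: for a character `Θ` of `A × B` with `B` abelian and `β ∈ Irr(A)`, the
  function `x ↦ [Θ(·, x), β]` on `B` is an `ℕ`-combination of multiplicative maps `B →* ℂ`.
-/

set_option autoImplicit false

namespace Cfsg.Agent.Lib.Helper81

open Cfsg
open scoped commutatorElement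

variable {A B : Type*} [Group A] [Group B]

theorem inr_mem_irrCenter (hB : ∀ x y : B, x * y = y * x) (η : IrrCharacter (A × B)) (x : B) :
    ((1 : A), x) ∈ Cfsg.Agent.Lib.Helper77.irrCenter η := by
  rw [Cfsg.Agent.Lib.Helper77.mem_irrCenter_iff_commutator]
  rintro ⟨a, b⟩
  have : ⁅((1 : A), x), (a, b)⁆ = 1 := by
    rw [commutatorElement_def]
    ext
    · simp
    · simp only [Prod.snd_mul, Prod.snd_inv, Prod.snd_one]
      rw [hB x b]
      group
  rw [this]
  exact Subgroup.one_mem _

/-- The central character of `η ∈ Irr(A × B)` on the abelian factor `B`. -/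
noncomputable def prodCentralHom (hB : ∀ x y : B, x * y = y * x) (η : IrrCharacter (A × B)) :
    B →* ℂ :=
  (Cfsg.Agent.Lib.Helper77.irrCenterScalar η).comp
    ((MonoidHom.inr A B).codRestrict (Cfsg.Agent.Lib.Helper77.irrCenter η)
      (fun x => inr_mem_irrCenter hB η x))

theorem irr_prod_apply (hB : ∀ x y : B, x * y = y * x) (η : IrrCharacter (A × B)) (a : A)
    (x : B) : (η : A × B → ℂ) (a, x) = prodCentralHom hB η x * (η : A × B → ℂ) (a, 1) := by
  have h := Cfsg.Agent.Lib.Helper77.irr_center_mul η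
    ⟨((1 : A), x), inr_mem_irrCenter hB η x⟩ (a, 1)
  simp only [Prod.mk_mul_mk, one_mul, mul_one] at h
  rw [h]
  rfl

variable [Fintype A] [Finite B]

theorem exists_central_decomp (hB : ∀ x y : B, x * y = y * x) (Θ : A × B → ℂ)
    (hΘ : IsCharacter (A × B) Θ) (β : IrrCharacter A) :
    ∃ (n : IrrCharacter (A × B) → ℕ) (lam : IrrCharacter (A × B) → B →* ℂ),
      ∀ x : B, classInner (fun a : A => Θ (a, x)) (β : A → ℂ) =
        ∑ η : IrrCharacter (A × B), (n η : ℂ) * lam η x := by
  classical
  have : Fintype B := Fintype.ofFinite B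
  obtain ⟨m, hm⟩ := (Cfsg.Agent.Lib.Helper78.isCharacter_iff_exists_nat_combination Θ).1 hΘ
  have hk : ∀ η : IrrCharacter (A × B), ∃ k : ℕ,
      classInner (fun a : A => (η : A × B → ℂ) (a, 1)) (β : A → ℂ) = k := by
    intro η
    have hc : IsCharacter A ((η : A × B → ℂ) ∘ (MonoidHom.inl A B)) :=
      isCharacter_comp (Cfsg.Agent.Lib.Helper78.IsIrrCharacter.isCharacter η.2) (MonoidHom.inl A B)
    exact Cfsg.Agent.Lib.Helper78.IsCharacter.exists_nat_classInner hc β
  choose k hk using hk
  refine ⟨fun η => m η * k η, fun η => prodCentralHom hB η, ?_⟩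
  intro x
  have h1 : (fun a : A => Θ (a, x)) = ∑ η : IrrCharacter (A × B),
      ((m η : ℂ) * prodCentralHom hB η x) • (fun a : A => (η : A × B → ℂ) (a, 1)) := by
    funext a
    rw [hm]
    simp only [Finset.sum_apply, Pi.smul_apply, smul_eq_mul]
    apply Finset.sum_congr rfl
    intro η _
    rw [irr_prod_apply hB η a x]
    ring
  rw [h1, Cfsg.Agent.Lib.Helper78.classInner_sum_left]
  apply Finset.sum_congr rfl
  intro η _
  rw [Cfsg.Agent.Lib.Helper78.classInner_smul_left, hk η]
  push_cast
  ring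

end Cfsg.Agent.Lib.Helper81
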