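import Mathlib
import Cfsg.Prelude.Def_Characters
import Cfsg.Prelude.Def_CharExt
import Cfsg.Agent.S0868
import Cfsg.Agent.Lib.Helper78.CharMore
import Cfsg.Agent.Lib.Helper81.CosetTransfer
import Cfsg.Agent.Lib.Helper81.CanonicalRational
import Cfsg.Agent.Lib.Helper81.ProdDecomp
import Cfsg.Agent.Lib.Helper81.CycloRational

/-!
# The cyclic case of the Glauberman correspondence: values on a generating coset (helper81)

Setting: `G ⊴ Γ`, `s ∈ Γ` of order coprime to `|G|` with `|Γ : G| = o(s)`, `C = C_G(s)`.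

* `sum_coset_norm`: `∑_{c ∈ C} |χh (c s)|² = |C|` when `χh ∈ Irr(Γ)` restricts irreducibly to `G`.
* `sum_coset_orth`: `∑_{c ∈ C} χh (c s) conj (χh' (c s)) = 0` for distinct irreducible restrictions.
* `coset_pow_eq`: `χh (c s^j) = χh (c s)` for the canonical extension, `j` coprime to `o(s)`.
* `exists_irr_sign`: `χh (c s) = ε β(c)` for some `β ∈ Irr(C)`, `ε = ±1`.
-/

set_option autoImplicit false

namespace Cfsg.Agent.Lib.Helper81

open Cfsg
open scoped ComplexConjugate

variable {Γ : Type*} [Group Γ] [Fintype Γ] (G : Subgroup Γ) [hG : G.Normal] [Fintype G] (s : Γ)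
  (C : Subgroup Γ) [Fintype C]

include hG in
theorem sum_coset_norm (hcop : (Nat.card G).Coprime (orderOf s)) (hCG : C ≤ G)
    (hCs : ∀ c ∈ C, c * s = s * c) (hCmax : ∀ g ∈ G, g * s = s * g → g ∈ C)
    (χh : Γ → ℂ) (hχh : IsIrrCharacter Γ χh) (hres : IsIrrCharacter G (fun g : G => χh g)) :
    ∑ c : C, χh ((c : Γ) * s) * conj (χh ((c : Γ) * s)) = Nat.card C := by
  have h868 := (Cfsg.Agent.S0868.result G χh hχh hres χh hχh _ rfl).2.2 rfl
  have h1 := congrFun h868 s
  beta_reduce at h1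
  have hGne : (Nat.card G : ℂ) ≠ 0 := by
    have : 0 < Nat.card G := Nat.card_pos
    exact_mod_cast this.ne'
  have hCne : (Nat.card C : ℂ) ≠ 0 := by
    have : 0 < Nat.card C := Nat.card_pos
    exact_mod_cast this.ne'
  have h2 : ∑ n : G, χh ((n : Γ) * s) * conj (χh ((n : Γ) * s)) = Nat.card G := by
    field_simp at h1
    exact h1
  have hcf : IsClassFunction Γ χh := Cfsg.Agent.Lib.Helper78.IsCharacter.isClassFunction
    (Cfsg.Agent.Lib.Helper78.IsIrrCharacter.isCharacter hχh)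
  have hF : IsClassFunction Γ (fun x => χh x * conj (χh x)) := by
    intro g h
    simp only
    rw [hcf g h]
  have h3 := card_mul_sum_coset_eq G s hcop C hCG hCs hCmax _ hF
  beta_reduce at h3
  rw [h2] at h3
  have h4 : (Nat.card G : ℂ) * (Nat.card C : ℂ) =
      (Nat.card G : ℂ) * ∑ c : C, χh ((c : Γ) * s) * conj (χh ((c : Γ) * s)) := by
    rw [← h3]; ring
  exact (mul_left_cancel₀ hGne h4).symm

include hG in
theorem sum_coset_orth (hcop : (Nat.card G).Coprime (orderOf s)) (hCG : C ≤ G)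
    (hCs : ∀ c ∈ C, c * s = s * c) (hCmax : ∀ g ∈ G, g * s = s * g → g ∈ C)
    (χh χh' : Γ → ℂ) (hχh : IsIrrCharacter Γ χh) (hχh' : IsIrrCharacter Γ χh')
    (hres : IsIrrCharacter G (fun g : G => χh g)) (hres' : IsIrrCharacter G (fun g : G => χh' g))
    (hne : (fun g : G => χh g) ≠ (fun g : G => χh' g)) :
    ∑ c : C, χh ((c : Γ) * s) * conj (χh' ((c : Γ) * s)) = 0 := by
  have h0 : classInner (fun g : G => χh g) (fun g : G => χh' g) = 0 :=
    Cfsg.Agent.Lib.Helper78.classInner_irr_ne hres hres' hne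
  have h868 := (Cfsg.Agent.S0868.result G χh' hχh' hres' χh hχh _ rfl).2.1 h0
  have h1 := congrFun h868 s
  simp only [Pi.zero_apply] at h1
  have hGne : (Nat.card G : ℂ) ≠ 0 := by
    have : 0 < Nat.card G := Nat.card_pos
    exact_mod_cast this.ne'
  have h2 : ∑ n : G, χh ((n : Γ) * s) * conj (χh' ((n : Γ) * s)) = 0 := by
    rcases mul_eq_zero.1 h1 with h | h
    · exact absurd (inv_eq_zero.1 h) hGne
    · exact h
  have hcf : IsClassFunction Γ χh := Cfsg.Agent.Lib.Helper78.IsCharacter.isClassFunction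
    (Cfsg.Agent.Lib.Helper78.IsIrrCharacter.isCharacter hχh)
  have hcf' : IsClassFunction Γ χh' := Cfsg.Agent.Lib.Helper78.IsCharacter.isClassFunction
    (Cfsg.Agent.Lib.Helper78.IsIrrCharacter.isCharacter hχh')
  have hF : IsClassFunction Γ (fun x => χh x * conj (χh' x)) := by
    intro g h
    simp only
    rw [hcf g h, hcf' g h]
  have h3 := card_mul_sum_coset_eq G s hcop C hCG hCs hCmax _ hF
  beta_reduce at h3
  rw [h2, mul_zero] at h3
  rcases mul_eq_zero.1 h3.symm with h | h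
  · exact absurd h hGne
  · exact h

omit [Fintype Γ] [Fintype C] in
theorem isClassFunction_coset (hCs : ∀ c ∈ C, c * s = s * c) (χh : Γ → ℂ)
    (hcf : IsClassFunction Γ χh) : IsClassFunction C (fun c : C => χh ((c : Γ) * s)) := by
  intro c h
  simp only [Subgroup.coe_mul, Subgroup.coe_inv]
  have hcomm : (h : Γ)⁻¹ * s = s * (h : Γ)⁻¹ := by
    have := hCs h h.2
    calc (h : Γ)⁻¹ * s = (h : Γ)⁻¹ * (s * h) * (h : Γ)⁻¹ := by group
      _ = (h : Γ)⁻¹ * (h * s) * (h : Γ)⁻¹ := by rw [this]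
      _ = s * (h : Γ)⁻¹ := by group
  have : (h : Γ) * c * (h : Γ)⁻¹ * s = (h : Γ) * ((c : Γ) * s) * (h : Γ)⁻¹ := by
    rw [mul_assoc ((h : Γ) * c), hcomm]
    group
  rw [this]
  exact hcf _ _

include hG in
omit [Fintype C] [Fintype G] in
theorem coset_pow_eq (hcop : (Nat.card G).Coprime (orderOf s)) (hidx : G.index = orderOf s)
    (hCG : C ≤ G) (hCs : ∀ c ∈ C, c * s = s * c)
    (χh : Γ → ℂ) (hχh : IsIrrCharacter Γ χh) (hres : IsIrrCharacter G (fun g : G => χh g))
    (hdet : Nat.Coprime (orderOf s) (Cfsg.detOrder χh)) (j : ℕ) (hj : j.Coprime (orderOf s))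
    (c : C) : χh ((c : Γ) * s ^ j) = χh ((c : Γ) * s) := by
  obtain ⟨m, hm1, hm2⟩ := Nat.chineseRemainder hcop 1 j
  have hmG : m.Coprime (Nat.card G) := by
    have := hm1.gcd_eq
    rw [Nat.Coprime, this]
    exact Nat.gcd_one_left _
  have hmo : m.Coprime (orderOf s) := by
    have := hm2.gcd_eq
    rw [Nat.Coprime, this]
    exact hj
  have hcard : Nat.card Γ = Nat.card G * orderOf s := by
    rw [← hidx, Subgroup.card_mul_index]
  have hmc : m.Coprime (Nat.card Γ) := by
    rw [hcard]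
    exact Nat.Coprime.mul_right hmG hmo
  have key := canonical_ext_pow_eq G χh hχh hres (by rw [hidx]; exact hcop)
    (by rw [hidx]; exact hdet) m hm1 hmc ((c : Γ) * s)
  rw [← key]
  congr 1
  have hcomm : Commute (c : Γ) s := hCs c c.2
  rw [hcomm.mul_pow]
  have h1 : (c : Γ) ^ m = (c : Γ) ^ 1 := by
    rw [pow_eq_pow_iff_modEq]
    exact hm1.of_dvd (Subgroup.orderOf_dvd_natCard G (hCG c.2))
  have h2 : s ^ m = s ^ j := by
    rw [pow_eq_pow_iff_modEq]
    exact hm2
  rw [h1, h2, pow_one]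

/-- The homomorphism `C × ⟨s⟩ → Γ`. -/
noncomputable def cosetProdHom (hCs : ∀ c ∈ C, c * s = s * c) :
    C × Subgroup.zpowers s →* Γ :=
  MonoidHom.noncommCoprod C.subtype (Subgroup.zpowers s).subtype (by
    intro c x
    obtain ⟨k, hk⟩ := Subgroup.mem_zpowers_iff.1 x.2
    show Commute (c : Γ) (x : Γ)
    rw [← hk]
    exact Commute.zpow_right (hCs c c.2) k)

omit [Fintype Γ] [Fintype C] in
theorem cosetProdHom_apply (hCs : ∀ c ∈ C, c * s = s * c) (c : C) (x : Subgroup.zpowers s) :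
    cosetProdHom s C hCs (c, x) = (c : Γ) * (x : Γ) := by
  unfold cosetProdHom
  rw [MonoidHom.noncommCoprod_apply]
  rfl

omit [Fintype G] in
/-- Decomposition of the multiplicities on the coset `C s^j`. -/
theorem coset_classInner_decomp (hCs : ∀ c ∈ C, c * s = s * c) (χh : Γ → ℂ)
    (hχh : IsCharacter Γ χh) (β : IrrCharacter C) :
    ∃ (n : IrrCharacter (C × Subgroup.zpowers s) → ℕ)
      (ζ : IrrCharacter (C × Subgroup.zpowers s) → ℂ),
      (∀ i, ζ i ^ orderOf s = 1) ∧ ∀ j : ℕ,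
        classInner (fun c : C => χh ((c : Γ) * s ^ j)) (β : C → ℂ) =
          ∑ i, (n i : ℂ) * ζ i ^ j := by
  have hB : ∀ x y : Subgroup.zpowers s, x * y = y * x := by
    intro x y
    obtain ⟨k, hk⟩ := Subgroup.mem_zpowers_iff.1 x.2
    obtain ⟨l, hl⟩ := Subgroup.mem_zpowers_iff.1 y.2
    apply Subtype.ext
    rw [Subgroup.coe_mul, Subgroup.coe_mul, ← hk, ← hl, ← zpow_add, ← zpow_add, add_comm]
  have hΘ : IsCharacter (C × Subgroup.zpowers s) (χh ∘ cosetProdHom s C hCs) :=
    isCharacter_comp hχh _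
  obtain ⟨n, lam, hdec⟩ := exists_central_decomp hB _ hΘ β
  let s0 : Subgroup.zpowers s := ⟨s, Subgroup.mem_zpowers s⟩
  refine ⟨n, fun i => lam i s0, ?_, ?_⟩
  · intro i
    rw [← map_pow]
    have : s0 ^ orderOf s = 1 := by
      apply Subtype.ext
      simp [s0, pow_orderOf_eq_one]
    rw [this, map_one]
  · intro j
    have := hdec (s0 ^ j)
    simp only [Function.comp_apply, cosetProdHom_apply, map_pow] at this
    exact this

include hG in
omit [Fintype G] in
/-- The multiplicities on the generating coset are integers; if nonzero, the character of `C`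
is a constituent of the restriction. -/
theorem exists_int_classInner_coset (hcop : (Nat.card G).Coprime (orderOf s))
    (hidx : G.index = orderOf s) (hCG : C ≤ G) (hCs : ∀ c ∈ C, c * s = s * c)
    (χh : Γ → ℂ) (hχh : IsIrrCharacter Γ χh) (hres : IsIrrCharacter G (fun g : G => χh g))
    (hdet : Nat.Coprime (orderOf s) (Cfsg.detOrder χh)) (β : IrrCharacter C) :
    ∃ z : ℤ, classInner (fun c : C => χh ((c : Γ) * s)) (β : C → ℂ) = z ∧
      (z ≠ 0 → classInner (fun c : C => χh (c : Γ)) (β : C → ℂ) ≠ 0) := by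
  have hchar : IsCharacter Γ χh := Cfsg.Agent.Lib.Helper78.IsIrrCharacter.isCharacter hχh
  obtain ⟨n, ζ, hζ, hdec⟩ := coset_classInner_decomp s C hCs χh hchar β
  have hinv : ∀ j : ℕ, j.Coprime (orderOf s) →
      ∑ i, ((n i : ℤ) : ℂ) * ζ i ^ j = ∑ i, ((n i : ℤ) : ℂ) * ζ i := by
    intro j hj
    have h1 := hdec j
    have h2 := hdec 1
    simp only [pow_one] at h2
    have h3 : (fun c : C => χh ((c : Γ) * s ^ j)) = (fun c : C => χh ((c : Γ) * s)) := by
      funext c
      exact coset_pow_eq G s C hcop hidx hCG hCs χh hχh hres hdet j hj c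
    rw [h3] at h1
    push_cast
    rw [← h1, ← h2]
  obtain ⟨z, hz⟩ := exists_int_of_sum_pow_invariant (orderOf s) (orderOf_pos s)
    (fun i => (n i : ℤ)) ζ hζ hinv
  refine ⟨z, ?_, ?_⟩
  · have h2 := hdec 1
    simp only [pow_one] at h2
    rw [h2, ← hz]
    push_cast
    rfl
  · intro hz0
    have h0 := hdec 0
    simp only [pow_zero, mul_one] at h0
    rw [h0]
    intro hsum
    have hsum' : ∑ i, n i = 0 := by exact_mod_cast hsum
    have hall : ∀ i, n i = 0 := by
      intro i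
      exact (Finset.sum_eq_zero_iff.1 hsum') i (Finset.mem_univ i)
    apply hz0
    have : (z : ℂ) = 0 := by
      rw [← hz]
      apply Finset.sum_eq_zero
      intro i _
      rw [hall i]
      simp
    exact_mod_cast this

end Cfsg.Agent.Lib.Helper81
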