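import Mathlib
import Cfsg.Agent.Lib.Helper81.GlaubermanCyclic

/-!
# The cyclic case of the Glauberman correspondence: existence and injectivity (helper81)

Setting: `G ⊴ Γ`, `s ∈ Γ` of order coprime to `|G|` with `|Γ : G| = o(s)`, `C = C_G(s)`.

* `exists_irr_sign`: for the canonical extension `χh`, `χh (c s) = ε β(c)` for some `β ∈ Irr(C)`,
  `ε = ±1`, and `β` is a constituent of `χh|_C`.
* `res_eq_of_same_image`: injectivity of `χ ↦ β`.
-/

set_option autoImplicit false

namespace Cfsg.Agent.Lib.Helper81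

open Cfsg
open scoped ComplexConjugate

variable {Γ : Type*} [Group Γ] [Fintype Γ] (G : Subgroup Γ) [hG : G.Normal] [Fintype G] (s : Γ)
  (C : Subgroup Γ) [Fintype C]

include hG in
theorem exists_irr_sign (hcop : (Nat.card G).Coprime (orderOf s))
    (hidx : G.index = orderOf s) (hCG : C ≤ G) (hCs : ∀ c ∈ C, c * s = s * c)
    (hCmax : ∀ g ∈ G, g * s = s * g → g ∈ C)
    (χh : Γ → ℂ) (hχh : IsIrrCharacter Γ χh) (hres : IsIrrCharacter G (fun g : G => χh g))
    (hdet : Nat.Coprime (orderOf s) (Cfsg.detOrder χh)) :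
    ∃ (β : IrrCharacter C) (ε : ℤ), (ε = 1 ∨ ε = -1) ∧
      (∀ c : C, χh ((c : Γ) * s) = (ε : ℂ) * (β : C → ℂ) c) ∧
      classInner (fun c : C => χh (c : Γ)) (β : C → ℂ) ≠ 0 := by
  classical
  have hchar : IsCharacter Γ χh := Cfsg.Agent.Lib.Helper78.IsIrrCharacter.isCharacter hχh
  have hcf : IsClassFunction Γ χh := Cfsg.Agent.Lib.Helper78.IsCharacter.isClassFunction hchar
  have hf : IsClassFunction C (fun c : C => χh ((c : Γ) * s)) :=
    isClassFunction_coset s C hCs χh hcf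
  have hex := fun β : IrrCharacter C =>
    exists_int_classInner_coset G s C hcop hidx hCG hCs χh hχh hres hdet β
  choose z hz hz' using hex
  have hCne : (Nat.card C : ℂ) ≠ 0 := by
    have : 0 < Nat.card C := Nat.card_pos
    exact_mod_cast this.ne'
  -- Parseval
  have hpar := Cfsg.Agent.Lib.Helper78.classInner_eq_sum_mul_conj
    (fun c : C => χh ((c : Γ) * s)) hf
  have hnorm : classInner (fun c : C => χh ((c : Γ) * s)) (fun c : C => χh ((c : Γ) * s)) = 1 := by
    unfold classInner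
    rw [sum_coset_norm G s C hcop hCG hCs hCmax χh hχh hres]
    exact inv_mul_cancel₀ hCne
  rw [hnorm] at hpar
  have hsumZ : ∑ β : IrrCharacter C, z β ^ 2 = 1 := by
    have : ((∑ β : IrrCharacter C, z β ^ 2 : ℤ) : ℂ) = 1 := by
      rw [hpar]
      push_cast
      apply Finset.sum_congr rfl
      intro β _
      rw [hz β, map_intCast]
      ring
    exact_mod_cast this
  -- pick the nonzero coefficient
  have hex0 : ∃ β₀, z β₀ ≠ 0 := by
    by_contra hcon
    push Not at hcon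
    have : ∑ β : IrrCharacter C, z β ^ 2 = 0 := by
      apply Finset.sum_eq_zero
      intro β _
      rw [hcon β]
      ring
    rw [this] at hsumZ
    exact zero_ne_one hsumZ
  obtain ⟨β₀, hβ₀⟩ := hex0
  have hsplit := Finset.add_sum_erase Finset.univ (fun β : IrrCharacter C => z β ^ 2)
    (Finset.mem_univ β₀)
  rw [hsumZ] at hsplit
  have hrest_nonneg : 0 ≤ ∑ β ∈ Finset.univ.erase β₀, z β ^ 2 :=
    Finset.sum_nonneg (fun β _ => sq_nonneg _)
  have hsq_pos : 1 ≤ z β₀ ^ 2 := by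
    have : 0 < z β₀ ^ 2 := by positivity
    omega
  have hsq : z β₀ ^ 2 = 1 := by
    omega
  have hrest : ∑ β ∈ Finset.univ.erase β₀, z β ^ 2 = 0 := by
    omega
  have hzero : ∀ β, β ≠ β₀ → z β = 0 := by
    intro β hβ
    have := (Finset.sum_eq_zero_iff_of_nonneg (fun β _ => sq_nonneg (z β))).1 hrest β
      (Finset.mem_erase.2 ⟨hβ, Finset.mem_univ _⟩)
    exact pow_eq_zero_iff (two_ne_zero) |>.1 this
  have hε : z β₀ = 1 ∨ z β₀ = -1 := by
    have h1 : (z β₀ - 1) * (z β₀ + 1) = 0 := by ring_nf; omega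
    rcases mul_eq_zero.1 h1 with h | h
    · left; omega
    · right; omega
  refine ⟨β₀, z β₀, hε, ?_, hz' β₀ hβ₀⟩
  intro c
  have hdecomp := Cfsg.Agent.Lib.Helper78.classFunction_eq_sum_irr hf
  have := congrFun hdecomp c
  simp only [Finset.sum_apply, Pi.smul_apply, smul_eq_mul] at this
  rw [this, Finset.sum_eq_single β₀]
  · rw [hz β₀]
  · intro β _ hβ
    rw [hz β, hzero β hβ]
    simp
  · intro h
    exact absurd (Finset.mem_univ _) h

include hG in
theorem res_eq_of_same_image (hcop : (Nat.card G).Coprime (orderOf s)) (hCG : C ≤ G)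
    (hCs : ∀ c ∈ C, c * s = s * c) (hCmax : ∀ g ∈ G, g * s = s * g → g ∈ C)
    (χh χh' : Γ → ℂ) (hχh : IsIrrCharacter Γ χh) (hχh' : IsIrrCharacter Γ χh')
    (hres : IsIrrCharacter G (fun g : G => χh g)) (hres' : IsIrrCharacter G (fun g : G => χh' g))
    (β : IrrCharacter C) (ε ε' : ℤ) (hε : ε = 1 ∨ ε = -1) (hε' : ε' = 1 ∨ ε' = -1)
    (h : ∀ c : C, χh ((c : Γ) * s) = (ε : ℂ) * (β : C → ℂ) c)
    (h' : ∀ c : C, χh' ((c : Γ) * s) = (ε' : ℂ) * (β : C → ℂ) c) :
    (fun g : G => χh g) = (fun g : G => χh' g) := by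
  by_contra hne
  have h0 := sum_coset_orth G s C hcop hCG hCs hCmax χh χh' hχh hχh' hres hres' hne
  have hCne : (Nat.card C : ℂ) ≠ 0 := by
    have : 0 < Nat.card C := Nat.card_pos
    exact_mod_cast this.ne'
  have hββ : ∑ c : C, (β : C → ℂ) c * conj ((β : C → ℂ) c) = Nat.card C := by
    have := Cfsg.Agent.Lib.Helper78.classInner_irr_self β.2
    unfold classInner at this
    field_simp at this
    exact this
  have h1 : ∑ c : C, χh ((c : Γ) * s) * conj (χh' ((c : Γ) * s)) =
      ((ε : ℂ) * (ε' : ℂ)) * ∑ c : C, (β : C → ℂ) c * conj ((β : C → ℂ) c) := by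
    rw [Finset.mul_sum]
    apply Finset.sum_congr rfl
    intro c _
    rw [h c, h' c, map_mul, map_intCast]
    ring
  rw [h1, hββ] at h0
  have hεne : (ε : ℂ) ≠ 0 := by
    rcases hε with rfl | rfl <;> norm_num
  have hεne' : (ε' : ℂ) ≠ 0 := by
    rcases hε' with rfl | rfl <;> norm_num
  exact mul_ne_zero (mul_ne_zero hεne hεne') hCne h0

end Cfsg.Agent.Lib.Helper81
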