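import Mathlib
import Cfsg.Agent.Lib.Helper81.GlaubermanCyclic2

/-!
# The cyclic case of the Glauberman correspondence: auxiliary lemmas (helper81)

* `irr_sign_unique`: `ε β = ε' β'` with `β, β' ∈ Irr(C)`, `ε, ε' = ±1` forces `β = β'`, `ε = ε'`.
* `exists_canonical_extension`: existence of the canonical extension (from S0867).
* `exists_pow_eq_of_zpowers_eq`: two generators of the same cyclic group are coprime powers of
  each other.
* `index_eq_card_of_sup_eq_top`: `|Γ : G| = |S|` for `Γ = G S` with coprime orders.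
-/

set_option autoImplicit false

namespace Cfsg.Agent.Lib.Helper81

open Cfsg
open scoped ComplexConjugate

theorem irr_sign_unique {C : Type*} [Group C] [Fintype C] (β β' : IrrCharacter C) (ε ε' : ℤ)
    (hε' : ε' = 1 ∨ ε' = -1)
    (h : ∀ c : C, (ε : ℂ) * (β : C → ℂ) c = (ε' : ℂ) * (β' : C → ℂ) c) : β = β' ∧ ε = ε' := by
  have hfun : (ε : ℂ) • (β : C → ℂ) = (ε' : ℂ) • (β' : C → ℂ) := by
    funext c
    exact h c
  have h1 := congrArg (fun f => classInner f (β' : C → ℂ)) hfun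
  simp only [Cfsg.Agent.Lib.Helper78.classInner_smul_left] at h1
  rw [Cfsg.Agent.Lib.Helper78.classInner_irr_self β'.2, mul_one] at h1
  have hε'ne : (ε' : ℂ) ≠ 0 := by
    rcases hε' with rfl | rfl <;> norm_num
  have hββ' : β = β' := by
    by_contra hne
    rw [Cfsg.Agent.Lib.Helper78.classInner_irr_ne β.2 β'.2 (fun h => hne (Subtype.ext h)),
      mul_zero] at h1
    exact hε'ne h1.symm
  refine ⟨hββ', ?_⟩
  subst hββ'
  rw [Cfsg.Agent.Lib.Helper78.classInner_irr_self β.2, mul_one] at h1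
  exact_mod_cast h1

/-- Existence of the canonical extension of an invariant irreducible character of a normal
subgroup of coprime index. -/
theorem exists_canonical_extension {Γ : Type*} [Group Γ] [Finite Γ] (N : Subgroup Γ)
    [hN : N.Normal] (hcop : (Nat.card N).Coprime N.index) (ϑ : N → ℂ) (hϑ : IsIrrCharacter N ϑ)
    (hinv : ∀ (g : Γ) (n : N), ϑ ⟨g * n * g⁻¹, hN.conj_mem (n : Γ) n.2 g⟩ = ϑ n) :
    ∃ χ : Γ → ℂ, IsIrrCharacter Γ χ ∧ (∀ n : N, χ n = ϑ n) ∧
      Nat.Coprime N.index (Cfsg.detOrder χ) := by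
  have hcharN : IsCharacter N ϑ := Cfsg.Agent.Lib.Helper78.IsIrrCharacter.isCharacter hϑ
  have hd : ϑ 1 = (charDegree ϑ : ℂ) := Cfsg.Agent.Lib.Helper80.char_one_eq_charDegree hcharN
  have hddvd : charDegree ϑ ∣ Nat.card N :=
    Cfsg.Agent.Lib.Helper79.irr_charDegree_dvd_card ⟨_, hϑ⟩
  have hodvd : Cfsg.detOrder ϑ ∣ Nat.card N := detOrder_dvd_card hcharN
  have hcop' : Nat.Coprime N.index (Cfsg.detOrder ϑ * charDegree ϑ) := by
    apply Nat.Coprime.mul_right
    · exact (Nat.Coprime.coprime_dvd_left hodvd hcop).symm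
    · exact (Nat.Coprime.coprime_dvd_left hddvd hcop).symm
  obtain ⟨χ0, ⟨h1, h2, h3⟩, -⟩ := Cfsg.Agent.S0867.result N ϑ hϑ hinv _ hd hcop'
  refine ⟨χ0, h1, h2, ?_⟩
  rw [h3]
  exact (Nat.Coprime.coprime_dvd_left hodvd hcop).symm

theorem exists_pow_eq_of_zpowers_eq {Γ : Type*} [Group Γ] [Finite Γ] (s s₀ : Γ)
    (h : Subgroup.zpowers s = Subgroup.zpowers s₀) :
    ∃ j : ℕ, j.Coprime (orderOf s₀) ∧ s = s₀ ^ j := by
  have hmem : s ∈ Subgroup.zpowers s₀ := h ▸ Subgroup.mem_zpowers s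
  obtain ⟨k, hk⟩ := Subgroup.mem_zpowers_iff.1 hmem
  have ho : 0 < orderOf s₀ := orderOf_pos s₀
  have hnn : 0 ≤ k % (orderOf s₀ : ℤ) := Int.emod_nonneg _ (by exact_mod_cast ho.ne')
  obtain ⟨j, hj⟩ := Int.eq_ofNat_of_zero_le hnn
  have hpow : s₀ ^ j = s := by
    rw [← hk, ← zpow_natCast, ← hj, zpow_mod_orderOf]
  refine ⟨j, ?_, hpow.symm⟩
  have hord : orderOf s = orderOf s₀ := by
    rw [← Nat.card_zpowers, ← Nat.card_zpowers, h]
  rw [← hpow, orderOf_pow] at hord
  have := (Nat.div_eq_self.1 hord).resolve_left ho.ne'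
  rw [Nat.Coprime, Nat.gcd_comm]
  exact this

theorem index_eq_card_of_sup_eq_top {Γ : Type*} [Group Γ] [Finite Γ] (G S : Subgroup Γ)
    [hG : G.Normal] (hcop : (Nat.card G).Coprime (Nat.card S)) (htop : G ⊔ S = ⊤) :
    G.index = Nat.card S := by
  have h1 : G.relIndex (S ⊔ G) = G.relIndex S := Subgroup.relIndex_sup_right S G
  rw [sup_comm, htop, Subgroup.relIndex_top_right] at h1
  rw [h1, ← Subgroup.inf_relIndex_right, (Subgroup.disjoint_of_coprime_natCard hcop).eq_bot,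
    Subgroup.relIndex_bot_left]

end Cfsg.Agent.Lib.Helper81
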