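import Mathlib
import Cfsg.Agent.Lib.Helper81.GlaubermanCyclic2

/-!
# Values of the canonical extension on arbitrary cosets `C x` (helper81)

Setting: `G ⊴ Γ` of index `n` coprime to `|G|`, `x ∈ Γ` with `o(x) ∣ n`, `C = C_G(x)`.

* `exists_irr_sign_of_int`: a class function of norm one with integer multiplicities is `± β`.
* `coset_pow_eq_gen`, `exists_int_classInner_coset_gen`, `exists_irr_sign_gen`: versions of the
  results of `GlaubermanCyclic`, `GlaubermanCyclic2` for elements `x` which need not generate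
  `Γ/G`.
-/

set_option autoImplicit false

namespace Cfsg.Agent.Lib.Helper81

open Cfsg
open scoped ComplexConjugate

theorem exists_irr_sign_of_int {C : Type*} [Group C] [Fintype C] (f : C → ℂ)
    (hf : IsClassFunction C f)
    (hint : ∀ β : IrrCharacter C, ∃ z : ℤ, classInner f (β : C → ℂ) = z)
    (hnorm : classInner f f = 1) :
    ∃ (β : IrrCharacter C) (ε : ℤ), (ε = 1 ∨ ε = -1) ∧ ∀ c : C, f c = (ε : ℂ) * (β : C → ℂ) c := by
  classical
  choose z hz using hint
  have hpar := Cfsg.Agent.Lib.Helper78.classInner_eq_sum_mul_conj f hf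
  rw [hnorm] at hpar
  have hsumZ : ∑ β : IrrCharacter C, z β ^ 2 = 1 := by
    have : ((∑ β : IrrCharacter C, z β ^ 2 : ℤ) : ℂ) = 1 := by
      rw [hpar]
      push_cast
      apply Finset.sum_congr rfl
      intro β _
      rw [hz β, map_intCast]
      ring
    exact_mod_cast this
  have hex0 : ∃ β₀, z β₀ ≠ 0 := by
    by_contra hcon
    push Not at hcon
    have : ∑ β : IrrCharacter C, z β ^ 2 = 0 := by
      apply Finset.sum_eq_zero
      intro β _
      rw [hcon β]
      ring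
    rw [this] at hsumZ
    exact zero_ne_one hsumZ
  obtain ⟨β₀, hβ₀⟩ := hex0
  have hsplit := Finset.add_sum_erase Finset.univ (fun β : IrrCharacter C => z β ^ 2)
    (Finset.mem_univ β₀)
  rw [hsumZ] at hsplit
  have hrest_nonneg : 0 ≤ ∑ β ∈ Finset.univ.erase β₀, z β ^ 2 :=
    Finset.sum_nonneg (fun β _ => sq_nonneg _)
  have hsq_pos : 1 ≤ z β₀ ^ 2 := by
    have : 0 < z β₀ ^ 2 := by positivity
    omega
  have hsq : z β₀ ^ 2 = 1 := by
    omega
  have hrest : ∑ β ∈ Finset.univ.erase β₀, z β ^ 2 = 0 := by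
    omega
  have hzero : ∀ β, β ≠ β₀ → z β = 0 := by
    intro β hβ
    have := (Finset.sum_eq_zero_iff_of_nonneg (fun β _ => sq_nonneg (z β))).1 hrest β
      (Finset.mem_erase.2 ⟨hβ, Finset.mem_univ _⟩)
    exact pow_eq_zero_iff (two_ne_zero) |>.1 this
  have hε : z β₀ = 1 ∨ z β₀ = -1 := by
    have h1 : (z β₀ - 1) * (z β₀ + 1) = 0 := by ring_nf; omega
    rcases mul_eq_zero.1 h1 with h | h
    · left; omega
    · right; omega
  refine ⟨β₀, z β₀, hε, ?_⟩
  intro c
  have hdecomp := Cfsg.Agent.Lib.Helper78.classFunction_eq_sum_irr hf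
  have := congrFun hdecomp c
  simp only [Finset.sum_apply, Pi.smul_apply, smul_eq_mul] at this
  rw [this, Finset.sum_eq_single β₀]
  · rw [hz β₀]
  · intro β _ hβ
    rw [hz β, hzero β hβ]
    simp
  · intro h
    exact absurd (Finset.mem_univ _) h

variable {Γ : Type*} [Group Γ] [Fintype Γ] (G : Subgroup Γ) [hG : G.Normal] (x : Γ)
  (C : Subgroup Γ)

include hG in
theorem coset_pow_eq_gen (n : ℕ) (hcop : (Nat.card G).Coprime n) (hidx : G.index = n)
    (hxn : orderOf x ∣ n) (hCG : C ≤ G) (hCx : ∀ c ∈ C, c * x = x * c)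
    (χh : Γ → ℂ) (hχh : IsIrrCharacter Γ χh) (hres : IsIrrCharacter G (fun g : G => χh g))
    (hdet : Nat.Coprime n (Cfsg.detOrder χh)) (j : ℕ) (hj : j.Coprime n)
    (c : C) : χh ((c : Γ) * x ^ j) = χh ((c : Γ) * x) := by
  obtain ⟨m, hm1, hm2⟩ := Nat.chineseRemainder hcop 1 j
  have hmG : m.Coprime (Nat.card G) := by
    have := hm1.gcd_eq
    rw [Nat.Coprime, this]
    exact Nat.gcd_one_left _
  have hmo : m.Coprime n := by
    have := hm2.gcd_eq
    rw [Nat.Coprime, this]
    exact hj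
  have hcard : Nat.card Γ = Nat.card G * n := by
    rw [← hidx, Subgroup.card_mul_index]
  have hmc : m.Coprime (Nat.card Γ) := by
    rw [hcard]
    exact Nat.Coprime.mul_right hmG hmo
  have key := canonical_ext_pow_eq G χh hχh hres (by rw [hidx]; exact hcop)
    (by rw [hidx]; exact hdet) m hm1 hmc ((c : Γ) * x)
  rw [← key]
  congr 1
  have hcomm : Commute (c : Γ) x := hCx c c.2
  rw [hcomm.mul_pow]
  have h1 : (c : Γ) ^ m = (c : Γ) ^ 1 := by
    rw [pow_eq_pow_iff_modEq]
    exact hm1.of_dvd (Subgroup.orderOf_dvd_natCard G (hCG c.2))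
  have h2 : x ^ m = x ^ j := by
    rw [pow_eq_pow_iff_modEq]
    exact hm2.of_dvd hxn
  rw [h1, h2, pow_one]

variable [Fintype C]

include hG in
theorem exists_int_classInner_coset_gen (n : ℕ) (hn : 0 < n)
    (hcop : (Nat.card G).Coprime n) (hidx : G.index = n)
    (hxn : orderOf x ∣ n) (hCG : C ≤ G) (hCx : ∀ c ∈ C, c * x = x * c)
    (χh : Γ → ℂ) (hχh : IsIrrCharacter Γ χh) (hres : IsIrrCharacter G (fun g : G => χh g))
    (hdet : Nat.Coprime n (Cfsg.detOrder χh)) (β : IrrCharacter C) :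
    ∃ z : ℤ, classInner (fun c : C => χh ((c : Γ) * x)) (β : C → ℂ) = z := by
  have hchar : IsCharacter Γ χh := Cfsg.Agent.Lib.Helper78.IsIrrCharacter.isCharacter hχh
  obtain ⟨k, ζ, hζ, hdec⟩ := coset_classInner_decomp x C hCx χh hchar β
  have hζn : ∀ i, ζ i ^ n = 1 := by
    intro i
    obtain ⟨d, hd⟩ := hxn
    rw [hd, pow_mul, hζ i, one_pow]
  have hinv : ∀ j : ℕ, j.Coprime n →
      ∑ i, ((k i : ℤ) : ℂ) * ζ i ^ j = ∑ i, ((k i : ℤ) : ℂ) * ζ i := by
    intro j hj
    have h1 := hdec j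
    have h2 := hdec 1
    simp only [pow_one] at h2
    have h3 : (fun c : C => χh ((c : Γ) * x ^ j)) = (fun c : C => χh ((c : Γ) * x)) := by
      funext c
      exact coset_pow_eq_gen G x C n hcop hidx hxn hCG hCx χh hχh hres hdet j hj c
    rw [h3] at h1
    push_cast
    rw [← h1, ← h2]
  obtain ⟨z, hz⟩ := exists_int_of_sum_pow_invariant n hn (fun i => (k i : ℤ)) ζ hζn hinv
  refine ⟨z, ?_⟩
  have h2 := hdec 1
  simp only [pow_one] at h2
  rw [h2, ← hz]
  push_cast
  rfl

include hG in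
theorem exists_irr_sign_gen [Fintype G] (n : ℕ) (hn : 0 < n)
    (hcop : (Nat.card G).Coprime n) (hidx : G.index = n)
    (hxn : orderOf x ∣ n) (hCG : C ≤ G) (hCx : ∀ c ∈ C, c * x = x * c)
    (hCmax : ∀ g ∈ G, g * x = x * g → g ∈ C)
    (χh : Γ → ℂ) (hχh : IsIrrCharacter Γ χh) (hres : IsIrrCharacter G (fun g : G => χh g))
    (hdet : Nat.Coprime n (Cfsg.detOrder χh)) :
    ∃ (β : IrrCharacter C) (ε : ℤ), (ε = 1 ∨ ε = -1) ∧
      ∀ c : C, χh ((c : Γ) * x) = (ε : ℂ) * (β : C → ℂ) c := by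
  have hchar : IsCharacter Γ χh := Cfsg.Agent.Lib.Helper78.IsIrrCharacter.isCharacter hχh
  have hcf : IsClassFunction Γ χh := Cfsg.Agent.Lib.Helper78.IsCharacter.isClassFunction hchar
  have hf : IsClassFunction C (fun c : C => χh ((c : Γ) * x)) :=
    isClassFunction_coset x C hCx χh hcf
  have hcopx : (Nat.card G).Coprime (orderOf x) := Nat.Coprime.coprime_dvd_right hxn hcop
  have hCne : (Nat.card C : ℂ) ≠ 0 := by
    have : 0 < Nat.card C := Nat.card_pos
    exact_mod_cast this.ne'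
  have hnorm : classInner (fun c : C => χh ((c : Γ) * x)) (fun c : C => χh ((c : Γ) * x)) = 1 := by
    unfold classInner
    rw [sum_coset_norm G x C hcopx hCG hCx hCmax χh hχh hres]
    exact inv_mul_cancel₀ hCne
  exact exists_irr_sign_of_int _ hf
    (fun β => exists_int_classInner_coset_gen G x C n hn hcop hidx hxn hCG hCx χh hχh hres hdet β)
    hnorm

end Cfsg.Agent.Lib.Helper81
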