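import Mathlib
import Cfsg.Agent.Lib.Helper77.Linear
import Cfsg.Agent.Lib.Helper81.ProdDecomp

/-!
# Multiplicity functions on the abelian factor are characters (helper81)

* `isCharacter_monoidHom_complex`: a multiplicative map `B →* ℂ` on a group is a character.
* `isCharacter_classInner_prod`: for a character `Θ` of `A × B` (`B` abelian) and `β ∈ Irr(A)`,
  `x ↦ [Θ(·, x), β]` is a character of `B`.
* `centralProdHom`: the multiplication map `C × S →* Γ` for commuting subgroups.
-/

set_option autoImplicit false

namespace Cfsg.Agent.Lib.Helper81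

open Cfsg

theorem isCharacter_monoidHom_complex {B : Type*} [Group B] (lam : B →* ℂ) :
    IsCharacter B (fun x => lam x) := by
  have h := Cfsg.Agent.Lib.Helper77.isIrrCharacter_of_monoidHom lam.toHomUnits
  exact Cfsg.Agent.Lib.Helper78.IsIrrCharacter.isCharacter h

theorem isCharacter_classInner_prod {A B : Type*} [Group A] [Fintype A] [Group B] [Finite B]
    (hB : ∀ x y : B, x * y = y * x) (Θ : A × B → ℂ) (hΘ : IsCharacter (A × B) Θ)
    (β : IrrCharacter A) :
    IsCharacter B (fun x : B => classInner (fun a : A => Θ (a, x)) (β : A → ℂ)) := by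
  classical
  obtain ⟨n, lam, hdec⟩ := exists_central_decomp hB Θ hΘ β
  have h1 : (fun x : B => classInner (fun a : A => Θ (a, x)) (β : A → ℂ)) =
      ∑ η : IrrCharacter (A × B), ((n η : ℕ) : ℂ) • (fun x : B => lam η x) := by
    funext x
    rw [hdec x]
    simp only [Finset.sum_apply, Pi.smul_apply, smul_eq_mul]
  rw [h1]
  apply Cfsg.Agent.Lib.Helper78.isCharacter_finset_sum
  intro η _
  exact Cfsg.Agent.Lib.Helper78.IsCharacter.nsmul (isCharacter_monoidHom_complex (lam η)) _

/-- The multiplication map `C × S →* Γ` for elementwise commuting subgroups. -/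
noncomputable def centralProdHom {Γ : Type*} [Group Γ] (C S : Subgroup Γ)
    (h : ∀ c ∈ C, ∀ x ∈ S, c * x = x * c) : C × S →* Γ :=
  MonoidHom.noncommCoprod C.subtype S.subtype (by
    intro c x
    show Commute (c : Γ) (x : Γ)
    exact h c c.2 x x.2)

theorem centralProdHom_apply {Γ : Type*} [Group Γ] (C S : Subgroup Γ)
    (h : ∀ c ∈ C, ∀ x ∈ S, c * x = x * c) (c : C) (x : S) :
    centralProdHom C S h (c, x) = (c : Γ) * (x : Γ) := by
  unfold centralProdHom
  rw [MonoidHom.noncommCoprod_apply]
  rfl

end Cfsg.Agent.Lib.Helper81
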