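import Mathlib

/-!
# An arithmetic lemma on integer families with two residues (helper81)

* `two_value_arith`: integers `b i` (`i` in a type of size `n`), all congruent to `-m` mod `n`,
  with `|b i| ≤ u ≤ n - 1`, `∑ b = 0`, `∑ b² = n u`.  Then `u = 0`, or `u = n - 1` and some
  `b i = ±(n - 1)`.
-/

set_option autoImplicit false

namespace Cfsg.Agent.Lib.Helper81

theorem two_value_arith {Λ : Type*} [Fintype Λ] (n : ℤ) (hn : (Fintype.card Λ : ℤ) = n)
    (b : Λ → ℤ) (m u : ℤ) (hu0 : 0 ≤ u) (hun : u ≤ n - 1)
    (hcong : ∀ i, n ∣ b i + m) (habs : ∀ i, |b i| ≤ u)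
    (hsum : ∑ i, b i = 0) (hsq : ∑ i, b i ^ 2 = n * u) :
    u = 0 ∨ (u = n - 1 ∧ ∃ i, b i = n - 1 ∨ b i = -(n - 1)) := by
  classical
  by_cases hall : ∀ i, b i = 0
  · left
    have h0 : ∑ i, b i ^ 2 = 0 := by
      apply Finset.sum_eq_zero
      intro i _
      rw [hall i]; ring
    rw [h0] at hsq
    have hnpos : 0 < n := by
      by_contra hcon
      push Not at hcon
      linarith
    rcases mul_eq_zero.1 hsq.symm with h | h
    · omega
    · exact h
  · right
    push Not at hall
    obtain ⟨i₀, hi₀⟩ := hall
    -- a positive and a negative value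
    have hpos : ∃ i, 0 < b i := by
      by_contra hcon
      push Not at hcon
      have hle : ∀ i ∈ Finset.univ, b i ≤ 0 := fun i _ => hcon i
      have := (Finset.sum_eq_zero_iff_of_nonpos hle).1 hsum i₀ (Finset.mem_univ _)
      exact hi₀ this
    have hneg : ∃ i, b i < 0 := by
      by_contra hcon
      push Not at hcon
      have hge : ∀ i ∈ Finset.univ, 0 ≤ b i := fun i _ => hcon i
      have := (Finset.sum_eq_zero_iff_of_nonneg hge).1 hsum i₀ (Finset.mem_univ _)
      exact hi₀ this
    obtain ⟨ip, hip⟩ := hpos
    obtain ⟨im, him⟩ := hneg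
    set B := b ip with hB
    have hBu : B ≤ u := le_trans (le_abs_self _) (habs ip)
    have hnpos : 0 < n := by linarith
    -- every value is `B` or `B - n`
    have hval : ∀ i, b i = B ∨ b i = B - n := by
      intro i
      have hd : n ∣ b i - B := by
        have h1 := hcong i
        have h2 := hcong ip
        have : b i - B = (b i + m) - (b ip + m) := by rw [hB]; ring
        rw [this]
        exact dvd_sub h1 h2
      obtain ⟨k, hk⟩ := hd
      have h1 : -u ≤ b i := (abs_le.1 (habs i)).1
      have h2 : b i ≤ u := (abs_le.1 (habs i)).2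
      have hk1 : -2 < k := by
        by_contra hcon
        push Not at hcon
        have : n * k ≤ n * (-2) := mul_le_mul_of_nonneg_left hcon hnpos.le
        nlinarith
      have hk2 : k < 1 := by
        by_contra hcon
        push Not at hcon
        have : n * 1 ≤ n * k := mul_le_mul_of_nonneg_left hcon hnpos.le
        nlinarith
      have hk' : k = 0 ∨ k = -1 := by omega
      rcases hk' with rfl | rfl
      · left; linarith
      · right; linarith
    -- the quadratic relation
    have hquad : ∀ i, b i ^ 2 = (2 * B - n) * b i + B * (n - B) := by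
      intro i
      rcases hval i with h | h <;> rw [h] <;> ring
    have hsq' : ∑ i, b i ^ 2 = n * (B * (n - B)) := by
      rw [Finset.sum_congr rfl (fun i _ => hquad i), Finset.sum_add_distrib, ← Finset.mul_sum, hsum,
        Finset.sum_const, Finset.card_univ, nsmul_eq_mul, hn]
      ring
    rw [hsq] at hsq'
    have hu : u = B * (n - B) := by
      have := mul_left_cancel₀ hnpos.ne' hsq'
      exact this
    have hBn : B ≤ n - 1 := le_trans hBu hun
    have hfac : (B - 1) * (n - 1 - B) ≥ 0 := mul_nonneg (by linarith) (by linarith)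
    have hge : u ≥ n - 1 := by rw [hu]; nlinarith
    have hueq : u = n - 1 := le_antisymm hun hge
    refine ⟨hueq, ?_⟩
    have hzero : (B - 1) * (n - 1 - B) = 0 := by
      have : (B - 1) * (n - 1 - B) = B * (n - B) - (n - 1) := by ring
      rw [this, ← hu, hueq]; ring
    rcases mul_eq_zero.1 hzero with h | h
    · -- `B = 1`: the negative value is `1 - n`
      refine ⟨im, Or.inr ?_⟩
      rcases hval im with h' | h'
      · rw [h'] at him; linarith
      · rw [h']; linarith
    · exact ⟨ip, Or.inl (by linarith)⟩

end Cfsg.Agent.Lib.Helper81
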