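import Mathlib
import Cfsg.Prelude.Def_Characters
import Cfsg.Agent.Lib.Helper78.CharMore
import Cfsg.Agent.Lib.Helper78.CharValues
import Cfsg.Agent.Lib.Helper80.CharBasic
import Cfsg.Agent.Lib.Helper81.TwoValueArith

/-!
# Characters of abelian groups with values in `{0, ±1}` off the identity (helper81)

* `card_irr_of_comm`, `irr_apply_one_of_comm`: an abelian group of order `n` has `n` irreducible
  characters, all of degree one.
* `sign_character_of_comm`: a character `ψ` of an abelian group with `ψ x ∈ {0, 1, -1}` for all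
  `x ≠ 1` either vanishes off the identity, or agrees off the identity with `ε μ` for a sign `ε`
  and a linear character `μ` (and then never vanishes).
-/

set_option autoImplicit false

namespace Cfsg.Agent.Lib.Helper81

open Cfsg
open scoped ComplexConjugate

variable {S : Type*} [Group S] [Fintype S]

theorem card_irr_of_comm (hS : ∀ x y : S, x * y = y * x) :
    Fintype.card (IrrCharacter S) = Fintype.card S := by
  rw [← Nat.card_eq_fintype_card, ← Nat.card_eq_fintype_card,
    Cfsg.Agent.Lib.Helper78.card_irrCharacter]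
  symm
  apply Nat.card_congr
  refine Equiv.ofBijective ConjClasses.mk ⟨?_, ConjClasses.mk_surjective⟩
  intro a b hab
  rw [ConjClasses.mk_eq_mk_iff_isConj, isConj_iff] at hab
  obtain ⟨c, hc⟩ := hab
  rw [← hc, hS c a]
  group

theorem irr_apply_one_of_comm (hS : ∀ x y : S, x * y = y * x) (μ : IrrCharacter S) :
    (μ : S → ℂ) 1 = 1 := by
  have hsum := Cfsg.Agent.Lib.Helper78.sum_irr_charDegree_sq (G := S)
  have hcard := card_irr_of_comm hS
  have h1 : ∑ _χ : IrrCharacter S, 1 = ∑ χ : IrrCharacter S, (charDegree (χ : S → ℂ)) ^ 2 := by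
    rw [hsum, Finset.sum_const, Finset.card_univ, hcard, Nat.card_eq_fintype_card]
    simp
  have hle : ∀ χ ∈ (Finset.univ : Finset (IrrCharacter S)), 1 ≤ (charDegree (χ : S → ℂ)) ^ 2 := by
    intro χ _
    exact Nat.one_le_pow _ _ (Cfsg.Agent.Lib.Helper80.charDegree_pos_of_isIrr χ.2)
  have := (Finset.sum_eq_sum_iff_of_le hle).1 h1 μ (Finset.mem_univ _)
  have hd : charDegree (μ : S → ℂ) = 1 := by
    have h2 : (charDegree (μ : S → ℂ)) ^ 2 = 1 := this.symm
    rcases pow_eq_one_iff.1 h2 with h | h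
    · exact h
    · exact absurd h two_ne_zero
  rw [Cfsg.Agent.Lib.Helper78.IsCharacter.apply_one_eq_charDegree
    (Cfsg.Agent.Lib.Helper78.IsIrrCharacter.isCharacter μ.2), hd]
  simp

theorem irr_norm_le_one_of_comm (hS : ∀ x y : S, x * y = y * x) (μ : IrrCharacter S) (x : S) :
    ‖(μ : S → ℂ) x‖ ≤ 1 := by
  have h := Cfsg.Agent.Lib.Helper80.norm_char_le
    (Cfsg.Agent.Lib.Helper78.IsIrrCharacter.isCharacter μ.2) x
  have h1 := irr_apply_one_of_comm hS μ
  have hd : charDegree (μ : S → ℂ) = 1 := Cfsg.Agent.Lib.Helper80.charDegree_natCast (n := 1)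
    (by rw [h1]; simp)
  rw [hd] at h
  simpa using h

theorem sign_character_of_comm (hS : ∀ x y : S, x * y = y * x) (ψ : S → ℂ)
    (hψ : IsCharacter S ψ) (hval : ∀ x : S, x ≠ 1 → ψ x = 0 ∨ ψ x = 1 ∨ ψ x = -1) :
    (∀ x : S, x ≠ 1 → ψ x = 0) ∨
      ∃ (ε : ℤ) (μ : IrrCharacter S), (ε = 1 ∨ ε = -1) ∧
        (∀ x : S, x ≠ 1 → ψ x = (ε : ℂ) * (μ : S → ℂ) x) ∧ (∀ x : S, x ≠ 1 → ψ x ≠ 0) := by
  classical
  set n : ℕ := Fintype.card S with hn
  have hnpos : 0 < n := Fintype.card_pos
  have hncard : Nat.card S = n := Nat.card_eq_fintype_card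
  have hnC : (n : ℂ) ≠ 0 := by exact_mod_cast hnpos.ne'
  obtain ⟨m, hm⟩ := Cfsg.Agent.Lib.Helper80.char_one_eq_natCast hψ
  choose a ha using fun lam : IrrCharacter S =>
    Cfsg.Agent.Lib.Helper78.IsCharacter.exists_nat_classInner hψ lam
  let T : Finset S := Finset.univ.erase 1
  have hT : ∀ x, x ∈ T ↔ x ≠ 1 := fun x => by simp [T]
  have hTcard : T.card = n - 1 := by
    simp only [T]
    rw [Finset.card_erase_of_mem (Finset.mem_univ _), Finset.card_univ]
  let B : IrrCharacter S → ℂ := fun lam => ∑ x ∈ T, ψ x * conj ((lam : S → ℂ) x)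
  -- the key identity
  have hK1 : ∀ lam : IrrCharacter S, (n : ℂ) * (a lam : ℂ) = (m : ℂ) + B lam := by
    intro lam
    have h1 := ha lam
    unfold classInner at h1
    rw [hncard] at h1
    have h2 : ∑ g : S, ψ g * conj ((lam : S → ℂ) g) = (n : ℂ) * (a lam : ℂ) := by
      rw [← h1]
      field_simp
    rw [← h2, ← Finset.add_sum_erase Finset.univ _ (Finset.mem_univ (1 : S))]
    rw [hm, irr_apply_one_of_comm hS lam, map_one, mul_one]
  let b : IrrCharacter S → ℤ := fun lam => (n : ℤ) * (a lam : ℤ) - (m : ℤ)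
  have hbB : ∀ lam, ((b lam : ℤ) : ℂ) = B lam := by
    intro lam
    simp only [b]
    push_cast
    rw [hK1 lam]
    ring
  let u : ℕ := (T.filter (fun x => ψ x ≠ 0)).card
  have hun : u ≤ n - 1 := by
    rw [← hTcard]
    exact Finset.card_filter_le _ _
  -- norms of the values
  have hnormψ : ∀ x ∈ T, ‖ψ x‖ = if ψ x ≠ 0 then 1 else 0 := by
    intro x hx
    rcases hval x ((hT x).1 hx) with h | h | h
    · simp [h]
    · simp [h]
    · simp [h]
  have hψsq : ∀ x ∈ T, ψ x ≠ 0 → ψ x * conj (ψ x) = 1 := by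
    intro x hx hne
    rcases hval x ((hT x).1 hx) with h | h | h
    · exact absurd h hne
    · simp [h]
    · simp [h]
  -- (ii) the bound
  have habs : ∀ lam, |b lam| ≤ (u : ℤ) := by
    intro lam
    have h1 : ‖B lam‖ ≤ (u : ℝ) := by
      calc ‖B lam‖ ≤ ∑ x ∈ T, ‖ψ x * conj ((lam : S → ℂ) x)‖ := norm_sum_le _ _
        _ ≤ ∑ x ∈ T, (if ψ x ≠ 0 then (1 : ℝ) else 0) := by
          apply Finset.sum_le_sum
          intro x hx
          rw [norm_mul, hnormψ x hx, RCLike.norm_conj]
          split_ifs with h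
          · rw [one_mul]; exact irr_norm_le_one_of_comm hS lam x
          · rw [zero_mul]
        _ = (u : ℝ) := by
          rw [Finset.sum_ite, Finset.sum_const_zero, add_zero, Finset.sum_const, nsmul_eq_mul,
            mul_one]
    rw [← hbB lam, Complex.norm_intCast] at h1
    exact_mod_cast h1
  -- (iii) the sum
  have hsumB : ∑ lam : IrrCharacter S, B lam = 0 := by
    simp only [B]
    rw [Finset.sum_comm]
    apply Finset.sum_eq_zero
    intro x hx
    rw [← Finset.mul_sum]
    have h1 : ¬ IsConj x 1 := by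
      intro hc
      have := isConj_one_right.1 hc.symm
      exact (hT x).1 hx this
    have h2 := Cfsg.Agent.Lib.Helper78.second_orthogonality_of_not_isConj h1
    have h3 : ∑ lam : IrrCharacter S, conj ((lam : S → ℂ) x) = 0 := by
      have := congrArg conj h2
      rw [map_zero, map_sum] at this
      rw [← this]
      apply Finset.sum_congr rfl
      intro lam _
      rw [map_mul, Complex.conj_conj, irr_apply_one_of_comm hS lam, mul_one]
    rw [h3, mul_zero]
  have hsum : ∑ lam : IrrCharacter S, b lam = 0 := by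
    have : ((∑ lam : IrrCharacter S, b lam : ℤ) : ℂ) = 0 := by
      push_cast
      rw [← hsumB]
      exact Finset.sum_congr rfl (fun lam _ => hbB lam)
    exact_mod_cast this
  -- (iv) Parseval
  let f : S → ℂ := fun x => if x = 1 then 0 else ψ x
  have hfcf : IsClassFunction S f := by
    intro g h
    have : h * g * h⁻¹ = g := by rw [hS h g]; group
    rw [this]
  have hfin : ∀ lam : IrrCharacter S, classInner f (lam : S → ℂ) = (n : ℂ)⁻¹ * B lam := by
    intro lam
    unfold classInner
    rw [hncard]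
    congr 1
    rw [← Finset.add_sum_erase Finset.univ _ (Finset.mem_univ (1 : S))]
    simp only [f, if_true, zero_mul, zero_add]
    apply Finset.sum_congr rfl
    intro x hx
    rw [if_neg ((hT x).1 hx)]
  have hff : classInner f f = (n : ℂ)⁻¹ * (u : ℂ) := by
    unfold classInner
    rw [hncard]
    congr 1
    rw [← Finset.add_sum_erase Finset.univ _ (Finset.mem_univ (1 : S))]
    simp only [f, if_true, zero_mul, zero_add]
    have : ∀ x ∈ Finset.univ.erase (1 : S),
        (if x = 1 then (0 : ℂ) else ψ x) * conj (if x = 1 then (0 : ℂ) else ψ x) =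
          if ψ x ≠ 0 then 1 else 0 := by
      intro x hx
      rw [if_neg ((hT x).1 hx)]
      split_ifs with h
      · exact hψsq x hx h
      · push Not at h
        rw [h, zero_mul]
    rw [Finset.sum_congr rfl this, Finset.sum_ite, Finset.sum_const_zero, add_zero,
      Finset.sum_const, nsmul_eq_mul, mul_one]
  have hpar := Cfsg.Agent.Lib.Helper78.classInner_eq_sum_mul_conj f hfcf
  rw [hff] at hpar
  have hsq : ∑ lam : IrrCharacter S, b lam ^ 2 = (n : ℤ) * (u : ℤ) := by
    have : ((∑ lam : IrrCharacter S, b lam ^ 2 : ℤ) : ℂ) = ((n : ℤ) : ℂ) * ((u : ℤ) : ℂ) := by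
      push_cast
      have h1 : ∑ lam : IrrCharacter S, classInner f (lam : S → ℂ) *
          conj (classInner f (lam : S → ℂ)) =
          (n : ℂ)⁻¹ * (n : ℂ)⁻¹ * ∑ lam : IrrCharacter S, ((b lam : ℤ) : ℂ) ^ 2 := by
        rw [Finset.mul_sum]
        apply Finset.sum_congr rfl
        intro lam _
        rw [hfin lam, ← hbB lam, map_mul, map_inv₀, Complex.conj_natCast, map_intCast]
        ring
      rw [h1] at hpar
      have h2 : ∑ lam : IrrCharacter S, ((b lam : ℤ) : ℂ) ^ 2 = (n : ℂ) * (u : ℂ) := by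
        field_simp at hpar
        linear_combination -hpar
      exact h2
    exact_mod_cast this
  -- apply the arithmetic lemma
  have hcardΛ : (Fintype.card (IrrCharacter S) : ℤ) = (n : ℤ) := by
    rw [card_irr_of_comm hS]
  have harith := two_value_arith (n : ℤ) hcardΛ b (m : ℤ) (u : ℤ) (by positivity)
    (by have := hun; omega) (fun lam => ⟨(a lam : ℤ), by simp only [b]; ring⟩) habs hsum hsq
  rcases harith with h0 | ⟨hueq, μ, hμ⟩
  · left
    intro x hx
    have hu0 : u = 0 := by exact_mod_cast h0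
    have hempty := Finset.card_eq_zero.1 hu0
    by_contra hne
    have : x ∈ T.filter (fun x => ψ x ≠ 0) := Finset.mem_filter.2 ⟨(hT x).2 hx, hne⟩
    rw [hempty] at this
    exact absurd this (Finset.notMem_empty _)
  · right
    have hu' : u = T.card := by
      rw [hTcard]
      have : (u : ℤ) = (n : ℤ) - 1 := hueq
      omega
    have hnz : ∀ x ∈ T, ψ x ≠ 0 := Finset.card_filter_eq_iff.1 hu'
    -- the sign
    obtain ⟨σ, hσ, hbσ⟩ : ∃ σ : ℤ, (σ = 1 ∨ σ = -1) ∧ b μ = σ * ((n : ℤ) - 1) := by
      rcases hμ with h | h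
      · exact ⟨1, Or.inl rfl, by rw [h]; ring⟩
      · exact ⟨-1, Or.inr rfl, by rw [h]; ring⟩
    have hσsq : (σ : ℂ) * (σ : ℂ) = 1 := by
      rcases hσ with rfl | rfl <;> norm_num
    let t : S → ℂ := fun x => (σ : ℂ) * (ψ x * conj ((μ : S → ℂ) x))
    have htsum : ∑ x ∈ T, t x = (T.card : ℂ) := by
      simp only [t]
      rw [← Finset.mul_sum]
      have : ∑ x ∈ T, ψ x * conj ((μ : S → ℂ) x) = B μ := rfl
      rw [this, ← hbB μ, hbσ, hTcard]
      push_cast
      rw [Nat.cast_sub hnpos]
      push_cast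
      linear_combination ((n : ℂ) - 1) * hσsq
    have htnorm : ∀ x ∈ T, ‖t x‖ ≤ 1 := by
      intro x hx
      simp only [t]
      rw [norm_mul, norm_mul, RCLike.norm_conj, hnormψ x hx, if_pos (hnz x hx), one_mul]
      have h1 : ‖(σ : ℂ)‖ = 1 := by
        rcases hσ with rfl | rfl <;> simp
      rw [h1, one_mul]
      exact irr_norm_le_one_of_comm hS μ x
    have htre : ∀ x ∈ T, (t x).re = 1 := by
      have hle : ∀ x ∈ T, (t x).re ≤ 1 := fun x hx =>
        le_trans (Complex.re_le_norm _) (htnorm x hx)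
      have hsumre : ∑ x ∈ T, (t x).re = ∑ _x ∈ T, (1 : ℝ) := by
        rw [← Complex.re_sum, htsum, Finset.sum_const, nsmul_eq_mul, mul_one]
        simp
      exact (Finset.sum_eq_sum_iff_of_le hle).1 hsumre
    have ht1 : ∀ x ∈ T, t x = 1 := by
      intro x hx
      have hre := htre x hx
      have hn1 := htnorm x hx
      have hsqn : (t x).re ^ 2 + (t x).im ^ 2 ≤ 1 := by
        have := Complex.sq_norm (t x)
        rw [Complex.normSq_apply] at this
        nlinarith [norm_nonneg (t x)]
      have him : (t x).im = 0 := by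
        rw [hre] at hsqn
        nlinarith [sq_nonneg (t x).im]
      apply Complex.ext
      · rw [hre]; simp
      · rw [him]; simp
    refine ⟨σ, μ, hσ, ?_, fun x hx => hnz x ((hT x).2 hx)⟩
    intro x hx
    have hxT := (hT x).2 hx
    have h1 := ht1 x hxT
    simp only [t] at h1
    have hψψ := hψsq x hxT (hnz x hxT)
    have hψreal : conj (ψ x) = ψ x := by
      rcases hval x hx with h | h | h <;> simp [h]
    rw [hψreal] at hψψ
    -- `conj (μ x) = σ ψ x`
    have h2 : conj ((μ : S → ℂ) x) = (σ : ℂ) * ψ x := by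
      have : (σ : ℂ) * ψ x * ((σ : ℂ) * (ψ x * conj ((μ : S → ℂ) x))) = (σ : ℂ) * ψ x := by
        rw [h1, mul_one]
      have h3 : (σ : ℂ) * ψ x * ((σ : ℂ) * (ψ x * conj ((μ : S → ℂ) x))) =
          ((σ : ℂ) * (σ : ℂ)) * (ψ x * ψ x) * conj ((μ : S → ℂ) x) := by ring
      rw [h3, hσsq, hψψ, one_mul, one_mul] at this
      exact this
    have h4 : (μ : S → ℂ) x = (σ : ℂ) * ψ x := by
      have := congrArg conj h2
      rw [Complex.conj_conj, map_mul, map_intCast, hψreal] at this
      exact this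
    rw [h4, ← mul_assoc, hσsq, one_mul]

end Cfsg.Agent.Lib.Helper81
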