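import Mathlib
import Cfsg.Agent.Lib.Helper81.GlaubermanCyclicGen
import Cfsg.Agent.Lib.Helper81.ProdDecomp2
import Cfsg.Agent.Lib.Helper81.SignCharacter

/-!
# Canonical extension when all nontrivial elements of `S` have the same fixed points (helper81)

Setting: `G ⊴ Γ` of index `n = |S|` coprime to `|G|`, `S ≤ Γ` abelian, `C ≤ G` centralized by `S`
with `C_G(x) ≤ C` for all `1 ≠ x ∈ S`; `χh ∈ Irr(Γ)` the canonical extension of `χh|_G ∈ Irr(G)`.

* `fpf_structure`: if `χh (c s₀) = ε₀ β(c)` for some `1 ≠ s₀ ∈ S` and `[χh|_C, β] ≠ 0`, then there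
  are a sign `ε`, a linear character `μ` of `S` with `μ² = 1` and a character `ϑ` of `C` with
  `χh (c x) = ε β(c) μ(x)` for `1 ≠ x ∈ S` and `χh|_C = |S| ϑ + ε β`.
-/

set_option autoImplicit false

namespace Cfsg.Agent.Lib.Helper81

open Cfsg
open scoped ComplexConjugate

theorem fpf_structure {Γ : Type*} [Group Γ] [Fintype Γ] (G S C : Subgroup Γ) [hG : G.Normal]
    [Fintype G] [Fintype C] (n : ℕ) (hnS : Nat.card S = n)
    (hcop : (Nat.card G).Coprime n) (hidx : G.index = n)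
    (hS : ∀ x y : S, x * y = y * x) (hCG : C ≤ G)
    (hCS : ∀ c ∈ C, ∀ x ∈ S, c * x = x * c)
    (hCmax : ∀ x ∈ S, x ≠ 1 → ∀ g ∈ G, g * x = x * g → g ∈ C)
    (χh : Γ → ℂ) (hχh : IsIrrCharacter Γ χh) (hres : IsIrrCharacter G (fun g : G => χh g))
    (hdet : Nat.Coprime n (Cfsg.detOrder χh))
    (β : IrrCharacter C) (ε₀ : ℤ) (hε₀ : ε₀ = 1 ∨ ε₀ = -1) (s₀ : S) (hs₀ : s₀ ≠ 1)
    (hβ : ∀ c : C, χh ((c : Γ) * (s₀ : Γ)) = (ε₀ : ℂ) * (β : C → ℂ) c)
    (hm : classInner (fun c : C => χh (c : Γ)) (β : C → ℂ) ≠ 0) :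
    ∃ (ε : ℤ) (μ : S → ℂ) (ϑ : C → ℂ), (ε = 1 ∨ ε = -1) ∧ IsCharacter S μ ∧ μ 1 = 1 ∧
      (∀ x : S, μ x * μ x = 1) ∧
      (∀ c : C, ∀ x : S, x ≠ 1 → χh ((c : Γ) * (x : Γ)) = (ε : ℂ) * (β : C → ℂ) c * μ x) ∧
      IsCharacter C ϑ ∧ ∀ c : C, χh (c : Γ) = (n : ℂ) * ϑ c + (ε : ℂ) * (β : C → ℂ) c := by
  classical
  have := Fintype.ofFinite S
  have hn : 0 < n := by rw [← hnS]; exact Nat.card_pos
  have hnC : (n : ℂ) ≠ 0 := by exact_mod_cast hn.ne'
  have hncard : Fintype.card S = n := by rw [← Nat.card_eq_fintype_card]; exact hnS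
  have hchar : IsCharacter Γ χh := Cfsg.Agent.Lib.Helper78.IsIrrCharacter.isCharacter hχh
  -- (1) values on each coset
  have hsign : ∀ x : S, x ≠ 1 → ∃ (βx : IrrCharacter C) (εx : ℤ), (εx = 1 ∨ εx = -1) ∧
      ∀ c : C, χh ((c : Γ) * (x : Γ)) = (εx : ℂ) * (βx : C → ℂ) c := by
    intro x hx
    have hx' : (x : Γ) ≠ 1 := fun h => hx (Subtype.ext h)
    have hxn : orderOf (x : Γ) ∣ n := by
      rw [← hnS]
      exact Subgroup.orderOf_dvd_natCard S x.2
    exact exists_irr_sign_gen G (x : Γ) C n hn hcop hidx hxn hCG (fun c hc => hCS c hc x x.2)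
      (hCmax x x.2 hx') χh hχh hres hdet
  choose bx ex hex hvalx using hsign
  -- (2) the multiplicity characters
  let ψ : IrrCharacter C → S → ℂ := fun β' x =>
    classInner (fun c : C => χh ((c : Γ) * (x : Γ))) (β' : C → ℂ)
  have hψchar : ∀ β' : IrrCharacter C, IsCharacter S (ψ β') := by
    intro β'
    have hΘ : IsCharacter (C × S) (χh ∘ centralProdHom C S hCS) := isCharacter_comp hchar _
    have h1 := isCharacter_classInner_prod hS _ hΘ β'
    have h2 : (fun x : S => classInner (fun a : C => (χh ∘ centralProdHom C S hCS) (a, x))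
        (β' : C → ℂ)) = ψ β' := by
      funext x
      simp only [ψ, Function.comp_apply, centralProdHom_apply]
    rw [h2] at h1
    exact h1
  -- (3) values of `ψ`
  have hψval : ∀ (β' : IrrCharacter C) (x : S) (hx : x ≠ 1),
      ψ β' x = (ex x hx : ℂ) * (if bx x hx = β' then 1 else 0) := by
    intro β' x hx
    simp only [ψ]
    have h1 : (fun c : C => χh ((c : Γ) * (x : Γ))) = (ex x hx : ℂ) • (bx x hx : C → ℂ) := by
      funext c
      rw [hvalx x hx c]
      rfl
    rw [h1, Cfsg.Agent.Lib.Helper78.classInner_smul_left,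
      Cfsg.Agent.Lib.Helper78.classInner_irr (bx x hx).2 β'.2]
    congr 1
    by_cases h : bx x hx = β'
    · rw [if_pos h, if_pos (congrArg Subtype.val h)]
    · rw [if_neg h, if_neg (fun h' => h (Subtype.ext h'))]
  have hexC : ∀ (x : S) (hx : x ≠ 1), (ex x hx : ℂ) = 1 ∨ (ex x hx : ℂ) = -1 := by
    intro x hx
    rcases hex x hx with h | h
    · left; rw [h]; simp
    · right; rw [h]; simp
  have hψ01 : ∀ (β' : IrrCharacter C) (x : S), x ≠ 1 →
      ψ β' x = 0 ∨ ψ β' x = 1 ∨ ψ β' x = -1 := by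
    intro β' x hx
    rw [hψval β' x hx]
    by_cases h : bx x hx = β'
    · rw [if_pos h, mul_one]
      right
      exact hexC x hx
    · rw [if_neg h, mul_zero]
      left; rfl
  -- (4) the sign character
  have hε₀C : (ε₀ : ℂ) ≠ 0 := by
    rcases hε₀ with rfl | rfl <;> norm_num
  have hψs₀ : ψ β s₀ = (ε₀ : ℂ) := by
    simp only [ψ]
    have h1 : (fun c : C => χh ((c : Γ) * (s₀ : Γ))) = (ε₀ : ℂ) • (β : C → ℂ) := by
      funext c
      rw [hβ c]
      rfl
    rw [h1, Cfsg.Agent.Lib.Helper78.classInner_smul_left,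
      Cfsg.Agent.Lib.Helper78.classInner_irr_self β.2, mul_one]
  rcases sign_character_of_comm hS (ψ β) (hψchar β) (hψ01 β) with h0 | ⟨ε, μ, hε, hμ, hnz⟩
  · exfalso
    have := h0 s₀ hs₀
    rw [hψs₀] at this
    exact hε₀C this
  have hεsq : (ε : ℂ) * (ε : ℂ) = 1 := by
    rcases hε with rfl | rfl <;> norm_num
  have hbx : ∀ (x : S) (hx : x ≠ 1), bx x hx = β := by
    intro x hx
    by_contra hne
    have := hψval β x hx
    rw [if_neg hne, mul_zero] at this
    exact hnz x hx this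
  have hexμ : ∀ (x : S) (hx : x ≠ 1), (ex x hx : ℂ) = (ε : ℂ) * (μ : S → ℂ) x := by
    intro x hx
    have := hψval β x hx
    rw [if_pos (hbx x hx), mul_one] at this
    rw [← this, hμ x hx]
  have hμval : ∀ (x : S) (hx : x ≠ 1), (μ : S → ℂ) x = (ε : ℂ) * (ex x hx : ℂ) := by
    intro x hx
    rw [hexμ x hx, ← mul_assoc, hεsq, one_mul]
  have hμ1 : (μ : S → ℂ) 1 = 1 := irr_apply_one_of_comm hS μ
  have hμsq : ∀ x : S, (μ : S → ℂ) x * (μ : S → ℂ) x = 1 := by
    intro x
    by_cases hx : x = 1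
    · rw [hx, hμ1, mul_one]
    · rw [hμval x hx]
      rcases hexC x hx with h | h <;> rw [h] <;> linear_combination hεsq
  have hμconj : ∀ x : S, x ≠ 1 → conj ((μ : S → ℂ) x) = (μ : S → ℂ) x := by
    intro x hx
    rw [hμval x hx, map_mul, map_intCast, map_intCast]
  -- (6) the coefficients
  let χC : C → ℂ := fun c : C => χh (c : Γ)
  have hχC : IsCharacter C χC := isCharacter_comp hchar C.subtype
  have hψ1 : ∀ β' : IrrCharacter C, ψ β' 1 = classInner χC (β' : C → ℂ) := by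
    intro β'
    simp only [ψ, χC, Subgroup.coe_one, mul_one]
  have hsumψ : ∀ (β' : IrrCharacter C) (lam : IrrCharacter S),
      (n : ℂ) * classInner (ψ β') (lam : S → ℂ) =
        ψ β' 1 * conj ((lam : S → ℂ) 1) +
          ∑ x ∈ Finset.univ.erase (1 : S), ψ β' x * conj ((lam : S → ℂ) x) := by
    intro β' lam
    unfold classInner
    rw [hnS, ← mul_assoc, mul_inv_cancel₀ hnC, one_mul]
    exact (Finset.add_sum_erase Finset.univ (fun g : S => ψ β' g * conj ((lam : S → ℂ) g))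
      (Finset.mem_univ (1 : S))).symm
  have hcoef : ∀ β' : IrrCharacter C, ∃ k : ℕ,
      classInner χC (β' : C → ℂ) = (n : ℂ) * (k : ℂ) + (if β' = β then (ε : ℂ) else 0) := by
    intro β'
    by_cases hβ' : β' = β
    · subst hβ'
      rw [if_pos rfl]
      obtain ⟨a, ha⟩ := Cfsg.Agent.Lib.Helper78.IsCharacter.exists_nat_classInner (hψchar β') μ
      obtain ⟨m, hmm⟩ := Cfsg.Agent.Lib.Helper78.IsCharacter.exists_nat_classInner hχC β'
      have h1 := hsumψ β' μ
      rw [ha, hμ1, map_one, mul_one, hψ1 β', hmm] at h1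
      have h2 : ∑ x ∈ Finset.univ.erase (1 : S), ψ β' x * conj ((μ : S → ℂ) x) =
          (ε : ℂ) * ((n : ℂ) - 1) := by
        have : ∀ x ∈ Finset.univ.erase (1 : S), ψ β' x * conj ((μ : S → ℂ) x) = (ε : ℂ) := by
          intro x hx
          have hx1 : x ≠ 1 := (Finset.mem_erase.1 hx).1
          rw [hμ x hx1, hμconj x hx1, mul_assoc, hμsq x, mul_one]
        rw [Finset.sum_congr rfl this, Finset.sum_const, Finset.card_erase_of_mem
          (Finset.mem_univ _), Finset.card_univ, hncard, nsmul_eq_mul, Nat.cast_sub hn]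
        push_cast
        ring
      rw [h2] at h1
      -- integer arithmetic: `n a = m + ε (n - 1)`
      have h3 : (n : ℤ) * (a : ℤ) = (m : ℤ) + ε * ((n : ℤ) - 1) := by
        have : (((n : ℤ) * (a : ℤ) : ℤ) : ℂ) = (((m : ℤ) + ε * ((n : ℤ) - 1) : ℤ) : ℂ) := by
          push_cast
          exact h1
        exact_mod_cast this
      have hm0 : m ≠ 0 := by
        intro h0
        apply hm
        show classInner χC (β' : C → ℂ) = 0
        rw [hmm, h0]
        simp
      have hk : 0 ≤ (a : ℤ) - ε := by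
        have h4 : (n : ℤ) * ((a : ℤ) - ε) = (m : ℤ) - ε := by linarith
        have h5 : 0 ≤ (m : ℤ) - ε := by
          have : 1 ≤ (m : ℤ) := by exact_mod_cast Nat.one_le_iff_ne_zero.2 hm0
          rcases hε with rfl | rfl <;> omega
        have hnz' : (0 : ℤ) < n := by exact_mod_cast hn
        by_contra hneg
        push Not at hneg
        have : (n : ℤ) * ((a : ℤ) - ε) < 0 := mul_neg_of_pos_of_neg hnz' hneg
        omega
      obtain ⟨k, hk'⟩ := Int.eq_ofNat_of_zero_le hk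
      refine ⟨k, ?_⟩
      rw [hmm]
      have : ((m : ℤ) : ℂ) = (((n : ℤ) * (k : ℤ) + ε : ℤ) : ℂ) := by
        congr 1
        rw [← hk']
        linarith
      push_cast at this
      exact this
    · simp only [if_neg hβ', add_zero]
      obtain ⟨a, ha⟩ := Cfsg.Agent.Lib.Helper78.IsCharacter.exists_nat_classInner (hψchar β')
        (⟨fun _ => 1, Cfsg.Agent.Lib.Helper78.isIrrCharacter_one⟩ : IrrCharacter S)
      have h1 := hsumψ β' ⟨fun _ => 1, Cfsg.Agent.Lib.Helper78.isIrrCharacter_one⟩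
      rw [ha] at h1
      simp only [map_one, mul_one] at h1
      have h2 : ∑ x ∈ Finset.univ.erase (1 : S), ψ β' x = 0 := by
        apply Finset.sum_eq_zero
        intro x hx
        have hx1 : x ≠ 1 := (Finset.mem_erase.1 hx).1
        rw [hψval β' x hx1, if_neg (fun h => hβ' (by rw [← h, hbx x hx1])), mul_zero]
      rw [h2, add_zero, hψ1 β'] at h1
      exact ⟨a, h1.symm⟩
  choose coef hcoefeq using hcoef
  let ϑ : C → ℂ := ∑ β' : IrrCharacter C, (coef β' : ℂ) • (β' : C → ℂ)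
  have hϑ : IsCharacter C ϑ :=
    (Cfsg.Agent.Lib.Helper78.isCharacter_iff_exists_nat_combination ϑ).2 ⟨coef, rfl⟩
  refine ⟨ε, (μ : S → ℂ), ϑ, hε, Cfsg.Agent.Lib.Helper78.IsIrrCharacter.isCharacter μ.2, hμ1,
    hμsq, ?_, hϑ, ?_⟩
  · intro c x hx
    rw [hvalx x hx c, hbx x hx, hexμ x hx]
    ring
  · intro c
    have h1 := congrFun (Cfsg.Agent.Lib.Helper78.IsCharacter.eq_sum_irr hχC) c
    simp only [Finset.sum_apply, Pi.smul_apply, smul_eq_mul] at h1
    show χC c = _
    rw [h1]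
    simp only [ϑ, Finset.sum_apply, Pi.smul_apply, smul_eq_mul]
    rw [Finset.mul_sum]
    have h2 : (ε : ℂ) * (β : C → ℂ) c =
        ∑ β' : IrrCharacter C, (if β' = β then (ε : ℂ) else 0) * (β' : C → ℂ) c := by
      rw [Finset.sum_eq_single β]
      · rw [if_pos rfl]
      · intro b _ hb
        rw [if_neg hb, zero_mul]
      · intro h
        exact absurd (Finset.mem_univ _) h
    rw [h2, ← Finset.sum_add_distrib]
    apply Finset.sum_congr rfl
    intro β' _
    rw [hcoefeq β']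
    ring

end Cfsg.Agent.Lib.Helper81
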