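import Mathlib
import Cfsg.Prelude.Def_Characters
import Cfsg.Agent.Lib.Helper78.CharMore
import Cfsg.Agent.Lib.Helper81.CoprimeChar
import Cfsg.Agent.Lib.Helper81.GlaubermanP
import Cfsg.Agent.Lib.Helper81.GlaubermanRel
import Cfsg.Agent.Lib.Helper81.GlaubermanOver
import Cfsg.Agent.Lib.Helper81.CliffordDegree
import Cfsg.Agent.Lib.Helper81.IrrTransport

set_option autoImplicit false

namespace Cfsg.Agent.Lib.Helper81

open Cfsg MulAction Cfsg.Agent.Lib.Helper78

universe u v

section Over3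

variable {G : Type u} [Group G] {P : Type v} [Group P] (act : P →* MulAut G) (N : Subgroup G)
  (actN : P →* MulAut N) (hc : ∀ (x : P) (n : N), ((actN x n : N) : G) = act x n)

/-- The fixed subgroup of `N` is `N ∩ C_G(P)`, seen inside `C_G(P)`. -/
def fixSubEquivSubgroupOf : fixSub actN ≃* N.subgroupOf (fixSub act) where
  toFun c := ⟨fixSubIncl act N actN hc c, (c : N).2⟩
  invFun d := ⟨⟨((d : fixSub act) : G), d.2⟩, fun x => by
    apply Subtype.ext
    rw [hc]
    exact (d : fixSub act).2 x⟩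
  left_inv c := rfl
  right_inv d := rfl
  map_mul' a b := rfl

theorem fixSubEquivSubgroupOf_coe (c : fixSub actN) :
    ((fixSubEquivSubgroupOf act N actN hc c : N.subgroupOf (fixSub act)) : fixSub act) =
      fixSubIncl act N actN hc c := rfl

/-- **Lying over transfers back along the Glauberman correspondence** (`p`-group case):
if `χ* = β` lies over `θ* = ψ` then `χ` lies over `θ`. -/
theorem glaub_over_of_over [hNn : N.Normal] [Fintype G] [Fintype N] [Fintype (fixSub act)]
    [Fintype (fixSub actN)] [Fintype (N.subgroupOf (fixSub act))]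
    (p : ℕ) [Fact p.Prime] (hP : IsPGroup p P)
    (hpG : ¬ p ∣ Nat.card G) (χ : IrrCharacter G)
    (hχ : ∀ (x : P) (g : G), (χ : G → ℂ) (act x g) = (χ : G → ℂ) g) (θ : IrrCharacter N)
    (hθ : ∀ (x : P) (n : N), (θ : N → ℂ) (actN x n) = (θ : N → ℂ) n)
    (β : IrrCharacter (fixSub act)) (hβ : GlaubRel act p χ β)
    (ψ : IrrCharacter (fixSub actN)) (hψ : GlaubRel actN p θ ψ)
    (hover : classInner (fun n' : N.subgroupOf (fixSub act) => (β : fixSub act → ℂ) n')
      (irrTransport (fixSubEquivSubgroupOf act N actN hc) ψ :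
        N.subgroupOf (fixSub act) → ℂ) ≠ 0) :
    classInner (fun n : N => (χ : G → ℂ) n) (θ : N → ℂ) ≠ 0 := by
  classical
  have hp := (Fact.out : p.Prime)
  have hχc : IsCharacter G (χ : G → ℂ) := IsIrrCharacter.isCharacter χ.2
  have hχN : IsCharacter N (fun n : N => (χ : G → ℂ) n) := isCharacter_comp hχc N.subtype
  obtain ⟨a, ha⟩ := IsCharacter.exists_nat_classInner hχN θ
  obtain ⟨mχ, hmχ, hpmχ⟩ := hβ
  obtain ⟨mθ, hmθ, hpmθ⟩ := id hψ
  -- `b`
  have hbchar : IsCharacter (N.subgroupOf (fixSub act))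
      (fun n' : N.subgroupOf (fixSub act) => (β : fixSub act → ℂ) n') :=
    isCharacter_comp (IsIrrCharacter.isCharacter β.2) (N.subgroupOf (fixSub act)).subtype
  obtain ⟨b, hb⟩ := IsCharacter.exists_nat_classInner hbchar
    (irrTransport (fixSubEquivSubgroupOf act N actN hc) ψ)
  have hb0 : b ≠ 0 := by
    intro h0
    apply hover
    rw [hb, h0, Nat.cast_zero]
  have hpC : ¬ p ∣ Nat.card (fixSub act) := fun h => hpG (h.trans (card_fixSub_dvd act))
  have hpb : ¬ p ∣ b :=
    not_dvd_of_constituent (N.subgroupOf (fixSub act)) p hpC β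
      (irrTransport (fixSubEquivSubgroupOf act N actN hc) ψ) b hb hb0
  have hb' : classInner (fun c : fixSub actN =>
      (β : fixSub act → ℂ) (fixSubIncl act N actN hc c)) (ψ : fixSub actN → ℂ) = b := by
    rw [← hb]
    exact classInner_irrTransport (fixSubEquivSubgroupOf act N actN hc)
      (fun n' : N.subgroupOf (fixSub act) => (β : fixSub act → ℂ) n') ψ
  have hβuniq : ∀ β' : IrrCharacter (fixSub act), β' ≠ β → ∀ m : ℕ,
      classInner (fun c : fixSub act => (χ : G → ℂ) c) (β' : fixSub act → ℂ) = m → p ∣ m := by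
    intro β' hne m hm
    by_contra hnd
    obtain ⟨β₀, -, huniq⟩ := existsUnique_glaubRel act p hP hpG χ hχ
    have h1 := huniq β' ⟨m, hm, hnd⟩
    have h2 := huniq β ⟨mχ, hmχ, hpmχ⟩
    exact hne (h1.trans h2.symm)
  have hstar := glaub_over_modEq act N actN hc p hP hpG χ hχ θ hθ β ψ hψ a b mχ mθ hβuniq ha hb'
    hmχ hmθ
  intro h0
  have ha0 : a = 0 := by
    rw [ha] at h0
    exact_mod_cast h0
  rw [ha0, zero_mul] at hstar
  have : p ∣ mχ * b := (Nat.modEq_zero_iff_dvd).mp hstar
  rcases hp.dvd_mul.mp this with h | h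
  · exact hpmχ h
  · exact hpb h

end Over3

end Cfsg.Agent.Lib.Helper81
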