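import Mathlib
import Cfsg.Prelude.Def_Characters
import Cfsg.Agent.Lib.Helper72.SolvableNormal
import Cfsg.Agent.Lib.Helper78.CharOrtho
import Cfsg.Agent.Lib.Helper81.CoprimeChar
import Cfsg.Agent.Lib.Helper81.GlaubermanP
import Cfsg.Agent.Lib.Helper81.GlaubermanStep

set_option autoImplicit false

namespace Cfsg.Agent.Lib.Helper81

open Cfsg MulAction

universe u v

/-- **Glauberman count**: a finite solvable group `A` acting coprimely on a finite group `K`
fixes as many irreducible characters as conjugacy classes. -/
theorem card_invIrr_eq_card_invClass_of_isSolvable_aux :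
    ∀ (n : ℕ) (A : Type v) [Group A] [Finite A] (K : Type u) [Group K] [Finite K]
      (act : A →* MulAut K), Nat.card A = n → Group.IsSolvable A →
      (Nat.card K).Coprime (Nat.card A) →
      Nat.card (InvIrr act) = Nat.card (InvClass act) := by
  intro n
  induction n using Nat.strong_induction_on with
  | _ n ih =>
    intro A _ _ K _ _ act hn hsolv hcop
    classical
    rcases subsingleton_or_nontrivial A with hA | hA
    · -- trivial group
      have := Fintype.ofFinite K
      have h1 : ∀ x : A, act x = 1 := by
        intro x
        rw [Subsingleton.elim x 1, map_one]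
      have e1 : InvIrr act ≃ IrrCharacter K :=
        Equiv.subtypeUnivEquiv (fun θ x k => by rw [h1 x]; rfl)
      have e2 : InvClass act ≃ ConjClasses K :=
        Equiv.subtypeUnivEquiv (fun c x => by
          rw [h1 x]
          obtain ⟨k, rfl⟩ := ConjClasses.mk_surjective c
          rfl)
      rw [Nat.card_congr e1, Nat.card_congr e2]
      exact Cfsg.Agent.Lib.Helper78.card_irrCharacter
    · obtain ⟨q, hq, N, hNn, hNbot, hNp⟩ :=
        Cfsg.Agent.Lib.Helper72.exists_normal_pgroup_of_solvable hsolv
      have : Fact q.Prime := ⟨hq⟩
      have hqN : q ∣ Nat.card N := by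
        obtain ⟨k, hk⟩ := hNp.exists_card_eq
        rcases Nat.eq_zero_or_pos k with h0 | h0
        · exfalso
          rw [h0, pow_zero] at hk
          exact hNbot (Subgroup.card_eq_one.mp hk)
        · rw [hk]
          exact dvd_pow_self q h0.ne'
      have hqA : q ∣ Nat.card A := hqN.trans (Subgroup.card_subgroup_dvd_card N)
      have hK : ¬ q ∣ Nat.card K := by
        intro h
        have := Nat.dvd_gcd h hqA
        rw [hcop.gcd_eq_one] at this
        exact hq.one_lt.ne' (Nat.dvd_one.mp this)
      rw [card_invIrr_step act N q hNp hK, card_invClass_step act N q hNp hK]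
      have hcard : Nat.card A = Nat.card (A ⧸ N) * Nat.card N :=
        Subgroup.card_eq_card_quotient_mul_card_subgroup N
      have hNgt : 1 < Nat.card N := by
        have := hq.one_lt
        exact lt_of_lt_of_le this (Nat.le_of_dvd Nat.card_pos hqN)
      have hlt : Nat.card (A ⧸ N) < n := by
        rw [← hn, hcard]
        have hpos : 0 < Nat.card (A ⧸ N) := Nat.card_pos
        nlinarith
      have hsolvQ : Group.IsSolvable (A ⧸ N) := by
        have := hsolv
        infer_instance
      refine ih (Nat.card (A ⧸ N)) hlt (A ⧸ N) (fixSub (act.comp N.subtype)) (actQuot act N) rfl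
        hsolvQ ?_
      apply Nat.Coprime.coprime_dvd_left (card_fixSub_dvd _)
      apply Nat.Coprime.coprime_dvd_right _ hcop
      rw [hcard]
      exact dvd_mul_right _ _

theorem card_invIrr_eq_card_invClass_of_isSolvable {A : Type v} [Group A] [Finite A]
    {K : Type u} [Group K] [Finite K] (act : A →* MulAut K) (hsolv : Group.IsSolvable A)
    (hcop : (Nat.card K).Coprime (Nat.card A)) :
    Nat.card (InvIrr act) = Nat.card (InvClass act) :=
  card_invIrr_eq_card_invClass_of_isSolvable_aux _ A K act rfl hsolv hcop

end Cfsg.Agent.Lib.Helper81
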