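import Mathlib
import Cfsg.Agent.Lib.Helper58.IP26.Defs
import Cfsg.Agent.Lib.Helper36.IP26Ext
import Cfsg.Agent.Lib.Helper80.ItoMichler
import Cfsg.Agent.Lib.Helper80.TwoDeg
import Cfsg.Agent.Lib.Helper80.Gallagher
import Cfsg.Agent.Lib.Helper75.Clifford

/-!
# Project IP26 (helper58): module [BETA]  (helper81, hedge)

If `P` is a nontrivial perfect normal subgroup of `G` then `2 b(C_G(P)) ≤ b(G)`.
-/

set_option autoImplicit false
set_option linter.style.haveILetI false

namespace Cfsg.Agent.Lib.Helper81.IP26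

open Cfsg Cfsg.Agent.Lib Cfsg.Agent.Lib.Helper58.IP26
open scoped commutatorElement

universe u

/-- Clifford: the degree of an irreducible constituent of the restriction to a normal subgroup
divides the degree. -/
theorem charDegree_constituent_dvd' {G : Type u} [Group G] [Fintype G] (K : Subgroup G)
    [hK : K.Normal] [Fintype K] {χ : G → ℂ} (hχ : IsIrrCharacter G χ) {θ : K → ℂ}
    (hθ : IsIrrCharacter K θ) (hconst : classInner (fun n : K => χ n) θ ≠ 0) :
    charDegree θ ∣ charDegree χ := by
  classical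
  have hres : IsCharacter K (fun n : K => χ n) :=
    Helper80.isCharacter_restrict K (Helper78.IsIrrCharacter.isCharacter hχ)
  obtain ⟨e, he⟩ := Helper78.IsCharacter.exists_nat_classInner hres ⟨θ, hθ⟩
  have hfin := Helper75.clifford_finset K hχ hθ hconst
  have h1 := congrFun hfin 1
  simp only [Pi.smul_apply, Finset.sum_apply, smul_eq_mul] at h1
  have h2 : ∀ φ ∈ Helper75.conjOrbit K θ, (φ : K → ℂ) 1 = (charDegree θ : ℂ) := by
    intro φ hφ
    obtain ⟨g, hg⟩ := (Helper75.mem_conjOrbit K).mp hφ
    rw [← hg, Helper75.conjFun_apply]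
    have : (⟨g * ((1 : K) : G) * g⁻¹, hK.conj_mem _ (1 : K).2 g⟩ : K) = 1 := by
      apply Subtype.ext
      simp
    rw [this]
    exact Helper78.IsCharacter.apply_one_eq_charDegree (Helper78.IsIrrCharacter.isCharacter hθ)
  rw [Finset.sum_congr rfl h2, Finset.sum_const, nsmul_eq_mul] at h1
  have h3 : χ ((1 : K) : G) = (charDegree χ : ℂ) := by
    rw [OneMemClass.coe_one]
    exact Helper78.IsCharacter.apply_one_eq_charDegree (Helper78.IsIrrCharacter.isCharacter hχ)
  have he' : classInner (fun n : K => χ n) θ = (e : ℂ) := he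
  rw [h3, he'] at h1
  have h4 : charDegree χ = e * ((Helper75.conjOrbit K θ).card * charDegree θ) := by
    exact_mod_cast h1
  exact ⟨e * (Helper75.conjOrbit K θ).card, by rw [h4]; ring⟩

/-- auxiliary form of [BETA] with the centralizer as a variable -/
theorem two_mul_degree_le_of_perfect_aux {G : Type u} [Group G] [Finite G] {b : ℕ}
    (hb : IsMaxDeg G b) (P : Subgroup G)
    (hperf : ⁅P, P⁆ = P) (hP : P ≠ ⊥) (C : Subgroup G) [hCn : C.Normal]
    (hC : C = Subgroup.centralizer (P : Set G))
    (η : IrrCharacter C) :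
    2 * charDegree (η : C → ℂ) ≤ b := by
  classical
  letI : Fintype G := Fintype.ofFinite G
  letI : Fintype C := Fintype.ofFinite C
  letI : Fintype (G ⧸ C) := Fintype.ofFinite (G ⧸ C)
  -- `G / C` is not abelian
  have hnab : ¬ (∀ x y : G ⧸ C, x * y = y * x) := by
    intro hab
    apply hP
    have hGC : commutator G ≤ C := by
      rw [commutator_def, Subgroup.commutator_le]
      intro g₁ _ g₂ _
      rw [← QuotientGroup.eq_one_iff]
      show (QuotientGroup.mk' C) ⁅g₁, g₂⁆ = 1
      rw [map_commutatorElement, commutatorElement_eq_one_iff_commute]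
      exact hab _ _
    have hPC : P ≤ C := by
      calc P = ⁅P, P⁆ := hperf.symm
        _ ≤ ⁅(⊤ : Subgroup G), ⊤⁆ := Subgroup.commutator_mono le_top le_top
        _ = commutator G := (commutator_def G).symm
        _ ≤ C := hGC
    have hbot : ⁅P, P⁆ = ⊥ := by
      rw [Subgroup.commutator_eq_bot_iff_le_centralizer, ← hC]
      exact hPC
    rw [← hperf, hbot]
  -- a nonlinear character of `G / C`
  have hβ : ∃ β : IrrCharacter (G ⧸ C), 2 ≤ charDegree (β : G ⧸ C → ℂ) := by
    by_contra hcon
    push Not at hcon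
    apply hnab
    apply Helper80.commutative_of_forall_charDegree_eq_one
    intro β
    have h1 := hcon β
    have h2 : 0 < charDegree (β : G ⧸ C → ℂ) := Helper80.charDegree_pos_of_isIrr β.2
    omega
  obtain ⟨β, hβ2⟩ := hβ
  -- a character of `G` over `η`
  obtain ⟨χ, hχ, hne⟩ := Helper80.exists_irr_over' C η.2
  have hdvd := charDegree_constituent_dvd' C hχ η.2 hne
  have hηpos : 0 < charDegree (η : C → ℂ) := Helper80.charDegree_pos_of_isIrr η.2
  have hχpos : 0 < charDegree χ := Helper80.charDegree_pos_of_isIrr hχ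
  have hχb : charDegree χ ≤ b := hb.le ⟨χ, hχ⟩
  obtain ⟨m, hm⟩ := hdvd
  rcases Nat.lt_or_ge m 2 with hm2 | hm2
  · -- `χ_C = η`
    have hm1 : m = 1 := by
      rcases Nat.eq_zero_or_pos m with h0 | h0
      · rw [h0, mul_zero] at hm; omega
      · omega
    rw [hm1, mul_one] at hm
    have hres : IsCharacter C (fun n : C => χ n) :=
      Helper80.isCharacter_restrict C (Helper78.IsIrrCharacter.isCharacter hχ)
    have hdeg : (fun n : C => χ n) 1 = (η : C → ℂ) 1 := by
      show χ ((1 : C) : G) = _
      rw [Subgroup.coe_one, Helper80.char_one_eq_charDegree (Helper78.IsIrrCharacter.isCharacter hχ),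
        Helper80.char_one_eq_charDegree (Helper78.IsIrrCharacter.isCharacter η.2), hm]
    have hresη := Helper80.eq_of_constituent_of_degree_eq hres η.2 hne hdeg
    have hχC : IsIrrCharacter C (fun n : C => χ n) := by
      rw [hresη]; exact η.2
    have hirr := Helper80.gallagher_irr C hχ hχC β
    have hdeg2 : charDegree (Helper80.infl C β * χ) = charDegree (β : G ⧸ C → ℂ) * charDegree χ := by
      apply Helper80.charDegree_natCast
      rw [Pi.mul_apply]
      show ((Helper77.inflate C β : IrrCharacter G) : G → ℂ) 1 * _ = _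
      rw [Helper77.inflate_apply, QuotientGroup.mk_one,
        Helper80.char_one_eq_charDegree (Helper78.IsIrrCharacter.isCharacter β.2),
        Helper80.char_one_eq_charDegree (Helper78.IsIrrCharacter.isCharacter hχ)]
      push_cast
      ring
    have hle := hb.le ⟨_, hirr⟩
    rw [hdeg2, hm] at hle
    calc 2 * charDegree (η : C → ℂ) ≤ charDegree (β : G ⧸ C → ℂ) * charDegree (η : C → ℂ) :=
          Nat.mul_le_mul_right _ hβ2
      _ ≤ b := hle
  · calc 2 * charDegree (η : C → ℂ) ≤ m * charDegree (η : C → ℂ) := Nat.mul_le_mul_right _ hm2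
      _ = charDegree χ := by rw [hm]; ring
      _ ≤ b := hχb

/-- IP26-[BETA]: if `P` is a perfect nontrivial normal subgroup then `2 b(C_G(P)) ≤ b(G)`. -/
theorem two_mul_degree_le_of_perfect {G : Type u} [Group G] [Finite G] {b : ℕ}
    (hb : IsMaxDeg G b) (P : Subgroup G) [P.Normal]
    (hperf : ⁅P, P⁆ = P) (hP : P ≠ ⊥)
    (η : IrrCharacter (Subgroup.centralizer (P : Set G))) :
    2 * charDegree (η : Subgroup.centralizer (P : Set G) → ℂ) ≤ b :=
  two_mul_degree_le_of_perfect_aux hb P hperf hP (Subgroup.centralizer (P : Set G))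
    (hCn := Subgroup.normal_centralizer) rfl η

end Cfsg.Agent.Lib.Helper81.IP26
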