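import Mathlib
import Cfsg.Agent.Lib.Helper58.IP26.Defs
import Cfsg.Agent.Lib.Helper36.IP26Ext
import Cfsg.Agent.Lib.Helper80.ItoMichler

/-!
# Project IP26 (helper58): module [PERF]  (helper81, hedge)

A group with a nontrivial perfect subgroup has an irreducible character of degree `≥ 3`.
-/

set_option autoImplicit false
set_option linter.style.haveILetI false

namespace Cfsg.Agent.Lib.Helper81.IP26

open Cfsg Cfsg.Agent.Lib Cfsg.Agent.Lib.Helper58.IP26
open scoped commutatorElement

universe u

/-- a finite perfect nontrivial group has an irreducible character of degree at least three -/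
theorem exists_three_le_degree_of_perfect {P : Type u} [Group P] [Finite P]
    (hperf : commutator P = ⊤) (hP : Nontrivial P) :
    ∃ χ : IrrCharacter P, 3 ≤ charDegree (χ : P → ℂ) := by
  classical
  letI : Fintype P := Fintype.ofFinite P
  by_contra hcon
  push Not at hcon
  have hle : ∀ χ : IrrCharacter P, charDegree (χ : P → ℂ) ≤ 2 := fun χ => by
    have := hcon χ; omega
  have hpos : ∀ χ : IrrCharacter P, 0 < charDegree (χ : P → ℂ) := fun χ =>
    Helper80.charDegree_pos_of_isIrr χ.2
  -- exactly one linear character
  have hlin : Nat.card {χ : IrrCharacter P // (χ : P → ℂ) 1 = 1} = 1 := by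
    rw [Helper77.card_linear_characters, hperf, Subgroup.index_top]
  have hcard : Nat.card {χ : IrrCharacter P // (χ : P → ℂ) 1 = 1} =
      (Finset.univ.filter (fun χ : IrrCharacter P => charDegree (χ : P → ℂ) = 1)).card := by
    rw [Nat.card_eq_fintype_card, Fintype.card_subtype]
    congr 1
    ext χ
    simp only [Finset.mem_filter, Finset.mem_univ, true_and]
    rw [Helper78.IsCharacter.apply_one_eq_charDegree (Helper78.IsIrrCharacter.isCharacter χ.2)]
    exact_mod_cast Iff.rfl
  have hlin' : (Finset.univ.filter (fun χ : IrrCharacter P => charDegree (χ : P → ℂ) = 1)).card = 1 := by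
    rw [← hcard, hlin]
  -- the order is odd
  have hsum := Helper78.sum_irr_charDegree_sq (G := P)
  have hodd : Nat.card P % 2 = 1 := by
    rw [← hsum, Finset.sum_nat_mod]
    have : ∀ χ : IrrCharacter P, charDegree (χ : P → ℂ) ^ 2 % 2 =
        if charDegree (χ : P → ℂ) = 1 then 1 else 0 := by
      intro χ
      have h1 := hle χ
      have h2 := hpos χ
      interval_cases h : charDegree (χ : P → ℂ) <;> simp
    rw [Finset.sum_congr rfl (fun χ _ => this χ), Finset.sum_ite, Finset.sum_const_zero,
      Finset.sum_const, hlin']
    simp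
  -- there is a nonlinear character
  have hnl : ∃ χ : IrrCharacter P, charDegree (χ : P → ℂ) ≠ 1 := by
    by_contra hall
    push Not at hall
    have hcomm := Helper80.commutative_of_forall_charDegree_eq_one hall
    obtain ⟨x, y, hxy⟩ := hP
    have hbot : commutator P = ⊥ := by
      rw [commutator_def, Subgroup.commutator_eq_bot_iff_le_centralizer]
      intro a _
      rw [Subgroup.mem_centralizer_iff]
      intro c _
      exact hcomm c a
    rw [hbot] at hperf
    have hx : x ∈ (⊥ : Subgroup P) := hperf ▸ Subgroup.mem_top x
    have hy : y ∈ (⊥ : Subgroup P) := hperf ▸ Subgroup.mem_top y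
    rw [Subgroup.mem_bot] at hx hy
    exact hxy (hx.trans hy.symm)
  obtain ⟨χ, hχ⟩ := hnl
  have h2 : charDegree (χ : P → ℂ) = 2 := by
    have h1 := hle χ
    have h3 := hpos χ
    omega
  have hdvd := Helper79.irr_charDegree_dvd_card χ
  rw [h2] at hdvd
  omega

/-- IP26-[PERF]: a group with a perfect nontrivial subgroup has a character of degree `≥ 3`. -/
theorem three_le_of_perfect {G : Type u} [Group G] [Finite G] {b : ℕ}
    (hb : IsMaxDeg G b) (P : Subgroup G)
    (hperf : ⁅P, P⁆ = P) (hP : P ≠ ⊥) : 3 ≤ b := by
  have hcomm : commutator P = ⊤ := by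
    have hinj : Function.Injective (P.subtype) := P.subtype_injective
    apply Subgroup.map_injective hinj
    rw [commutator_def, Subgroup.map_commutator, ← MonoidHom.range_eq_map, Subgroup.range_subtype,
      hperf]
  have hnt : Nontrivial P := by
    rw [← Subgroup.nontrivial_iff_ne_bot] at hP
    exact hP
  obtain ⟨χ, hχ⟩ := exists_three_le_degree_of_perfect hcomm hnt
  exact hχ.trans (degree_le_of_subgroup hb P χ)

end Cfsg.Agent.Lib.Helper81.IP26
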