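import Mathlib

/-!
# Fourier analysis on a finite abelian group, for the `k(GV)` lattice lemma (helper81)

Characters are the homomorphisms `H →* ℂˣ`.  `IntCoeff ξ`: all Fourier coefficients of `ξ` are
integers.  `Good w c`: `c ≤ ∑ h, w h * ‖ξ h‖ ^ 2` for every nonzero `ξ` with integral coefficients.
-/

set_option autoImplicit false
set_option linter.unusedSectionVars false
set_option linter.style.haveILetI false

namespace Cfsg.Agent.Lib.Helper81.KGV

open scoped ComplexConjugate

universe u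

section Dual

variable {H : Type u} [CommGroup H] [Fintype H]

theorem hasEnough (H : Type u) [CommGroup H] [Finite H] :
    HasEnoughRootsOfUnity ℂ (Monoid.exponent H) := by
  haveI : NeZero ((Monoid.exponent H : ℕ) : ℂ) :=
    ⟨by exact_mod_cast Monoid.exponent_ne_zero_of_finite⟩
  infer_instance

theorem finite_dual (H : Type u) [CommGroup H] [Finite H] : Finite (H →* ℂˣ) := by
  haveI := hasEnough H
  have h := CommGroup.card_monoidHom_of_hasEnoughRootsOfUnity H ℂ
  apply Nat.finite_of_card_ne_zero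
  rw [h]
  exact Nat.card_pos.ne'

theorem card_dual (H : Type u) [CommGroup H] [Finite H] :
    Nat.card (H →* ℂˣ) = Nat.card H := by
  haveI := hasEnough H
  exact CommGroup.card_monoidHom_of_hasEnoughRootsOfUnity H ℂ

theorem norm_hom (φ : H →* ℂˣ) (h : H) : ‖((φ h : ℂˣ) : ℂ)‖ = 1 := by
  have h1 : ((φ h : ℂˣ) : ℂ) ^ Fintype.card H = 1 := by
    rw [← Units.val_pow_eq_pow_val, ← map_pow, pow_card_eq_one, map_one, Units.val_one]
  exact Complex.norm_eq_one_of_pow_eq_one h1 Fintype.card_ne_zero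

theorem conj_hom (φ : H →* ℂˣ) (h : H) :
    conj ((φ h : ℂˣ) : ℂ) = ((φ h⁻¹ : ℂˣ) : ℂ) := by
  rw [map_inv, Units.val_inv_eq_inv_val, Complex.inv_eq_conj (norm_hom φ h)]

theorem hom_mul_conj (φ : H →* ℂˣ) (h : H) :
    ((φ h : ℂˣ) : ℂ) * conj ((φ h : ℂˣ) : ℂ) = 1 := by
  rw [Complex.mul_conj, Complex.normSq_eq_norm_sq, norm_hom]
  simp

/-- row orthogonality -/
theorem sum_hom_mul_conj_self (a : H →* ℂˣ) :
    ∑ h, ((a h : ℂˣ) : ℂ) * conj ((a h : ℂˣ) : ℂ) = (Nat.card H : ℂ) := by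
  simp only [hom_mul_conj]
  simp [Nat.card_eq_fintype_card]

/-- row orthogonality -/
theorem sum_hom_mul_conj_of_ne {a b : H →* ℂˣ} (hab : a ≠ b) :
    ∑ h, ((a h : ℂˣ) : ℂ) * conj ((b h : ℂˣ) : ℂ) = 0 := by
  classical
  · have hne : (Units.coeHom ℂ).comp (a * b⁻¹) ≠ 1 := by
      intro h1
      apply hab
      ext h
      have h2 := DFunLike.congr_fun h1 h
      simp only [MonoidHom.coe_comp, Function.comp_apply, MonoidHom.mul_apply,
        MonoidHom.inv_apply, Units.coeHom_apply, MonoidHom.one_apply] at h2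
      have h3 : a h * (b h)⁻¹ = 1 := Units.ext h2
      have h4 : a h = b h := by
        rw [mul_inv_eq_one] at h3
        exact h3
      rw [h4]
    have h0 := sum_hom_units_eq_zero ((Units.coeHom ℂ).comp (a * b⁻¹)) hne
    rw [← h0]
    apply Finset.sum_congr rfl
    intro h _
    simp only [MonoidHom.coe_comp, Function.comp_apply, MonoidHom.mul_apply,
      MonoidHom.inv_apply, Units.coeHom_apply, Units.val_mul]
    rw [conj_hom, map_inv]

/-- column orthogonality -/
theorem sum_dual_mul_conj_self [Fintype (H →* ℂˣ)] (h : H) :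
    ∑ a : H →* ℂˣ, ((a h : ℂˣ) : ℂ) * conj ((a h : ℂˣ) : ℂ) = (Nat.card H : ℂ) := by
  simp only [hom_mul_conj]
  simp only [Finset.sum_const, Finset.card_univ, nsmul_eq_mul, mul_one]
  rw [← Nat.card_eq_fintype_card, card_dual]

/-- column orthogonality -/
theorem sum_dual_mul_conj_of_ne [Fintype (H →* ℂˣ)] {h g : H} (hhg : h ≠ g) :
    ∑ a : H →* ℂˣ, ((a h : ℂˣ) : ℂ) * conj ((a g : ℂˣ) : ℂ) = 0 := by
  classical
  · haveI := hasEnough H
    have hx : h * g⁻¹ ≠ 1 := by
      intro h1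
      exact hhg (mul_inv_eq_one.mp h1)
    obtain ⟨φ₀, hφ₀⟩ := CommGroup.exists_apply_ne_one_of_hasEnoughRootsOfUnity H ℂ hx
    let ev : (H →* ℂˣ) →* ℂ :=
      (Units.coeHom ℂ).comp (MonoidHom.eval (h * g⁻¹))
    have hne : ev ≠ 1 := by
      intro h1
      apply hφ₀
      have h2 := DFunLike.congr_fun h1 φ₀
      exact Units.ext h2
    have h0 := sum_hom_units_eq_zero ev hne
    rw [← h0]
    apply Finset.sum_congr rfl
    intro a _
    show _ = ((a (h * g⁻¹) : ℂˣ) : ℂ)
    rw [conj_hom, map_mul, Units.val_mul]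

end Dual

end Cfsg.Agent.Lib.Helper81.KGV
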