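import Mathlib
import Cfsg.Agent.Lib.Helper81.KGVFourier

/-!
# The lattice lemma, abstract steps (helper81)

* `IntCoeff ξ`: the Fourier coefficients of `ξ : H → ℂ` are integers.
* `Good w c`: `c ≤ ∑ h, w h * ‖ξ h‖ ^ 2` for all nonzero `ξ` with integral coefficients.
* `good_of_subsingleton`, `Good.mono`, `Good.comp_injective` (restriction to a subgroup),
  `Good.prod` (the slicing step).
-/

set_option autoImplicit false
set_option linter.unusedSectionVars false
set_option linter.style.haveILetI false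

namespace Cfsg.Agent.Lib.Helper81.KGV

open scoped ComplexConjugate

universe u

section Defs

variable {H : Type u} [CommGroup H] [Fintype H]

/-- integrality of the Fourier coefficients -/
def IntCoeff (ξ : H → ℂ) : Prop :=
  ∀ φ : H →* ℂˣ, ∃ k : ℤ, ∑ h, ξ h * conj ((φ h : ℂˣ) : ℂ) = (Nat.card H : ℂ) * k

/-- the weight `w` has minimum at least `c` on the nonzero functions with integral coefficients -/
def Good (w : H → ℝ) (c : ℝ) : Prop :=
  ∀ ξ : H → ℂ, IntCoeff ξ → ξ ≠ 0 → c ≤ ∑ h, w h * ‖ξ h‖ ^ 2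

theorem IntCoeff.sub {ξ η : H → ℂ} (hξ : IntCoeff ξ) (hη : IntCoeff η) : IntCoeff (ξ - η) := by
  intro φ
  obtain ⟨k, hk⟩ := hξ φ
  obtain ⟨l, hl⟩ := hη φ
  refine ⟨k - l, ?_⟩
  simp only [Pi.sub_apply, sub_mul, Finset.sum_sub_distrib, hk, hl]
  push_cast
  ring

theorem Good.mono {w w' : H → ℝ} {c : ℝ} (h : Good w c) (hw : ∀ x, w x ≤ w' x) : Good w' c := by
  intro ξ hξ hne
  refine (h ξ hξ hne).trans ?_
  apply Finset.sum_le_sum
  intro x _
  exact mul_le_mul_of_nonneg_right (hw x) (by positivity)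

theorem good_of_subsingleton [Subsingleton H] : Good (fun _ : H => (1 : ℝ)) 1 := by
  intro ξ hξ hne
  have h1 : ξ 1 ≠ 0 := by
    intro h0
    apply hne
    funext x
    rw [Subsingleton.elim x 1, h0]
    rfl
  obtain ⟨k, hk⟩ := hξ 1
  have huniv : (Finset.univ : Finset H) = {1} := by
    ext x
    simp [Subsingleton.elim x 1]
  have hcard : Nat.card H = 1 := by
    rw [Nat.card_eq_fintype_card, Fintype.card_eq_one_iff]
    exact ⟨1, fun x => Subsingleton.elim x 1⟩
  rw [huniv, Finset.sum_singleton, hcard] at hk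
  simp only [Units.val_one, map_one, mul_one, Nat.cast_one, one_mul] at hk
  rw [huniv, Finset.sum_singleton, one_mul, hk]
  have hk0 : k ≠ 0 := by
    intro h0
    apply h1
    rw [hk, h0]
    simp
  have h2 : (1 : ℝ) ≤ |(k : ℝ)| := by
    have : (1 : ℤ) ≤ |k| := Int.one_le_abs hk0
    exact_mod_cast this
  rw [Complex.norm_intCast]
  nlinarith [abs_nonneg (k : ℝ)]

end Defs

section Fourier

variable {H : Type u} [CommGroup H] [Fintype H] [Fintype (H →* ℂˣ)]

/-- the Fourier coefficient -/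
noncomputable def coef (F : H → ℂ) (a : H →* ℂˣ) : ℂ :=
  (Nat.card H : ℂ)⁻¹ * ∑ h, conj ((a h : ℂˣ) : ℂ) * F h

theorem card_ne_zero' : (Nat.card H : ℂ) ≠ 0 := by
  have : Nat.card H ≠ 0 := Nat.card_pos.ne'
  exact_mod_cast this

/-- Fourier inversion -/
theorem inversion (F : H → ℂ) (h : H) : ∑ a : H →* ℂˣ, ((a h : ℂˣ) : ℂ) * coef F a = F h := by
  classical
  unfold coef
  have h1 : ∀ a : H →* ℂˣ, ((a h : ℂˣ) : ℂ) * ((Nat.card H : ℂ)⁻¹ *
      ∑ g, conj ((a g : ℂˣ) : ℂ) * F g) =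
      (Nat.card H : ℂ)⁻¹ * ∑ g, F g * (((a h : ℂˣ) : ℂ) * conj ((a g : ℂˣ) : ℂ)) := by
    intro a
    rw [Finset.mul_sum, Finset.mul_sum, Finset.mul_sum]
    apply Finset.sum_congr rfl
    intro g _
    ring
  simp only [h1]
  rw [← Finset.mul_sum, Finset.sum_comm]
  simp only [← Finset.mul_sum]
  have h2 : ∀ g : H, F g * ∑ a : H →* ℂˣ, ((a h : ℂˣ) : ℂ) * conj ((a g : ℂˣ) : ℂ) =
      if g = h then F h * (Nat.card H : ℂ) else 0 := by
    intro g
    split_ifs with hg
    · subst hg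
      rw [sum_dual_mul_conj_self]
    · rw [sum_dual_mul_conj_of_ne (Ne.symm hg), mul_zero]
  simp only [h2]
  rw [Finset.sum_ite_eq' Finset.univ h]
  simp only [Finset.mem_univ, if_true]
  field_simp [card_ne_zero' (H := H)]

/-- Plancherel -/
theorem plancherel (F : H → ℂ) :
    ∑ a : H →* ℂˣ, ‖coef F a‖ ^ 2 = (Nat.card H : ℝ)⁻¹ * ∑ h, ‖F h‖ ^ 2 := by
  classical
  have hC : ((∑ a : H →* ℂˣ, ‖coef F a‖ ^ 2 : ℝ) : ℂ) =
      (((Nat.card H : ℝ)⁻¹ * ∑ h, ‖F h‖ ^ 2 : ℝ) : ℂ) := by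
    push_cast
    have e1 : ∀ a : H →* ℂˣ, ((‖coef F a‖ : ℂ)) ^ 2 = conj (coef F a) * coef F a := by
      intro a
      rw [mul_comm, Complex.mul_conj, Complex.normSq_eq_norm_sq]
      push_cast
      rfl
    have e2 : ∀ h : H, ((‖F h‖ : ℂ)) ^ 2 = conj (F h) * F h := by
      intro h
      rw [mul_comm, Complex.mul_conj, Complex.normSq_eq_norm_sq]
      push_cast
      rfl
    simp only [e1, e2]
    -- expand one factor
    have e0 : ∀ a : H →* ℂˣ, conj (coef F a) =
        (Nat.card H : ℂ)⁻¹ * ∑ h, conj (F h) * ((a h : ℂˣ) : ℂ) := by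
      intro a
      unfold coef
      rw [map_mul, map_inv₀, Complex.conj_natCast, map_sum]
      congr 1
      apply Finset.sum_congr rfl
      intro h _
      rw [map_mul, Complex.conj_conj]
      ring
    have e3 : ∀ a : H →* ℂˣ, conj (coef F a) * coef F a =
        (Nat.card H : ℂ)⁻¹ * ∑ h, conj (F h) * (((a h : ℂˣ) : ℂ) * coef F a) := by
      intro a
      rw [e0, mul_assoc, Finset.sum_mul]
      congr 1
      apply Finset.sum_congr rfl
      intro h _
      ring
    simp only [e3]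
    rw [← Finset.mul_sum, Finset.sum_comm]
    congr 1
    apply Finset.sum_congr rfl
    intro h _
    rw [← Finset.mul_sum, inversion]
  exact_mod_cast hC

end Fourier

end Cfsg.Agent.Lib.Helper81.KGV
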