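import Mathlib
import Cfsg.Agent.Lib.Helper81.KGVLattice

/-!
# The lattice lemma: restriction to a subgroup and the slicing step (helper81)
-/

set_option autoImplicit false
set_option linter.unusedSectionVars false
set_option linter.style.haveILetI false
set_option maxHeartbeats 400000

namespace Cfsg.Agent.Lib.Helper81.KGV

open scoped ComplexConjugate

universe u

section Restrict

variable {H H' : Type u} [CommGroup H] [Fintype H] [CommGroup H'] [Fintype H']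

theorem sum_eq_sum_comp_of_injective {M : Type*} [AddCommMonoid M] (ι : H → H')
    (hι : Function.Injective ι) (f : H' → M) (hf : ∀ t, (¬ ∃ h, ι h = t) → f t = 0) :
    ∑ t, f t = ∑ h, f (ι h) := by
  classical
  rw [← Finset.sum_image (s := Finset.univ) (g := ι) (f := f) (fun a _ b _ hab => hι hab)]
  symm
  apply Finset.sum_subset (Finset.subset_univ _)
  intro t _ ht
  apply hf
  rintro ⟨h, rfl⟩
  exact ht (Finset.mem_image_of_mem ι (Finset.mem_univ h))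

/-- restriction to a subgroup -/
theorem Good.comp_injective (ι : H →* H') (hι : Function.Injective ι) {w : H' → ℝ} {c : ℝ}
    (hg : Good w c) :
    Good (fun h => w (ι h)) (c * ((Nat.card H : ℝ) / (Nat.card H' : ℝ)) ^ 2) := by
  classical
  intro ξ hξ hne
  have hH : (Nat.card H : ℝ) ≠ 0 := by
    have : Nat.card H ≠ 0 := Nat.card_pos.ne'
    exact_mod_cast this
  have hH' : (Nat.card H' : ℝ) ≠ 0 := by
    have : Nat.card H' ≠ 0 := Nat.card_pos.ne'
    exact_mod_cast this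
  have hHc : (Nat.card H : ℂ) ≠ 0 := by exact_mod_cast hH
  have hH'c : (Nat.card H' : ℂ) ≠ 0 := by exact_mod_cast hH'
  let r : ℂ := (Nat.card H' : ℂ) / (Nat.card H : ℂ)
  let ξ' : H' → ℂ := fun t => if ht : ∃ h, ι h = t then r * ξ ht.choose else 0
  have hξ'ι : ∀ h, ξ' (ι h) = r * ξ h := by
    intro h
    have ht : ∃ h', ι h' = ι h := ⟨h, rfl⟩
    show (if ht : ∃ h', ι h' = ι h then r * ξ ht.choose else 0) = _
    rw [dif_pos ht, hι ht.choose_spec]
  have hξ'0 : ∀ t, (¬ ∃ h, ι h = t) → ξ' t = 0 := by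
    intro t ht
    show (if ht : ∃ h, ι h = t then r * ξ ht.choose else 0) = _
    rw [dif_neg ht]
  have hint : IntCoeff ξ' := by
    intro φ
    obtain ⟨k, hk⟩ := hξ (φ.comp ι)
    refine ⟨k, ?_⟩
    rw [sum_eq_sum_comp_of_injective ι hι (fun t => ξ' t * conj ((φ t : ℂˣ) : ℂ))
      (fun t ht => by simp only [hξ'0 t ht, zero_mul])]
    simp only [hξ'ι, mul_assoc]
    rw [← Finset.mul_sum]
    have : ∑ h, ξ h * conj ((φ (ι h) : ℂˣ) : ℂ) = (Nat.card H : ℂ) * k := hk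
    rw [this]
    show (Nat.card H' : ℂ) / (Nat.card H : ℂ) * ((Nat.card H : ℂ) * k) = _
    field_simp
  have hne' : ξ' ≠ 0 := by
    intro h0
    apply hne
    funext h
    have h1 := congrFun h0 (ι h)
    rw [hξ'ι] at h1
    have hr : r ≠ 0 := div_ne_zero hH'c hHc
    exact (mul_eq_zero.mp h1).resolve_left hr
  have h1 := hg ξ' hint hne'
  rw [sum_eq_sum_comp_of_injective ι hι (fun t => w t * ‖ξ' t‖ ^ 2)
    (fun t ht => by simp only [hξ'0 t ht, norm_zero]; ring)] at h1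
  have hnorm : ∀ h, ‖ξ' (ι h)‖ ^ 2 = ((Nat.card H' : ℝ) / (Nat.card H : ℝ)) ^ 2 * ‖ξ h‖ ^ 2 := by
    intro h
    rw [hξ'ι, norm_mul, mul_pow]
    congr 1
    show ‖(Nat.card H' : ℂ) / (Nat.card H : ℂ)‖ ^ 2 = _
    rw [norm_div, Complex.norm_natCast, Complex.norm_natCast]
  simp only [hnorm] at h1
  have h2 : ∑ h, w (ι h) * (((Nat.card H' : ℝ) / (Nat.card H : ℝ)) ^ 2 * ‖ξ h‖ ^ 2) =
      ((Nat.card H' : ℝ) / (Nat.card H : ℝ)) ^ 2 * ∑ h, w (ι h) * ‖ξ h‖ ^ 2 := by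
    rw [Finset.mul_sum]
    apply Finset.sum_congr rfl
    intro h _
    ring
  rw [h2] at h1
  have h3 : ((Nat.card H : ℝ) / (Nat.card H' : ℝ)) ^ 2 *
      (((Nat.card H' : ℝ) / (Nat.card H : ℝ)) ^ 2) = 1 := by
    field_simp
  calc c * ((Nat.card H : ℝ) / (Nat.card H' : ℝ)) ^ 2
      ≤ (((Nat.card H' : ℝ) / (Nat.card H : ℝ)) ^ 2 * ∑ h, w (ι h) * ‖ξ h‖ ^ 2) *
          ((Nat.card H : ℝ) / (Nat.card H' : ℝ)) ^ 2 :=
        mul_le_mul_of_nonneg_right h1 (by positivity)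
    _ = ∑ h, w (ι h) * ‖ξ h‖ ^ 2 := by
        rw [mul_comm, ← mul_assoc, h3, one_mul]

end Restrict

section Prod

variable {H₁ H' : Type u} [CommGroup H₁] [Fintype H₁] [CommGroup H'] [Fintype H']

open Classical in
/-- the weight of an irreducible summand: `1` at the identity, `N` elsewhere -/
noncomputable def w1 (N : ℝ) (x : H₁) : ℝ := if x = 1 then 1 else N

open Classical in
theorem sum_w1_mul (N : ℝ) (f : H₁ → ℝ) :
    ∑ x, w1 N x * f x = N * ∑ x, f x - (N - 1) * f 1 := by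
  have h1 : ∀ x : H₁, w1 N x * f x = N * f x - (if x = 1 then (N - 1) * f 1 else 0) := by
    intro x
    unfold w1
    split_ifs with hx
    · subst hx; ring
    · ring
  simp only [h1, Finset.sum_sub_distrib, ← Finset.mul_sum]
  rw [Finset.sum_ite_eq' Finset.univ (1 : H₁)]
  simp

/-- the arithmetic of the slicing step -/
theorem slicing_arith {n s N A B : ℝ} (hs1 : 1 ≤ s) (hsn : s ≤ n) (hN : n + 1 ≤ N) (hA : 0 ≤ A)
    (hB : B ≤ s * A) : n * (n - s + 1) * A ≤ N * (n * A) - (N - 1) * B := by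
  have h1 : 0 ≤ N - 1 := by linarith
  have h2 : (N - 1) * B ≤ (N - 1) * (s * A) := mul_le_mul_of_nonneg_left hB h1
  have h3 : n * (n - s + 1) * A ≤ N * (n * A) - (N - 1) * (s * A) := by
    have h4 : N * (n * A) - (N - 1) * (s * A) - n * (n - s + 1) * A =
        (N - (n + 1)) * (n - s) * A := by ring
    have h5 : 0 ≤ (N - (n + 1)) * (n - s) * A :=
      mul_nonneg (mul_nonneg (by linarith) (by linarith)) hA
    linarith
  linarith

/-- **The slicing step.** -/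
theorem Good.prod {w' : H' → ℝ} {c : ℝ} (hw' : ∀ x, 0 ≤ w' x) (hc : 0 ≤ c) (hg : Good w' c)
    (N : ℝ) (hN : (Nat.card H₁ : ℝ) + 1 ≤ N) :
    Good (fun x : H₁ × H' => w1 N x.1 * w' x.2) (c * (Nat.card H₁ : ℝ) ^ 2) := by
  classical
  haveI : Finite (H₁ →* ℂˣ) := finite_dual H₁
  letI : Fintype (H₁ →* ℂˣ) := Fintype.ofFinite _
  intro ξ hξ hne
  set n : ℝ := (Nat.card H₁ : ℝ) with hn
  have hn0 : (Nat.card H₁ : ℂ) ≠ 0 := card_ne_zero' (H := H₁)
  -- the slices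
  let sl : (H₁ →* ℂˣ) → H' → ℂ := fun a h' => coef (fun h₁ => ξ (h₁, h')) a
  have hsl_int : ∀ a, IntCoeff (sl a) := by
    intro a b
    obtain ⟨k, hk⟩ := hξ (a.coprod b)
    refine ⟨k, ?_⟩
    rw [Fintype.sum_prod_type, Finset.sum_comm] at hk
    have h1 : ∀ h' : H', sl a h' * conj ((b h' : ℂˣ) : ℂ) =
        (Nat.card H₁ : ℂ)⁻¹ * ∑ h₁, ξ (h₁, h') * conj (((a.coprod b) (h₁, h') : ℂˣ) : ℂ) := by
      intro h'
      show coef (fun h₁ => ξ (h₁, h')) a * _ = _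
      unfold coef
      rw [mul_assoc, Finset.sum_mul]
      congr 1
      apply Finset.sum_congr rfl
      intro h₁ _
      rw [MonoidHom.coprod_apply, Units.val_mul, map_mul]
      ring
    simp only [h1]
    rw [← Finset.mul_sum, hk, Nat.card_prod]
    push_cast
    field_simp
  have hinv : ∀ (h₁ : H₁) (h' : H'), ∑ a : H₁ →* ℂˣ, ((a h₁ : ℂˣ) : ℂ) * sl a h' = ξ (h₁, h') :=
    fun h₁ h' => inversion (fun h₁ => ξ (h₁, h')) h₁
  -- the nonzero slices
  let Z : Finset (H₁ →* ℂˣ) := Finset.univ.filter (fun a => sl a ≠ 0)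
  have hZ0 : ∀ a, a ∉ Z → ∀ h', sl a h' = 0 := by
    intro a ha h'
    have : ¬ sl a ≠ 0 := fun h => ha (Finset.mem_filter.mpr ⟨Finset.mem_univ a, h⟩)
    rw [not_not] at this
    rw [this]
    rfl
  set s : ℝ := (Z.card : ℝ) with hs
  have hs1 : 1 ≤ s := by
    have : 0 < Z.card := by
      rw [Finset.card_pos]
      by_contra hemp
      rw [Finset.not_nonempty_iff_eq_empty] at hemp
      apply hne
      funext x
      obtain ⟨h₁, h'⟩ := x
      rw [← hinv h₁ h']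
      apply Finset.sum_eq_zero
      intro a _
      rw [hZ0 a (by rw [hemp]; exact Finset.notMem_empty a) h', mul_zero]
    have h2 : 1 ≤ Z.card := this
    rw [hs]
    exact_mod_cast h2
  have hsn : s ≤ n := by
    have h1 : Z.card ≤ (Finset.univ : Finset (H₁ →* ℂˣ)).card := Finset.card_le_univ Z
    rw [Finset.card_univ, ← Nat.card_eq_fintype_card, card_dual] at h1
    rw [hs, hn]
    exact_mod_cast h1
  -- the pointwise inequality
  have hpt : ∀ h' : H', n * (n - s + 1) * ∑ a ∈ Z, ‖sl a h'‖ ^ 2 ≤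
      ∑ h₁, w1 N h₁ * ‖ξ (h₁, h')‖ ^ 2 := by
    intro h'
    rw [sum_w1_mul]
    have hpl := plancherel (fun h₁ => ξ (h₁, h'))
    have hsumZ : ∑ a : H₁ →* ℂˣ, ‖sl a h'‖ ^ 2 = ∑ a ∈ Z, ‖sl a h'‖ ^ 2 := by
      symm
      apply Finset.sum_subset (Finset.subset_univ Z)
      intro a _ ha
      rw [hZ0 a ha h', norm_zero]
      ring
    have hn0' : n ≠ 0 := by
      have : Nat.card H₁ ≠ 0 := Nat.card_pos.ne'
      rw [hn]
      exact_mod_cast this
    have hA : ∑ h₁, ‖ξ (h₁, h')‖ ^ 2 = n * ∑ a ∈ Z, ‖sl a h'‖ ^ 2 := by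
      rw [← hsumZ]
      have : ∑ a : H₁ →* ℂˣ, ‖sl a h'‖ ^ 2 = n⁻¹ * ∑ h₁, ‖ξ (h₁, h')‖ ^ 2 := hpl
      rw [this]
      field_simp
    have h1 : ξ (1, h') = ∑ a ∈ Z, sl a h' := by
      rw [← hinv 1 h']
      have : ∀ a : H₁ →* ℂˣ, ((a 1 : ℂˣ) : ℂ) * sl a h' = sl a h' := by
        intro a
        rw [map_one, Units.val_one, one_mul]
      simp only [this]
      symm
      apply Finset.sum_subset (Finset.subset_univ Z)
      intro a _ ha
      exact hZ0 a ha h'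
    have hB : ‖ξ (1, h')‖ ^ 2 ≤ s * ∑ a ∈ Z, ‖sl a h'‖ ^ 2 := by
      rw [h1]
      have h2 : ‖∑ a ∈ Z, sl a h'‖ ≤ ∑ a ∈ Z, ‖sl a h'‖ := norm_sum_le _ _
      have h3 : (∑ a ∈ Z, ‖sl a h'‖) ^ 2 ≤ (Z.card : ℝ) * ∑ a ∈ Z, ‖sl a h'‖ ^ 2 :=
        sq_sum_le_card_mul_sum_sq
      have h4 : ‖∑ a ∈ Z, sl a h'‖ ^ 2 ≤ (∑ a ∈ Z, ‖sl a h'‖) ^ 2 :=
        pow_le_pow_left₀ (norm_nonneg _) h2 2
      exact h4.trans h3
    rw [hA]
    exact slicing_arith hs1 hsn hN (Finset.sum_nonneg (fun a _ => by positivity)) hB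
  -- sum over `h'`
  have hsum : ∑ x : H₁ × H', w1 N x.1 * w' x.2 * ‖ξ x‖ ^ 2 =
      ∑ h' : H', w' h' * ∑ h₁, w1 N h₁ * ‖ξ (h₁, h')‖ ^ 2 := by
    rw [Fintype.sum_prod_type, Finset.sum_comm]
    apply Finset.sum_congr rfl
    intro h' _
    rw [Finset.mul_sum]
    apply Finset.sum_congr rfl
    intro h₁ _
    ring
  rw [hsum]
  have hstep : ∑ h' : H', w' h' * (n * (n - s + 1) * ∑ a ∈ Z, ‖sl a h'‖ ^ 2) ≤
      ∑ h' : H', w' h' * ∑ h₁, w1 N h₁ * ‖ξ (h₁, h')‖ ^ 2 := by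
    apply Finset.sum_le_sum
    intro h' _
    exact mul_le_mul_of_nonneg_left (hpt h') (hw' h')
  refine le_trans ?_ hstep
  have hswap : ∑ h' : H', w' h' * (n * (n - s + 1) * ∑ a ∈ Z, ‖sl a h'‖ ^ 2) =
      n * (n - s + 1) * ∑ a ∈ Z, ∑ h' : H', w' h' * ‖sl a h'‖ ^ 2 := by
    rw [Finset.sum_comm, Finset.mul_sum]
    apply Finset.sum_congr rfl
    intro h' _
    rw [Finset.mul_sum, Finset.mul_sum, Finset.mul_sum]
    apply Finset.sum_congr rfl
    intro a _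
    ring
  rw [hswap]
  have hZc : s * c ≤ ∑ a ∈ Z, ∑ h' : H', w' h' * ‖sl a h'‖ ^ 2 := by
    have : ∑ a ∈ Z, c ≤ ∑ a ∈ Z, ∑ h' : H', w' h' * ‖sl a h'‖ ^ 2 := by
      apply Finset.sum_le_sum
      intro a ha
      exact hg (sl a) (hsl_int a) (Finset.mem_filter.mp ha).2
    rw [Finset.sum_const, nsmul_eq_mul] at this
    exact this
  have hcoef : 0 ≤ n * (n - s + 1) := by
    have : 0 ≤ n := by positivity
    exact mul_nonneg this (by linarith)
  have h5 : n * (n - s + 1) * (s * c) ≤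
      n * (n - s + 1) * ∑ a ∈ Z, ∑ h' : H', w' h' * ‖sl a h'‖ ^ 2 :=
    mul_le_mul_of_nonneg_left hZc hcoef
  refine le_trans ?_ h5
  have h6 : n * (n - s + 1) * (s * c) - c * n ^ 2 = n * c * ((s - 1) * (n - s)) := by ring
  have h7 : 0 ≤ n * c * ((s - 1) * (n - s)) := by
    have : 0 ≤ n := by positivity
    exact mul_nonneg (mul_nonneg this hc) (mul_nonneg (by linarith) (by linarith))
  linarith

end Prod

end Cfsg.Agent.Lib.Helper81.KGV
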