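import Mathlib
import Cfsg.Agent.Lib.Helper81.KGVSteps
import Cfsg.Agent.Lib.Helper24.Maschke

/-!
# The lattice lemma for a coprime abelian action (helper81)

`good_of_action`: a finite abelian group `H` of order prime to `p` acting faithfully on an elementary
abelian `p`-group `V`: for every nonzero `ξ : H → ℂ` with integral Fourier coefficients,
`|H|² ≤ ∑ h, |V : C_V(h)| * ‖ξ h‖²`.
-/

set_option autoImplicit false
set_option linter.unusedSectionVars false
set_option linter.style.haveILetI false
set_option maxHeartbeats 800000

namespace Cfsg.Agent.Lib.Helper81.KGV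

open scoped ComplexConjugate

universe u

section Action

variable {H : Type u} [CommGroup H] {V : Type u} [CommGroup V]

/-- restriction of an action to an invariant subgroup -/
def restrictAct (act : H →* MulAut V) (U : Subgroup V) (hU : ∀ h, ∀ u ∈ U, act h u ∈ U) :
    H →* MulAut U where
  toFun h :=
    { toFun := fun u => ⟨act h u, hU h u u.2⟩
      invFun := fun u => ⟨act h⁻¹ u, hU h⁻¹ u u.2⟩
      left_inv := fun u => Subtype.ext (by
        show act h⁻¹ (act h (u : V)) = u
        rw [← MulAut.mul_apply, ← map_mul, inv_mul_cancel, map_one]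
        rfl)
      right_inv := fun u => Subtype.ext (by
        show act h (act h⁻¹ (u : V)) = u
        rw [← MulAut.mul_apply, ← map_mul, mul_inv_cancel, map_one]
        rfl)
      map_mul' := fun u u' => Subtype.ext (map_mul (act h) (u : V) (u' : V)) }
  map_one' := by
    ext u
    show act 1 (u : V) = u
    rw [map_one]
    rfl
  map_mul' h k := by
    ext u
    show act (h * k) (u : V) = act h (act k (u : V))
    rw [map_mul]
    rfl

theorem restrictAct_coe (act : H →* MulAut V) (U : Subgroup V) (hU : ∀ h, ∀ u ∈ U, act h u ∈ U)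
    (h : H) (u : U) : ((restrictAct act U hU h u : U) : V) = act h (u : V) := rfl

/-- the weight `|V : C_V(h)|` -/
noncomputable def wt (act : H →* MulAut V) (h : H) : ℝ :=
  (Nat.card V : ℝ) / (Nat.card {u : V // act h u = u} : ℝ)

theorem wt_nonneg (act : H →* MulAut V) (h : H) : 0 ≤ wt act h := by
  unfold wt
  positivity

end Action

/-- **The lattice lemma.** -/
theorem good_of_action (p : ℕ) [hp : Fact p.Prime] :
    ∀ (n : ℕ) (V : Type u) [CommGroup V] [Fintype V], Nat.card V = n → (∀ x : V, x ^ p = 1) →
      ∀ (H : Type u) [CommGroup H] [Fintype H] (act : H →* MulAut V), Function.Injective act →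
        (Nat.card H).Coprime p → Good (wt act) ((Nat.card H : ℝ) ^ 2) := by
  intro n
  induction n using Nat.strong_induction_on with
  | _ n ih =>
  intro V _ _ hn hexp H _ _ act hinj hcop
  classical
  by_cases hV1 : Nat.card V = 1
  · -- trivial module
    have hVs : Subsingleton V := (Nat.card_eq_one_iff_unique.mp hV1).1
    have hHs : Subsingleton H := by
      refine ⟨fun a b => hinj ?_⟩
      ext u
      exact Subsingleton.elim _ _
    have hH1 : Nat.card H = 1 := by
      rw [Nat.card_eq_one_iff_unique]
      exact ⟨hHs, ⟨1⟩⟩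
    have hwt : ∀ h, wt act h = 1 := by
      intro h
      unfold wt
      have : Nat.card {u : V // act h u = u} = 1 := by
        rw [Nat.card_eq_one_iff_unique]
        exact ⟨⟨fun a b => Subtype.ext (Subsingleton.elim _ _)⟩, ⟨⟨1, map_one _⟩⟩⟩
      rw [this, hV1]
      simp
    rw [hH1]
    have h1 : Good (fun _ : H => (1 : ℝ)) 1 := good_of_subsingleton
    have h2 := h1.mono (w' := wt act) (fun x => (hwt x).ge)
    simpa using h2
  · -- nontrivial module
    have hVpos : 1 < Nat.card V := by
      have : 0 < Nat.card V := Nat.card_pos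
      omega
    -- a minimal invariant subgroup
    let P : Subgroup V → Prop := fun U => U ≠ ⊥ ∧ ∀ h, ∀ u ∈ U, act h u ∈ U
    have hPtop : P ⊤ := by
      refine ⟨?_, fun h u _ => Subgroup.mem_top _⟩
      intro h
      have h1 : Nat.card (⊤ : Subgroup V) = Nat.card V := Subgroup.card_top
      rw [h, Subgroup.card_bot] at h1
      omega
    obtain ⟨V₁, hV₁P, hmin⟩ := (wellFounded_lt (α := Subgroup V)).has_min {U | P U} ⟨⊤, hPtop⟩
    have hV₁ne : V₁ ≠ ⊥ := hV₁P.1
    have hV₁inv : ∀ h, ∀ u ∈ V₁, act h u ∈ V₁ := hV₁P.2
    have hmin' : ∀ U : Subgroup V, P U → U ≤ V₁ → U = V₁ := by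
      intro U hU hle
      rcases lt_or_eq_of_le hle with h | h
      · exact absurd h (hmin U hU)
      · exact h
    -- fixed points of `h` in `V₁`
    have hcomm : ∀ h k : H, ∀ u : V, act h (act k u) = act k (act h u) := by
      intro h k u
      rw [← MulAut.mul_apply, ← MulAut.mul_apply, ← map_mul, ← map_mul, mul_comm]
    have hdich : ∀ h : H, (∀ u ∈ V₁, act h u = u) ∨ (∀ u ∈ V₁, act h u = u → u = 1) := by
      intro h
      let Fx : Subgroup V :=
        { carrier := {u | u ∈ V₁ ∧ act h u = u}
          mul_mem' := fun {a b} ha hb => ⟨V₁.mul_mem ha.1 hb.1, by rw [map_mul, ha.2, hb.2]⟩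
          one_mem' := ⟨V₁.one_mem, map_one _⟩
          inv_mem' := fun {a} ha => ⟨V₁.inv_mem ha.1, by rw [map_inv, ha.2]⟩ }
      have hFxle : Fx ≤ V₁ := fun u hu => hu.1
      by_cases hFx : Fx = ⊥
      · right
        intro u hu hfix
        have : u ∈ Fx := ⟨hu, hfix⟩
        rw [hFx] at this
        exact Subgroup.mem_bot.mp this
      · left
        have hPFx : P Fx := by
          refine ⟨hFx, fun k u hu => ⟨hV₁inv k u hu.1, ?_⟩⟩
          rw [hcomm, hu.2]
        have := hmin' Fx hPFx hFxle
        intro u hu
        rw [← this] at hu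
        exact hu.2
    -- Maschke
    obtain ⟨V', hV'inv, hdisj, hsup⟩ := Cfsg.Agent.Lib.Helper24.exists_invariant_compl p
      (fun x y : V => mul_comm x y) hexp act hcop V₁ hV₁inv
    -- the product decomposition
    let e : V₁ × V' → V := fun x => (x.1 : V) * (x.2 : V)
    have he_inj : Function.Injective e := by
      rintro ⟨a, b⟩ ⟨c, d⟩ hab
      have hab' : (a : V) * (b : V) = (c : V) * (d : V) := hab
      have h1 : (c : V)⁻¹ * (a : V) = (d : V) * (b : V)⁻¹ := by
        rw [inv_mul_eq_iff_eq_mul, ← mul_assoc, ← hab', mul_assoc, mul_inv_cancel, mul_one]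
      have h2 : (c : V)⁻¹ * (a : V) ∈ V₁ ⊓ V' := by
        refine ⟨V₁.mul_mem (V₁.inv_mem c.2) a.2, ?_⟩
        rw [h1]
        exact V'.mul_mem d.2 (V'.inv_mem b.2)
      rw [hdisj, Subgroup.mem_bot] at h2
      have h3 : (a : V) = c := by
        rw [inv_mul_eq_one] at h2
        exact h2.symm
      have h4 : (b : V) = d := by
        rw [h3] at hab'
        exact mul_left_cancel hab'
      exact Prod.ext (Subtype.ext h3) (Subtype.ext h4)
    have he_surj : Function.Surjective e := by
      intro x
      have hx : x ∈ V₁ ⊔ V' := by rw [hsup]; exact Subgroup.mem_top x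
      obtain ⟨y, hy, z, hz, hyz⟩ := Subgroup.mem_sup.mp hx
      exact ⟨(⟨y, hy⟩, ⟨z, hz⟩), hyz⟩
    have hcardV : Nat.card V = Nat.card V₁ * Nat.card V' := by
      rw [← Nat.card_prod]
      exact (Nat.card_eq_of_bijective e ⟨he_inj, he_surj⟩).symm
    have hV₁card : 1 < Nat.card V₁ := by
      rw [Subgroup.one_lt_card_iff_ne_bot]
      exact hV₁ne
    have hV'lt : Nat.card V' < n := by
      rw [← hn, hcardV]
      have : 0 < Nat.card V' := Nat.card_pos
      nlinarith
    -- the actions on the factors
    let act₁ := restrictAct act V₁ hV₁inv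
    let act' := restrictAct act V' hV'inv
    letI : Fintype (H ⧸ act₁.ker) := Fintype.ofFinite _
    letI : Fintype (H ⧸ act'.ker) := Fintype.ofFinite _
    letI : Fintype V' := Fintype.ofFinite _
    -- fixed points decompose
    have hfix : ∀ h : H, Nat.card {u : V // act h u = u} =
        Nat.card {u : V₁ // act₁ h u = u} * Nat.card {u : V' // act' h u = u} := by
      intro h
      rw [← Nat.card_prod, ← Nat.card_congr (Equiv.subtypeProdEquivProd
        (p := fun u : V₁ => act₁ h u = u) (q := fun u : V' => act' h u = u))]
      symm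
      let f : {c : V₁ × V' // act₁ h c.1 = c.1 ∧ act' h c.2 = c.2} → {u : V // act h u = u} :=
        fun c => ⟨e c.1, by
          show act h ((c.1.1 : V) * (c.1.2 : V)) = (c.1.1 : V) * (c.1.2 : V)
          rw [map_mul]
          have h1 := congrArg Subtype.val c.2.1
          have h2 := congrArg Subtype.val c.2.2
          rw [restrictAct_coe] at h1 h2
          rw [h1, h2]⟩
      apply Nat.card_eq_of_bijective f
      constructor
      · intro c d hcd
        have := congrArg Subtype.val hcd
        exact Subtype.ext (he_inj this)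
      · rintro ⟨u, hu⟩
        obtain ⟨x, hx⟩ := he_surj u
        have hx' : (x.1 : V) * (x.2 : V) = u := hx
        have h1 : e (act₁ h x.1, act' h x.2) = e x := by
          show act h (x.1 : V) * act h (x.2 : V) = (x.1 : V) * (x.2 : V)
          rw [← map_mul, hx', hu]
        have h2 := he_inj h1
        have h3 : act₁ h x.1 = x.1 := congrArg Prod.fst h2
        have h4 : act' h x.2 = x.2 := congrArg Prod.snd h2
        exact ⟨⟨x, h3, h4⟩, Subtype.ext hx⟩
    -- the weight on `V₁`
    set N : ℝ := (Nat.card V₁ : ℝ) with hNdef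
    have hw1 : ∀ h : H, (Nat.card V₁ : ℝ) / (Nat.card {u : V₁ // act₁ h u = u} : ℝ) =
        w1 N (QuotientGroup.mk' act₁.ker h) := by
      intro h
      unfold w1
      split_ifs with hh
      · have hker : h ∈ act₁.ker := by
          rw [QuotientGroup.mk'_apply, QuotientGroup.eq_one_iff] at hh
          exact hh
        have h1 : act₁ h = 1 := MonoidHom.mem_ker.mp hker
        have h2 : Nat.card {u : V₁ // act₁ h u = u} = Nat.card V₁ := by
          apply Nat.card_congr
          exact Equiv.subtypeUnivEquiv (fun u => by rw [h1]; rfl)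
        rw [h2]
        have : (Nat.card V₁ : ℝ) ≠ 0 := by
          have : Nat.card V₁ ≠ 0 := Nat.card_pos.ne'
          exact_mod_cast this
        field_simp
      · have h1 : ¬ ∀ u ∈ V₁, act h u = u := by
          intro hall
          apply hh
          rw [QuotientGroup.mk'_apply, QuotientGroup.eq_one_iff, MonoidHom.mem_ker]
          ext u
          exact hall u u.2
        have h2 := (hdich h).resolve_left h1
        have h3 : Nat.card {u : V₁ // act₁ h u = u} = 1 := by
          rw [Nat.card_eq_one_iff_unique]
          refine ⟨⟨fun a b => ?_⟩, ⟨⟨1, map_one _⟩⟩⟩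
          have ha := h2 a.1 a.1.2 (by
            have := congrArg Subtype.val a.2
            rwa [restrictAct_coe] at this)
          have hb := h2 b.1 b.1.2 (by
            have := congrArg Subtype.val b.2
            rwa [restrictAct_coe] at this)
          exact Subtype.ext (Subtype.ext (ha.trans hb.symm))
        rw [h3, Nat.cast_one, div_one]
    -- weights multiply
    have hwt : ∀ h : H, wt act h = w1 N (QuotientGroup.mk' act₁.ker h) *
        wt (QuotientGroup.kerLift act') (QuotientGroup.mk' act'.ker h) := by
      intro h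
      rw [← hw1]
      unfold wt
      rw [hcardV, hfix]
      have e1 : Nat.card {u : V' // (QuotientGroup.kerLift act') (QuotientGroup.mk' act'.ker h) u = u} =
          Nat.card {u : V' // act' h u = u} := rfl
      rw [e1]
      push_cast
      rw [mul_div_mul_comm]
    -- the order of `H / K₁`
    have hN : (Nat.card (H ⧸ act₁.ker) : ℝ) + 1 ≤ N := by
      obtain ⟨u₀, hu₀, hu₀1⟩ : ∃ u ∈ V₁, u ≠ 1 := by
        by_contra hcon
        push Not at hcon
        apply hV₁ne
        rw [Subgroup.eq_bot_iff_forall]
        exact hcon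
      let g : Option (H ⧸ act₁.ker) → V₁ := fun o =>
        match o with
        | none => 1
        | some q => QuotientGroup.kerLift act₁ q ⟨u₀, hu₀⟩
      have hg : Function.Injective g := by
        intro o o' hoo
        match o, o' with
        | none, none => rfl
        | none, some q =>
          exfalso
          have h1 : QuotientGroup.kerLift act₁ q ⟨u₀, hu₀⟩ = 1 := hoo.symm
          have h2 : (⟨u₀, hu₀⟩ : V₁) = 1 := by
            have := (QuotientGroup.kerLift act₁ q).injective (h1.trans (map_one _).symm)
            exact this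
          exact hu₀1 (congrArg Subtype.val h2)
        | some q, none =>
          exfalso
          have h1 : QuotientGroup.kerLift act₁ q ⟨u₀, hu₀⟩ = 1 := hoo
          have h2 : (⟨u₀, hu₀⟩ : V₁) = 1 := by
            have := (QuotientGroup.kerLift act₁ q).injective (h1.trans (map_one _).symm)
            exact this
          exact hu₀1 (congrArg Subtype.val h2)
        | some q, some q' =>
          have h1 : QuotientGroup.kerLift act₁ q ⟨u₀, hu₀⟩ =
              QuotientGroup.kerLift act₁ q' ⟨u₀, hu₀⟩ := hoo
          congr 1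
          obtain ⟨h, rfl⟩ := QuotientGroup.mk_surjective q
          obtain ⟨h', rfl⟩ := QuotientGroup.mk_surjective q'
          have h2 : act₁ h ⟨u₀, hu₀⟩ = act₁ h' ⟨u₀, hu₀⟩ := h1
          have h3 : act (h'⁻¹ * h) u₀ = u₀ := by
            have := congrArg Subtype.val h2
            rw [restrictAct_coe, restrictAct_coe] at this
            rw [map_mul, MulAut.mul_apply, this, ← MulAut.mul_apply, ← map_mul, inv_mul_cancel,
              map_one]
            rfl
          have h4 : ∀ u ∈ V₁, act (h'⁻¹ * h) u = u := by
            rcases hdich (h'⁻¹ * h) with h5 | h5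
            · exact h5
            · exact absurd (h5 u₀ hu₀ h3) hu₀1
          have h5 : h'⁻¹ * h ∈ act₁.ker := by
            rw [MonoidHom.mem_ker]
            ext u
            exact h4 u u.2
          exact (QuotientGroup.eq.mpr h5).symm
      have h1 := Nat.card_le_card_of_injective g hg
      rw [Finite.card_option] at h1
      rw [hNdef]
      exact_mod_cast h1
    -- induction hypothesis
    have hexp' : ∀ x : V', x ^ p = 1 := fun x => Subtype.ext (by
      rw [Subgroup.coe_pow, hexp]; rfl)
    have hcop' : (Nat.card (H ⧸ act'.ker)).Coprime p :=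
      Nat.Coprime.coprime_dvd_left (Subgroup.card_quotient_dvd_card _) hcop
    have hIH := ih (Nat.card V') hV'lt V' rfl hexp' (H ⧸ act'.ker) (QuotientGroup.kerLift act')
      (QuotientGroup.kerLift_injective act') hcop'
    -- product, then restriction
    have hprod := Good.prod (H₁ := H ⧸ act₁.ker) (wt_nonneg (QuotientGroup.kerLift act'))
      (by positivity) hIH N hN
    let ι : H →* (H ⧸ act₁.ker) × (H ⧸ act'.ker) :=
      (QuotientGroup.mk' act₁.ker).prod (QuotientGroup.mk' act'.ker)
    have hι : Function.Injective ι := by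
      rw [injective_iff_map_eq_one]
      intro h hh
      have h1 : QuotientGroup.mk' act₁.ker h = 1 := congrArg Prod.fst hh
      have h2 : QuotientGroup.mk' act'.ker h = 1 := congrArg Prod.snd hh
      rw [QuotientGroup.mk'_apply, QuotientGroup.eq_one_iff, MonoidHom.mem_ker] at h1 h2
      apply hinj
      rw [map_one]
      ext u
      obtain ⟨x, hx⟩ := he_surj u
      have hx' : (x.1 : V) * (x.2 : V) = u := hx
      have h3 : act h (x.1 : V) = x.1 := by
        have := congrArg (fun f : MulAut V₁ => ((f x.1 : V₁) : V)) h1
        exact this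
      have h4 : act h (x.2 : V) = x.2 := by
        have := congrArg (fun f : MulAut V' => ((f x.2 : V') : V)) h2
        exact this
      rw [← hx', map_mul, h3, h4]
      rfl
    have hres := hprod.comp_injective ι hι
    have hconst : (Nat.card (H ⧸ act'.ker) : ℝ) ^ 2 * (Nat.card (H ⧸ act₁.ker) : ℝ) ^ 2 *
        ((Nat.card H : ℝ) / (Nat.card ((H ⧸ act₁.ker) × (H ⧸ act'.ker)) : ℝ)) ^ 2 =
        (Nat.card H : ℝ) ^ 2 := by
      rw [Nat.card_prod]
      have h1 : (Nat.card (H ⧸ act₁.ker) : ℝ) ≠ 0 := by
        have : Nat.card (H ⧸ act₁.ker) ≠ 0 := Nat.card_pos.ne'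
        exact_mod_cast this
      have h2 : (Nat.card (H ⧸ act'.ker) : ℝ) ≠ 0 := by
        have : Nat.card (H ⧸ act'.ker) ≠ 0 := Nat.card_pos.ne'
        exact_mod_cast this
      push_cast
      field_simp
    rw [hconst] at hres
    exact hres.mono (fun h => (hwt h).ge)

end Cfsg.Agent.Lib.Helper81.KGV
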