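import Mathlib

/-!
# The `k(GV)` setting: group-theoretic lemmas (helper81)

`X = V ⋊ G`, `V` an elementary abelian normal self-centralizing `p`-subgroup of index prime to `p`,
`v ∈ V` with `H = C_G(v)` abelian.

* `Setup.card_centralizer_mul`: `|C_X(a h)| = |C_V(h)| |H|` for `a ∈ V` with `C_X(a) = C_X(v)`, `h ∈ H`.
* `zHom`: the homomorphism `ℤ/p → X`, `t ↦ v ^ t`.
-/

set_option autoImplicit false
set_option linter.unusedSectionVars false
set_option linter.style.haveILetI false

namespace Cfsg.Agent.Lib.Helper81.KGV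

universe u

section Group

variable {X : Type u} [Group X]

/-- the stabilizer `C_G(v)` -/
abbrev Hs (G : Subgroup X) (v : X) : Subgroup X := G ⊓ Subgroup.centralizer ({v} : Set X)

/-- the hypotheses of the abelian-stabilizer criterion -/
structure Setup (p : ℕ) (V G : Subgroup X) (v : X) : Prop where
  vexp : ∀ u ∈ V, u ^ p = 1
  idx : ¬ p ∣ V.index
  self : Subgroup.centralizer (V : Set X) = V
  compl : Subgroup.IsComplement' V G
  hv : v ∈ V
  ab : ∀ a ∈ Hs G v, ∀ b ∈ Hs G v, a * b = b * a

variable {p : ℕ} [hp : Fact p.Prime] {V G : Subgroup X} {v : X}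

theorem Setup.comm (hs : Setup p V G v) {a b : X} (ha : a ∈ V) (hb : b ∈ V) : a * b = b * a := by
  have h1 : a ∈ Subgroup.centralizer (V : Set X) := by rw [hs.self]; exact ha
  exact (Subgroup.mem_centralizer_iff.mp h1 b hb).symm

theorem Setup.inf_eq_bot (hs : Setup p V G v) : V ⊓ G = ⊥ :=
  disjoint_iff.mp hs.compl.disjoint

theorem Setup.card_G [Finite X] (hs : Setup p V G v) : Nat.card G = V.index :=
  (hs.compl.symm.index_eq_card).symm

theorem Setup.coprime_H [Finite X] (hs : Setup p V G v) : (Nat.card (Hs G v)).Coprime p := by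
  have h1 : Nat.card (Hs G v) ∣ Nat.card G := Subgroup.card_dvd_of_le inf_le_left
  have h2 : ¬ p ∣ Nat.card G := by rw [hs.card_G]; exact hs.idx
  have h3 : (Nat.card G).Coprime p := (Nat.Coprime.symm ((Nat.Prime.coprime_iff_not_dvd hp.out).mpr h2))
  exact Nat.Coprime.coprime_dvd_left h1 h3

theorem mem_Hs_iff {G : Subgroup X} {v g : X} : g ∈ Hs G v ↔ g ∈ G ∧ g * v = v * g := by
  rw [Subgroup.mem_inf, Subgroup.mem_centralizer_singleton_iff]

/-- **The centralizer count.** -/
theorem Setup.card_centralizer_mul [Finite X] (hs : Setup p V G v) {a : X} (ha : a ∈ V)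
    (hav : ∀ k : X, k * a = a * k ↔ k * v = v * k) {h : X} (hh : h ∈ Hs G v) :
    Nat.card {k : X // k * (a * h) * k⁻¹ = a * h} =
      Nat.card (V ⊓ Subgroup.centralizer ({h} : Set X) : Subgroup X) * Nat.card (Hs G v) := by
  classical
  have hhv : h * v = v * h := (mem_Hs_iff.mp hh).2
  have hha : h * a = a * h := (hav h).mpr hhv
  -- `a` is a power of `a * h`
  have hcop := hs.coprime_H
  obtain ⟨m, -, hm⟩ := Nat.exists_mul_mod_eq_one_of_coprime hcop hp.out.one_lt
  have hho : h ^ Nat.card (Hs G v) = 1 := by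
    have := pow_card_eq_one' (G := Hs G v) (x := ⟨h, hh⟩)
    exact congrArg Subtype.val this
  have hpow : (a * h) ^ (Nat.card (Hs G v) * m) = a := by
    have hc : Commute a h := hha.symm
    rw [hc.mul_pow, pow_mul h, hho, one_pow, mul_one, pow_eq_pow_mod _ (hs.vexp a ha), hm, pow_one]
  -- elements commuting with `a * h` commute with `a` and `h`
  have hsplit : ∀ k : X, k * (a * h) * k⁻¹ = a * h → k * a = a * k ∧ k * h = h * k := by
    intro k hk
    have hk' : k * (a * h) = (a * h) * k := by
      calc k * (a * h) = k * (a * h) * k⁻¹ * k := by group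
        _ = (a * h) * k := by rw [hk]
    have hc : Commute k (a * h) := hk'
    have h1 : Commute k a := by
      have := hc.pow_right (Nat.card (Hs G v) * m)
      rwa [hpow] at this
    refine ⟨h1, ?_⟩
    have h2 : Commute k (a⁻¹ * (a * h)) := (h1.inv_right).mul_right hc
    rw [inv_mul_cancel_left] at h2
    exact h2
  -- the bijection
  rw [← Nat.card_prod]
  symm
  let φ : (V ⊓ Subgroup.centralizer ({h} : Set X) : Subgroup X) × (Hs G v) →
      {k : X // k * (a * h) * k⁻¹ = a * h} := fun q => ⟨(q.1 : X) * (q.2 : X), by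
    have hu := Subgroup.mem_inf.mp q.1.2
    have huh : (q.1 : X) * h = h * (q.1 : X) := Subgroup.mem_centralizer_singleton_iff.mp hu.2
    have hua : (q.1 : X) * a = a * (q.1 : X) := hs.comm hu.1 ha
    have hgv : (q.2 : X) * v = v * (q.2 : X) := (mem_Hs_iff.mp q.2.2).2
    have hga : (q.2 : X) * a = a * (q.2 : X) := (hav _).mpr hgv
    have hgh : (q.2 : X) * h = h * (q.2 : X) := hs.ab _ q.2.2 _ hh
    have hc1 : Commute ((q.1 : X) * (q.2 : X)) a :=
      Commute.mul_left hua hga
    have hc2 : Commute ((q.1 : X) * (q.2 : X)) h :=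
      Commute.mul_left huh hgh
    have hc : Commute ((q.1 : X) * (q.2 : X)) (a * h) := hc1.mul_right hc2
    rw [hc.eq]
    group⟩
  apply Nat.card_eq_of_bijective φ
  constructor
  · rintro ⟨u, g⟩ ⟨u', g'⟩ hq
    have hq' : (u : X) * (g : X) = (u' : X) * (g' : X) := congrArg Subtype.val hq
    have h1 : (u' : X)⁻¹ * (u : X) = (g' : X) * (g : X)⁻¹ := by
      rw [inv_mul_eq_iff_eq_mul, ← mul_assoc, ← hq', mul_assoc, mul_inv_cancel, mul_one]
    have h2 : (u' : X)⁻¹ * (u : X) ∈ V ⊓ G := by
      refine ⟨V.mul_mem (V.inv_mem (Subgroup.mem_inf.mp u'.2).1) (Subgroup.mem_inf.mp u.2).1, ?_⟩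
      rw [h1]
      exact G.mul_mem (Subgroup.mem_inf.mp g'.2).1 (G.inv_mem (Subgroup.mem_inf.mp g.2).1)
    rw [hs.inf_eq_bot, Subgroup.mem_bot] at h2
    have h3 : (u : X) = u' := by
      rw [inv_mul_eq_one] at h2
      exact h2.symm
    have h4 : (g : X) = g' := by
      rw [h3] at hq'
      exact mul_left_cancel hq'
    exact Prod.ext (Subtype.ext h3) (Subtype.ext h4)
  · rintro ⟨k, hk⟩
    obtain ⟨hka, hkh⟩ := hsplit k hk
    have hkv : k * v = v * k := (hav k).mp hka
    obtain ⟨⟨u, g⟩, hug, -⟩ := (Subgroup.isComplement'_def.mp hs.compl).existsUnique k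
    have hug' : (u : X) * (g : X) = k := hug
    have huv : (u : X) * v = v * (u : X) := hs.comm u.2 hs.hv
    have hgv : (g : X) * v = v * (g : X) := by
      have h1 : (g : X) = (u : X)⁻¹ * k := by rw [← hug']; group
      have hc1 : Commute ((u : X)⁻¹) v := Commute.inv_left huv
      have hc2 : Commute k v := hkv
      rw [h1]
      exact (hc1.mul_left hc2).eq
    have hgH : (g : X) ∈ Hs G v := mem_Hs_iff.mpr ⟨g.2, hgv⟩
    have hgh : (g : X) * h = h * (g : X) := hs.ab _ hgH _ hh
    have huh : (u : X) * h = h * (u : X) := by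
      have h1 : (u : X) = k * (g : X)⁻¹ := by rw [← hug']; group
      have hc1 : Commute ((g : X)⁻¹) h := Commute.inv_left hgh
      have hc2 : Commute k h := hkh
      rw [h1]
      exact (hc2.mul_left hc1).eq
    refine ⟨(⟨u, Subgroup.mem_inf.mpr ⟨u.2, Subgroup.mem_centralizer_singleton_iff.mpr huh⟩⟩,
      ⟨g, hgH⟩), ?_⟩
    exact Subtype.ext hug'

end Group

section ZHom

variable {X : Type u} [Group X] (p : ℕ) [hp : Fact p.Prime]

/-- the homomorphism `ℤ/p → X`, `t ↦ v ^ t` -/
def zHom (v : X) (hv : v ^ p = 1) : Multiplicative (ZMod p) →* X where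
  toFun z := v ^ (Multiplicative.toAdd z).val
  map_one' := by
    show v ^ (0 : ZMod p).val = 1
    rw [ZMod.val_zero, pow_zero]
  map_mul' a b := by
    show v ^ (Multiplicative.toAdd a + Multiplicative.toAdd b).val =
      v ^ (Multiplicative.toAdd a).val * v ^ (Multiplicative.toAdd b).val
    rw [ZMod.val_add, ← pow_eq_pow_mod _ hv, pow_add]

theorem zHom_apply (v : X) (hv : v ^ p = 1) (z : Multiplicative (ZMod p)) :
    zHom p v hv z = v ^ (Multiplicative.toAdd z).val := rfl

theorem card_mulZMod : Nat.card (Multiplicative (ZMod p)) = p := by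
  rw [Nat.card_eq_fintype_card, Fintype.card_multiplicative, ZMod.card]

/-- a nonidentity element of `ℤ/p` has the same centralizer as `v` -/
theorem commute_zHom_iff (v : X) (hv : v ^ p = 1) {z : Multiplicative (ZMod p)} (hz : z ≠ 1)
    (k : X) : k * zHom p v hv z = zHom p v hv z * k ↔ k * v = v * k := by
  constructor
  · intro h
    have htop := zpowers_eq_top_of_prime_card (card_mulZMod p) hz
    have hmem : Multiplicative.ofAdd (1 : ZMod p) ∈ Subgroup.zpowers z := by
      rw [htop]; exact Subgroup.mem_top _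
    obtain ⟨m, hm⟩ := Subgroup.mem_zpowers_iff.mp hmem
    have h1 : (zHom p v hv z) ^ m = v := by
      rw [← map_zpow, hm, zHom_apply]
      show v ^ (1 : ZMod p).val = v
      haveI : Fact (1 < p) := ⟨hp.out.one_lt⟩
      rw [ZMod.val_one, pow_one]
    have hc : Commute k (zHom p v hv z) := h
    have := hc.zpow_right m
    rw [h1] at this
    exact this
  · intro h
    have hc : Commute k v := h
    rw [zHom_apply]
    exact hc.pow_right _

theorem zHom_mem (v : X) (hv : v ^ p = 1) {V : Subgroup X} (hvV : v ∈ V)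
    (z : Multiplicative (ZMod p)) : zHom p v hv z ∈ V := by
  rw [zHom_apply]
  exact V.pow_mem hvV _

end ZHom

section Weight

variable {X : Type u} [Group X] (V : Subgroup X) [hVn : V.Normal]

/-- the fixed points of conjugation by `h` on `V` -/
theorem card_fixed_conj [Finite X] (h : X) :
    Nat.card {u : V // MulAut.conjNormal h u = u} =
      Nat.card (V ⊓ Subgroup.centralizer ({h} : Set X) : Subgroup X) := by
  apply Nat.card_congr
  refine
    { toFun := fun u => ⟨(u.1 : X), Subgroup.mem_inf.mpr ⟨u.1.2, ?_⟩⟩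
      invFun := fun w => ⟨⟨(w : X), (Subgroup.mem_inf.mp w.2).1⟩, ?_⟩
      left_inv := fun u => rfl
      right_inv := fun w => rfl }
  · rw [Subgroup.mem_centralizer_singleton_iff]
    have h1 := congrArg Subtype.val u.2
    rw [MulAut.conjNormal_apply] at h1
    calc (u.1 : X) * h = h * (u.1 : X) * h⁻¹ * h := by rw [h1]
      _ = h * (u.1 : X) := by group
  · apply Subtype.ext
    rw [MulAut.conjNormal_apply]
    have h1 := Subgroup.mem_centralizer_singleton_iff.mp (Subgroup.mem_inf.mp w.2).2
    show h * (w : X) * h⁻¹ = w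
    rw [← h1]
    group

end Weight

end Cfsg.Agent.Lib.Helper81.KGV
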