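import Mathlib
import Cfsg.Agent.Lib.Helper81.KGVSteps

/-!
# The punctured slicing bound (helper81)

`punctured_bound`: for `ξ` on `H₁ × H'` with integral Fourier coefficients such that `ξ (1, 1)` is
not an integral multiple of `|H₁|`, and a weight `w'` on `H'` with minimum `c`,
`c * (|H₁| - 1) ≤ ∑_{x.1 ≠ 1} w' x.2 * ‖ξ x‖²`.
-/

set_option autoImplicit false
set_option linter.unusedSectionVars false
set_option linter.style.haveILetI false
set_option maxHeartbeats 400000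

namespace Cfsg.Agent.Lib.Helper81.KGV

open scoped ComplexConjugate

universe u v

section Punct

variable {H₁ : Type u} {H' : Type v} [CommGroup H₁] [Fintype H₁] [CommGroup H'] [Fintype H']

/-- the slices of a function with integral coefficients have integral coefficients -/
theorem slice_intCoeff [Fintype (H₁ →* ℂˣ)] {ξ : H₁ × H' → ℂ} (hξ : IntCoeff ξ) (a : H₁ →* ℂˣ) :
    IntCoeff (fun h' => coef (fun h₁ => ξ (h₁, h')) a) := by
  intro b
  have hn0 : (Nat.card H₁ : ℂ) ≠ 0 := card_ne_zero' (H := H₁)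
  obtain ⟨k, hk⟩ := hξ (a.coprod b)
  refine ⟨k, ?_⟩
  rw [Fintype.sum_prod_type, Finset.sum_comm] at hk
  have h1 : ∀ h' : H', coef (fun h₁ => ξ (h₁, h')) a * conj ((b h' : ℂˣ) : ℂ) =
      (Nat.card H₁ : ℂ)⁻¹ * ∑ h₁, ξ (h₁, h') * conj (((a.coprod b) (h₁, h') : ℂˣ) : ℂ) := by
    intro h'
    unfold coef
    rw [mul_assoc, Finset.sum_mul]
    congr 1
    apply Finset.sum_congr rfl
    intro h₁ _
    rw [MonoidHom.coprod_apply, Units.val_mul, map_mul]
    ring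
  simp only [h1]
  rw [← Finset.mul_sum, hk, Nat.card_prod]
  push_cast
  field_simp

/-- a function with integral coefficients takes an integral value at `1` -/
theorem IntCoeff.apply_one {η : H' → ℂ} (hη : IntCoeff η) : ∃ m : ℤ, η 1 = m := by
  classical
  haveI : Finite (H' →* ℂˣ) := finite_dual H'
  letI : Fintype (H' →* ℂˣ) := Fintype.ofFinite _
  have hn0 : (Nat.card H' : ℂ) ≠ 0 := card_ne_zero' (H := H')
  have hcoef : ∀ b : H' →* ℂˣ, ∃ k : ℤ, coef η b = k := by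
    intro b
    obtain ⟨k, hk⟩ := hη b
    refine ⟨k, ?_⟩
    unfold coef
    have : ∑ h, conj ((b h : ℂˣ) : ℂ) * η h = (Nat.card H' : ℂ) * k := by
      rw [← hk]
      apply Finset.sum_congr rfl
      intro h _
      ring
    rw [this]
    field_simp
  choose k hk using hcoef
  refine ⟨∑ b, k b, ?_⟩
  rw [← inversion η 1]
  push_cast
  apply Finset.sum_congr rfl
  intro b _
  rw [map_one, Units.val_one, one_mul, hk]

/-- the pair identity -/
theorem pair_identity {A : Type*} [Fintype A] (z : A → ℂ) :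
    (Fintype.card A : ℝ) * ∑ a, ‖z a‖ ^ 2 - ‖∑ a, z a‖ ^ 2 =
      2⁻¹ * ∑ a, ∑ b, ‖z a - z b‖ ^ 2 := by
  have h1 : ∀ a b, ‖z a - z b‖ ^ 2 = ‖z a‖ ^ 2 - 2 * inner ℝ (z a) (z b) + ‖z b‖ ^ 2 :=
    fun a b => norm_sub_sq_real (z a) (z b)
  simp only [h1, Finset.sum_add_distrib, Finset.sum_sub_distrib, Finset.sum_const,
    Finset.card_univ, nsmul_eq_mul, ← Finset.mul_sum]
  have h2 : ∑ a, ∑ b, inner ℝ (z a) (z b) = ‖∑ a, z a‖ ^ 2 := by
    rw [← real_inner_self_eq_norm_sq, sum_inner]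
    apply Finset.sum_congr rfl
    intro a _
    rw [inner_sum]
  rw [h2]
  ring

/-- **The punctured slicing bound.** -/
theorem punctured_bound [DecidableEq H₁] {w' : H' → ℝ} {c : ℝ} (hw' : ∀ x, 0 ≤ w' x) (hc : 0 ≤ c)
    (hg : Good w' c) (ξ : H₁ × H' → ℂ) (hξ : IntCoeff ξ)
    (hnd : ¬ ∃ m : ℤ, ξ (1, 1) = (Nat.card H₁ : ℂ) * m) :
    c * ((Nat.card H₁ : ℝ) - 1) ≤
      ∑ x : H₁ × H', (if x.1 = 1 then 0 else 1) * (w' x.2 * ‖ξ x‖ ^ 2) := by
  classical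
  haveI : Finite (H₁ →* ℂˣ) := finite_dual H₁
  letI : Fintype (H₁ →* ℂˣ) := Fintype.ofFinite _
  set n : ℝ := (Nat.card H₁ : ℝ) with hn
  have hcardA : Fintype.card (H₁ →* ℂˣ) = Nat.card H₁ := by
    rw [← Nat.card_eq_fintype_card, card_dual]
  let sl : (H₁ →* ℂˣ) → H' → ℂ := fun a h' => coef (fun h₁ => ξ (h₁, h')) a
  have hsl_int : ∀ a, IntCoeff (sl a) := fun a => slice_intCoeff hξ a
  have hinv : ∀ (h₁ : H₁) (h' : H'), ∑ a : H₁ →* ℂˣ, ((a h₁ : ℂˣ) : ℂ) * sl a h' = ξ (h₁, h') :=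
    fun h₁ h' => inversion (fun h₁ => ξ (h₁, h')) h₁
  -- not all slices are equal
  have hne : ∃ a b, sl a ≠ sl b := by
    by_contra hcon
    push Not at hcon
    apply hnd
    obtain ⟨m, hm⟩ := (hsl_int 1).apply_one
    refine ⟨m, ?_⟩
    rw [← hinv 1 1]
    have : ∀ a : H₁ →* ℂˣ, ((a 1 : ℂˣ) : ℂ) * sl a 1 = (m : ℂ) := by
      intro a
      rw [map_one, Units.val_one, one_mul, hcon a 1, hm]
    simp only [this, Finset.sum_const, Finset.card_univ, nsmul_eq_mul, hcardA]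
  obtain ⟨a₁, b₁, hab⟩ := hne
  -- the pointwise identity
  have hpt : ∀ h' : H', ∑ h₁ : H₁, (if h₁ = 1 then (0 : ℝ) else 1) * ‖ξ (h₁, h')‖ ^ 2 =
      2⁻¹ * ∑ a, ∑ b, ‖sl a h' - sl b h'‖ ^ 2 := by
    intro h'
    have h1 : ∀ h₁ : H₁, (if h₁ = 1 then (0 : ℝ) else 1) * ‖ξ (h₁, h')‖ ^ 2 =
        ‖ξ (h₁, h')‖ ^ 2 - (if h₁ = 1 then ‖ξ (1, h')‖ ^ 2 else 0) := by
      intro h₁
      split_ifs with hh
      · subst hh; ring
      · ring
    simp only [h1, Finset.sum_sub_distrib]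
    rw [Finset.sum_ite_eq' Finset.univ (1 : H₁)]
    simp only [Finset.mem_univ, if_true]
    have hpl := plancherel (fun h₁ => ξ (h₁, h'))
    have hn0' : n ≠ 0 := by
      have : Nat.card H₁ ≠ 0 := Nat.card_pos.ne'
      rw [hn]
      exact_mod_cast this
    have hA : ∑ h₁, ‖ξ (h₁, h')‖ ^ 2 = n * ∑ a, ‖sl a h'‖ ^ 2 := by
      have : ∑ a : H₁ →* ℂˣ, ‖sl a h'‖ ^ 2 = n⁻¹ * ∑ h₁, ‖ξ (h₁, h')‖ ^ 2 := hpl
      rw [this]
      field_simp
    have hB : ξ (1, h') = ∑ a, sl a h' := by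
      rw [← hinv 1 h']
      apply Finset.sum_congr rfl
      intro a _
      rw [map_one, Units.val_one, one_mul]
    rw [hA, hB, ← pair_identity, hcardA]
  -- sum over `h'`
  have hsum : ∑ x : H₁ × H', (if x.1 = 1 then 0 else 1) * (w' x.2 * ‖ξ x‖ ^ 2) =
      2⁻¹ * ∑ a, ∑ b, ∑ h' : H', w' h' * ‖(sl a - sl b) h'‖ ^ 2 := by
    rw [Fintype.sum_prod_type, Finset.sum_comm]
    have h1 : ∀ h' : H', ∑ h₁ : H₁, (if h₁ = 1 then (0 : ℝ) else 1) * (w' h' * ‖ξ (h₁, h')‖ ^ 2) =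
        w' h' * (2⁻¹ * ∑ a, ∑ b, ‖sl a h' - sl b h'‖ ^ 2) := by
      intro h'
      rw [← hpt h', Finset.mul_sum]
      apply Finset.sum_congr rfl
      intro h₁ _
      ring
    simp only [h1]
    have h2 : ∀ h' : H', w' h' * (2⁻¹ * ∑ a, ∑ b, ‖sl a h' - sl b h'‖ ^ 2) =
        2⁻¹ * ∑ a, ∑ b, w' h' * ‖(sl a - sl b) h'‖ ^ 2 := by
      intro h'
      simp only [Finset.mul_sum, Pi.sub_apply]
      apply Finset.sum_congr rfl
      intro a _
      apply Finset.sum_congr rfl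
      intro b _
      ring
    simp only [h2]
    rw [← Finset.mul_sum]
    congr 1
    rw [Finset.sum_comm]
    apply Finset.sum_congr rfl
    intro a _
    rw [Finset.sum_comm]
  rw [hsum]
  -- lower bounds for the pairs
  let g : (H₁ →* ℂˣ) × (H₁ →* ℂˣ) → ℝ := fun q => ∑ h' : H', w' h' * ‖(sl q.1 - sl q.2) h'‖ ^ 2
  have hg0 : ∀ q, 0 ≤ g q := fun q =>
    Finset.sum_nonneg (fun h' _ => mul_nonneg (hw' h') (by positivity))
  have hgc : ∀ q : (H₁ →* ℂˣ) × (H₁ →* ℂˣ), sl q.1 ≠ sl q.2 → c ≤ g q := by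
    intro q hq
    exact hg (sl q.1 - sl q.2) ((hsl_int q.1).sub (hsl_int q.2)) (sub_ne_zero.mpr hq)
  have hdouble : ∑ a, ∑ b, ∑ h' : H', w' h' * ‖(sl a - sl b) h'‖ ^ 2 =
      ∑ q : (H₁ →* ℂˣ) × (H₁ →* ℂˣ), g q := by
    rw [Fintype.sum_prod_type]
  rw [hdouble]
  let E : Finset (H₁ →* ℂˣ) := Finset.univ.filter (fun a => sl a = sl a₁)
  let S : Finset ((H₁ →* ℂˣ) × (H₁ →* ℂˣ)) := (E ×ˢ Eᶜ) ∪ (Eᶜ ×ˢ E)
  have hdisj : Disjoint (E ×ˢ Eᶜ) (Eᶜ ×ˢ E) := by
    rw [Finset.disjoint_left]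
    intro q hq1 hq2
    rw [Finset.mem_product] at hq1 hq2
    exact (Finset.mem_compl.mp hq2.1) hq1.1
  have hSne : ∀ q ∈ S, sl q.1 ≠ sl q.2 := by
    intro q hq
    rcases Finset.mem_union.mp hq with hq | hq
    · rw [Finset.mem_product] at hq
      have h1 : sl q.1 = sl a₁ := (Finset.mem_filter.mp hq.1).2
      have h2 : sl q.2 ≠ sl a₁ := fun h => (Finset.mem_compl.mp hq.2)
        (Finset.mem_filter.mpr ⟨Finset.mem_univ _, h⟩)
      rw [h1]
      exact fun h => h2 h.symm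
    · rw [Finset.mem_product] at hq
      have h1 : sl q.2 = sl a₁ := (Finset.mem_filter.mp hq.2).2
      have h2 : sl q.1 ≠ sl a₁ := fun h => (Finset.mem_compl.mp hq.1)
        (Finset.mem_filter.mpr ⟨Finset.mem_univ _, h⟩)
      rw [h1]
      exact h2
  have hS : (S.card : ℝ) * c ≤ ∑ q, g q := by
    calc (S.card : ℝ) * c = ∑ q ∈ S, c := by rw [Finset.sum_const, nsmul_eq_mul]
      _ ≤ ∑ q ∈ S, g q := Finset.sum_le_sum (fun q hq => hgc q (hSne q hq))
      _ ≤ ∑ q, g q := Finset.sum_le_univ_sum_of_nonneg hg0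
  -- the count
  set m : ℕ := E.card with hm
  have hm1 : 1 ≤ m := by
    rw [hm]
    exact Finset.card_pos.mpr ⟨a₁, Finset.mem_filter.mpr ⟨Finset.mem_univ _, rfl⟩⟩
  have hmn : m + 1 ≤ Nat.card H₁ := by
    have h1 : E ⊂ Finset.univ := by
      rw [Finset.ssubset_iff]
      refine ⟨b₁, ?_, Finset.subset_univ _⟩
      intro hb
      exact hab ((Finset.mem_filter.mp hb).2).symm
    have h2 := Finset.card_lt_card h1
    rw [Finset.card_univ, hcardA] at h2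
    omega
  have hScard : S.card = 2 * (m * (Nat.card H₁ - m)) := by
    show ((E ×ˢ Eᶜ) ∪ (Eᶜ ×ˢ E)).card = _
    rw [Finset.card_union_of_disjoint hdisj, Finset.card_product, Finset.card_product,
      Finset.card_compl, hcardA]
    ring
  have hSge : 2 * (n - 1) ≤ (S.card : ℝ) := by
    rw [hScard, hn]
    have h3 : Nat.card H₁ - 1 ≤ m * (Nat.card H₁ - m) := by
      obtain ⟨d, hd⟩ : ∃ d, Nat.card H₁ = m + 1 + d := ⟨Nat.card H₁ - (m + 1), by omega⟩
      rw [hd]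
      have : m + 1 + d - m = 1 + d := by omega
      rw [this]
      have : m + 1 + d - 1 = m + d := by omega
      rw [this]
      nlinarith
    have h4 : ((Nat.card H₁ - 1 : ℕ) : ℝ) = (Nat.card H₁ : ℝ) - 1 := by
      rw [Nat.cast_sub (by omega)]
      simp
    have h5 : ((Nat.card H₁ - 1 : ℕ) : ℝ) ≤ ((m * (Nat.card H₁ - m) : ℕ) : ℝ) := by
      exact_mod_cast h3
    rw [h4] at h5
    push_cast
    push_cast at h5
    linarith
  have h6 : 2 * (n - 1) * c ≤ (S.card : ℝ) * c := mul_le_mul_of_nonneg_right hSge hc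
  nlinarith [hS, h6]

end Punct

end Cfsg.Agent.Lib.Helper81.KGV
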