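import Mathlib
import Cfsg.Agent.Lib.Helper81.KGVAction
import Cfsg.Agent.Lib.Helper81.KGVPunct
import Cfsg.Agent.Lib.Helper81.KGVGroup
import Cfsg.Agent.Lib.Helper81.BrauerPerm
import Cfsg.Agent.Lib.Helper81.IrrTwist
import Cfsg.Agent.Lib.Helper75.Ito
import Cfsg.Agent.Lib.Helper80.CharBasic
import Cfsg.Agent.Lib.Helper78.CharMore
import Cfsg.Agent.Lib.Helper78.CharValues

/-!
# Knörr's abelian-stabilizer criterion for the `k(GV)` problem (helper81)

`card_conjClasses_le`: `X = V ⋊ G`, `V` an elementary abelian normal self-centralizing `p`-subgroup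
of index prime to `p`, `C_G(v)` abelian for some `v ∈ V`: then `k(X) ≤ |V|`.
-/

set_option autoImplicit false
set_option linter.unusedSectionVars false
set_option linter.style.haveILetI false
set_option maxHeartbeats 800000

namespace Cfsg.Agent.Lib.Helper81.KGV

open Cfsg
open scoped ComplexConjugate

universe u v

/-- an irreducible character pulled back to an abelian group has integral Fourier coefficients -/
theorem intCoeff_comp {X : Type u} [Group X] [Fintype X] {A : Type v} [CommGroup A] [Fintype A]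
    (f : A →* X) (χ : IrrCharacter X) : IntCoeff (fun a => (χ : X → ℂ) (f a)) := by
  intro φ
  have hchar : IsCharacter A ((χ : X → ℂ) ∘ f) :=
    Cfsg.Agent.Lib.Helper81.isCharacter_comp
      (Cfsg.Agent.Lib.Helper78.IsIrrCharacter.isCharacter χ.2) f
  obtain ⟨n, hn⟩ := Cfsg.Agent.Lib.Helper78.IsCharacter.exists_nat_classInner hchar
    ⟨fun a => ((φ a : ℂˣ) : ℂ), Cfsg.Agent.Lib.Helper80.isIrrCharacter_of_hom φ⟩
  refine ⟨n, ?_⟩
  unfold classInner at hn
  have hA : (Nat.card A : ℂ) ≠ 0 := by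
    have : Nat.card A ≠ 0 := Nat.card_pos.ne'
    exact_mod_cast this
  have h1 : ∑ a, (χ : X → ℂ) (f a) * conj ((φ a : ℂˣ) : ℂ) = (Nat.card A : ℂ) * n := by
    rw [← hn]
    field_simp
    rfl
  rw [h1]
  push_cast
  rfl

/-- second orthogonality, real form -/
theorem sum_norm_sq_eq_card {X : Type u} [Group X] [Fintype X] (y : X) :
    ∑ χ : IrrCharacter X, ‖(χ : X → ℂ) y‖ ^ 2 = (Nat.card {k : X // k * y * k⁻¹ = y} : ℝ) := by
  have h := Cfsg.Agent.Lib.Helper81.sum_irr_mul_conj_eq_card y y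
  have h1 : ∀ χ : IrrCharacter X, (χ : X → ℂ) y * conj ((χ : X → ℂ) y) =
      ((‖(χ : X → ℂ) y‖ ^ 2 : ℝ) : ℂ) := by
    intro χ
    rw [Complex.mul_conj, Complex.normSq_eq_norm_sq]
  simp only [h1] at h
  have h2 : ((∑ χ : IrrCharacter X, ‖(χ : X → ℂ) y‖ ^ 2 : ℝ) : ℂ) =
      ((Nat.card {k : X // k * y * k⁻¹ = y} : ℝ) : ℂ) := by
    push_cast
    exact_mod_cast h
  exact_mod_cast h2

/-- **Knörr's criterion.** -/
theorem card_conjClasses_le {X : Type u} [Group X] [Finite X] (p : ℕ) [hp : Fact p.Prime]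
    (V G : Subgroup X) [hVn : V.Normal] (v : X) (hs : Setup p V G v) :
    Nat.card (ConjClasses X) ≤ Nat.card V := by
  classical
  letI : Fintype X := Fintype.ofFinite X
  letI cH : CommGroup (Hs G v) :=
    { (inferInstance : Group (Hs G v)) with
      mul_comm := fun a b => Subtype.ext (hs.ab a a.2 b b.2) }
  letI cV : CommGroup V :=
    { (inferInstance : Group V) with
      mul_comm := fun a b => Subtype.ext (hs.comm a.2 b.2) }
  letI : Fintype (Hs G v) := Fintype.ofFinite _
  letI : Fintype V := Fintype.ofFinite _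
  -- the action
  let actH : (Hs G v) →* MulAut V := (MulAut.conjNormal (H := V)).comp (Hs G v).subtype
  have hinj : Function.Injective actH := by
    rw [injective_iff_map_eq_one]
    intro h hh
    have h1 : (h : X) ∈ Subgroup.centralizer (V : Set X) := by
      rw [Subgroup.mem_centralizer_iff]
      intro u hu
      have h2 := congrArg (fun f : MulAut V => ((f ⟨u, hu⟩ : V) : X)) hh
      have h3 : (h : X) * u * (h : X)⁻¹ = u := h2
      calc u * (h : X) = (h : X) * u * (h : X)⁻¹ * (h : X) := by rw [h3]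
        _ = (h : X) * u := by group
    rw [hs.self] at h1
    have h2 : (h : X) ∈ V ⊓ G := ⟨h1, (Subgroup.mem_inf.mp h.2).1⟩
    rw [hs.inf_eq_bot, Subgroup.mem_bot] at h2
    exact Subtype.ext h2
  have hexpV : ∀ x : V, x ^ p = 1 := fun x => Subtype.ext (by
    rw [Subgroup.coe_pow]; exact hs.vexp x x.2)
  have hgood : Good (wt actH) ((Nat.card (Hs G v) : ℝ) ^ 2) :=
    good_of_action p (Nat.card V) V rfl hexpV (Hs G v) actH hinj hs.coprime_H
  -- the abelian group `ℤ/p × H`
  have hvp : v ^ p = 1 := hs.vexp v hs.hv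
  let f₁ := zHom p v hvp
  have hcommf : ∀ (z : Multiplicative (ZMod p)) (g : Hs G v),
      Commute (f₁ z) ((Hs G v).subtype g) := by
    intro z g
    have h1 : (g : X) * v = v * (g : X) := (mem_Hs_iff.mp g.2).2
    have h2 : Commute (g : X) v := h1
    show Commute (v ^ _) (g : X)
    exact (h2.pow_right _).symm
  let f : Multiplicative (ZMod p) × (Hs G v) →* X := f₁.noncommCoprod (Hs G v).subtype hcommf
  have hf : ∀ x, f x = f₁ x.1 * (x.2 : X) := fun x => rfl
  set cH2 : ℝ := (Nat.card (Hs G v) : ℝ) ^ 2 with hcH2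
  have hcardZ : Nat.card (Multiplicative (ZMod p)) = p := card_mulZMod p
  -- lower bound for each character
  have hlow : ∀ χ : IrrCharacter X, cH2 * ((p : ℝ) - 1) ≤
      ∑ x : Multiplicative (ZMod p) × (Hs G v),
        (if x.1 = 1 then 0 else 1) * (wt actH x.2 * ‖(χ : X → ℂ) (f x)‖ ^ 2) := by
    intro χ
    have h1 := punctured_bound (H₁ := Multiplicative (ZMod p)) (wt_nonneg actH)
      (by positivity) hgood (fun x => (χ : X → ℂ) (f x)) (intCoeff_comp f χ) (by
        rintro ⟨m, hm⟩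
        have h2 : f (1, 1) = 1 := map_one f
        rw [h2,
          Cfsg.Agent.Lib.Helper78.IsCharacter.apply_one_eq_charDegree
            (Cfsg.Agent.Lib.Helper78.IsIrrCharacter.isCharacter χ.2), hcardZ] at hm
        have h3 : ((charDegree (χ : X → ℂ) : ℕ) : ℤ) = (p : ℤ) * m := by exact_mod_cast hm
        have h4 : (p : ℤ) ∣ ((charDegree (χ : X → ℂ) : ℕ) : ℤ) := ⟨m, h3⟩
        have h5 : p ∣ charDegree (χ : X → ℂ) := Int.natCast_dvd_natCast.mp h4
        have h6 : charDegree (χ : X → ℂ) ∣ V.index :=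
          Cfsg.Agent.Lib.Helper75.ito V (fun a ha b hb => hs.comm ha hb) (χ : X → ℂ) χ.2
        exact hs.idx (h5.trans h6))
    rw [hcardZ] at h1
    exact h1
  -- the column sums
  have hcol : ∀ x : Multiplicative (ZMod p) × (Hs G v), x.1 ≠ 1 →
      wt actH x.2 * ∑ χ : IrrCharacter X, ‖(χ : X → ℂ) (f x)‖ ^ 2 =
        (Nat.card V : ℝ) * (Nat.card (Hs G v) : ℝ) := by
    intro x hx
    rw [sum_norm_sq_eq_card, hf, hs.card_centralizer_mul (zHom_mem p v hvp hs.hv x.1)
      (commute_zHom_iff p v hvp hx) x.2.2]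
    unfold wt
    have h1 : Nat.card {u : V // actH x.2 u = u} =
        Nat.card (V ⊓ Subgroup.centralizer ({(x.2 : X)} : Set X) : Subgroup X) :=
      card_fixed_conj V (x.2 : X)
    rw [h1]
    have h2 : (Nat.card (V ⊓ Subgroup.centralizer ({(x.2 : X)} : Set X) : Subgroup X) : ℝ) ≠ 0 := by
      have : Nat.card (V ⊓ Subgroup.centralizer ({(x.2 : X)} : Set X) : Subgroup X) ≠ 0 :=
        Nat.card_pos.ne'
      exact_mod_cast this
    push_cast
    field_simp
  -- the total
  have htotal : ∑ χ : IrrCharacter X, ∑ x : Multiplicative (ZMod p) × (Hs G v),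
      (if x.1 = 1 then 0 else 1) * (wt actH x.2 * ‖(χ : X → ℂ) (f x)‖ ^ 2) =
      ((p : ℝ) - 1) * (Nat.card (Hs G v) : ℝ) * ((Nat.card V : ℝ) * (Nat.card (Hs G v) : ℝ)) := by
    rw [Finset.sum_comm]
    have h1 : ∀ x : Multiplicative (ZMod p) × (Hs G v),
        ∑ χ : IrrCharacter X, (if x.1 = 1 then (0 : ℝ) else 1) *
          (wt actH x.2 * ‖(χ : X → ℂ) (f x)‖ ^ 2) =
        (if x.1 = 1 then (0 : ℝ) else 1) *
          ((Nat.card V : ℝ) * (Nat.card (Hs G v) : ℝ)) := by
      intro x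
      rw [← Finset.mul_sum, ← Finset.mul_sum]
      split_ifs with hx
      · simp
      · rw [hcol x hx]
    simp only [h1]
    rw [← Finset.sum_mul]
    congr 1
    rw [Fintype.sum_prod_type]
    have e2 : ∀ z : Multiplicative (ZMod p), ∑ _h : Hs G v, (if z = 1 then (0 : ℝ) else 1) =
        (if z = 1 then 0 else (Nat.card (Hs G v) : ℝ)) := by
      intro z
      split_ifs
      · simp
      · simp [Nat.card_eq_fintype_card]
    simp only [e2]
    rw [Finset.sum_ite, Finset.sum_const_zero, zero_add, Finset.sum_const, nsmul_eq_mul]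
    congr 1
    have e3 : (Finset.univ.filter (fun z : Multiplicative (ZMod p) => ¬ z = 1)) =
        Finset.univ.erase 1 := by
      ext z
      simp
    rw [e3, Finset.card_erase_of_mem (Finset.mem_univ _), Finset.card_univ,
      ← Nat.card_eq_fintype_card, hcardZ, Nat.cast_sub hp.out.one_lt.le]
    simp
  -- conclusion
  have hsum : (Nat.card (IrrCharacter X) : ℝ) * (cH2 * ((p : ℝ) - 1)) ≤
      ((p : ℝ) - 1) * (Nat.card (Hs G v) : ℝ) * ((Nat.card V : ℝ) * (Nat.card (Hs G v) : ℝ)) := by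
    rw [← htotal]
    calc (Nat.card (IrrCharacter X) : ℝ) * (cH2 * ((p : ℝ) - 1))
        = ∑ _χ : IrrCharacter X, cH2 * ((p : ℝ) - 1) := by
          rw [Finset.sum_const, Finset.card_univ, nsmul_eq_mul, Nat.card_eq_fintype_card]
      _ ≤ _ := Finset.sum_le_sum (fun χ _ => hlow χ)
  have hHpos : (0 : ℝ) < (Nat.card (Hs G v) : ℝ) := by
    have : 0 < Nat.card (Hs G v) := Nat.card_pos
    exact_mod_cast this
  have hp1 : (0 : ℝ) < (p : ℝ) - 1 := by
    have : (1 : ℝ) < (p : ℝ) := by exact_mod_cast hp.out.one_lt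
    linarith
  have hfinal : (Nat.card (IrrCharacter X) : ℝ) ≤ (Nat.card V : ℝ) := by
    have h1 : (Nat.card (IrrCharacter X) : ℝ) * (cH2 * ((p : ℝ) - 1)) ≤
        (Nat.card V : ℝ) * (cH2 * ((p : ℝ) - 1)) := by
      rw [hcH2]
      rw [hcH2] at hsum
      nlinarith [hsum]
    have h2 : 0 < cH2 * ((p : ℝ) - 1) := by
      rw [hcH2]
      positivity
    exact le_of_mul_le_mul_right h1 h2
  rw [← Cfsg.Agent.Lib.Helper78.card_irrCharacter]
  exact_mod_cast hfinal

end Cfsg.Agent.Lib.Helper81.KGV
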