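import Mathlib

/-!
# Index of a stabilizer under a regular action of a `p`-section (helper81)

* `relIndex_sup_of_normal`: `|T N₀ : T| = |N₀ : T ∩ N₀|` for `N₀` normal.
* `stabilizer_index_of_regular`: a group `N` acts on `X`; a subgroup `S` acts transitively on the
  `N`-orbit of `y` with point stabilizer `S₀ ⊴ N`, `|S : S₀|` a power of `p`; `N₀ ⊴ N` contains `S₀`
  with `p'`-index.  Then `N₀` fixes `y` and the stabilizer of `y` has index `|S : S₀|`.
-/

set_option autoImplicit false

namespace Cfsg.Agent.Lib.Helper81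

theorem relIndex_sup_of_normal {N : Type*} [Group N] [Finite N] (T N₀ : Subgroup N) [N₀.Normal] :
    T.relIndex (T ⊔ N₀) = T.relIndex N₀ := by
  have h1 : Nat.card T = Nat.card (T ⊓ N₀ : Subgroup N) * N₀.relIndex T := by
    have := Subgroup.relIndex_mul_relIndex (H := (⊥ : Subgroup N)) (K := T ⊓ N₀) (L := T) bot_le
      inf_le_left
    rw [Subgroup.relIndex_bot_left, Subgroup.relIndex_bot_left] at this
    rw [← this, inf_comm, Subgroup.inf_relIndex_right]
  have h2 : Nat.card N₀ = Nat.card (T ⊓ N₀ : Subgroup N) * T.relIndex N₀ := by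
    have := Subgroup.relIndex_mul_relIndex (H := (⊥ : Subgroup N)) (K := T ⊓ N₀) (L := N₀) bot_le
      inf_le_right
    rw [Subgroup.relIndex_bot_left, Subgroup.relIndex_bot_left] at this
    rw [← this, Subgroup.inf_relIndex_right]
  have h3 : Nat.card (T ⊔ N₀ : Subgroup N) = Nat.card N₀ * N₀.relIndex T := by
    have := Subgroup.relIndex_mul_relIndex (H := (⊥ : Subgroup N)) (K := N₀) (L := T ⊔ N₀) bot_le
      le_sup_right
    rw [Subgroup.relIndex_bot_left, Subgroup.relIndex_bot_left, Subgroup.relIndex_sup_right] at this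
    exact this.symm
  have h4 : Nat.card (T ⊔ N₀ : Subgroup N) = Nat.card T * T.relIndex (T ⊔ N₀) := by
    have := Subgroup.relIndex_mul_relIndex (H := (⊥ : Subgroup N)) (K := T) (L := T ⊔ N₀) bot_le
      le_sup_left
    rw [Subgroup.relIndex_bot_left, Subgroup.relIndex_bot_left] at this
    exact this.symm
  have hpos1 : 0 < Nat.card (T ⊓ N₀ : Subgroup N) := Nat.card_pos
  have hpos2 : 0 < N₀.relIndex T := by
    rcases Nat.eq_zero_or_pos (N₀.relIndex T) with h | h
    · rw [h, mul_zero] at h1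
      exact absurd h1 (Nat.card_pos).ne'
    · exact h
  rw [h4, h1, h2] at h3
  have h5 : Nat.card (T ⊓ N₀ : Subgroup N) * N₀.relIndex T * T.relIndex (T ⊔ N₀) =
      Nat.card (T ⊓ N₀ : Subgroup N) * N₀.relIndex T * T.relIndex N₀ := by
    rw [h3]; ring
  exact Nat.eq_of_mul_eq_mul_left (Nat.mul_pos hpos1 hpos2) h5

theorem stabilizer_index_of_regular {N : Type*} [Group N] [Finite N] {X : Type*} [MulAction N X]
    (y : X) (S S₀ N₀ : Subgroup N) [N₀.Normal] (hS₀S : S₀ ≤ S) (hS₀N₀ : S₀ ≤ N₀)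
    (htriv : ∀ s ∈ S₀, s • y = y) (hfree : ∀ s ∈ S, s • y = y → s ∈ S₀)
    (htrans : ∀ n : N, ∃ s ∈ S, n • y = s • y) (p : ℕ) [hp : Fact p.Prime] (b : ℕ)
    (hq : S₀.relIndex S = p ^ b) (hcop : ¬ p ∣ S₀.relIndex N₀) :
    N₀ ≤ MulAction.stabilizer N y ∧ (MulAction.stabilizer N y).index = S₀.relIndex S := by
  classical
  set T := MulAction.stabilizer N y with hT
  have hS₀T : S₀ ≤ T := fun s hs => MulAction.mem_stabilizer_iff.2 (htriv s hs)
  -- index of `T`
  have hidx : T.index = S₀.relIndex S := by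
    rw [hT, MulAction.index_stabilizer]
    have horb : MulAction.orbit N y = MulAction.orbit S y := by
      ext x
      constructor
      · rintro ⟨n, rfl⟩
        obtain ⟨s, hs, hns⟩ := htrans n
        exact ⟨⟨s, hs⟩, hns.symm⟩
      · rintro ⟨s, rfl⟩
        exact ⟨(s : N), rfl⟩
    rw [horb, ← MulAction.index_stabilizer]
    have hstab : MulAction.stabilizer S y = S₀.subgroupOf S := by
      ext s
      rw [MulAction.mem_stabilizer_iff, Subgroup.mem_subgroupOf]
      constructor
      · intro h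
        exact hfree (s : N) s.2 h
      · intro h
        exact htriv (s : N) h
    rw [hstab]
    rfl
  refine ⟨?_, hidx⟩
  -- `N₀ ≤ T`
  have h1 : T.relIndex N₀ ∣ S₀.relIndex N₀ := Subgroup.relIndex_dvd_of_le_left N₀ hS₀T
  have h2 : T.relIndex N₀ ∣ p ^ b := by
    rw [← relIndex_sup_of_normal T N₀, ← hq, ← hidx]
    exact Subgroup.relIndex_dvd_index_of_le le_sup_left
  have h3 : T.relIndex N₀ = 1 := by
    obtain ⟨j, _, hj⟩ := (Nat.dvd_prime_pow hp.out).1 h2
    rcases Nat.eq_zero_or_pos j with h0 | hpos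
    · rw [hj, h0, pow_zero]
    · exfalso
      apply hcop
      have : p ∣ T.relIndex N₀ := by
        rw [hj]
        exact dvd_pow_self p hpos.ne'
      exact this.trans h1
  exact Subgroup.relIndex_eq_one.1 h3

end Cfsg.Agent.Lib.Helper81
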