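import Mathlib
import Cfsg.Agent.Lib.Helper81.StabIndex

/-!
# Group-theoretic tools for counting odd-degree characters of solvable groups (helper81)

* `OddReal.exists_conj_of_sylow_in`: Sylow conjugacy inside a subgroup.
* `OddReal.mem_of_two_pow_of_odd_relIndex`: a `2`-element of `M` lies in `Z` if `|M : Z|` is odd.
* `OddReal.exists_mul_of_two_pow_relIndex`: `M = Z (M ∩ A)` if `|M : Z|` is a power of `2` and
  `A` has odd index.
* `OddReal.card_fix_pairs`: for a transitive action, the number of pairs `(x, n)` with `n x = x`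
  is the group order.
* `OddReal.exists_step`: in a solvable group every proper normal subgroup `Z` lies in a bigger
  normal subgroup `M` with `M / Z` abelian and either a `2`-group or of odd order.
-/

set_option autoImplicit false

namespace Cfsg.Agent.Lib.Helper81.OddReal

open scoped Pointwise

variable {H : Type*} [Group H]

/-- Sylow conjugacy inside a subgroup `T`: two `2`-subgroups of `T` of odd index are conjugate
by an element of `T`. -/
theorem exists_conj_of_sylow_in [Finite H] (T A B : Subgroup H) (hA : A ≤ T) (hB : B ≤ T)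
    (hA2 : IsPGroup 2 A) (hB2 : IsPGroup 2 B) (hAi : Odd A.index) (hBi : Odd B.index) :
    ∃ t ∈ T, ∀ x, x ∈ B ↔ t⁻¹ * x * t ∈ A := by
  have : Fact (Nat.Prime 2) := ⟨Nat.prime_two⟩
  have hidx : ∀ C : Subgroup H, C ≤ T → Odd C.index → ¬ 2 ∣ (C.subgroupOf T).index := by
    intro C hC hCi h2
    have h1 : (C.subgroupOf T).index ∣ C.index := by
      rw [← Subgroup.relIndex]
      exact ⟨T.index, (Subgroup.relIndex_mul_index hC).symm⟩
    exact (Nat.not_even_iff_odd.mpr hCi) (even_iff_two_dvd.mpr (dvd_trans h2 h1))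
  have hA2' : IsPGroup 2 (A.subgroupOf T) := hA2.comap_subtype
  have hB2' : IsPGroup 2 (B.subgroupOf T) := hB2.comap_subtype
  let SA : Sylow 2 T := hA2'.toSylow (hidx A hA hAi)
  let SB : Sylow 2 T := hB2'.toSylow (hidx B hB hBi)
  obtain ⟨t, ht⟩ := MulAction.exists_smul_eq T SA SB
  refine ⟨t, t.2, fun x => ?_⟩
  have h1 : ∀ y : T, y ∈ (SB : Subgroup T) ↔ t⁻¹ * y * t ∈ (SA : Subgroup T) := by
    intro y
    rw [← ht, Sylow.coe_subgroup_smul, Subgroup.mem_pointwise_smul_iff_inv_smul_mem]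
    simp [MulAut.smul_def]
  constructor
  · intro hx
    have := (h1 ⟨x, hB hx⟩).mp (by
      change (⟨x, hB hx⟩ : T) ∈ B.subgroupOf T
      exact Subgroup.mem_subgroupOf.mpr hx)
    have h2 : t⁻¹ * ⟨x, hB hx⟩ * t ∈ A.subgroupOf T := this
    simpa [Subgroup.mem_subgroupOf] using h2
  · intro hx
    have hxT : x ∈ T := by
      have h3 : t⁻¹.1 * x * t.1 ∈ T := hA (by simpa using hx)
      have h4 : x = t.1 * (t⁻¹.1 * x * t.1) * (t.1)⁻¹ := by
        simp [mul_assoc]
      rw [h4]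
      exact T.mul_mem (T.mul_mem t.2 h3) (T.inv_mem t.2)
    have h2 : (⟨x, hxT⟩ : T) ∈ (SB : Subgroup T) := by
      rw [h1]
      change t⁻¹ * ⟨x, hxT⟩ * t ∈ A.subgroupOf T
      simpa [Subgroup.mem_subgroupOf] using hx
    have h3 : (⟨x, hxT⟩ : T) ∈ B.subgroupOf T := h2
    exact Subgroup.mem_subgroupOf.mp h3

/-- `x ^ |M : Z| ∈ Z` for `x ∈ M`, `Z` normal. -/
theorem pow_relIndex_mem (Z M : Subgroup H) [Z.Normal] {x : H} (hxM : x ∈ M) :
    x ^ Z.relIndex M ∈ Z := by
  have h := Subgroup.pow_index_mem (Z.subgroupOf M) (⟨x, hxM⟩ : M)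
  rw [Subgroup.mem_subgroupOf] at h
  simpa [Subgroup.relIndex] using h

/-- if `x ^ a ∈ Z`, `x ^ b ∈ Z` with `a`, `b` coprime then `x ∈ Z`. -/
theorem mem_of_pow_mem_of_coprime (Z : Subgroup H) {x : H} {a b : ℕ} (hab : a.Coprime b)
    (ha : x ^ a ∈ Z) (hb : x ^ b ∈ Z) : x ∈ Z := by
  have h1 : (1 : ℤ) = a * Nat.gcdA a b + b * Nat.gcdB a b := by
    have := Nat.gcd_eq_gcd_ab a b
    rw [hab.gcd_eq_one] at this
    exact_mod_cast this
  have h2 : x = (x ^ a) ^ (Nat.gcdA a b) * (x ^ b) ^ (Nat.gcdB a b) := by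
    rw [← zpow_natCast x a, ← zpow_natCast x b, ← zpow_mul, ← zpow_mul, ← zpow_add, ← h1,
      zpow_one]
  rw [h2]
  exact Z.mul_mem (Z.zpow_mem ha _) (Z.zpow_mem hb _)

/-- an element of `M` of `2`-power order modulo `Z` lies in `Z` when `|M : Z|` is odd. -/
theorem mem_of_two_pow_of_odd_relIndex (Z M : Subgroup H) [Z.Normal]
    (hodd : Odd (Z.relIndex M)) {x : H} (hxM : x ∈ M) {k : ℕ} (hx : x ^ (2 ^ k) ∈ Z) : x ∈ Z := by
  apply mem_of_pow_mem_of_coprime Z _ (pow_relIndex_mem Z M hxM) hx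
  exact (Nat.Coprime.pow_right k hodd.coprime_two_right)

/-- `M = Z (M ∩ A)` when `|M : Z|` is a power of `2` and `A` has odd index. -/
theorem exists_mul_of_two_pow_relIndex [Finite H] (Z M A : Subgroup H) [Z.Normal] [M.Normal]
    (k : ℕ) (hk : Z.relIndex M = 2 ^ k) (hA : Odd A.index) {m : H} (hm : m ∈ M) :
    ∃ z ∈ Z, ∃ a ∈ A, m = z * a := by
  set R : Subgroup H := Z ⊔ A with hR
  have hAR : A ≤ R := le_sup_right
  have hZR : Z ≤ R := le_sup_left
  -- `|M : M ∩ R|` is odd and a power of two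
  have h1 : R.relIndex M ∣ Z.relIndex M := Subgroup.relIndex_dvd_of_le_left M hZR
  have h2 : R.relIndex M ∣ R.index := by
    have h3 : R.relIndex (R ⊔ M) = R.relIndex M :=
      Cfsg.Agent.Lib.Helper81.relIndex_sup_of_normal R M
    rw [← h3]
    exact ⟨(R ⊔ M).index, (Subgroup.relIndex_mul_index le_sup_left).symm⟩
  have h5 : R.index ∣ A.index := Subgroup.index_dvd_of_le hAR
  have h6 : Odd (R.relIndex M) := by
    have h7 : R.relIndex M ∣ A.index := dvd_trans h2 h5
    obtain ⟨c, hc⟩ := h7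
    rw [hc] at hA
    exact (Nat.odd_mul.mp hA).1
  have h8 : R.relIndex M = 1 := by
    rw [hk] at h1
    obtain ⟨j, _, hj⟩ := (Nat.dvd_prime_pow Nat.prime_two).mp h1
    rw [hj] at h6 ⊢
    rcases Nat.eq_zero_or_pos j with h0 | h0
    · rw [h0, pow_zero]
    · exfalso
      have : Even (2 ^ j) := (Nat.even_pow' h0.ne').mpr even_two
      exact (Nat.not_even_iff_odd.mpr h6) this
  have h9 : M ≤ R := Subgroup.relIndex_eq_one.mp h8
  have h10 : m ∈ (↑(Z ⊔ A) : Set H) := h9 hm
  rw [Subgroup.normal_mul] at h10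
  obtain ⟨z, hz, a, ha, hza⟩ := Set.mem_mul.mp h10
  exact ⟨z, hz, a, ha, hza.symm⟩

/-- For a transitive action on a nonempty finite set, the number of pairs `(x, n)` with
`n x = x` equals the order of the group. -/
theorem card_fix_pairs {N X : Type*} [Group N] [Finite N] [Finite X] [Nonempty X]
    (act : N → X → X) (hmul : ∀ a b x, act (a * b) x = act a (act b x))
    (h1 : ∀ x, act 1 x = x) (htrans : ∀ x y, ∃ n, act n x = y) :
    Nat.card {p : X × N // act p.2 p.1 = p.1} = Nat.card N := by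
  classical
  obtain ⟨x₀⟩ := ‹Nonempty X›
  choose m hm using fun x => htrans x₀ x
  have hinv : ∀ a x, act a⁻¹ (act a x) = x := fun a x => by
    rw [← hmul, inv_mul_cancel, h1]
  let Φ : {p : X × N // act p.2 p.1 = p.1} → N := fun p => p.1.2 * m p.1.1
  have hΦ : ∀ p, act (Φ p) x₀ = p.1.1 := fun p => by
    change act (p.1.2 * m p.1.1) x₀ = p.1.1
    rw [hmul, hm, p.2]
  apply Nat.card_congr (Equiv.ofBijective Φ ⟨?_, ?_⟩)
  · intro p p' hpp
    have hx : p.1.1 = p'.1.1 := by rw [← hΦ p, ← hΦ p', hpp]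
    have hn : p.1.2 = p'.1.2 := by
      have h2 : p.1.2 * m p.1.1 = p'.1.2 * m p'.1.1 := hpp
      rw [hx] at h2
      exact mul_right_cancel h2
    exact Subtype.ext (Prod.ext hx hn)
  · intro g
    refine ⟨⟨(act g x₀, g * (m (act g x₀))⁻¹), ?_⟩, ?_⟩
    · change act (g * (m (act g x₀))⁻¹) (act g x₀) = act g x₀
      rw [hmul]
      have h3 : act (m (act g x₀))⁻¹ (act g x₀) = x₀ := by
        have h4 := hinv (m (act g x₀)) x₀
        rw [hm (act g x₀)] at h4
        exact h4
      rw [h3]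
    · change g * (m (act g x₀))⁻¹ * m (act g x₀) = g
      rw [inv_mul_cancel_right]

/-- a nontrivial solvable group has a nontrivial abelian normal subgroup. -/
theorem exists_abelian_normal (K : Type*) [Group K] [hK : Group.IsSolvable K] [Nontrivial K] :
    ∃ A : Subgroup K, A.Normal ∧ A ≠ ⊥ ∧ ∀ a ∈ A, ∀ b ∈ A, a * b = b * a := by
  classical
  have hex : ∃ n, derivedSeries K n = ⊥ := hK.solvable
  have h0 : Nat.find hex ≠ 0 := by
    intro h0
    have h1 := Nat.find_spec hex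
    rw [h0, derivedSeries_zero] at h1
    exact top_ne_bot h1
  obtain ⟨k, hk⟩ := Nat.exists_eq_succ_of_ne_zero h0
  refine ⟨derivedSeries K k, inferInstance, ?_, ?_⟩
  · intro h
    have := Nat.find_min' hex h
    omega
  · intro a ha b hb
    have h1 := Nat.find_spec hex
    rw [hk, derivedSeries_succ, Subgroup.commutator_eq_bot_iff_le_centralizer] at h1
    have h2 := h1 ha
    rw [Subgroup.mem_centralizer_iff] at h2
    exact (h2 b hb).symm

/-- a nontrivial finite solvable group has a nontrivial abelian normal subgroup which is a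
`2`-group or has odd order. -/
theorem exists_abelian_normal_two_or_odd (K : Type*) [Group K] [Finite K] [Group.IsSolvable K]
    [Nontrivial K] :
    ∃ B : Subgroup K, B.Normal ∧ B ≠ ⊥ ∧ (∀ a ∈ B, ∀ b ∈ B, a * b = b * a) ∧
      ((∃ k, Nat.card B = 2 ^ k) ∨ Odd (Nat.card B)) := by
  classical
  obtain ⟨A, hAn, hA1, hAc⟩ := exists_abelian_normal K
  -- the 2-part of `A`
  let A₂ : Subgroup K :=
    { carrier := {x | x ∈ A ∧ ∃ k : ℕ, x ^ (2 ^ k) = 1}
      one_mem' := ⟨A.one_mem, 0, by simp⟩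
      mul_mem' := by
        rintro x y ⟨hx, k, hk⟩ ⟨hy, l, hl⟩
        refine ⟨A.mul_mem hx hy, k + l, ?_⟩
        have hc : Commute x y := hAc x hx y hy
        rw [hc.mul_pow, pow_add, pow_mul, hk, one_pow, one_mul, mul_comm, pow_mul, hl, one_pow]
      inv_mem' := by
        rintro x ⟨hx, k, hk⟩
        exact ⟨A.inv_mem hx, k, by rw [inv_pow, hk, inv_one]⟩ }
  have hA₂n : A₂.Normal := by
    constructor
    rintro x ⟨hx, k, hk⟩ g
    refine ⟨hAn.conj_mem x hx g, k, ?_⟩
    rw [conj_pow, hk, mul_one, mul_inv_cancel]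
  have hA₂A : A₂ ≤ A := fun x hx => hx.1
  by_cases h2 : A₂ = ⊥
  · -- `A` has odd order
    refine ⟨A, hAn, hA1, hAc, Or.inr ?_⟩
    by_contra hodd
    have heven : 2 ∣ Nat.card A := even_iff_two_dvd.mp (Nat.not_odd_iff_even.mp hodd)
    have : Fact (Nat.Prime 2) := ⟨Nat.prime_two⟩
    obtain ⟨x, hx⟩ := exists_prime_orderOf_dvd_card' (G := A) 2 heven
    have hx2 : (x : K) ∈ A₂ := by
      refine ⟨x.2, 1, ?_⟩
      have h3 : x ^ 2 = 1 := by rw [← hx]; exact pow_orderOf_eq_one x
      have h4 : ((x ^ 2 : A) : K) = 1 := by rw [h3]; rfl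
      simpa using h4
    rw [h2, Subgroup.mem_bot] at hx2
    have hx1 : x = 1 := Subtype.ext hx2
    rw [hx1, orderOf_one] at hx
    omega
  · refine ⟨A₂, hA₂n, h2, fun a ha b hb => hAc a (hA₂A ha) b (hA₂A hb), Or.inl ?_⟩
    have : Fact (Nat.Prime 2) := ⟨Nat.prime_two⟩
    have hp : IsPGroup 2 A₂ := by
      rintro ⟨x, hx, k, hk⟩
      exact ⟨k, Subtype.ext (by simpa using hk)⟩
    exact (IsPGroup.iff_card.mp hp)

/-- **Existence of a step.**  In a finite solvable group every proper normal subgroup `Z` lies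
in a strictly bigger normal subgroup `M` with `M / Z` abelian and either a `2`-group or of odd
order. -/
theorem exists_step [Finite H] [Group.IsSolvable H] (Z : Subgroup H) [hZ : Z.Normal] (hZ1 : Z ≠ ⊤) :
    ∃ M : Subgroup H, M.Normal ∧ Z ≤ M ∧ ¬ M ≤ Z ∧
      (∀ x ∈ M, ∀ y ∈ M, x * y * x⁻¹ * y⁻¹ ∈ Z) ∧
      ((∃ k, Z.relIndex M = 2 ^ k) ∨ Odd (Z.relIndex M)) := by
  classical
  have : Nontrivial (H ⧸ Z) := by
    by_contra hnt
    rw [not_nontrivial_iff_subsingleton] at hnt
    apply hZ1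
    rw [eq_top_iff]
    intro h _
    have : (QuotientGroup.mk' Z h) = 1 := Subsingleton.elim _ _
    exact (QuotientGroup.eq_one_iff h).mp this
  obtain ⟨B, hBn, hB1, hBc, hB⟩ := exists_abelian_normal_two_or_odd (H ⧸ Z)
  have hker : (QuotientGroup.mk' Z).ker = Z := QuotientGroup.ker_mk' Z
  have hsurj : Function.Surjective (QuotientGroup.mk' Z) := QuotientGroup.mk'_surjective Z
  refine ⟨B.comap (QuotientGroup.mk' Z), inferInstance, ?_, ?_, ?_, ?_⟩
  · intro z hz
    rw [Subgroup.mem_comap]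
    have : QuotientGroup.mk' Z z = 1 := (QuotientGroup.eq_one_iff z).mpr hz
    rw [this]
    exact B.one_mem
  · intro hle
    apply hB1
    rw [eq_bot_iff]
    intro x hx
    obtain ⟨h, rfl⟩ := hsurj x
    have h1 : h ∈ Z := hle (Subgroup.mem_comap.mpr hx)
    rw [Subgroup.mem_bot]
    exact (QuotientGroup.eq_one_iff h).mpr h1
  · intro x hx y hy
    rw [Subgroup.mem_comap] at hx hy
    rw [← QuotientGroup.eq_one_iff (N := Z)]
    have h1 := hBc _ hx _ hy
    change QuotientGroup.mk' Z (x * y * x⁻¹ * y⁻¹) = 1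
    rw [map_mul, map_mul, map_mul, h1, map_inv, map_inv]
    group
  · have h1 : Z.relIndex (B.comap (QuotientGroup.mk' Z)) = Nat.card B := by
      have h2 : (⊥ : Subgroup (H ⧸ Z)).comap (QuotientGroup.mk' Z) = Z := by
        rw [MonoidHom.comap_bot, hker]
      have h3 : ((⊥ : Subgroup (H ⧸ Z)).comap (QuotientGroup.mk' Z)).relIndex
          (B.comap (QuotientGroup.mk' Z)) = Nat.card B := by
        rw [Subgroup.relIndex_comap, Subgroup.map_comap_eq_self_of_surjective hsurj,
          Subgroup.relIndex_bot_left]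
      rw [h2] at h3
      exact h3
    rw [h1]
    exact hB

end Cfsg.Agent.Lib.Helper81.OddReal
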