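import Mathlib
import Cfsg.Agent.Lib.Helper4.LinearExt
import Cfsg.Agent.Lib.Helper81.ORGroup

/-!
# Linear characters: extension over sections of coprime order (helper81)

* `OddReal.SFix`: the fixedness predicate (`b = true`: real-valued; `b = false`: no condition).
* `OddReal.exists_extension_of_coprime`: an invariant homomorphism `ν : Z →* ℂˣ` with `ν ^ o = 1`
  extends to `M` with `ν̂ ^ o = 1` if `o` is prime to `|M : Z|` (transfer).
* `OddReal.extension_unique`: such an extension is unique.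
-/

set_option autoImplicit false

namespace Cfsg.Agent.Lib.Helper81.OddReal

/-- fixedness predicate: for `b = true` the function is real-valued; for `b = false` there is
no condition. -/
def SFix (b : Bool) {X : Type*} (f : X → ℂ) : Prop := b = true → ∀ x, (f x).im = 0

/-- a real root of unity squares to one. -/
theorem unit_sq_eq_one_of_real (z : ℂˣ) {n : ℕ} (hn : n ≠ 0) (hz : z ^ n = 1)
    (him : ((z : ℂˣ) : ℂ).im = 0) : z ^ 2 = 1 := by
  have h1 : ((z : ℂˣ) : ℂ) ^ n = 1 := by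
    have := congrArg (fun u : ℂˣ => (u : ℂ)) hz
    simpa using this
  have h2 : ‖((z : ℂˣ) : ℂ)‖ = 1 := Complex.norm_eq_one_of_pow_eq_one h1 hn
  have h3 : ((z : ℂˣ) : ℂ) = ((((z : ℂˣ) : ℂ).re : ℝ) : ℂ) := by
    apply Complex.ext
    · simp
    · simp [him]
  have h4 : (((z : ℂˣ) : ℂ).re) ^ 2 = 1 := by
    have h5 : ‖((z : ℂˣ) : ℂ)‖ ^ 2 = (((z : ℂˣ) : ℂ).re) ^ 2 + (((z : ℂˣ) : ℂ).im) ^ 2 := by
      rw [Complex.sq_norm, Complex.normSq_apply]; ring
    rw [h2, him] at h5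
    linarith
  apply Units.ext
  rw [Units.val_pow_eq_pow_val, h3, Units.val_one]
  exact_mod_cast h4

/-- a unit with `z ^ 2 = 1` is real. -/
theorem real_of_unit_sq_eq_one (z : ℂˣ) (hz : z ^ 2 = 1) : ((z : ℂˣ) : ℂ).im = 0 := by
  have h1 : ((z : ℂˣ) : ℂ) ^ 2 = 1 := by
    have := congrArg (fun u : ℂˣ => (u : ℂ)) hz
    simpa using this
  have h2 : (((z : ℂˣ) : ℂ) - 1) * (((z : ℂˣ) : ℂ) + 1) = 0 := by
    linear_combination h1
  rcases mul_eq_zero.mp h2 with h | h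
  · have : ((z : ℂˣ) : ℂ) = 1 := by linear_combination h
    rw [this]; simp
  · have : ((z : ℂˣ) : ℂ) = -1 := by linear_combination h
    rw [this]; simp

/-- an exponent inverting a coprime index. -/
theorem exists_pow_mul_eq {i o : ℕ} (hio : i.Coprime o) (ho : o ≠ 0) :
    ∃ c : ℕ, ∀ {A : Type*} [Monoid A] (x : A), x ^ o = 1 → x ^ (i * c) = x := by
  rcases Nat.lt_or_ge 1 o with h1 | h1
  · obtain ⟨c, _, hc⟩ := Nat.exists_mul_mod_eq_one_of_coprime hio h1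
    refine ⟨c, fun x hx => ?_⟩
    have h2 := Nat.div_add_mod (i * c) o
    rw [hc] at h2
    rw [← h2, pow_add, pow_mul, hx, one_pow, one_mul, pow_one]
  · have ho1 : o = 1 := by omega
    refine ⟨0, fun x hx => ?_⟩
    rw [ho1, pow_one] at hx
    rw [hx, one_pow]

variable {H : Type*} [Group H]

/-- values of a homomorphism into `ℂˣ` on a finite group are roots of unity. -/
theorem hom_pow_card {X : Type*} [Group X] [Finite X] (ν : X →* ℂˣ) (x : X) :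
    ν x ^ Nat.card X = 1 := by
  rw [← map_pow, pow_card_eq_one', map_one]

/-- **Extension over a section of coprime order.** -/
theorem exists_extension_of_coprime [Finite H] (Z M : Subgroup H) (hZM : Z ≤ M)
    (hnorm : ∀ m ∈ M, ∀ z ∈ Z, m * z * m⁻¹ ∈ Z) (ν : Z →* ℂˣ)
    (hinv : ∀ (m : H) (hm : m ∈ M) (z : Z), ν ⟨m * z * m⁻¹, hnorm m hm z z.2⟩ = ν z)
    (o : ℕ) (ho : ∀ z, ν z ^ o = 1) (ho0 : o ≠ 0) (hcop : (Z.relIndex M).Coprime o) :
    ∃ ν' : M →* ℂˣ, (∀ z : Z, ν' ⟨z, hZM z.2⟩ = ν z) ∧ ∀ m, ν' m ^ o = 1 := by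
  classical
  have hN : (Z.subgroupOf M).Normal := by
    constructor
    intro n hn g
    rw [Subgroup.mem_subgroupOf] at hn ⊢
    simpa using hnorm g g.2 n hn
  let e := Subgroup.subgroupOfEquivOfLe hZM
  let ν₀ : (Z.subgroupOf M) →* ℂˣ := ν.comp e.toMonoidHom
  have hν₀ : ∀ x : Z.subgroupOf M, ν₀ x = ν ⟨(x : M), Subgroup.mem_subgroupOf.mp x.2⟩ := by
    intro x
    rfl
  have htr : ∀ (n : M) (hn : n ∈ Z.subgroupOf M),
      MonoidHom.transfer ν₀ n = ν₀ ⟨n, hn⟩ ^ (Z.subgroupOf M).index := by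
    intro n hn
    refine Cfsg.Agent.Lib.Helper4.transfer_apply_of_mem (Z.subgroupOf M) (Z.subgroupOf M) le_rfl ν₀
      ?_ n hn
    intro g n hn
    rw [hν₀, hν₀]
    exact hinv g g.2 ⟨n, Subgroup.mem_subgroupOf.mp hn⟩
  obtain ⟨c, hc⟩ := exists_pow_mul_eq hcop ho0
  refine ⟨(MonoidHom.transfer ν₀) ^ c, ?_, ?_⟩
  · intro z
    have hz : (⟨z, hZM z.2⟩ : M) ∈ Z.subgroupOf M := Subgroup.mem_subgroupOf.mpr z.2
    rw [MonoidHom.pow_apply, htr _ hz, ← pow_mul, hν₀]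
    exact hc _ (ho _)
  · intro m
    rw [MonoidHom.pow_apply, ← pow_mul, mul_comm, pow_mul]
    rw [Cfsg.Agent.Lib.Helper4.transfer_pow_eq_one (Z.subgroupOf M) ν₀ o (fun x => ho _) m,
      one_pow]

/-- **Uniqueness of the extension.** -/
theorem extension_unique (Z M : Subgroup H) [Z.Normal] (hZM : Z ≤ M)
    (ν₁ ν₂ : M →* ℂˣ) (hagree : ∀ z : Z, ν₁ ⟨z, hZM z.2⟩ = ν₂ ⟨z, hZM z.2⟩)
    (o : ℕ) (h1 : ∀ m, ν₁ m ^ o = 1) (h2 : ∀ m, ν₂ m ^ o = 1)
    (hcop : (Z.relIndex M).Coprime o) : ν₁ = ν₂ := by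
  ext m
  congr 1
  have h3 : (ν₁ m * (ν₂ m)⁻¹) ^ o = 1 := by
    rw [mul_pow, inv_pow, h1, h2, inv_one, mul_one]
  have h4 : (ν₁ m * (ν₂ m)⁻¹) ^ (Z.relIndex M) = 1 := by
    have hmem : (m : H) ^ Z.relIndex M ∈ Z := pow_relIndex_mem Z M m.2
    have h5 : m ^ Z.relIndex M = ⟨(m : H) ^ Z.relIndex M, hZM hmem⟩ := Subtype.ext (by simp)
    rw [mul_pow, inv_pow, ← map_pow, ← map_pow, h5]
    have := hagree ⟨(m : H) ^ Z.relIndex M, hmem⟩
    rw [this, mul_inv_cancel]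
  have h6 : orderOf (ν₁ m * (ν₂ m)⁻¹) ∣ Nat.gcd (Z.relIndex M) o :=
    Nat.dvd_gcd (orderOf_dvd_of_pow_eq_one h4) (orderOf_dvd_of_pow_eq_one h3)
  rw [hcop.gcd_eq_one, Nat.dvd_one, orderOf_eq_one_iff] at h6
  exact mul_inv_eq_one.mp h6

end Cfsg.Agent.Lib.Helper81.OddReal
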