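import Mathlib
import Cfsg.Agent.Lib.Helper75.OddIndexParity
import Cfsg.Agent.Lib.Helper75.Clifford3
import Cfsg.Agent.Lib.Helper75.AbelianQuot
import Cfsg.Agent.Lib.Helper77.Linear
import Cfsg.Agent.Lib.Helper81.CoprimeLinAlg
import Cfsg.Agent.Lib.Helper81.Gallagher
import Cfsg.Agent.Lib.Helper81.ORLinear

/-!
# Constituents of odd-degree characters on normal subgroups (helper81)

* `OddReal.real_constituent_of_real`: constituents of a real character in an orbit of odd size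
  are real.
* `OddReal.exists_fixed_constituent`: an odd-degree character has a constituent on a normal
  subgroup which is invariant under a given `2`-group.
* `OddReal.classInner_res_constituent`, `OddReal.apply_eq_of_linear_constituent`.
-/

set_option autoImplicit false
set_option linter.unusedSectionVars false

namespace Cfsg.Agent.Lib.Helper81.OddReal

open Cfsg Cfsg.Agent.Lib.Helper75 Cfsg.Agent.Lib.Helper78
open scoped ComplexConjugate

universe u

variable {H : Type u} [Group H] [Fintype H] (M : Subgroup H) [hM : M.Normal] [Fintype M]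

/-- the size of the orbit of a constituent divides the degree. -/
theorem card_conjOrbit_dvd_charDegree (χ : IrrCharacter H) (θ : IrrCharacter M)
    (hθ : classInner (fun m : M => (χ : H → ℂ) m) (θ : M → ℂ) ≠ 0) :
    (conjOrbit M (θ : M → ℂ)).card ∣ charDegree (χ : H → ℂ) := by
  rw [charDegree_eq_resMult_mul M χ θ hθ]
  exact Dvd.dvd.mul_right (Dvd.intro_left _ rfl) _

/-- the degree of a constituent divides the degree. -/
theorem charDegree_constituent_dvd (χ : IrrCharacter H) (θ : IrrCharacter M)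
    (hθ : classInner (fun m : M => (χ : H → ℂ) m) (θ : M → ℂ) ≠ 0) :
    charDegree (θ : M → ℂ) ∣ charDegree (χ : H → ℂ) := by
  rw [charDegree_eq_resMult_mul M χ θ hθ]
  exact Dvd.intro_left _ rfl

/-- **Real constituents.**  If `χ` is real and `θ` is a constituent of `χ_M` whose orbit has odd
size then `θ` is real. -/
theorem real_constituent_of_real (χ : IrrCharacter H) (hχ : ∀ h, ((χ : H → ℂ) h).im = 0)
    (θ : IrrCharacter M) (hθ : classInner (fun m : M => (χ : H → ℂ) m) (θ : M → ℂ) ≠ 0)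
    (hodd : Odd (conjOrbit M (θ : M → ℂ)).card) : ∀ m, ((θ : M → ℂ) m).im = 0 := by
  classical
  have hcl : IsClassFunction H (χ : H → ℂ) := isClassFunction_irr χ
  have hχc : ∀ h, conj ((χ : H → ℂ) h) = (χ : H → ℂ) h := fun h =>
    Complex.conj_eq_iff_im.mpr (hχ h)
  -- the complex conjugate of `θ` is a constituent
  have hbar : classInner (fun m : M => (χ : H → ℂ) m) (barIrr θ : M → ℂ) ≠ 0 := by
    have h1 := classInner_conj_conj (fun m : M => (χ : H → ℂ) m) (θ : M → ℂ)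
    have h2 : (fun m : M => conj ((χ : H → ℂ) m)) = fun m : M => (χ : H → ℂ) m := by
      funext m
      exact hχc m
    rw [h2] at h1
    have h3 : (barIrr θ : M → ℂ) = fun m => conj ((θ : M → ℂ) m) := rfl
    rw [h3, h1]
    intro h0
    apply hθ
    have := congrArg conj h0
    simpa using this
  obtain ⟨g₀, hg₀⟩ := clifford_conj M χ.2 θ.2 (barIrr θ).2 hθ hbar
  set Ω := conjOrbit M (θ : M → ℂ) with hΩ
  have hmem : ∀ φ : IrrCharacter M, φ ∈ Ω → barIrr φ ∈ Ω := by
    intro φ hφ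
    obtain ⟨g, hg⟩ := (mem_conjOrbit M).mp hφ
    apply (mem_conjOrbit M).mpr
    refine ⟨g₀ * g, ?_⟩
    rw [conjFun_mul, hg₀]
    funext m
    rw [conjFun_apply, barIrr_apply, barIrr_apply, ← hg, conjFun_apply]
  let σ : {φ // φ ∈ Ω} → {φ // φ ∈ Ω} := fun φ => ⟨barIrr φ.1, hmem φ.1 φ.2⟩
  have hσ : σ^[2 ^ 1] = id := by
    funext φ
    simp only [pow_one, Function.iterate_succ, Function.iterate_zero, Function.comp_apply, id_eq]
    exact Subtype.ext (barIrr_barIrr φ.1)
  have hcount := sum_nat_modEq_sum_fixed 1 σ hσ (fun _ => 1) (fun _ => rfl)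
  simp only [Finset.sum_const, smul_eq_mul, mul_one, Finset.card_univ, Fintype.card_coe] at hcount
  have hne : (Finset.univ.filter (fun x => σ x = x)).Nonempty := by
    rw [Finset.nonempty_iff_ne_empty]
    intro h0
    rw [h0, Finset.card_empty] at hcount
    have h4 : Ω.card % 2 = 0 := hcount
    rcases hodd with ⟨c, hc⟩
    omega
  obtain ⟨φ₀, hφ₀⟩ := hne
  have hfix : barIrr φ₀.1 = φ₀.1 := by
    have := (Finset.mem_filter.mp hφ₀).2
    exact congrArg Subtype.val this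
  obtain ⟨g, hg⟩ := (mem_conjOrbit M).mp φ₀.2
  intro m
  have h5 : (θ : M → ℂ) m = (φ₀.1 : M → ℂ) ⟨g⁻¹ * m * g, by
      have := hM.conj_mem m m.2 g⁻¹
      simpa using this⟩ := by
    rw [← hg, conjFun_apply]
    exact congrArg _ (Subtype.ext (by simp [mul_assoc]))
  rw [h5]
  have h6 := congrFun (congrArg Subtype.val hfix) ⟨g⁻¹ * m * g, by
      have := hM.conj_mem m m.2 g⁻¹
      simpa using this⟩
  rw [barIrr_apply] at h6
  exact Complex.conj_eq_iff_im.mp h6

/-- **Invariant constituents.**  An odd-degree irreducible character has an irreducible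
constituent on `M` which is invariant under a given `2`-group. -/
theorem exists_fixed_constituent {Q : Type*} [Group Q] [Finite Q] (hQ : IsPGroup 2 Q)
    (ι : Q →* H) (χ : IrrCharacter H) (hodd : Odd (charDegree (χ : H → ℂ))) :
    ∃ θ : IrrCharacter M, classInner (fun m : M => (χ : H → ℂ) m) (θ : M → ℂ) ≠ 0 ∧
      ∀ q, Helper75.conjFun M (ι q) (θ : M → ℂ) = (θ : M → ℂ) := by
  classical
  have : Fact (Nat.Prime 2) := ⟨Nat.prime_two⟩
  have hcl : IsClassFunction H (χ : H → ℂ) := isClassFunction_irr χ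
  obtain ⟨θ₀, hθ₀⟩ := exists_constituent_res M χ.2
  let _ : MulAction H (IrrCharacter M) := Cfsg.Agent.Lib.Helper81.conjIrrMulAction M
  let _ : MulAction Q (IrrCharacter M) := MulAction.compHom (IrrCharacter M) ι
  have hsmul : ∀ (q : Q) (φ : IrrCharacter M), ((q • φ : IrrCharacter M) : M → ℂ) =
      Helper75.conjFun M (ι q)⁻¹ (φ : M → ℂ) := by
    intro q φ
    funext n
    rfl
  set S : Set (IrrCharacter M) :=
    {φ | classInner (fun m : M => (χ : H → ℂ) m) (φ : M → ℂ) ≠ 0} with hS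
  have hSinv : ∀ (q : Q) (φ : IrrCharacter M), φ ∈ S → q • φ ∈ S := by
    intro q φ hφ
    change classInner _ _ ≠ 0
    rw [hsmul, classInner_res_conjFun M hcl]
    exact hφ
  have hScard : Nat.card S = (conjOrbit M (θ₀ : M → ℂ)).card := by
    have h1 : S = ↑(conjOrbit M (θ₀ : M → ℂ)) := by
      ext φ
      simp only [hS, Set.mem_ofPred_eq, Finset.mem_coe]
      constructor
      · intro hφ
        obtain ⟨g, hg⟩ := clifford_conj M χ.2 θ₀.2 φ.2 hθ₀ hφ
        exact (mem_conjOrbit M).mpr ⟨g, hg⟩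
      · intro hφ
        obtain ⟨g, hg⟩ := (mem_conjOrbit M).mp hφ
        rw [← hg, classInner_res_conjFun M hcl]
        exact hθ₀
    rw [h1]
    simp [Nat.card_eq_fintype_card]
  have hSodd : Odd (Nat.card S) := by
    rw [hScard]
    obtain ⟨c, hc⟩ := card_conjOrbit_dvd_charDegree M χ θ₀ hθ₀
    rw [hc] at hodd
    exact (Nat.odd_mul.mp hodd).1
  have hmod := card_invariant_modEq_card_fixed 2 hQ S hSinv
  have hne : (S ∩ MulAction.fixedPoints Q (IrrCharacter M) : Set (IrrCharacter M)).Nonempty := by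
    by_contra hemp
    rw [Set.not_nonempty_iff_eq_empty] at hemp
    rw [hemp] at hmod
    have h2 : Nat.card (∅ : Set (IrrCharacter M)) = 0 := by simp
    rw [h2] at hmod
    have h3 : Nat.card S % 2 = 0 := hmod
    rcases hSodd with ⟨c, hc⟩
    omega
  obtain ⟨θ, hθS, hθfix⟩ := hne
  refine ⟨θ, hθS, fun q => ?_⟩
  have h4 := hθfix q⁻¹
  have h5 := congrArg Subtype.val h4
  rw [hsmul, map_inv, inv_inv] at h5
  exact h5

variable (Z : Subgroup H) [hZ : Z.Normal] [Fintype Z]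

/-- restriction of a conjugate. -/
theorem res_conjFun (hZM : Z ≤ M) (g : H) (θ : M → ℂ) :
    (fun z : Z => Helper75.conjFun M g θ ⟨z, hZM z.2⟩) =
      Helper75.conjFun Z g (fun z : Z => θ ⟨z, hZM z.2⟩) := by
  funext z
  rw [conjFun_apply, conjFun_apply]

/-- an invariant linear character as a function is fixed by `conjFun`. -/
theorem conjFun_hom_of_inv (lam : Z →* ℂˣ)
    (hinv : ∀ (h : H) (z : Z), lam ⟨h * z * h⁻¹, hZ.conj_mem z z.2 h⟩ = lam z) (g : H) :
    Helper75.conjFun Z g (fun z : Z => ((lam z : ℂˣ) : ℂ)) =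
      fun z : Z => ((lam z : ℂˣ) : ℂ) := by
  funext z
  rw [conjFun_apply, hinv]

/-- **Multiplicity of `λ` in a constituent.**  If `χ_Z = χ(1) λ` with `λ` invariant, then every
constituent `θ` of `χ_M` satisfies `[θ_Z, λ] = θ(1)`. -/
theorem classInner_res_constituent (hZM : Z ≤ M) (lam : Z →* ℂˣ)
    (hinv : ∀ (h : H) (z : Z), lam ⟨h * z * h⁻¹, hZ.conj_mem z z.2 h⟩ = lam z)
    (χ : IrrCharacter H)
    (hχ : ∀ z : Z, (χ : H → ℂ) z = (χ : H → ℂ) 1 * ((lam z : ℂˣ) : ℂ))
    (θ : IrrCharacter M) (hθ : classInner (fun m : M => (χ : H → ℂ) m) (θ : M → ℂ) ≠ 0) :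
    classInner (fun z : Z => (θ : M → ℂ) ⟨z, hZM z.2⟩) (fun z : Z => ((lam z : ℂˣ) : ℂ)) =
      (θ : M → ℂ) 1 := by
  classical
  have hlamirr : IsIrrCharacter Z (fun z : Z => ((lam z : ℂˣ) : ℂ)) :=
    Cfsg.Agent.Lib.Helper77.isIrrCharacter_of_monoidHom lam
  have hcl := clifford_finset M χ.2 θ.2 hθ
  set e := classInner (fun m : M => (χ : H → ℂ) m) (θ : M → ℂ) with he
  set Ω := conjOrbit M (θ : M → ℂ) with hΩ
  set c := classInner (fun z : Z => (θ : M → ℂ) ⟨z, hZM z.2⟩)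
    (fun z : Z => ((lam z : ℂˣ) : ℂ)) with hc
  -- value at one
  have h1 : (χ : H → ℂ) 1 = e * ((Ω.card : ℂ) * (θ : M → ℂ) 1) := by
    have h := congrFun hcl 1
    simp only [Pi.smul_apply, Finset.sum_apply, smul_eq_mul, Subgroup.coe_one] at h
    rw [h]
    congr 1
    have h2 : ∀ φ ∈ Ω, (φ : M → ℂ) 1 = (θ : M → ℂ) 1 := by
      intro φ hφ
      obtain ⟨g, hg⟩ := (mem_conjOrbit M).mp hφ
      rw [← hg, conjFun_apply]
      exact congrArg _ (Subtype.ext (by simp))
    rw [Finset.sum_congr rfl h2, Finset.sum_const, nsmul_eq_mul]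
  -- restriction to `Z`
  have h3 : (fun z : Z => (χ : H → ℂ) z) =
      e • ∑ φ ∈ Ω, (fun z : Z => (φ : M → ℂ) ⟨z, hZM z.2⟩) := by
    funext z
    have h := congrFun hcl ⟨z, hZM z.2⟩
    simp only [Pi.smul_apply, Finset.sum_apply, smul_eq_mul] at h ⊢
    exact h
  have h4 : classInner (fun z : Z => (χ : H → ℂ) z) (fun z : Z => ((lam z : ℂˣ) : ℂ)) =
      e * ((Ω.card : ℂ) * c) := by
    rw [h3, classInner_smul_left, classInner_sum_left]
    congr 1
    have h5 : ∀ φ ∈ Ω, classInner (fun z : Z => (φ : M → ℂ) ⟨z, hZM z.2⟩)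
        (fun z : Z => ((lam z : ℂˣ) : ℂ)) = c := by
      intro φ hφ
      obtain ⟨g, hg⟩ := (mem_conjOrbit M).mp hφ
      rw [← hg, res_conjFun M Z hZM g]
      conv_lhs => rw [← conjFun_hom_of_inv Z lam hinv g]
      rw [classInner_conjFun_conjFun]
    rw [Finset.sum_congr rfl h5, Finset.sum_const, nsmul_eq_mul]
  have h6 : classInner (fun z : Z => (χ : H → ℂ) z) (fun z : Z => ((lam z : ℂˣ) : ℂ)) =
      (χ : H → ℂ) 1 := by
    have h7 : (fun z : Z => (χ : H → ℂ) z) =
        (χ : H → ℂ) 1 • fun z : Z => ((lam z : ℂˣ) : ℂ) := by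
      funext z
      rw [hχ z, Pi.smul_apply, smul_eq_mul]
    rw [h7, classInner_smul_left, classInner_irr_self hlamirr, mul_one]
  have he0 : e ≠ 0 := hθ
  have hΩ0 : (Ω.card : ℂ) ≠ 0 := by
    have : Ω.card ≠ 0 := by
      intro h0
      rw [h1, h0] at h6
      have hne := IsIrrCharacter.apply_one_ne_zero χ.2
      rw [h1, h0] at hne
      simp at hne
    exact_mod_cast this
  rw [h4, h1] at h6
  have h8 := mul_left_cancel₀ he0 h6
  exact mul_left_cancel₀ hΩ0 h8

/-- **Restriction over an invariant linear character.**  If the linear character `ψ` of `M` is a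
constituent of `χ_M` and `ψ_Z = λ` is invariant in `H` then `χ_Z = χ(1) λ`. -/
theorem apply_eq_of_linear_constituent (hZM : Z ≤ M) (lam : Z →* ℂˣ)
    (hinv : ∀ (h : H) (z : Z), lam ⟨h * z * h⁻¹, hZ.conj_mem z z.2 h⟩ = lam z)
    (χ : IrrCharacter H) (ψ : M →* ℂˣ) (hψZ : ∀ z : Z, ψ ⟨z, hZM z.2⟩ = lam z)
    (hψ : classInner (fun m : M => (χ : H → ℂ) m) (fun m : M => ((ψ m : ℂˣ) : ℂ)) ≠ 0) (z : Z) :
    (χ : H → ℂ) z = (χ : H → ℂ) 1 * ((lam z : ℂˣ) : ℂ) := by
  classical
  have hψirr : IsIrrCharacter M (fun m : M => ((ψ m : ℂˣ) : ℂ)) :=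
    Cfsg.Agent.Lib.Helper77.isIrrCharacter_of_monoidHom ψ
  have hcl := clifford_finset M χ.2 hψirr hψ
  set e := classInner (fun m : M => (χ : H → ℂ) m) (fun m : M => ((ψ m : ℂˣ) : ℂ)) with he
  set Ω := conjOrbit M (fun m : M => ((ψ m : ℂˣ) : ℂ)) with hΩ
  have h1 : (χ : H → ℂ) 1 = e * (Ω.card : ℂ) := by
    have h := congrFun hcl 1
    simp only [Pi.smul_apply, Finset.sum_apply, smul_eq_mul, Subgroup.coe_one] at h
    rw [h]
    congr 1
    have h2 : ∀ φ ∈ Ω, (φ : M → ℂ) 1 = 1 := by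
      intro φ hφ
      obtain ⟨g, hg⟩ := (mem_conjOrbit M).mp hφ
      rw [← hg, conjFun_apply]
      have : (⟨g * ((1 : M) : H) * g⁻¹, hM.conj_mem _ (1 : M).2 g⟩ : M) = 1 := by
        apply Subtype.ext
        simp
      rw [this, map_one, Units.val_one]
    rw [Finset.sum_congr rfl h2, Finset.sum_const, nsmul_eq_mul, mul_one]
  have h3 : (χ : H → ℂ) z = e * ((Ω.card : ℂ) * ((lam z : ℂˣ) : ℂ)) := by
    have h := congrFun hcl ⟨z, hZM z.2⟩
    simp only [Pi.smul_apply, Finset.sum_apply, smul_eq_mul] at h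
    rw [h]
    congr 1
    have h2 : ∀ φ ∈ Ω, (φ : M → ℂ) ⟨z, hZM z.2⟩ = ((lam z : ℂˣ) : ℂ) := by
      intro φ hφ
      obtain ⟨g, hg⟩ := (mem_conjOrbit M).mp hφ
      rw [← hg, conjFun_apply]
      have h4 := hψZ ⟨g * z * g⁻¹, hZ.conj_mem z z.2 g⟩
      have h5 : (⟨g * ((⟨z, hZM z.2⟩ : M) : H) * g⁻¹, hM.conj_mem _ (⟨z, hZM z.2⟩ : M).2 g⟩ : M) =
          ⟨(⟨g * z * g⁻¹, hZ.conj_mem z z.2 g⟩ : Z), hZM (hZ.conj_mem z z.2 g)⟩ := rfl
      rw [h5, h4, hinv]
    rw [Finset.sum_congr rfl h2, Finset.sum_const, nsmul_eq_mul]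
  rw [h3, h1]
  ring

end Cfsg.Agent.Lib.Helper81.OddReal
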