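import Mathlib
import Cfsg.Agent.Lib.Helper81.ORChar

/-!
# The two sides of the counting identity (helper81)

For a finite group `H`, an embedding `ι : Q →* H` of a `2`-group onto a Sylow `2`-subgroup, a
normal subgroup `Z` and an invariant linear character `λ` of `Z`:

* `OddReal.XPred b Z λ χ`: `χ ∈ Irr(H)` has odd degree, is `b`-fixed and `χ_Z = χ(1) λ`.
* `OddReal.PPred b ι Z λ (μ, n)`: `μ` is a `b`-fixed linear character of `Q` compatible with `λ`,
  `n ∈ N_H(ι Q)` fixes `μ`.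

The base case `Z = ⊤` of the counting identity.
-/

set_option autoImplicit false

namespace Cfsg.Agent.Lib.Helper81.OddReal

open Cfsg Cfsg.Agent.Lib.Helper75 Cfsg.Agent.Lib.Helper78
open scoped ComplexConjugate

universe u w

variable {H : Type u} [Group H] {Q : Type w} [Group Q]

/-- the counted characters. -/
def XPred (b : Bool) (Z : Subgroup H) (lam : Z →* ℂˣ) (χ : IrrCharacter H) : Prop :=
  Odd (charDegree (χ : H → ℂ)) ∧ SFix b (χ : H → ℂ) ∧
    ∀ z : Z, (χ : H → ℂ) z = (χ : H → ℂ) 1 * ((lam z : ℂˣ) : ℂ)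

/-- the counted pairs. -/
def PPred (b : Bool) (ι : Q →* H) (Z : Subgroup H) (lam : Z →* ℂˣ)
    (p : (Q →* ℂˣ) × H) : Prop :=
  SFix b (fun q => ((p.1 q : ℂˣ) : ℂ)) ∧
    (∀ (q : Q) (hq : ι q ∈ Z), p.1 q = lam ⟨ι q, hq⟩) ∧
    p.2 ∈ Subgroup.normalizer ((ι.range : Subgroup H) : Set H) ∧
    ∀ q q' : Q, ι q' = p.2 * ι q * p.2⁻¹ → p.1 q' = p.1 q

/-- a linear character has degree one. -/
theorem charDegree_hom {X : Type*} [Group X] (ν : X →* ℂˣ) :
    charDegree (fun x : X => ((ν x : ℂˣ) : ℂ)) = 1 := by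
  unfold charDegree
  simp

/-- **Base case**, characters. -/
theorem card_XPred_top [Finite H] (b : Bool) (Z : Subgroup H) (htop : ∀ h : H, h ∈ Z)
    (lam : Z →* ℂˣ) (hfix : SFix b (fun z : Z => ((lam z : ℂˣ) : ℂ))) :
    Nat.card {χ : IrrCharacter H // XPred b Z lam χ} = 1 := by
  classical
  let _ : Fintype H := Fintype.ofFinite H
  let lam' : H →* ℂˣ := lam.comp ((MonoidHom.id H).codRestrict Z htop)
  have hlam' : ∀ h : H, lam' h = lam ⟨h, htop h⟩ := fun h => rfl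
  let χ₀ : IrrCharacter H := ⟨fun h => ((lam' h : ℂˣ) : ℂ),
    Cfsg.Agent.Lib.Helper77.isIrrCharacter_of_monoidHom lam'⟩
  have hχ₀ : XPred b Z lam χ₀ := by
    refine ⟨?_, ?_, ?_⟩
    · rw [show ((χ₀ : IrrCharacter H) : H → ℂ) = fun h => ((lam' h : ℂˣ) : ℂ) from rfl,
        charDegree_hom]
      exact odd_one
    · intro hb h
      exact hfix hb ⟨h, htop h⟩
    · intro z
      change ((lam' z : ℂˣ) : ℂ) = ((lam' 1 : ℂˣ) : ℂ) * _
      rw [map_one, Units.val_one, one_mul, hlam']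
  rw [Nat.card_eq_one_iff_unique]
  refine ⟨⟨fun χ χ' => ?_⟩, ⟨⟨χ₀, hχ₀⟩⟩⟩
  have key : ∀ χ : {χ : IrrCharacter H // XPred b Z lam χ}, χ.1 = χ₀ := by
    intro χ
    have h1 : ((χ.1 : IrrCharacter H) : H → ℂ) =
        ((χ.1 : IrrCharacter H) : H → ℂ) 1 • ((χ₀ : IrrCharacter H) : H → ℂ) := by
      funext h
      have := χ.2.2.2 ⟨h, htop h⟩
      rw [Pi.smul_apply, smul_eq_mul]
      exact this
    have h2 : classInner ((χ.1 : IrrCharacter H) : H → ℂ) ((χ₀ : IrrCharacter H) : H → ℂ) =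
        ((χ.1 : IrrCharacter H) : H → ℂ) 1 := by
      conv_lhs => rw [h1]
      rw [classInner_smul_left, classInner_irr_self χ₀.2, mul_one]
    have h3 := classInner_irr χ.1.2 χ₀.2
    rw [h2] at h3
    by_contra hne
    have hne' : ((χ.1 : IrrCharacter H) : H → ℂ) ≠ ((χ₀ : IrrCharacter H) : H → ℂ) :=
      fun h => hne (Subtype.ext h)
    rw [if_neg hne'] at h3
    exact IsIrrCharacter.apply_one_ne_zero χ.1.2 h3
  exact Subtype.ext ((key χ).trans (key χ').symm)

/-- **Base case**, pairs. -/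
theorem card_PPred_top (b : Bool) (ι : Q →* H) (Z : Subgroup H) [hZ : Z.Normal]
    (htop : ∀ h : H, h ∈ Z)
    (lam : Z →* ℂˣ) (hinv : ∀ (h : H) (z : Z), lam ⟨h * z * h⁻¹, hZ.conj_mem z z.2 h⟩ = lam z)
    (hfix : SFix b (fun z : Z => ((lam z : ℂˣ) : ℂ))) :
    Nat.card {p : (Q →* ℂˣ) × H // PPred b ι Z lam p} =
      Nat.card (Subgroup.normalizer ((ι.range : Subgroup H) : Set H)) := by
  let lam' : H →* ℂˣ := lam.comp ((MonoidHom.id H).codRestrict Z htop)
  have hlam' : ∀ h : H, lam' h = lam ⟨h, htop h⟩ := fun h => rfl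
  let μ₀ : Q →* ℂˣ := lam'.comp ι
  apply Nat.card_congr
  refine
    { toFun := fun p => ⟨p.1.2, p.2.2.2.1⟩
      invFun := fun n => ⟨(μ₀, n.1), ?_⟩
      left_inv := ?_
      right_inv := fun n => rfl }
  · refine ⟨?_, ?_, n.2, ?_⟩
    · intro hb q
      exact hfix hb ⟨ι q, htop _⟩
    · intro q hq
      rfl
    · intro q q' hqq'
      change lam' (ι q') = lam' (ι q)
      rw [hqq', hlam', hlam']
      exact hinv n.1 ⟨ι q, htop _⟩
  · intro p
    apply Subtype.ext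
    apply Prod.ext
    · ext q
      have := p.2.2.1 q (htop _)
      change ((lam' (ι q) : ℂˣ) : ℂ) = _
      rw [hlam', this]
    · rfl

end Cfsg.Agent.Lib.Helper81.OddReal
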