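import Mathlib
import Cfsg.Agent.Lib.Helper81.ORLinear

/-!
# Invariant linear characters of odd sections for self-normalizing Sylow subgroups (helper81)

* `OddReal.hom_eq_one_of_self_normalizing`: if the `2`-subgroup `A` of odd index is
  self-normalizing, `M / Z` has odd order and `ν : M →* ℂˣ` is `A`-invariant and trivial on `Z`,
  then `ν = 1` (Frattini argument).
* `OddReal.hom_eq_one_of_real`: a real-valued `ν : M →* ℂˣ` trivial on `Z` with `|M : Z|` odd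
  is trivial.
-/

set_option autoImplicit false

namespace Cfsg.Agent.Lib.Helper81.OddReal

variable {H : Type*} [Group H]

/-- a real-valued homomorphism `M →* ℂˣ` trivial on `Z`, `|M : Z|` odd, is trivial. -/
theorem hom_eq_one_of_real [Finite H] (Z M : Subgroup H) [Z.Normal] (hZM : Z ≤ M)
    (hodd : Odd (Z.relIndex M)) (ν : M →* ℂˣ) (hνZ : ∀ z : Z, ν ⟨z, hZM z.2⟩ = 1)
    (hreal : ∀ m, ((ν m : ℂˣ) : ℂ).im = 0) : ν = 1 := by
  ext m
  congr 1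
  have h1 : ν m ^ 2 = 1 :=
    unit_sq_eq_one_of_real (ν m) (Nat.card_pos (α := M)).ne' (hom_pow_card ν m) (hreal m)
  have h2 : ν m ^ (Z.relIndex M) = 1 := by
    have hmem : (m : H) ^ Z.relIndex M ∈ Z := pow_relIndex_mem Z M m.2
    have h5 : m ^ Z.relIndex M = ⟨(m : H) ^ Z.relIndex M, hZM hmem⟩ := Subtype.ext (by simp)
    rw [← map_pow, h5]
    exact hνZ ⟨_, hmem⟩
  have h3 : orderOf (ν m) ∣ Nat.gcd (Z.relIndex M) 2 :=
    Nat.dvd_gcd (orderOf_dvd_of_pow_eq_one h2) (orderOf_dvd_of_pow_eq_one h1)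
  rw [hodd.coprime_two_right.gcd_eq_one, Nat.dvd_one, orderOf_eq_one_iff] at h3
  exact h3

/-- **Frattini argument.**  If the `2`-subgroup `A` of odd index is self-normalizing, `M / Z` has
odd order and `ν : M →* ℂˣ` is `A`-invariant and trivial on `Z`, then `ν = 1`. -/
theorem hom_eq_one_of_self_normalizing [Finite H] (A : Subgroup H) (hA2 : IsPGroup 2 A)
    (hAi : Odd A.index) (hAN : Subgroup.normalizer (A : Set H) ≤ A)
    (Z M : Subgroup H) [Z.Normal] [hM : M.Normal] (hZM : Z ≤ M) (hodd : Odd (Z.relIndex M))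
    (ν : M →* ℂˣ) (hνZ : ∀ z : Z, ν ⟨z, hZM z.2⟩ = 1)
    (hνA : ∀ a ∈ A, ∀ m : M, ν ⟨a * m * a⁻¹, hM.conj_mem m m.2 a⟩ = ν m) : ν = 1 := by
  classical
  -- the kernel, as a subgroup of `H`
  have hKmem : ∀ (a : H), a ∈ A → ∀ (k : H) (hk : k ∈ M), ν ⟨k, hk⟩ = 1 →
      ν ⟨a * k * a⁻¹, hM.conj_mem k hk a⟩ = 1 := by
    intro a ha k hk hνk
    rw [← hνk]
    exact hνA a ha ⟨k, hk⟩
  let T : Subgroup H :=
    { carrier := {h | ∃ a ∈ A, ∃ k, ∃ hk : k ∈ M, ν ⟨k, hk⟩ = 1 ∧ h = a * k}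
      one_mem' := ⟨1, A.one_mem, 1, M.one_mem, by
        have : (⟨1, M.one_mem⟩ : M) = 1 := rfl
        rw [this, map_one], by simp⟩
      mul_mem' := by
        rintro x y ⟨a, ha, k, hk, hνk, rfl⟩ ⟨a', ha', k', hk', hνk', rfl⟩
        refine ⟨a * a', A.mul_mem ha ha', a'⁻¹ * k * a'⁻¹⁻¹ * k',
          M.mul_mem (hM.conj_mem k hk a'⁻¹) hk', ?_, by group⟩
        have h1 : (⟨a'⁻¹ * k * a'⁻¹⁻¹ * k', M.mul_mem (hM.conj_mem k hk a'⁻¹) hk'⟩ : M) =
            ⟨a'⁻¹ * k * a'⁻¹⁻¹, hM.conj_mem k hk a'⁻¹⟩ * ⟨k', hk'⟩ := rfl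
        rw [h1, map_mul, hνk', mul_one]
        exact hKmem a'⁻¹ (A.inv_mem ha') k hk hνk
      inv_mem' := by
        rintro x ⟨a, ha, k, hk, hνk, rfl⟩
        refine ⟨a⁻¹, A.inv_mem ha, a * k⁻¹ * a⁻¹, hM.conj_mem _ (M.inv_mem hk) a, ?_, by group⟩
        have h1 := hKmem a ha k⁻¹ (M.inv_mem hk) (by
          have : (⟨k⁻¹, M.inv_mem hk⟩ : M) = (⟨k, hk⟩ : M)⁻¹ := rfl
          rw [this, map_inv, hνk, inv_one])
        exact h1 }
  have hAT : A ≤ T := fun a ha => ⟨a, ha, 1, M.one_mem, by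
    have : (⟨1, M.one_mem⟩ : M) = 1 := rfl
    rw [this, map_one], by simp⟩
  ext m
  congr 1
  -- the conjugate of `A` by `m`
  set B : Subgroup H := A.map (MulAut.conj (m : H)).toMonoidHom with hB
  have hBmem : ∀ x, x ∈ B ↔ ∃ a ∈ A, x = (m : H) * a * (m : H)⁻¹ := by
    intro x
    rw [hB, Subgroup.mem_map]
    constructor
    · rintro ⟨a, ha, rfl⟩
      exact ⟨a, ha, by simp [MulAut.conj_apply]⟩
    · rintro ⟨a, ha, rfl⟩
      exact ⟨a, ha, by simp [MulAut.conj_apply]⟩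
  have hBT : B ≤ T := by
    intro x hx
    obtain ⟨a, ha, rfl⟩ := (hBmem x).mp hx
    have hk : a⁻¹ * (m : H) * a⁻¹⁻¹ * (m : H)⁻¹ ∈ M :=
      M.mul_mem (hM.conj_mem m m.2 a⁻¹) (M.inv_mem m.2)
    refine ⟨a, ha, a⁻¹ * (m : H) * a⁻¹⁻¹ * (m : H)⁻¹, hk, ?_, by group⟩
    have h1 : (⟨a⁻¹ * (m : H) * a⁻¹⁻¹ * (m : H)⁻¹, hk⟩ : M) =
        ⟨a⁻¹ * (m : H) * a⁻¹⁻¹, hM.conj_mem m m.2 a⁻¹⟩ * m⁻¹ := rfl
    rw [h1, map_mul, hνA a⁻¹ (A.inv_mem ha) m, map_inv, mul_inv_cancel]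
  have hB2 : IsPGroup 2 B := hA2.map _
  have hBi : Odd B.index := by
    have h1 : B.index = A.index := by
      rw [hB]
      exact Subgroup.index_map_equiv A (MulAut.conj (m : H))
    rw [h1]
    exact hAi
  obtain ⟨t, htT, ht⟩ := exists_conj_of_sylow_in T A B hAT hBT hA2 hB2 hAi hBi
  -- `t⁻¹ m` normalizes `A`
  have hn : t⁻¹ * (m : H) ∈ Subgroup.normalizer (A : Set H) := by
    rw [Subgroup.mem_normalizer_iff]
    intro a
    have h1 : t⁻¹ * (m : H) * a * (t⁻¹ * (m : H))⁻¹ = t⁻¹ * ((m : H) * a * (m : H)⁻¹) * t := by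
      group
    rw [h1, ← ht, hBmem]
    constructor
    · intro ha
      exact ⟨a, ha, rfl⟩
    · rintro ⟨a', ha', h2⟩
      have h3 : a = a' := by
        have := mul_left_cancel (mul_right_cancel h2)
        exact this
      rw [h3]
      exact ha'
  have hnA : t⁻¹ * (m : H) ∈ A := hAN hn
  have hmT : (m : H) ∈ T := by
    have h1 : (m : H) = t * (t⁻¹ * (m : H)) := by group
    rw [h1]
    exact T.mul_mem htT (hAT hnA)
  obtain ⟨a, ha, k, hk, hνk, hmak⟩ := hmT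
  have haM : a ∈ M := by
    have h1 : a = (m : H) * k⁻¹ := by rw [hmak]; group
    rw [h1]
    exact M.mul_mem m.2 (M.inv_mem hk)
  have haZ : a ∈ Z := by
    obtain ⟨j, hj⟩ := (IsPGroup.iff_orderOf.mp hA2) ⟨a, ha⟩
    apply mem_of_two_pow_of_odd_relIndex Z M hodd haM (k := j)
    have h1 : (⟨a, ha⟩ : A) ^ (2 ^ j) = 1 := by
      rw [← hj]
      exact pow_orderOf_eq_one _
    have h2 := congrArg Subtype.val h1
    simp only [Subgroup.coe_pow, Subgroup.coe_one] at h2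
    rw [h2]
    exact Z.one_mem
  have h4 : m = ⟨a, haM⟩ * ⟨k, hk⟩ := Subtype.ext hmak
  rw [h4, map_mul, hνk, mul_one]
  exact hνZ ⟨a, haZ⟩

end Cfsg.Agent.Lib.Helper81.OddReal
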