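import Mathlib
import Cfsg.Agent.Lib.Helper81.ORDefs
import Cfsg.Agent.Lib.Helper81.ORFrattini

/-!
# The odd step of the counting identity (helper81)

`Z ≤ M` normal in `H`, `M / Z` abelian of odd order, `λ` an invariant linear character of `Z` of
`2`-power order.  Then `λ` has a canonical extension `λ̂` to `M` and both sides of the counting
identity are the same for `(Z, λ)` and `(M, λ̂)`.
-/

set_option autoImplicit false
set_option linter.unusedSectionVars false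

namespace Cfsg.Agent.Lib.Helper81.OddReal

open Cfsg Cfsg.Agent.Lib.Helper75 Cfsg.Agent.Lib.Helper78
open scoped ComplexConjugate

universe u w

variable {H : Type u} [Group H] {Q : Type w} [Group Q]

/-- a pointwise `2`-power order homomorphism on a finite group has exponent `2 ^ |Z|`. -/
theorem pow_two_pow_card {X : Type*} [Group X] [Finite X] (ν : X →* ℂˣ)
    (h2 : ∀ x, ∃ k : ℕ, ν x ^ (2 ^ k) = 1) (x : X) : ν x ^ (2 ^ Nat.card X) = 1 := by
  obtain ⟨k, hk⟩ := h2 x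
  have h1 : orderOf (ν x) ∣ 2 ^ k := orderOf_dvd_of_pow_eq_one hk
  obtain ⟨j, _, hj⟩ := (Nat.dvd_prime_pow Nat.prime_two).mp h1
  have h3 : orderOf (ν x) ∣ Nat.card X := orderOf_dvd_of_pow_eq_one (hom_pow_card ν x)
  have h4 : 2 ^ j ≤ Nat.card X := by
    rw [← hj]
    exact Nat.le_of_dvd Nat.card_pos h3
  have h5 : j ≤ Nat.card X := by
    have := Nat.lt_two_pow_self (n := j)
    omega
  apply orderOf_dvd_iff_pow_eq_one.mp
  rw [hj]
  exact Nat.pow_dvd_pow 2 h5

/-- conjugate of a homomorphism on a normal subgroup. -/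
def conjHom (M : Subgroup H) [M.Normal] (h : H) (ν : M →* ℂˣ) : M →* ℂˣ :=
  ν.comp (MulAut.conjNormal h : M ≃* M).toMonoidHom

theorem conjHom_apply (M : Subgroup H) [hM : M.Normal] (h : H) (ν : M →* ℂˣ) (m : M) :
    conjHom M h ν m = ν ⟨h * m * h⁻¹, hM.conj_mem m m.2 h⟩ := by
  change ν (MulAut.conjNormal h m) = _
  congr 1

/-- **The canonical extension.** -/
theorem exists_canonical_ext [Finite H] (b : Bool) (Z M : Subgroup H) [hZ : Z.Normal]
    [hM : M.Normal] (hZM : Z ≤ M) (hodd : Odd (Z.relIndex M)) (lam : Z →* ℂˣ)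
    (hinv : ∀ (h : H) (z : Z), lam ⟨h * z * h⁻¹, hZ.conj_mem z z.2 h⟩ = lam z)
    (h2 : ∀ z, ∃ k : ℕ, lam z ^ (2 ^ k) = 1)
    (hfix : SFix b (fun z : Z => ((lam z : ℂˣ) : ℂ))) :
    ∃ lam' : M →* ℂˣ, (∀ z : Z, lam' ⟨z, hZM z.2⟩ = lam z) ∧
      (∀ (h : H) (m : M), lam' ⟨h * m * h⁻¹, hM.conj_mem m m.2 h⟩ = lam' m) ∧
      (∀ m, ∃ k : ℕ, lam' m ^ (2 ^ k) = 1) ∧ SFix b (fun m : M => ((lam' m : ℂˣ) : ℂ)) := by
  classical
  set o := 2 ^ Nat.card Z with ho
  have ho0 : o ≠ 0 := by positivity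
  have hcop : (Z.relIndex M).Coprime o := Nat.Coprime.pow_right _ hodd.coprime_two_right
  have hlamo : ∀ z, lam z ^ o = 1 := pow_two_pow_card lam h2
  obtain ⟨lam', hext, hpow⟩ := exists_extension_of_coprime Z M hZM
    (fun m _ z hz => hZ.conj_mem z hz m) lam (fun m _ z => hinv m z) o hlamo ho0 hcop
  refine ⟨lam', hext, ?_, fun m => ⟨Nat.card Z, hpow m⟩, ?_⟩
  · intro h m
    have h1 : conjHom M h lam' = lam' := by
      apply extension_unique Z M hZM _ _ _ o _ hpow hcop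
      · intro z
        rw [conjHom_apply, hext]
        have h3 : (⟨h * ((⟨z, hZM z.2⟩ : M) : H) * h⁻¹, hM.conj_mem _ (⟨z, hZM z.2⟩ : M).2 h⟩ : M) =
            ⟨(⟨h * z * h⁻¹, hZ.conj_mem z z.2 h⟩ : Z), hZM (hZ.conj_mem z z.2 h)⟩ := rfl
        rw [h3, hext, hinv]
      · intro m
        rw [conjHom_apply]
        exact hpow _
    have h4 := congrArg (fun f : M →* ℂˣ => f m) h1
    simp only [conjHom_apply] at h4
    exact h4
  · intro hb m
    have hlam2 : ∀ z, lam z ^ 2 = 1 := fun z =>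
      unit_sq_eq_one_of_real (lam z) ho0 (hlamo z) (hfix hb z)
    obtain ⟨lam₂, hext₂, hpow₂⟩ := exists_extension_of_coprime Z M hZM
      (fun m _ z hz => hZ.conj_mem z hz m) lam (fun m _ z => hinv m z) 2 hlam2 (by norm_num)
      hodd.coprime_two_right
    have hpow₂' : ∀ m, lam₂ m ^ o = 1 := by
      intro m
      have hc : 0 < Nat.card Z := Nat.card_pos
      obtain ⟨c, hc'⟩ := Nat.exists_eq_succ_of_ne_zero hc.ne'
      rw [ho, hc', pow_succ, mul_comm, pow_mul, hpow₂, one_pow]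
    have h5 : lam₂ = lam' := by
      apply extension_unique Z M hZM _ _ _ o hpow₂' hpow hcop
      intro z
      rw [hext, hext₂]
    rw [← h5]
    exact real_of_unit_sq_eq_one _ (hpow₂ m)

/-- elements of `ι Q` lying in `M` lie in `Z`, for `|M : Z|` odd. -/
theorem range_mem_of_odd [Finite Q] (hQ : IsPGroup 2 Q) (ι : Q →* H) (Z M : Subgroup H)
    [Z.Normal] (hodd : Odd (Z.relIndex M)) (q : Q) (hq : ι q ∈ M) : ι q ∈ Z := by
  obtain ⟨j, hj⟩ := (IsPGroup.iff_orderOf.mp hQ) q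
  apply mem_of_two_pow_of_odd_relIndex Z M hodd hq (k := j)
  rw [← map_pow, ← hj, pow_orderOf_eq_one, map_one]
  exact Z.one_mem

/-- **The odd step**, pairs. -/
theorem ppred_odd_step [Finite Q] (b : Bool) (hQ : IsPGroup 2 Q) (ι : Q →* H) (Z M : Subgroup H)
    [Z.Normal] (hZM : Z ≤ M) (hodd : Odd (Z.relIndex M)) (lam : Z →* ℂˣ) (lam' : M →* ℂˣ)
    (hext : ∀ z : Z, lam' ⟨z, hZM z.2⟩ = lam z) (p : (Q →* ℂˣ) × H) :
    PPred b ι Z lam p ↔ PPred b ι M lam' p := by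
  constructor
  · rintro ⟨h1, h2, h3, h4⟩
    refine ⟨h1, ?_, h3, h4⟩
    intro q hq
    have hqZ := range_mem_of_odd hQ ι Z M hodd q hq
    rw [h2 q hqZ]
    exact (hext ⟨ι q, hqZ⟩).symm
  · rintro ⟨h1, h2, h3, h4⟩
    refine ⟨h1, ?_, h3, h4⟩
    intro q hq
    rw [h2 q (hZM hq)]
    exact hext ⟨ι q, hq⟩

/-- **The odd step**, characters. -/
theorem xpred_odd_step [Finite H] [Finite Q] (b : Bool) (hQ : IsPGroup 2 Q) (ι : Q →* H)
    (hodd : Odd ι.range.index)
    (hb : b = false → Subgroup.normalizer ((ι.range : Subgroup H) : Set H) ≤ ι.range)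
    (Z M : Subgroup H) [hZ : Z.Normal] [hM : M.Normal] (hZM : Z ≤ M)
    (hab : ∀ x ∈ M, ∀ y ∈ M, x * y * x⁻¹ * y⁻¹ ∈ Z) (hoddidx : Odd (Z.relIndex M))
    (lam : Z →* ℂˣ)
    (hinv : ∀ (h : H) (z : Z), lam ⟨h * z * h⁻¹, hZ.conj_mem z z.2 h⟩ = lam z)
    (lam' : M →* ℂˣ) (hext : ∀ z : Z, lam' ⟨z, hZM z.2⟩ = lam z)
    (hinv' : ∀ (h : H) (m : M), lam' ⟨h * m * h⁻¹, hM.conj_mem m m.2 h⟩ = lam' m)
    (hfix' : SFix b (fun m : M => ((lam' m : ℂˣ) : ℂ)))
    (χ : IrrCharacter H) : XPred b Z lam χ ↔ XPred b M lam' χ := by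
  classical
  let _ : Fintype H := Fintype.ofFinite H
  let _ : Fintype M := Fintype.ofFinite M
  let _ : Fintype Z := Fintype.ofFinite Z
  constructor
  swap
  · rintro ⟨h1, h2, h3⟩
    refine ⟨h1, h2, fun z => ?_⟩
    rw [h3 ⟨z, hZM z.2⟩, hext]
  rintro ⟨hdeg, hχfix, hχZ⟩
  refine ⟨hdeg, hχfix, ?_⟩
  -- a `Q`-invariant constituent
  obtain ⟨θ, hθ, hθQ⟩ := exists_fixed_constituent M hQ ι χ hdeg
  have hθfix : SFix b (θ : M → ℂ) := by
    intro hb'
    apply real_constituent_of_real M χ (hχfix hb') θ hθ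
    obtain ⟨c, hc⟩ := card_conjOrbit_dvd_charDegree M χ θ hθ
    rw [hc] at hdeg
    exact (Nat.odd_mul.mp hdeg).1
  have hc := classInner_res_constituent M Z hZM lam hinv χ hχZ θ hθ
  have hθ1 : (θ : M → ℂ) 1 ≠ 0 := IsIrrCharacter.apply_one_ne_zero θ.2
  -- the quotient `β = θ / λ̂`
  set β : M → ℂ := fun m => (((lam'⁻¹) m : ℂˣ) : ℂ) * (θ : M → ℂ) m with hβ
  have hβirr : IsIrrCharacter M β :=
    Cfsg.Agent.Lib.Helper81.isIrrCharacter_monoidHom_mul (lam'⁻¹) θ.2
  have hunit : ∀ m : M, conj (((lam' m)⁻¹ : ℂˣ) : ℂ) = ((lam' m : ℂˣ) : ℂ) := by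
    intro m
    have h1 := Cfsg.Agent.Lib.Helper81.monoidHom_units_mul_conj lam' m
    have h2 : (((lam' m)⁻¹ : ℂˣ) : ℂ) = conj ((lam' m : ℂˣ) : ℂ) := by
      rw [Units.val_inv_eq_inv_val]
      exact inv_eq_of_mul_eq_one_right h1
    rw [h2, Complex.conj_conj]
  -- `β` is a constituent of the permutation character on `M / Z`
  have hne : classInner (indFun (Z.subgroupOf M) (fun _ : Z.subgroupOf M => (1 : ℂ))) β ≠ 0 := by
    have hβcl : IsClassFunction M β :=
      IsCharacter.isClassFunction (IsIrrCharacter.isCharacter hβirr)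
    rw [frobenius_reciprocity (Z.subgroupOf M) _ hβcl]
    have h1 : classInner (fun _ : Z.subgroupOf M => (1 : ℂ)) (fun n : Z.subgroupOf M => β n) =
        conj (classInner (fun z : Z => (θ : M → ℂ) ⟨z, hZM z.2⟩)
          (fun z : Z => ((lam z : ℂˣ) : ℂ))) := by
      have h2 := classInner_comp_equiv (Subgroup.subgroupOfEquivOfLe hZM).toEquiv
        (fun z : Z => (θ : M → ℂ) ⟨z, hZM z.2⟩) (fun z : Z => ((lam z : ℂˣ) : ℂ))
      rw [← h2]
      unfold classInner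
      rw [map_mul, map_sum, map_inv₀, Complex.conj_natCast]
      congr 1
      apply Finset.sum_congr rfl
      intro n _
      have h3 : ((Subgroup.subgroupOfEquivOfLe hZM).toEquiv n : Z) =
          ⟨((n : M) : H), Subgroup.mem_subgroupOf.mp n.2⟩ := rfl
      simp only [Function.comp_apply, h3, one_mul, map_mul, Complex.conj_conj, hβ]
      have h4 : lam ⟨((n : M) : H), Subgroup.mem_subgroupOf.mp n.2⟩ = lam' (n : M) :=
        (hext ⟨((n : M) : H), Subgroup.mem_subgroupOf.mp n.2⟩).symm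
      rw [h4, MonoidHom.inv_apply, hunit, mul_comm]
    rw [h1, hc]
    intro h0
    apply hθ1
    have := congrArg conj h0
    simpa using this
  obtain ⟨ν, hν, hνZ⟩ := exists_monoidHom_of_constituent_indFun_one (Z.subgroupOf M)
    (fun x y => by
      rw [Subgroup.mem_subgroupOf]
      exact hab x x.2 y y.2) hβirr hne
  -- `θ = λ̂ ν`
  have hθν : ∀ m : M, (θ : M → ℂ) m = ((lam' m : ℂˣ) : ℂ) * ((ν m : ℂˣ) : ℂ) := by
    intro m
    rw [← hν m, hβ]
    simp only [MonoidHom.inv_apply]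
    rw [← mul_assoc, ← Units.val_mul, mul_inv_cancel, Units.val_one, one_mul]
  have hνval : ∀ m : M, ((ν m : ℂˣ) : ℂ) = (((lam' m)⁻¹ : ℂˣ) : ℂ) * (θ : M → ℂ) m := by
    intro m
    rw [← hν m, hβ]
    simp only [MonoidHom.inv_apply]
  -- `ν = 1`
  have hν1 : ν = 1 := by
    have hνZ' : ∀ z : Z, ν ⟨z, hZM z.2⟩ = 1 := fun z =>
      hνZ ⟨⟨z, hZM z.2⟩, Subgroup.mem_subgroupOf.mpr z.2⟩
    cases b with
    | true =>
      apply hom_eq_one_of_real Z M hZM hoddidx ν hνZ'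
      intro m
      rw [hνval]
      have h1 := hfix' rfl m
      have h2 := hθfix rfl m
      have h3 : ((((lam' m)⁻¹ : ℂˣ) : ℂ)).im = 0 := by
        rw [← Complex.conj_eq_iff_im, hunit]
        rw [Units.val_inv_eq_inv_val]
        have h4 : conj ((lam' m : ℂˣ) : ℂ) = ((lam' m : ℂˣ) : ℂ) := Complex.conj_eq_iff_im.mpr h1
        have h5 := Cfsg.Agent.Lib.Helper81.monoidHom_units_mul_conj lam' m
        rw [h4] at h5
        exact (inv_eq_of_mul_eq_one_right h5).symm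
      rw [Complex.mul_im, h2, h3]
      ring
    | false =>
      have hQ' : IsPGroup 2 (ι.range) := by
        rintro ⟨x, q, rfl⟩
        obtain ⟨k, hk⟩ := hQ q
        exact ⟨k, Subtype.ext (by
          change (ι q) ^ (2 ^ k) = 1
          rw [← map_pow, hk, map_one])⟩
      apply hom_eq_one_of_self_normalizing ι.range hQ' hodd (hb rfl) Z M hZM hoddidx ν hνZ'
      rintro a ⟨q, rfl⟩ m
      apply Units.ext
      rw [hνval, hνval, hinv']
      congr 1
      have := congrFun (hθQ q) m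
      rw [conjFun_apply] at this
      exact this
  -- conclusion
  have hθeq : (θ : M → ℂ) = fun m : M => ((lam' m : ℂˣ) : ℂ) := by
    funext m
    rw [hθν, hν1, MonoidHom.one_apply, Units.val_one, mul_one]
  rw [hθeq] at hθ
  intro m
  exact apply_eq_of_linear_constituent M M le_rfl lam' hinv' χ lam' (fun _ => rfl) hθ m

end Cfsg.Agent.Lib.Helper81.OddReal
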