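import Mathlib
import Cfsg.Agent.Lib.Helper81.OROddStep

/-!
# The even step, I: inertia groups, linear constituents, glueing (helper81)

`Z ≤ M` normal in `H`, `M / Z` an abelian `2`-group.

* `OddReal.inertiaHom M ψ`: the inertia subgroup of a linear character `ψ` of `M`.
* `OddReal.linear_constituent`: constituents on `M` of the counted characters are linear
  extensions of `λ`.
* `OddReal.exists_glue`: a linear character of `M` is the same as a pair of compatible linear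
  characters of `Z` and of `M ∩ ι Q`.
-/

set_option autoImplicit false
set_option linter.unusedSectionVars false

namespace Cfsg.Agent.Lib.Helper81.OddReal

open Cfsg Cfsg.Agent.Lib.Helper75 Cfsg.Agent.Lib.Helper78
open scoped ComplexConjugate

universe u w

variable {H : Type u} [Group H] {Q : Type w} [Group Q]

section Inertia

variable (M : Subgroup H) [hM : M.Normal]

theorem conjHom_one (ν : M →* ℂˣ) : conjHom M 1 ν = ν := by
  ext m
  rw [conjHom_apply]
  congr 2
  apply Subtype.ext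
  simp

theorem conjHom_mul (g h : H) (ν : M →* ℂˣ) :
    conjHom M (g * h) ν = conjHom M h (conjHom M g ν) := by
  ext m
  rw [conjHom_apply, conjHom_apply, conjHom_apply]
  congr 2
  apply Subtype.ext
  simp [mul_assoc]

/-- the inertia subgroup of a linear character of `M`. -/
def inertiaHom (ψ : M →* ℂˣ) : Subgroup H where
  carrier := {h | conjHom M h ψ = ψ}
  one_mem' := conjHom_one M ψ
  mul_mem' := by
    intro a b ha hb
    change conjHom M (a * b) ψ = ψ
    rw [conjHom_mul, ha, hb]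
  inv_mem' := by
    intro a ha
    change conjHom M a⁻¹ ψ = ψ
    have h1 : conjHom M a⁻¹ (conjHom M a ψ) = ψ := by
      rw [← conjHom_mul, mul_inv_cancel, conjHom_one]
    rw [ha] at h1
    exact h1

theorem mem_inertiaHom (ψ : M →* ℂˣ) (h : H) :
    h ∈ inertiaHom M ψ ↔ ∀ m : M, ψ ⟨h * m * h⁻¹, hM.conj_mem m m.2 h⟩ = ψ m := by
  change conjHom M h ψ = ψ ↔ _
  constructor
  · intro h1 m
    rw [← conjHom_apply, h1]
  · intro h1
    ext m
    rw [conjHom_apply, h1]

theorem le_inertiaHom (ψ : M →* ℂˣ) : M ≤ inertiaHom M ψ := by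
  intro x hx
  rw [mem_inertiaHom]
  intro m
  have h1 : (⟨x * m * x⁻¹, hM.conj_mem m m.2 x⟩ : M) = ⟨x, hx⟩ * m * ⟨x, hx⟩⁻¹ := rfl
  rw [h1, map_mul, map_mul, map_inv, mul_comm, inv_mul_cancel_left]

/-- `conjHom` as a function is `conjFun`. -/
theorem conjHom_coe (h : H) (ψ : M →* ℂˣ) :
    (fun m : M => ((conjHom M h ψ m : ℂˣ) : ℂ)) =
      Helper75.conjFun M h (fun m : M => ((ψ m : ℂˣ) : ℂ)) := by
  funext m
  rw [conjHom_apply, conjFun_apply]

theorem hom_coe_injective {X : Type*} [Group X] (ν ν' : X →* ℂˣ)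
    (h : (fun x : X => ((ν x : ℂˣ) : ℂ)) = fun x : X => ((ν' x : ℂˣ) : ℂ)) : ν = ν' := by
  ext x
  exact congrFun h x

theorem mem_inertiaHom_iff_conjFun (ψ : M →* ℂˣ) (h : H) :
    h ∈ inertiaHom M ψ ↔ Helper75.conjFun M h (fun m : M => ((ψ m : ℂˣ) : ℂ)) =
      fun m : M => ((ψ m : ℂˣ) : ℂ) := by
  rw [← conjHom_coe]
  constructor
  · intro h1
    have h2 : conjHom M h ψ = ψ := h1
    rw [h2]
  · intro h1
    exact hom_coe_injective _ _ h1

end Inertia

section Linear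

variable [Fintype H] (M : Subgroup H) [hM : M.Normal] [Fintype M]
  (Z : Subgroup H) [hZ : Z.Normal] [Fintype Z]

/-- `ψ` lies under `χ`. -/
def Under (ψ : M →* ℂˣ) (χ : IrrCharacter H) : Prop :=
  classInner (fun m : M => (χ : H → ℂ) m) (fun m : M => ((ψ m : ℂˣ) : ℂ)) ≠ 0

/-- **Linear constituents.**  If `M / Z` is an abelian `2`-group, `χ` has odd degree and
`χ_Z = χ(1) λ`, then every constituent of `χ_M` is a linear character extending `λ`. -/
theorem linear_constituent (hZM : Z ≤ M) (hab : ∀ x ∈ M, ∀ y ∈ M, x * y * x⁻¹ * y⁻¹ ∈ Z)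
    (k : ℕ) (hk : Z.relIndex M = 2 ^ k) (lam : Z →* ℂˣ)
    (hinv : ∀ (h : H) (z : Z), lam ⟨h * z * h⁻¹, hZ.conj_mem z z.2 h⟩ = lam z)
    (χ : IrrCharacter H) (hdeg : Odd (charDegree (χ : H → ℂ)))
    (hχZ : ∀ z : Z, (χ : H → ℂ) z = (χ : H → ℂ) 1 * ((lam z : ℂˣ) : ℂ))
    (θ : IrrCharacter M) (hθ : classInner (fun m : M => (χ : H → ℂ) m) (θ : M → ℂ) ≠ 0) :
    ∃ ψ : M →* ℂˣ, (θ : M → ℂ) = (fun m : M => ((ψ m : ℂˣ) : ℂ)) ∧
      ∀ z : Z, ψ ⟨z, hZM z.2⟩ = lam z := by
  classical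
  let _ : Fintype (Z.subgroupOf M) := Fintype.ofFinite _
  have hc := classInner_res_constituent M Z hZM lam hinv χ hχZ θ hθ
  have hθ1 : (θ : M → ℂ) 1 ≠ 0 := IsIrrCharacter.apply_one_ne_zero θ.2
  -- `λ` transported to `Z.subgroupOf M`
  set lam' : Z.subgroupOf M → ℂ :=
    fun n => ((lam ⟨((n : M) : H), Subgroup.mem_subgroupOf.mp n.2⟩ : ℂˣ) : ℂ) with hlam'
  have hlam'irr : IsIrrCharacter (Z.subgroupOf M) lam' := by
    have h1 := Cfsg.Agent.Lib.Helper77.isIrrCharacter_of_monoidHom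
      (lam.comp (Subgroup.subgroupOfEquivOfLe hZM).toMonoidHom)
    exact h1
  have hlam'inv : ∀ t : M, Helper75.conjFun (Z.subgroupOf M) t lam' = lam' := by
    intro t
    funext n
    rw [conjFun_apply]
    simp only [hlam']
    have := hinv (t : H) ⟨((n : M) : H), Subgroup.mem_subgroupOf.mp n.2⟩
    exact congrArg (fun u : ℂˣ => (u : ℂ)) this
  obtain ⟨e, D, he, hind, hD, hcard⟩ := exists_uniform_ramification (Z.subgroupOf M)
    (fun x y => by
      rw [Subgroup.mem_subgroupOf]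
      exact hab x x.2 y y.2) hlam'irr hlam'inv
  -- `θ ∈ D`
  have hθcl : IsClassFunction M (θ : M → ℂ) := isClassFunction_irr θ
  have h1 : classInner (indFun (Z.subgroupOf M) lam') (θ : M → ℂ) ≠ 0 := by
    rw [frobenius_reciprocity (Z.subgroupOf M) _ hθcl, ← classInner_conj_symm]
    have h2 := classInner_comp_equiv (Subgroup.subgroupOfEquivOfLe hZM).toEquiv
      (fun z : Z => (θ : M → ℂ) ⟨z, hZM z.2⟩) (fun z : Z => ((lam z : ℂˣ) : ℂ))
    have h3 : classInner (fun n : Z.subgroupOf M => (θ : M → ℂ) n) lam' =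
        classInner ((fun z : Z => (θ : M → ℂ) ⟨z, hZM z.2⟩) ∘
          (Subgroup.subgroupOfEquivOfLe hZM).toEquiv)
          ((fun z : Z => ((lam z : ℂˣ) : ℂ)) ∘ (Subgroup.subgroupOfEquivOfLe hZM).toEquiv) := rfl
    rw [h3, h2, hc]
    intro h0
    apply hθ1
    have := congrArg conj h0
    simpa using this
  have hθD : θ ∈ D := by
    by_contra hnot
    apply h1
    rw [hind, classInner_smul_left, classInner_sum_left]
    have h4 : ∀ ψ ∈ D, classInner (ψ : M → ℂ) (θ : M → ℂ) = 0 := by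
      intro ψ hψ
      apply classInner_irr_ne ψ.2 θ.2
      intro h5
      apply hnot
      have : ψ = θ := Subtype.ext h5
      rw [← this]
      exact hψ
    rw [Finset.sum_eq_zero h4, mul_zero]
  have hθres := hD θ hθD
  -- `e = θ(1)` is odd and its square divides a power of `2`
  have hθ1e : (θ : M → ℂ) 1 = (e : ℂ) := by
    have h5 := congrFun hθres 1
    simp only [Pi.smul_apply, smul_eq_mul, hlam'] at h5
    have h6 : (⟨(((1 : Z.subgroupOf M) : M) : H), Subgroup.mem_subgroupOf.mp (1 : Z.subgroupOf M).2⟩ : Z)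
        = 1 := rfl
    rw [h6, map_one, Units.val_one, mul_one] at h5
    exact h5
  have he1 : e = 1 := by
    have h7 : e = charDegree (θ : M → ℂ) := by
      have h8 := Cfsg.Agent.Lib.Helper79.irr_apply_one_eq_charDegree θ
      rw [hθ1e] at h8
      exact_mod_cast h8
    have hodd : Odd e := by
      rw [h7]
      obtain ⟨c, hc'⟩ := charDegree_constituent_dvd M χ θ hθ
      rw [hc'] at hdeg
      exact (Nat.odd_mul.mp hdeg).1
    have h9 : e ∣ 2 ^ k := by
      have h10 : (Z.subgroupOf M).index = 2 ^ k := hk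
      rw [← h10, ← hcard]
      exact Dvd.dvd.mul_right (dvd_pow_self e (by norm_num)) _
    obtain ⟨j, _, hj⟩ := (Nat.dvd_prime_pow Nat.prime_two).mp h9
    rcases Nat.eq_zero_or_pos j with h0 | h0
    · rw [hj, h0, pow_zero]
    · exfalso
      rw [hj] at hodd
      have : Even (2 ^ j) := (Nat.even_pow' h0.ne').mpr even_two
      exact (Nat.not_even_iff_odd.mpr hodd) this
  rw [he1, Nat.cast_one] at hθ1e
  obtain ⟨ψ, hψ⟩ := Cfsg.Agent.Lib.Helper77.exists_monoidHom_of_degree_one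
    (IsIrrCharacter.isCharacter θ.2) hθ1e
  refine ⟨ψ, funext hψ, fun z => ?_⟩
  apply Units.ext
  rw [← hψ]
  have h11 := congrFun hθres ⟨⟨z, hZM z.2⟩, Subgroup.mem_subgroupOf.mpr z.2⟩
  simp only [Pi.smul_apply, smul_eq_mul, hlam', he1, Nat.cast_one, one_mul] at h11
  exact h11

end Linear

section Glue

variable [Finite H] [Finite Q] (ι : Q →* H) (Z M : Subgroup H) [hZ : Z.Normal] [hM : M.Normal]

/-- **Glueing.**  If `|M : Z|` is a power of `2` and `ι Q` has odd index, a linear character `λ`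
of `Z` invariant in `H` and a homomorphism `μ` of `Q` agreeing with `λ` on `Z ∩ ι Q` glue to a
linear character of `M`. -/
theorem exists_glue (hodd : Odd ι.range.index) (k : ℕ) (hk : Z.relIndex M = 2 ^ k)
    (lam : Z →* ℂˣ)
    (hinv : ∀ (h : H) (z : Z), lam ⟨h * z * h⁻¹, hZ.conj_mem z z.2 h⟩ = lam z)
    (μ : Q →* ℂˣ) (hcomp : ∀ (q : Q) (hq : ι q ∈ Z), μ q = lam ⟨ι q, hq⟩) :
    ∃ ψ : M →* ℂˣ, ∀ (z : Z) (q : Q) (h : (z : H) * ι q ∈ M), ψ ⟨(z : H) * ι q, h⟩ = lam z * μ q := by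
  classical
  have hdec : ∀ m : M, ∃ z : Z, ∃ q : Q, (m : H) = (z : H) * ι q := by
    intro m
    obtain ⟨z, hz, a, ⟨q, rfl⟩, hza⟩ := exists_mul_of_two_pow_relIndex Z M ι.range k hk hodd m.2
    exact ⟨⟨z, hz⟩, q, hza⟩
  choose zf qf hzq using hdec
  -- well-definedness
  have hwd : ∀ (z z' : Z) (q q' : Q), (z : H) * ι q = (z' : H) * ι q' →
      lam z * μ q = lam z' * μ q' := by
    intro z z' q q' h
    have h1 : ι (q * q'⁻¹) = ((z⁻¹ * z' : Z) : H) := by
      rw [map_mul, map_inv, Subgroup.coe_mul, Subgroup.coe_inv]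
      have h2 : ι q = (z : H)⁻¹ * ((z' : H) * ι q') := by rw [← h]; group
      rw [h2]
      group
    have h3 : ι (q * q'⁻¹) ∈ Z := by rw [h1]; exact (z⁻¹ * z').2
    have h4 := hcomp (q * q'⁻¹) h3
    have h5 : (⟨ι (q * q'⁻¹), h3⟩ : Z) = z⁻¹ * z' := Subtype.ext h1
    rw [h5, map_mul, map_inv, map_mul, map_inv] at h4
    calc lam z * μ q = lam z * (μ q * (μ q')⁻¹) * μ q' := by group
      _ = lam z * ((lam z)⁻¹ * lam z') * μ q' := by rw [h4]
      _ = lam z' * μ q' := by group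
  let f : M → ℂˣ := fun m => lam (zf m) * μ (qf m)
  have hf : ∀ (z : Z) (q : Q) (h : (z : H) * ι q ∈ M), f ⟨(z : H) * ι q, h⟩ = lam z * μ q := by
    intro z q h
    exact hwd _ _ _ _ (hzq ⟨(z : H) * ι q, h⟩).symm
  have hmul : ∀ a b : M, f (a * b) = f a * f b := by
    intro a b
    have ha := hzq a
    have hb := hzq b
    set z₁ := zf a
    set q₁ := qf a
    set z₂ := zf b
    set q₂ := qf b
    have h1 : ((a * b : M) : H) =
        ((z₁ * ⟨ι q₁ * z₂ * (ι q₁)⁻¹, hZ.conj_mem z₂ z₂.2 (ι q₁)⟩ : Z) : H) * ι (q₁ * q₂) := by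
      rw [Subgroup.coe_mul, ha, hb, map_mul, Subgroup.coe_mul]
      group
    have h2 : (a * b : M) = ⟨_, h1 ▸ (a * b).2⟩ := Subtype.ext h1
    rw [h2, hf, map_mul, map_mul, hinv]
    change _ = lam z₁ * μ q₁ * (lam z₂ * μ q₂)
    rw [mul_mul_mul_comm]
  refine ⟨MonoidHom.mk' f hmul, fun z q h => ?_⟩
  exact hf z q h

end Glue

end Cfsg.Agent.Lib.Helper81.OddReal
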