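import Mathlib
import Cfsg.Agent.Lib.Helper75.Clifford2
import Cfsg.Agent.Lib.Helper81.OREven1

/-!
# The even step, II: the Clifford correspondence for the counted characters (helper81)

For a linear character `ψ` of `M` extending `λ`, fixed by `ι Q`, with inertia group `T`,
induction is a bijection from the counted characters of `T` over `(M, ψ)` onto the counted
characters of `H` over `(Z, λ)` lying over `ψ`.
-/

set_option autoImplicit false
set_option linter.unusedSectionVars false

namespace Cfsg.Agent.Lib.Helper81.OddReal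

open Cfsg Cfsg.Agent.Lib.Helper75 Cfsg.Agent.Lib.Helper78
open scoped ComplexConjugate

universe u w

variable {H : Type u} [Group H] {Q : Type w} [Group Q]

/-- `ι` with codomain restricted to a subgroup containing its range. -/
def iotaT (ι : Q →* H) (T : Subgroup H) (hT : ι.range ≤ T) : Q →* T :=
  ι.codRestrict T (fun q => hT ⟨q, rfl⟩)

theorem iotaT_coe (ι : Q →* H) (T : Subgroup H) (hT : ι.range ≤ T) (q : Q) :
    ((iotaT ι T hT q : T) : H) = ι q := rfl

/-- a homomorphism on `M` transported to `M.subgroupOf T`. -/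
def psiT (M T : Subgroup H) (hMT : M ≤ T) (ψ : M →* ℂˣ) : M.subgroupOf T →* ℂˣ :=
  ψ.comp (Subgroup.subgroupOfEquivOfLe hMT).toMonoidHom

theorem psiT_apply (M T : Subgroup H) (hMT : M ≤ T) (ψ : M →* ℂˣ) (x : M.subgroupOf T) :
    psiT M T hMT ψ x = ψ ⟨((x : T) : H), Subgroup.mem_subgroupOf.mp x.2⟩ := rfl

section Ind

variable [Fintype H] (T : Subgroup H) [Fintype T]

/-- induction commutes with complex conjugation. -/
theorem indFun_conj_comp (η : T → ℂ) :
    indFun T (fun t => conj (η t)) = fun g => conj (indFun T η g) := by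
  classical
  funext g
  unfold indFun
  rw [map_mul, map_inv₀, Complex.conj_natCast, map_sum]
  congr 1
  apply Finset.sum_congr rfl
  intro x _
  by_cases hx : x⁻¹ * g * x ∈ T
  · rw [extendByZero_of_mem T _ hx, extendByZero_of_mem T _ hx]
  · rw [extendByZero_of_not_mem T _ hx, extendByZero_of_not_mem T _ hx, map_zero]

/-- induction of a real-valued function is real-valued. -/
theorem real_indFun (η : T → ℂ) (hη : ∀ t, (η t).im = 0) (g : H) : (indFun T η g).im = 0 := by
  rw [← Complex.conj_eq_iff_im]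
  have h1 := congrFun (indFun_conj_comp T η) g
  rw [← h1]
  congr 2
  funext t
  exact Complex.conj_eq_iff_im.mpr (hη t)

end Ind

section Clifford

variable [Fintype H] (M : Subgroup H) [hM : M.Normal] [Fintype M]
  (Z : Subgroup H) [hZ : Z.Normal] [Fintype Z]

/-- **The Clifford correspondence for the counted characters.** -/
theorem clifford_card (b : Bool) (ι : Q →* H) (hodd : Odd ι.range.index) (hZM : Z ≤ M)
    (lam : Z →* ℂˣ)
    (hinv : ∀ (h : H) (z : Z), lam ⟨h * z * h⁻¹, hZ.conj_mem z z.2 h⟩ = lam z)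
    (ψ : M →* ℂˣ) (hψZ : ∀ z : Z, ψ ⟨z, hZM z.2⟩ = lam z)
    (hψfix : SFix b (fun m : M => ((ψ m : ℂˣ) : ℂ)))
    (hQT : ι.range ≤ inertiaHom M ψ) :
    Nat.card {χ : IrrCharacter H // XPred b Z lam χ ∧ Under M ψ χ} =
      Nat.card {η : IrrCharacter (inertiaHom M ψ) //
        XPred b (M.subgroupOf (inertiaHom M ψ))
          (psiT M (inertiaHom M ψ) (le_inertiaHom M ψ) ψ) η} := by
  classical
  set T := inertiaHom M ψ with hTdef
  let _ : Fintype T := Fintype.ofFinite T
  let _ : Fintype (M.subgroupOf T) := Fintype.ofFinite _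
  have hMT : M ≤ T := le_inertiaHom M ψ
  set θ : M → ℂ := fun m => ((ψ m : ℂˣ) : ℂ) with hθdef
  have hθirr : IsIrrCharacter M θ := Cfsg.Agent.Lib.Helper77.isIrrCharacter_of_monoidHom ψ
  have hT : ∀ g : H, g ∈ T ↔ Helper75.conjFun M g θ = θ :=
    fun g => mem_inertiaHom_iff_conjFun M ψ g
  have hTodd : Odd T.index := by
    obtain ⟨c, hc⟩ := Subgroup.index_dvd_of_le hQT
    rw [hc] at hodd
    exact (Nat.odd_mul.mp hodd).1
  -- the `over` condition for the counted characters of `T`
  have hres : ∀ η : IrrCharacter T,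
      (∀ x : M.subgroupOf T, (η : T → ℂ) x = (η : T → ℂ) 1 *
        ((psiT M T hMT ψ x : ℂˣ) : ℂ)) →
      resNT M T hMT (η : T → ℂ) = (η : T → ℂ) 1 • θ := by
    intro η hη
    funext m
    have h1 := hη ⟨⟨m, hMT m.2⟩, Subgroup.mem_subgroupOf.mpr m.2⟩
    rw [Pi.smul_apply, smul_eq_mul]
    exact h1
  have hoverT : ∀ η : IrrCharacter T,
      (∀ x : M.subgroupOf T, (η : T → ℂ) x = (η : T → ℂ) 1 *
        ((psiT M T hMT ψ x : ℂˣ) : ℂ)) →
      classInner (resNT M T hMT (η : T → ℂ)) θ ≠ 0 := by
    intro η hη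
    rw [hres η hη, classInner_smul_left, classInner_irr_self hθirr, mul_one]
    exact IsIrrCharacter.apply_one_ne_zero η.2
  -- degrees
  have hdegind : ∀ (η : IrrCharacter T) (hirr : IsIrrCharacter H (indFun T (η : T → ℂ))),
      charDegree (indFun T (η : T → ℂ)) = T.index * charDegree (η : T → ℂ) := by
    intro η hirr
    have h1 := Cfsg.Agent.Lib.Helper79.irr_apply_one_eq_charDegree
      (⟨indFun T (η : T → ℂ), hirr⟩ : IrrCharacter H)
    have h2 := Cfsg.Agent.Lib.Helper79.irr_apply_one_eq_charDegree η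
    change indFun T (η : T → ℂ) 1 = _ at h1
    rw [indFun_one, h2] at h1
    exact_mod_cast h1.symm
  -- the forward map
  have hfwd : ∀ η : IrrCharacter T,
      XPred b (M.subgroupOf T) (psiT M T hMT ψ) η →
      ∃ hirr : IsIrrCharacter H (indFun T (η : T → ℂ)),
        XPred b Z lam ⟨indFun T (η : T → ℂ), hirr⟩ ∧ Under M ψ ⟨indFun T (η : T → ℂ), hirr⟩ := by
    rintro η ⟨hdeg, hfix, hη⟩
    have hover := hoverT η hη
    have hirr := isIrrCharacter_indFun_of_over M T hMT hθirr hT η.2 hover
    have hunder : Under M ψ ⟨indFun T (η : T → ℂ), hirr⟩ := by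
      change classInner (fun m : M => indFun T (η : T → ℂ) m) θ ≠ 0
      rw [classInner_res_indFun_of_over M T hMT hθirr hT η.2 hover]
      exact hover
    refine ⟨hirr, ⟨?_, ?_, ?_⟩, hunder⟩
    · change Odd (charDegree (indFun T (η : T → ℂ)))
      rw [hdegind η hirr]
      exact Nat.odd_mul.mpr ⟨hTodd, hdeg⟩
    · intro hb g
      exact real_indFun T _ (hfix hb) g
    · intro z
      exact apply_eq_of_linear_constituent M Z hZM lam hinv ⟨indFun T (η : T → ℂ), hirr⟩ ψ hψZ
        hunder z
  -- the backward map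
  have hbwd : ∀ χ : IrrCharacter H, XPred b Z lam χ → Under M ψ χ →
      ∃ η : IrrCharacter T, XPred b (M.subgroupOf T) (psiT M T hMT ψ) η ∧
        indFun T (η : T → ℂ) = (χ : H → ℂ) := by
    rintro χ ⟨hdeg, hfix, hχZ⟩ hunder
    obtain ⟨η, hηirr, hind, hmult⟩ := exists_indFun_eq_of_over M T hMT hθirr hT χ.2 hunder
    have hover : classInner (resNT M T hMT η) θ ≠ 0 := by
      rw [hmult]
      exact hunder
    refine ⟨⟨η, hηirr⟩, ⟨?_, ?_, ?_⟩, hind⟩
    · have hirr : IsIrrCharacter H (indFun T η) := by rw [hind]; exact χ.2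
      have h1 := hdegind ⟨η, hηirr⟩ hirr
      change charDegree (indFun T η) = _ at h1
      rw [hind] at h1
      rw [h1] at hdeg
      exact (Nat.odd_mul.mp hdeg).2
    · intro hb
      -- the conjugate of `η` induces to the same character
      have hηbar : IsIrrCharacter T (fun t => conj (η t)) :=
        Cfsg.Agent.Lib.Helper81.isIrrCharacter_conj hηirr
      have hθreal : (fun m : M => conj (θ m)) = θ := by
        funext m
        exact Complex.conj_eq_iff_im.mpr (hψfix hb m)
      have hoverbar : classInner (resNT M T hMT (fun t => conj (η t))) θ ≠ 0 := by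
        have h1 := classInner_conj_conj (resNT M T hMT η) θ
        rw [hθreal] at h1
        have h2 : resNT M T hMT (fun t => conj (η t)) = fun m => conj (resNT M T hMT η m) := rfl
        rw [h2, h1]
        intro h0
        apply hover
        have := congrArg conj h0
        simpa using this
      have hindbar : indFun T (fun t => conj (η t)) = indFun T η := by
        rw [indFun_conj_comp, hind]
        funext g
        exact Complex.conj_eq_iff_im.mpr (hfix hb g)
      have h3 := indFun_injective_of_over M T hMT hθirr hT hηbar hηirr hoverbar hover hindbar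
      intro t
      exact Complex.conj_eq_iff_im.mp (congrFun h3 t)
    · -- `η` restricted to `M` is a multiple of `ψ`
      have h1 : classInner (fun x : M.subgroupOf T => η x)
          (fun x : M.subgroupOf T => ((psiT M T hMT ψ x : ℂˣ) : ℂ)) ≠ 0 := by
        have h2 : (fun x : M.subgroupOf T => ((psiT M T hMT ψ x : ℂˣ) : ℂ)) =
            θ ∘ (Subgroup.subgroupOfEquivOfLe hMT).toEquiv := rfl
        rw [h2, res_eq_comp M T hMT η, classInner_comp_equiv]
        exact hover
      have hinvT : ∀ (t : T) (x : M.subgroupOf T),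
          psiT M T hMT ψ ⟨t * x * t⁻¹, (inferInstance : (M.subgroupOf T).Normal).conj_mem x x.2 t⟩ =
            psiT M T hMT ψ x := by
        intro t x
        rw [psiT_apply, psiT_apply]
        exact (mem_inertiaHom M ψ t).mp t.2 ⟨((x : T) : H), Subgroup.mem_subgroupOf.mp x.2⟩
      intro x
      exact apply_eq_of_linear_constituent (M.subgroupOf T) (M.subgroupOf T) le_rfl
        (psiT M T hMT ψ) hinvT ⟨η, hηirr⟩ (psiT M T hMT ψ) (fun _ => rfl) h1 x
  -- the bijection
  symm
  let F : {η : IrrCharacter T // XPred b (M.subgroupOf T) (psiT M T hMT ψ) η} →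
      {χ : IrrCharacter H // XPred b Z lam χ ∧ Under M ψ χ} :=
    fun η => ⟨⟨indFun T (η.1 : T → ℂ), (hfwd η.1 η.2).choose⟩, (hfwd η.1 η.2).choose_spec⟩
  apply Nat.card_congr (Equiv.ofBijective F ⟨?_, ?_⟩)
  · intro η η' hηη'
    have h1 : indFun T (η.1 : T → ℂ) = indFun T (η'.1 : T → ℂ) :=
      congrArg (fun χ : {χ : IrrCharacter H // XPred b Z lam χ ∧ Under M ψ χ} =>
        ((χ.1 : IrrCharacter H) : H → ℂ)) hηη'
    have h2 := indFun_injective_of_over M T hMT hθirr hT η.1.2 η'.1.2
      (hoverT η.1 η.2.2.2) (hoverT η'.1 η'.2.2.2) h1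
    exact Subtype.ext (Subtype.ext h2)
  · intro χ
    obtain ⟨η, hη, hind⟩ := hbwd χ.1 χ.2.1 χ.2.2
    exact ⟨⟨η, hη⟩, Subtype.ext (Subtype.ext hind)⟩

end Clifford

end Cfsg.Agent.Lib.Helper81.OddReal
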