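import Mathlib
import Cfsg.Agent.Lib.Helper81.OREven2

/-!
# The even step, III: the orbit of invariant linear constituents (helper81)

For a counted character `χ`, the `ι Q`-invariant `b`-fixed linear constituents of `χ_M` form a
single nonempty orbit under `N_H(ι Q)`; hence the number of pairs `(ψ, n)` with `n` in the
inertia group of `ψ` is `|N_H(ι Q)|`.
-/

set_option autoImplicit false
set_option linter.unusedSectionVars false

namespace Cfsg.Agent.Lib.Helper81.OddReal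

open Cfsg Cfsg.Agent.Lib.Helper75 Cfsg.Agent.Lib.Helper78
open scoped ComplexConjugate

universe u w

variable {H : Type u} [Group H] {Q : Type w} [Group Q]

/-- homomorphisms from a finite group to `ℂˣ` form a finite set. -/
theorem finite_hom_units (X : Type*) [Group X] [Finite X] : Finite (X →* ℂˣ) := by
  have h := (Cfsg.Agent.Lib.Helper81.card_monoidHom_trivial_on_le_index (⊥ : Subgroup X)).1
  exact Finite.of_injective (fun ν : X →* ℂˣ => (⟨ν, bot_le⟩ : {ν : X →* ℂˣ // ⊥ ≤ ν.ker}))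
    (fun a b hab => congrArg Subtype.val hab)

/-- the linear characters of `M` over `λ` fixed by `ι Q` and `b`-fixed. -/
def PsiPred (b : Bool) (ι : Q →* H) (Z M : Subgroup H) [M.Normal] (hZM : Z ≤ M)
    (lam : Z →* ℂˣ) (ψ : M →* ℂˣ) : Prop :=
  (∀ z : Z, ψ ⟨z, hZM z.2⟩ = lam z) ∧ ι.range ≤ inertiaHom M ψ ∧
    SFix b (fun m : M => ((ψ m : ℂˣ) : ℂ))

theorem mem_inertiaHom_conjHom (M : Subgroup H) [M.Normal] (g h : H) (ψ : M →* ℂˣ) :
    h ∈ inertiaHom M (conjHom M g ψ) ↔ g * h * g⁻¹ ∈ inertiaHom M ψ := by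
  change conjHom M h (conjHom M g ψ) = conjHom M g ψ ↔ conjHom M (g * h * g⁻¹) ψ = ψ
  rw [← conjHom_mul, conjHom_mul M (g * h) g⁻¹]
  constructor
  · intro h1
    rw [h1, ← conjHom_mul, mul_inv_cancel, conjHom_one]
  · intro h1
    have h2 := congrArg (conjHom M g) h1
    rw [← conjHom_mul, inv_mul_cancel, conjHom_one] at h2
    exact h2

/-- membership in the normalizer of a finite subgroup. -/
theorem mem_normalizer_of_conj_mem [Finite H] (A : Subgroup H) (n : H)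
    (h : ∀ a ∈ A, n * a * n⁻¹ ∈ A) : n ∈ Subgroup.normalizer (A : Set H) := by
  classical
  let _ : Fintype A := Fintype.ofFinite A
  exact Subgroup.mem_normalizer_fintype h

section Orbit

variable [Fintype H] (M : Subgroup H) [hM : M.Normal] [Fintype M]
  (Z : Subgroup H) [hZ : Z.Normal] [Fintype Z]

/-- **The orbit count.** -/
theorem orbit_count [Finite Q] (b : Bool) (hQ : IsPGroup 2 Q) (ι : Q →* H)
    (hodd : Odd ι.range.index) (hZM : Z ≤ M)
    (hab : ∀ x ∈ M, ∀ y ∈ M, x * y * x⁻¹ * y⁻¹ ∈ Z) (k : ℕ) (hk : Z.relIndex M = 2 ^ k)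
    (lam : Z →* ℂˣ)
    (hinv : ∀ (h : H) (z : Z), lam ⟨h * z * h⁻¹, hZ.conj_mem z z.2 h⟩ = lam z)
    (χ : IrrCharacter H) (hχ : XPred b Z lam χ) :
    Nat.card {p : {ψ : M →* ℂˣ // PsiPred b ι Z M hZM lam ψ ∧ Under M ψ χ} ×
        Subgroup.normalizer ((ι.range : Subgroup H) : Set H) //
        ((p.2 : Subgroup.normalizer ((ι.range : Subgroup H) : Set H)) : H) ∈
          inertiaHom M p.1.1} =
      Nat.card (Subgroup.normalizer ((ι.range : Subgroup H) : Set H)) := by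
  classical
  obtain ⟨hdeg, hχfix, hχZ⟩ := hχ
  have hcl : IsClassFunction H (χ : H → ℂ) := isClassFunction_irr χ
  have hQ' : IsPGroup 2 (ι.range) := by
    rintro ⟨x, q, rfl⟩
    obtain ⟨j, hj⟩ := hQ q
    exact ⟨j, Subtype.ext (by
      change (ι q) ^ (2 ^ j) = 1
      rw [← map_pow, hj, map_one])⟩
  have hfin : Finite (M →* ℂˣ) := finite_hom_units M
  -- the action
  have hact : ∀ (n : Subgroup.normalizer ((ι.range : Subgroup H) : Set H))
      (ψ : {ψ : M →* ℂˣ // PsiPred b ι Z M hZM lam ψ ∧ Under M ψ χ}),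
      PsiPred b ι Z M hZM lam (conjHom M ((n : H)⁻¹) ψ.1) ∧
        Under M (conjHom M ((n : H)⁻¹) ψ.1) χ := by
    rintro n ⟨ψ, ⟨hψZ, hψQ, hψfix⟩, hψu⟩
    refine ⟨⟨?_, ?_, ?_⟩, ?_⟩
    · intro z
      rw [conjHom_apply]
      have h1 := hψZ ⟨(n : H)⁻¹ * z * (n : H)⁻¹⁻¹, hZ.conj_mem z z.2 _⟩
      have h2 := hinv (n : H)⁻¹ z
      rw [← h2, ← h1]
    · rintro x ⟨q, rfl⟩
      rw [mem_inertiaHom_conjHom]
      apply hψQ
      have hn : (n : H)⁻¹ ∈ Subgroup.normalizer ((ι.range : Subgroup H) : Set H) :=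
        Subgroup.inv_mem _ n.2
      exact (Subgroup.mem_normalizer_iff.mp hn (ι q)).mp ⟨q, rfl⟩
    · intro hb m
      change ((conjHom M ((n : H)⁻¹) ψ m : ℂˣ) : ℂ).im = 0
      rw [conjHom_apply]
      exact hψfix hb _
    · change classInner _ _ ≠ 0
      rw [conjHom_coe, classInner_res_conjFun M hcl]
      exact hψu
  let act : Subgroup.normalizer ((ι.range : Subgroup H) : Set H) →
      {ψ : M →* ℂˣ // PsiPred b ι Z M hZM lam ψ ∧ Under M ψ χ} →
      {ψ : M →* ℂˣ // PsiPred b ι Z M hZM lam ψ ∧ Under M ψ χ} :=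
    fun n ψ => ⟨conjHom M ((n : H)⁻¹) ψ.1, hact n ψ⟩
  have hactmul : ∀ a b' x, act (a * b') x = act a (act b' x) := by
    intro a b' x
    apply Subtype.ext
    change conjHom M (((a * b' : Subgroup.normalizer ((ι.range : Subgroup H) : Set H)) : H)⁻¹) x.1 =
      conjHom M ((a : H)⁻¹) (conjHom M ((b' : H)⁻¹) x.1)
    rw [← conjHom_mul, Subgroup.coe_mul, mul_inv_rev]
  have hact1 : ∀ x, act 1 x = x := by
    intro x
    apply Subtype.ext
    change conjHom M (((1 : Subgroup.normalizer ((ι.range : Subgroup H) : Set H)) : H)⁻¹) x.1 = x.1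
    rw [Subgroup.coe_one, inv_one, conjHom_one]
  -- transitivity
  have htrans : ∀ x y, ∃ n, act n x = y := by
    rintro ⟨ψ, ⟨hψZ, hψQ, hψfix⟩, hψu⟩ ⟨ψ', ⟨hψ'Z, hψ'Q, hψ'fix⟩, hψ'u⟩
    have hθirr : IsIrrCharacter M (fun m : M => ((ψ m : ℂˣ) : ℂ)) :=
      Cfsg.Agent.Lib.Helper77.isIrrCharacter_of_monoidHom ψ
    have hθ'irr : IsIrrCharacter M (fun m : M => ((ψ' m : ℂˣ) : ℂ)) :=
      Cfsg.Agent.Lib.Helper77.isIrrCharacter_of_monoidHom ψ'
    obtain ⟨g, hg⟩ := clifford_conj M χ.2 hθirr hθ'irr hψu hψ'u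
    have hg' : conjHom M g ψ = ψ' := by
      apply hom_coe_injective
      rw [conjHom_coe]
      exact hg
    set T := inertiaHom M ψ with hT
    set B : Subgroup H := (ι.range).map (MulAut.conj g).toMonoidHom with hB
    have hBmem : ∀ x, x ∈ B ↔ ∃ a ∈ ι.range, x = g * a * g⁻¹ := by
      intro x
      rw [hB, Subgroup.mem_map]
      constructor
      · rintro ⟨a, ha, rfl⟩
        exact ⟨a, ha, by simp [MulAut.conj_apply]⟩
      · rintro ⟨a, ha, rfl⟩
        exact ⟨a, ha, by simp [MulAut.conj_apply]⟩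
    have hBT : B ≤ T := by
      intro x hx
      obtain ⟨a, ha, rfl⟩ := (hBmem x).mp hx
      rw [hT, ← mem_inertiaHom_conjHom, hg']
      exact hψ'Q ha
    have hB2 : IsPGroup 2 B := hQ'.map _
    have hBi : Odd B.index := by
      have h1 : B.index = ι.range.index := by
        rw [hB]
        exact Subgroup.index_map_equiv ι.range (MulAut.conj g)
      rw [h1]
      exact hodd
    obtain ⟨t, htT, ht⟩ := exists_conj_of_sylow_in T ι.range B hψQ hBT hQ' hB2 hodd hBi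
    have hn₀ : t⁻¹ * g ∈ Subgroup.normalizer ((ι.range : Subgroup H) : Set H) := by
      apply mem_normalizer_of_conj_mem
      intro a ha
      have h1 : t⁻¹ * g * a * (t⁻¹ * g)⁻¹ = t⁻¹ * (g * a * g⁻¹) * t := by group
      rw [h1, ← ht, hBmem]
      exact ⟨a, ha, rfl⟩
    refine ⟨⟨(t⁻¹ * g)⁻¹, Subgroup.inv_mem _ hn₀⟩, ?_⟩
    apply Subtype.ext
    change conjHom M (((t⁻¹ * g)⁻¹)⁻¹) ψ = ψ'
    rw [inv_inv, conjHom_mul]
    have h2 : conjHom M t⁻¹ ψ = ψ := T.inv_mem htT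
    rw [h2, hg']
  -- nonemptiness
  have hne : Nonempty {ψ : M →* ℂˣ // PsiPred b ι Z M hZM lam ψ ∧ Under M ψ χ} := by
    obtain ⟨θ, hθ, hθQ⟩ := exists_fixed_constituent M hQ ι χ hdeg
    obtain ⟨ψ, hψ, hψZ⟩ := linear_constituent M Z hZM hab k hk lam hinv χ hdeg hχZ θ hθ
    refine ⟨⟨ψ, ⟨hψZ, ?_, ?_⟩, ?_⟩⟩
    · rintro x ⟨q, rfl⟩
      rw [mem_inertiaHom_iff_conjFun, ← hψ]
      exact hθQ q
    · intro hb
      rw [← hψ]
      apply real_constituent_of_real M χ (hχfix hb) θ hθ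
      obtain ⟨c, hc⟩ := card_conjOrbit_dvd_charDegree M χ θ hθ
      rw [hc] at hdeg
      exact (Nat.odd_mul.mp hdeg).1
    · change classInner _ _ ≠ 0
      rw [← hψ]
      exact hθ
  have hfinX : Finite {ψ : M →* ℂˣ // PsiPred b ι Z M hZM lam ψ ∧ Under M ψ χ} :=
    Subtype.finite
  have hcount := card_fix_pairs act hactmul hact1 htrans
  rw [← hcount]
  apply Nat.card_congr
  apply Equiv.subtypeEquivRight
  intro p
  constructor
  · intro h1
    apply Subtype.ext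
    change conjHom M ((p.2 : H)⁻¹) p.1.1 = p.1.1
    exact (inertiaHom M p.1.1).inv_mem h1
  · intro h1
    have h2 : conjHom M ((p.2 : H)⁻¹) p.1.1 = p.1.1 := congrArg Subtype.val h1
    have h3 : (p.2 : H)⁻¹ ∈ inertiaHom M p.1.1 := h2
    exact (Subgroup.inv_mem_iff _).mp h3

end Orbit

end Cfsg.Agent.Lib.Helper81.OddReal
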