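import Mathlib
import Cfsg.Agent.Lib.Helper81.OREven3

/-!
# The even step, IV: assembly (helper81)

`Z ≤ M` normal in `H`, `M / Z` an abelian `2`-group.  If the counting identity holds for all
`(T_ψ, M, ψ)`, `ψ` an `ι Q`-invariant `b`-fixed linear character of `M` over `λ` with inertia
group `T_ψ`, then it holds for `(H, Z, λ)`.
-/

set_option autoImplicit false
set_option linter.unusedSectionVars false

namespace Cfsg.Agent.Lib.Helper81.OddReal

open Cfsg Cfsg.Agent.Lib.Helper75 Cfsg.Agent.Lib.Helper78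
open scoped ComplexConjugate

universe u w

variable {H : Type u} [Group H] {Q : Type w} [Group Q]

/-- the normalizer of `ι Q` in a subgroup `T`. -/
theorem mem_normalizer_iotaT [Finite H] (ι : Q →* H) (T : Subgroup H) (hT : ι.range ≤ T)
    (t : T) :
    t ∈ Subgroup.normalizer (((iotaT ι T hT).range : Subgroup T) : Set T) ↔
      (t : H) ∈ Subgroup.normalizer ((ι.range : Subgroup H) : Set H) := by
  constructor
  · intro h
    apply mem_normalizer_of_conj_mem
    rintro a ⟨q, rfl⟩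
    obtain ⟨q', hq'⟩ := (Subgroup.mem_normalizer_iff.mp h (iotaT ι T hT q)).mp ⟨q, rfl⟩
    refine ⟨q', ?_⟩
    have := congrArg Subtype.val hq'
    simpa [iotaT_coe] using this
  · intro h
    apply mem_normalizer_of_conj_mem
    rintro a ⟨q, rfl⟩
    obtain ⟨q', hq'⟩ := (Subgroup.mem_normalizer_iff.mp h (ι q)).mp ⟨q, rfl⟩
    refine ⟨q', Subtype.ext ?_⟩
    simpa [iotaT_coe] using hq'

theorem card_normalizer_iotaT [Finite H] (ι : Q →* H) (T : Subgroup H) (hT : ι.range ≤ T) :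
    Nat.card {n : Subgroup.normalizer ((ι.range : Subgroup H) : Set H) // (n : H) ∈ T} =
      Nat.card (Subgroup.normalizer (((iotaT ι T hT).range : Subgroup T) : Set T)) := by
  apply Nat.card_congr
  exact
    { toFun := fun n => ⟨⟨(n.1 : H), n.2⟩, (mem_normalizer_iotaT ι T hT _).mpr n.1.2⟩
      invFun := fun t => ⟨⟨(t.1 : H), (mem_normalizer_iotaT ι T hT _).mp t.2⟩, t.1.2⟩
      left_inv := fun n => rfl
      right_inv := fun t => rfl }

/-- the pairs of a subgroup `T`, in terms of `H`. -/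
theorem ppred_iotaT [Finite H] (b : Bool) (ι : Q →* H) (M T : Subgroup H) (hMT : M ≤ T)
    (hT : ι.range ≤ T) (ψ : M →* ℂˣ) (μ : Q →* ℂˣ) (t : T) :
    PPred b (iotaT ι T hT) (M.subgroupOf T) (psiT M T hMT ψ) (μ, t) ↔
      SFix b (fun q => ((μ q : ℂˣ) : ℂ)) ∧ (∀ (q : Q) (hq : ι q ∈ M), μ q = ψ ⟨ι q, hq⟩) ∧
      (t : H) ∈ Subgroup.normalizer ((ι.range : Subgroup H) : Set H) ∧
      ∀ q q' : Q, ι q' = (t : H) * ι q * (t : H)⁻¹ → μ q' = μ q := by
  unfold PPred
  constructor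
  · rintro ⟨h1, h2, h3, h4⟩
    refine ⟨h1, ?_, (mem_normalizer_iotaT ι T hT t).mp h3, ?_⟩
    · intro q hq
      exact h2 q (Subgroup.mem_subgroupOf.mpr hq)
    · intro q q' hqq'
      exact h4 q q' (Subtype.ext (by simpa [iotaT_coe] using hqq'))
  · rintro ⟨h1, h2, h3, h4⟩
    refine ⟨h1, ?_, (mem_normalizer_iotaT ι T hT t).mpr h3, ?_⟩
    · intro q hq
      exact h2 q (Subgroup.mem_subgroupOf.mp hq)
    · intro q q' hqq'
      apply h4 q q'
      have := congrArg Subtype.val hqq'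
      simpa [iotaT_coe] using this

section Assembly

variable [Finite H] [Finite Q]

/-- decomposition of the elements of `M`. -/
theorem exists_decomp (ι : Q →* H) (hodd : Odd ι.range.index) (Z M : Subgroup H) [Z.Normal]
    [M.Normal] (k : ℕ) (hk : Z.relIndex M = 2 ^ k) (m : M) :
    ∃ (z : Z) (q : Q), (m : H) = (z : H) * ι q := by
  obtain ⟨z, hz, a, ⟨q, rfl⟩, hza⟩ := exists_mul_of_two_pow_relIndex Z M ι.range k hk hodd m.2
  exact ⟨⟨z, hz⟩, q, hza⟩

/-- a linear character of `M` is determined by its restrictions to `Z` and `M ∩ ι Q`. -/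
theorem hom_ext_of_decomp (ι : Q →* H) (hodd : Odd ι.range.index) (Z M : Subgroup H) [Z.Normal]
    [M.Normal] (hZM : Z ≤ M) (k : ℕ) (hk : Z.relIndex M = 2 ^ k) (ψ ψ' : M →* ℂˣ)
    (hZ : ∀ z : Z, ψ ⟨z, hZM z.2⟩ = ψ' ⟨z, hZM z.2⟩)
    (hQ : ∀ (q : Q) (hq : ι q ∈ M), ψ ⟨ι q, hq⟩ = ψ' ⟨ι q, hq⟩) : ψ = ψ' := by
  ext m
  congr 1
  obtain ⟨z, q, hm⟩ := exists_decomp ι hodd Z M k hk m
  have hq : ι q ∈ M := by
    have h1 : ι q = (z : H)⁻¹ * (m : H) := by rw [hm]; group
    rw [h1]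
    exact M.mul_mem (M.inv_mem (hZM z.2)) m.2
  have h2 : m = ⟨z, hZM z.2⟩ * ⟨ι q, hq⟩ := Subtype.ext hm
  rw [h2, map_mul, map_mul, hZ, hQ]

/-- **The even step.** -/
theorem even_step (b : Bool) (hQ : IsPGroup 2 Q) (ι : Q →* H) (hodd : Odd ι.range.index)
    (Z M : Subgroup H) [hZ : Z.Normal] [hM : M.Normal] (hZM : Z ≤ M)
    (hab : ∀ x ∈ M, ∀ y ∈ M, x * y * x⁻¹ * y⁻¹ ∈ Z) (k : ℕ) (hk : Z.relIndex M = 2 ^ k)
    (lam : Z →* ℂˣ)
    (hinv : ∀ (h : H) (z : Z), lam ⟨h * z * h⁻¹, hZ.conj_mem z z.2 h⟩ = lam z)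
    (hfix : SFix b (fun z : Z => ((lam z : ℂˣ) : ℂ)))
    (IH : ∀ (ψ : M →* ℂˣ) (hψ : PsiPred b ι Z M hZM lam ψ),
      Nat.card (Subgroup.normalizer
          (((iotaT ι (inertiaHom M ψ) hψ.2.1).range : Subgroup (inertiaHom M ψ)) :
            Set (inertiaHom M ψ))) *
        Nat.card {η : IrrCharacter (inertiaHom M ψ) //
          XPred b (M.subgroupOf (inertiaHom M ψ))
            (psiT M (inertiaHom M ψ) (le_inertiaHom M ψ) ψ) η} =
      Nat.card {p : (Q →* ℂˣ) × (inertiaHom M ψ) //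
        PPred b (iotaT ι (inertiaHom M ψ) hψ.2.1) (M.subgroupOf (inertiaHom M ψ))
          (psiT M (inertiaHom M ψ) (le_inertiaHom M ψ) ψ) p}) :
    Nat.card (Subgroup.normalizer ((ι.range : Subgroup H) : Set H)) *
        Nat.card {χ : IrrCharacter H // XPred b Z lam χ} =
      Nat.card {p : (Q →* ℂˣ) × H // PPred b ι Z lam p} := by
  classical
  let _ : Fintype H := Fintype.ofFinite H
  let _ : Fintype M := Fintype.ofFinite M
  let _ : Fintype Z := Fintype.ofFinite Z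
  have hfinM : Finite (M →* ℂˣ) := finite_hom_units M
  have hfinQ : Finite (Q →* ℂˣ) := finite_hom_units Q
  let _ : Fintype {ψ : M →* ℂˣ // PsiPred b ι Z M hZM lam ψ} := Fintype.ofFinite _
  let _ : Fintype {χ : IrrCharacter H // XPred b Z lam χ} := Fintype.ofFinite _
  -- Step 1: count the triples over `χ`
  have step1 : Nat.card (Subgroup.normalizer ((ι.range : Subgroup H) : Set H)) *
      Nat.card {χ : IrrCharacter H // XPred b Z lam χ} =
      Nat.card (Σ χ : {χ : IrrCharacter H // XPred b Z lam χ},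
        {p : {ψ : M →* ℂˣ // PsiPred b ι Z M hZM lam ψ ∧ Under M ψ χ.1} ×
          Subgroup.normalizer ((ι.range : Subgroup H) : Set H) //
          ((p.2 : Subgroup.normalizer ((ι.range : Subgroup H) : Set H)) : H) ∈
            inertiaHom M p.1.1}) := by
    rw [Nat.card_sigma]
    have h1 : ∀ χ : {χ : IrrCharacter H // XPred b Z lam χ},
        Nat.card {p : {ψ : M →* ℂˣ // PsiPred b ι Z M hZM lam ψ ∧ Under M ψ χ.1} ×
          Subgroup.normalizer ((ι.range : Subgroup H) : Set H) //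
          ((p.2 : Subgroup.normalizer ((ι.range : Subgroup H) : Set H)) : H) ∈
            inertiaHom M p.1.1} =
        Nat.card (Subgroup.normalizer ((ι.range : Subgroup H) : Set H)) := fun χ =>
      orbit_count M Z b hQ ι hodd hZM hab k hk lam hinv χ.1 χ.2
    rw [Finset.sum_congr rfl (fun χ _ => h1 χ), Finset.sum_const, Finset.card_univ,
      smul_eq_mul, mul_comm, Nat.card_eq_fintype_card (α := {χ : IrrCharacter H // XPred b Z lam χ})]
  -- Step 2: regroup the triples over `ψ`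
  have step2 : Nat.card (Σ χ : {χ : IrrCharacter H // XPred b Z lam χ},
        {p : {ψ : M →* ℂˣ // PsiPred b ι Z M hZM lam ψ ∧ Under M ψ χ.1} ×
          Subgroup.normalizer ((ι.range : Subgroup H) : Set H) //
          ((p.2 : Subgroup.normalizer ((ι.range : Subgroup H) : Set H)) : H) ∈
            inertiaHom M p.1.1}) =
      Nat.card (Σ ψ : {ψ : M →* ℂˣ // PsiPred b ι Z M hZM lam ψ},
        {χ : IrrCharacter H // XPred b Z lam χ ∧ Under M ψ.1 χ} ×
        {n : Subgroup.normalizer ((ι.range : Subgroup H) : Set H) //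
          (n : H) ∈ inertiaHom M ψ.1}) := by
    apply Nat.card_congr
    exact
      { toFun := fun x => ⟨⟨x.2.1.1.1, x.2.1.1.2.1⟩,
          (⟨x.1.1, x.1.2, x.2.1.1.2.2⟩, ⟨x.2.1.2, x.2.2⟩)⟩
        invFun := fun y => ⟨⟨y.2.1.1, y.2.1.2.1⟩,
          ⟨(⟨y.1.1, y.1.2, y.2.1.2.2⟩, y.2.2.1), y.2.2.2⟩⟩
        left_inv := fun x => rfl
        right_inv := fun y => rfl }
  -- Step 3: evaluate with the Clifford correspondence and the inductive hypothesis
  have step3 : Nat.card (Σ ψ : {ψ : M →* ℂˣ // PsiPred b ι Z M hZM lam ψ},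
        {χ : IrrCharacter H // XPred b Z lam χ ∧ Under M ψ.1 χ} ×
        {n : Subgroup.normalizer ((ι.range : Subgroup H) : Set H) //
          (n : H) ∈ inertiaHom M ψ.1}) =
      Nat.card (Σ ψ : {ψ : M →* ℂˣ // PsiPred b ι Z M hZM lam ψ},
        {p : (Q →* ℂˣ) × (inertiaHom M ψ.1) //
          PPred b (iotaT ι (inertiaHom M ψ.1) ψ.2.2.1) (M.subgroupOf (inertiaHom M ψ.1))
            (psiT M (inertiaHom M ψ.1) (le_inertiaHom M ψ.1) ψ.1) p}) := by
    rw [Nat.card_sigma, Nat.card_sigma]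
    apply Finset.sum_congr rfl
    intro ψ _
    rw [Nat.card_prod, clifford_card M Z b ι hodd hZM lam hinv ψ.1 ψ.2.1 ψ.2.2.2 ψ.2.2.1,
      card_normalizer_iotaT ι (inertiaHom M ψ.1) ψ.2.2.1, mul_comm]
    exact IH ψ.1 ψ.2
  -- Step 4: the pairs
  have step4 : Nat.card (Σ ψ : {ψ : M →* ℂˣ // PsiPred b ι Z M hZM lam ψ},
        {p : (Q →* ℂˣ) × (inertiaHom M ψ.1) //
          PPred b (iotaT ι (inertiaHom M ψ.1) ψ.2.2.1) (M.subgroupOf (inertiaHom M ψ.1))
            (psiT M (inertiaHom M ψ.1) (le_inertiaHom M ψ.1) ψ.1) p}) =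
      Nat.card {p : (Q →* ℂˣ) × H // PPred b ι Z lam p} := by
    have hwd : ∀ (ψ : {ψ : M →* ℂˣ // PsiPred b ι Z M hZM lam ψ})
        (p : {p : (Q →* ℂˣ) × (inertiaHom M ψ.1) //
          PPred b (iotaT ι (inertiaHom M ψ.1) ψ.2.2.1) (M.subgroupOf (inertiaHom M ψ.1))
            (psiT M (inertiaHom M ψ.1) (le_inertiaHom M ψ.1) ψ.1) p}),
        PPred b ι Z lam (p.1.1, ((p.1.2 : inertiaHom M ψ.1) : H)) := by
      intro ψ p
      obtain ⟨h1, h2, h3, h4⟩ := (ppred_iotaT b ι M (inertiaHom M ψ.1) (le_inertiaHom M ψ.1)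
        ψ.2.2.1 ψ.1 p.1.1 p.1.2).mp p.2
      refine ⟨h1, ?_, h3, h4⟩
      intro q hq
      rw [h2 q (hZM hq)]
      exact ψ.2.1 ⟨ι q, hq⟩
    let G : (Σ ψ : {ψ : M →* ℂˣ // PsiPred b ι Z M hZM lam ψ},
        {p : (Q →* ℂˣ) × (inertiaHom M ψ.1) //
          PPred b (iotaT ι (inertiaHom M ψ.1) ψ.2.2.1) (M.subgroupOf (inertiaHom M ψ.1))
            (psiT M (inertiaHom M ψ.1) (le_inertiaHom M ψ.1) ψ.1) p}) →
        {p : (Q →* ℂˣ) × H // PPred b ι Z lam p} :=
      fun x => ⟨(x.2.1.1, ((x.2.1.2 : inertiaHom M x.1.1) : H)), hwd x.1 x.2⟩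
    apply Nat.card_congr (Equiv.ofBijective G ⟨?_, ?_⟩)
    · rintro ⟨⟨ψ, hψ⟩, ⟨⟨μ, t⟩, hp⟩⟩ ⟨⟨ψ', hψ'⟩, ⟨⟨μ', t'⟩, hp'⟩⟩ hG
      have hG' := congrArg Subtype.val hG
      have hμ : μ = μ' := congrArg Prod.fst hG'
      have ht : (t : H) = (t' : H) := congrArg Prod.snd hG'
      subst hμ
      have h2 := ((ppred_iotaT b ι M (inertiaHom M ψ) (le_inertiaHom M ψ) hψ.2.1 ψ μ t).mp hp).2.1
      have h2' := ((ppred_iotaT b ι M (inertiaHom M ψ') (le_inertiaHom M ψ') hψ'.2.1 ψ' μ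
        t').mp hp').2.1
      have hψψ' : ψ = ψ' := by
        apply hom_ext_of_decomp ι hodd Z M hZM k hk
        · intro z
          rw [hψ.1, hψ'.1]
        · intro q hq
          rw [← h2 q hq, ← h2' q hq]
      subst hψψ'
      have htt' : t = t' := Subtype.ext ht
      subst htt'
      rfl
    · rintro ⟨⟨μ, n⟩, h1, h2, h3, h4⟩
      obtain ⟨ψ, hψ⟩ := exists_glue ι Z M hodd k hk lam hinv μ h2
      have hψZ : ∀ z : Z, ψ ⟨z, hZM z.2⟩ = lam z := by
        intro z
        have h5 : (z : H) * ι 1 ∈ M := by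
          rw [map_one, mul_one]
          exact hZM z.2
        have h6 := hψ z 1 h5
        have h7 : (⟨(z : H) * ι 1, h5⟩ : M) = ⟨z, hZM z.2⟩ := Subtype.ext (by simp)
        rw [h7, map_one μ, mul_one] at h6
        exact h6
      have hψQ : ∀ (q : Q) (hq : ι q ∈ M), ψ ⟨ι q, hq⟩ = μ q := by
        intro q hq
        have h5 : ((1 : Z) : H) * ι q ∈ M := by
          rw [Subgroup.coe_one, one_mul]
          exact hq
        have h6 := hψ 1 q h5
        have h7 : (⟨((1 : Z) : H) * ι q, h5⟩ : M) = ⟨ι q, hq⟩ := Subtype.ext (by simp)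
        rw [h7, map_one lam, one_mul] at h6
        exact h6
      -- values of `ψ`
      have hval : ∀ m : M, ∃ (z : Z) (q : Q), (m : H) = (z : H) * ι q ∧ ψ m = lam z * μ q := by
        intro m
        obtain ⟨z, q, hm⟩ := exists_decomp ι hodd Z M k hk m
        refine ⟨z, q, hm, ?_⟩
        have h5 : (z : H) * ι q ∈ M := by rw [← hm]; exact m.2
        rw [← hψ z q h5]
        congr 1
        exact Subtype.ext hm
      -- invariance under elements normalizing `ι Q` and fixing `μ`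
      have hinvψ : ∀ g : H, g ∈ Subgroup.normalizer ((ι.range : Subgroup H) : Set H) →
          (∀ q q' : Q, ι q' = g * ι q * g⁻¹ → μ q' = μ q) → g ∈ inertiaHom M ψ := by
        intro g hg hgμ
        rw [mem_inertiaHom]
        intro m
        obtain ⟨z, q, hm, hψm⟩ := hval m
        obtain ⟨q', hq'⟩ := (Subgroup.mem_normalizer_iff.mp hg (ι q)).mp ⟨q, rfl⟩
        have h5 : g * (m : H) * g⁻¹ =
            ((⟨g * z * g⁻¹, hZ.conj_mem z z.2 g⟩ : Z) : H) * ι q' := by
          rw [hm, hq']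
          group
        have h6 : ((⟨g * z * g⁻¹, hZ.conj_mem z z.2 g⟩ : Z) : H) * ι q' ∈ M := by
          rw [← h5]
          exact hM.conj_mem m m.2 g
        have h7 : (⟨g * (m : H) * g⁻¹, hM.conj_mem m m.2 g⟩ : M) = ⟨_, h6⟩ := Subtype.ext h5
        rw [h7, hψ _ _ h6, hinv, hgμ q q' hq', hψm]
      have hψpred : PsiPred b ι Z M hZM lam ψ := by
        refine ⟨hψZ, ?_, ?_⟩
        · rintro x ⟨q₀, rfl⟩
          apply hinvψ
          · exact Subgroup.le_normalizer ⟨q₀, rfl⟩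
          · intro q q' hqq'
            have h5 : ι q' = ι (q₀ * q * q₀⁻¹) := by
              rw [hqq', map_mul, map_mul, map_inv]
            -- `μ` is a class function on `Q`; use the values through `ψ`... direct:
            have h6 : μ (q₀ * q * q₀⁻¹) = μ q := by
              rw [map_mul, map_mul, map_inv, mul_comm, inv_mul_cancel_left]
            -- `ι q'` and `ι (q₀ q q₀⁻¹)` agree, so `μ` agrees via compatibility with `ψ`
            by_cases hqM : ι q' ∈ M
            · have h7 := hψQ q' hqM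
              have h8 : ι (q₀ * q * q₀⁻¹) ∈ M := by rw [← h5]; exact hqM
              have h9 := hψQ (q₀ * q * q₀⁻¹) h8
              have h10 : (⟨ι q', hqM⟩ : M) = ⟨ι (q₀ * q * q₀⁻¹), h8⟩ := Subtype.ext h5
              rw [← h7, h10, h9, h6]
            · -- general argument: `q'⁻¹ (q₀ q q₀⁻¹)` lies in the kernel of `ι`
              have h11 : ι (q'⁻¹ * (q₀ * q * q₀⁻¹)) = 1 := by
                rw [map_mul, map_inv, ← h5, inv_mul_cancel]
              have h12 : ι (q'⁻¹ * (q₀ * q * q₀⁻¹)) ∈ Z := by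
                rw [h11]; exact Z.one_mem
              have h13 := h2 _ h12
              have h14 : (⟨ι (q'⁻¹ * (q₀ * q * q₀⁻¹)), h12⟩ : Z) = 1 := Subtype.ext h11
              rw [h14, map_one, map_mul, map_inv, inv_mul_eq_one] at h13
              rw [h13, h6]
        · intro hb m
          obtain ⟨z, q, _, hψm⟩ := hval m
          change ((ψ m : ℂˣ) : ℂ).im = 0
          rw [hψm, Units.val_mul, Complex.mul_im, hfix hb z, h1 hb q]
          ring
      have hnT : n ∈ inertiaHom M ψ := hinvψ n h3 h4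
      refine ⟨⟨⟨ψ, hψpred⟩, ⟨(μ, ⟨n, hnT⟩), ?_⟩⟩, rfl⟩
      apply (ppred_iotaT b ι M (inertiaHom M ψ) (le_inertiaHom M ψ) hψpred.2.1 ψ μ ⟨n, hnT⟩).mpr
      exact ⟨h1, fun q hq => (hψQ q hq).symm, h3, h4⟩
  rw [step1, step2, step3, step4]

end Assembly

end Cfsg.Agent.Lib.Helper81.OddReal
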