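import Mathlib
import Cfsg.Agent.Lib.Helper81.OREven4

/-!
# The counting identity for odd-degree characters of solvable groups (helper81)

`OddReal.main_count`: for a finite solvable group `H`, an embedding `ι : Q →* H` of a `2`-group
onto a subgroup of odd index, a normal subgroup `Z` and an `H`-invariant linear character `λ` of
`Z` of `2`-power order, with `b = true` (real characters) or `N_H(ι Q) = ι Q`:

`|N_H(ι Q)| · #{χ ∈ Irr(H) : χ(1) odd, χ b-fixed, χ_Z = χ(1) λ}
    = #{(μ, n) : μ ∈ Lin(Q) b-fixed, μ = λ on Z ∩ ι Q, n ∈ N_H(ι Q), μ^n = μ}`.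
-/

set_option autoImplicit false
set_option linter.unusedSectionVars false

namespace Cfsg.Agent.Lib.Helper81.OddReal

open Cfsg Cfsg.Agent.Lib.Helper75 Cfsg.Agent.Lib.Helper78
open scoped ComplexConjugate

universe u w

theorem range_iotaT {H : Type u} [Group H] {Q : Type w} [Group Q] (ι : Q →* H) (T : Subgroup H)
    (hT : ι.range ≤ T) : (iotaT ι T hT).range = ι.range.subgroupOf T := by
  ext t
  rw [Subgroup.mem_subgroupOf]
  constructor
  · rintro ⟨q, rfl⟩
    exact ⟨q, rfl⟩
  · rintro ⟨q, hq⟩
    exact ⟨q, Subtype.ext hq⟩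

/-- **The counting identity.** -/
theorem main_count (b : Bool) {Q : Type w} [Group Q] [Finite Q] (hQ : IsPGroup 2 Q) :
    ∀ (n : ℕ) (H : Type u) [Group H] [Finite H] [Group.IsSolvable H] (ι : Q →* H)
      (_hodd : Odd ι.range.index)
      (_hb : b = false → Subgroup.normalizer ((ι.range : Subgroup H) : Set H) ≤ ι.range)
      (Z : Subgroup H) [hZ : Z.Normal] (_hn : Z.index = n) (lam : Z →* ℂˣ)
      (_hinv : ∀ (h : H) (z : Z), lam ⟨h * z * h⁻¹, hZ.conj_mem z z.2 h⟩ = lam z)
      (_h2 : ∀ z, ∃ k : ℕ, lam z ^ (2 ^ k) = 1)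
      (_hfix : SFix b (fun z : Z => ((lam z : ℂˣ) : ℂ))),
      Nat.card (Subgroup.normalizer ((ι.range : Subgroup H) : Set H)) *
          Nat.card {χ : IrrCharacter H // XPred b Z lam χ} =
        Nat.card {p : (Q →* ℂˣ) × H // PPred b ι Z lam p} := by
  intro n
  induction n using Nat.strong_induction_on with
  | _ n ih =>
    intro H _ _ _ ι hodd hb Z hZ hn lam hinv h2 hfix
    by_cases hZtop : Z = ⊤
    · have htop : ∀ h : H, h ∈ Z := fun h => by rw [hZtop]; exact Subgroup.mem_top h
      rw [card_XPred_top b Z htop lam hfix, card_PPred_top b ι Z htop lam hinv hfix, mul_one]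
    · obtain ⟨M, hMn, hZM, hMZ, hab, hcase⟩ := exists_step Z hZtop
      have hlt : M.index < n := by
        rw [← hn, ← Subgroup.relIndex_mul_index hZM]
        have h1 : Z.relIndex M ≠ 1 := fun h => hMZ (Subgroup.relIndex_eq_one.mp h)
        have h0 : Z.relIndex M ≠ 0 := by
          have : (Z.subgroupOf M).FiniteIndex := inferInstance
          exact this.index_ne_zero
        have h3 : 0 < M.index := Nat.pos_of_ne_zero (Subgroup.FiniteIndex.index_ne_zero)
        have h4 : 2 ≤ Z.relIndex M := by omega
        nlinarith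
      rcases hcase with ⟨k, hk⟩ | hoddidx
      · -- the even step
        apply even_step b hQ ι hodd Z M hZM hab k hk lam hinv hfix
        intro ψ hψ
        set T := inertiaHom M ψ with hT
        have hMT : M ≤ T := le_inertiaHom M ψ
        have hQT : ι.range ≤ T := hψ.2.1
        have hlt' : (M.subgroupOf T).index < n := by
          have h1 : (M.subgroupOf T).index ∣ M.index :=
            ⟨T.index, (Subgroup.relIndex_mul_index hMT).symm⟩
          have h3 : 0 < M.index := Nat.pos_of_ne_zero (Subgroup.FiniteIndex.index_ne_zero)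
          exact lt_of_le_of_lt (Nat.le_of_dvd h3 h1) hlt
        apply ih (M.subgroupOf T).index hlt' T (iotaT ι T hQT) ?_ ?_ (M.subgroupOf T) rfl
          (psiT M T hMT ψ) ?_ ?_ ?_
        · rw [range_iotaT]
          have h1 : (ι.range.subgroupOf T).index ∣ ι.range.index :=
            ⟨T.index, (Subgroup.relIndex_mul_index hQT).symm⟩
          obtain ⟨c, hc⟩ := h1
          rw [hc] at hodd
          exact (Nat.odd_mul.mp hodd).1
        · intro hbf t ht
          have h1 := hb hbf ((mem_normalizer_iotaT ι T hQT t).mp ht)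
          obtain ⟨q, hq⟩ := h1
          exact ⟨q, Subtype.ext hq⟩
        · intro t x
          rw [psiT_apply, psiT_apply]
          exact (mem_inertiaHom M ψ t).mp t.2 ⟨((x : T) : H), Subgroup.mem_subgroupOf.mp x.2⟩
        · intro x
          rw [psiT_apply]
          set m : M := ⟨((x : T) : H), Subgroup.mem_subgroupOf.mp x.2⟩ with hm
          have hmem : (m : H) ^ Z.relIndex M ∈ Z := pow_relIndex_mem Z M m.2
          obtain ⟨j, hj⟩ := h2 ⟨(m : H) ^ Z.relIndex M, hmem⟩
          refine ⟨k + j, ?_⟩
          have h5 : m ^ Z.relIndex M = ⟨(m : H) ^ Z.relIndex M, hZM hmem⟩ :=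
            Subtype.ext (by simp)
          rw [pow_add, pow_mul, ← hk, ← map_pow, h5, hψ.1 ⟨(m : H) ^ Z.relIndex M, hmem⟩, hj]
        · intro hbt x
          change ((psiT M T hMT ψ x : ℂˣ) : ℂ).im = 0
          rw [psiT_apply]
          exact hψ.2.2 hbt _
      · -- the odd step
        obtain ⟨lam', hext, hinv', h2', hfix'⟩ :=
          exists_canonical_ext b Z M hZM hoddidx lam hinv h2 hfix
        have hX := fun χ => xpred_odd_step b hQ ι hodd hb Z M hZM hab hoddidx lam hinv lam' hext
          hinv' hfix' χ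
        have hP := fun p => ppred_odd_step b hQ ι Z M hZM hoddidx lam lam' hext p
        rw [Nat.card_congr (Equiv.subtypeEquivRight hX), Nat.card_congr (Equiv.subtypeEquivRight hP)]
        exact ih M.index hlt H ι hodd hb M rfl lam' hinv' h2' hfix'

end Cfsg.Agent.Lib.Helper81.OddReal
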