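import Mathlib
import Cfsg.Agent.Lib.Helper81.ORMain

/-!
# Consequences of the counting identity (helper81)

* `OddReal.real_count_normalizer`: a finite solvable group and the normalizer of a Sylow
  `2`-subgroup have the same number of real irreducible characters of odd degree.
* `OddReal.count_self_normalizing`: if the Sylow `2`-subgroup is self-normalizing, the number of
  `b`-fixed irreducible characters of odd degree is the number of `b`-fixed linear characters of
  the Sylow `2`-subgroup.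
-/

set_option autoImplicit false
set_option linter.unusedSectionVars false

namespace Cfsg.Agent.Lib.Helper81.OddReal

open Cfsg Cfsg.Agent.Lib.Helper75 Cfsg.Agent.Lib.Helper78
open scoped ComplexConjugate

universe u w

variable {H : Type u} [Group H] {Q : Type w} [Group Q]

theorem xpred_bot (b : Bool) (χ : IrrCharacter H) :
    XPred b (⊥ : Subgroup H) 1 χ ↔ Odd (charDegree (χ : H → ℂ)) ∧ SFix b (χ : H → ℂ) := by
  unfold XPred
  constructor
  · rintro ⟨h1, h2, _⟩
    exact ⟨h1, h2⟩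
  · rintro ⟨h1, h2⟩
    refine ⟨h1, h2, ?_⟩
    rintro ⟨z, hz⟩
    rw [Subgroup.mem_bot] at hz
    subst hz
    simp

theorem ppred_bot (b : Bool) (ι : Q →* H) (hι : Function.Injective ι) (p : (Q →* ℂˣ) × H) :
    PPred b ι (⊥ : Subgroup H) 1 p ↔ SFix b (fun q => ((p.1 q : ℂˣ) : ℂ)) ∧
      p.2 ∈ Subgroup.normalizer ((ι.range : Subgroup H) : Set H) ∧
      ∀ q q' : Q, ι q' = p.2 * ι q * p.2⁻¹ → p.1 q' = p.1 q := by
  unfold PPred
  constructor
  · rintro ⟨h1, _, h3, h4⟩
    exact ⟨h1, h3, h4⟩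
  · rintro ⟨h1, h3, h4⟩
    refine ⟨h1, ?_, h3, h4⟩
    intro q hq
    rw [Subgroup.mem_bot] at hq
    have hq1 : q = 1 := hι (by rw [hq, map_one])
    subst hq1
    simp

section Count

variable [Finite H] [Group.IsSolvable H] [Finite Q]

/-- the counting identity for `Z = 1`. -/
theorem count_bot (b : Bool) (hQ : IsPGroup 2 Q) (ι : Q →* H) (hι : Function.Injective ι)
    (hodd : Odd ι.range.index)
    (hb : b = false → Subgroup.normalizer ((ι.range : Subgroup H) : Set H) ≤ ι.range) :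
    Nat.card (Subgroup.normalizer ((ι.range : Subgroup H) : Set H)) *
        Nat.card {χ : IrrCharacter H // Odd (charDegree (χ : H → ℂ)) ∧ SFix b (χ : H → ℂ)} =
      Nat.card {p : (Q →* ℂˣ) × H // SFix b (fun q => ((p.1 q : ℂˣ) : ℂ)) ∧
        p.2 ∈ Subgroup.normalizer ((ι.range : Subgroup H) : Set H) ∧
        ∀ q q' : Q, ι q' = p.2 * ι q * p.2⁻¹ → p.1 q' = p.1 q} := by
  have h := main_count.{u, w} b hQ (⊥ : Subgroup H).index H ι hodd hb ⊥ rfl 1
    (fun _ _ => rfl) (fun _ => ⟨0, by simp⟩) (fun _ _ => by simp)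
  rw [Nat.card_congr (Equiv.subtypeEquivRight (xpred_bot b)),
    Nat.card_congr (Equiv.subtypeEquivRight (ppred_bot b ι hι))] at h
  exact h

/-- **Real odd-degree characters of `H` and of the normalizer of a Sylow `2`-subgroup.** -/
theorem real_count_normalizer (hQ : IsPGroup 2 Q) (ι : Q →* H) (hι : Function.Injective ι)
    (A : Subgroup H) (hA : ι.range = A) (hodd : Odd A.index) :
    Nat.card {χ : IrrCharacter H //
        (∀ g : H, ((χ : H → ℂ) g).im = 0) ∧ Odd (charDegree (χ : H → ℂ))} =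
      Nat.card {ψ : IrrCharacter (Subgroup.normalizer ((A : Subgroup H) : Set H)) //
        (∀ g, ((ψ : Subgroup.normalizer ((A : Subgroup H) : Set H) → ℂ) g).im = 0) ∧
          Odd (charDegree (ψ : Subgroup.normalizer ((A : Subgroup H) : Set H) → ℂ))} := by
  subst hA
  set T := Subgroup.normalizer ((ι.range : Subgroup H) : Set H) with hT
  have hQT : ι.range ≤ T := Subgroup.le_normalizer
  have hιT : Function.Injective (iotaT ι T hQT) := by
    intro a a' haa'
    apply hι
    have := congrArg Subtype.val haa'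
    simpa [iotaT_coe] using this
  have hoddT : Odd (iotaT ι T hQT).range.index := by
    rw [range_iotaT]
    have h1 : (ι.range.subgroupOf T).index ∣ ι.range.index :=
      ⟨T.index, (Subgroup.relIndex_mul_index hQT).symm⟩
    obtain ⟨c, hc⟩ := h1
    rw [hc] at hodd
    exact (Nat.odd_mul.mp hodd).1
  have hG := count_bot true hQ ι hι hodd (fun h => by simp at h)
  have hN := count_bot true hQ (iotaT ι T hQT) hιT hoddT (fun h => by simp at h)
  -- the normalizer in `T`
  have hcardN : Nat.card (Subgroup.normalizer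
      (((iotaT ι T hQT).range : Subgroup T) : Set T)) = Nat.card T := by
    rw [← card_normalizer_iotaT ι T hQT]
    exact Nat.card_congr (Equiv.subtypeUnivEquiv (fun n => n.2))
  -- the pairs
  have hpairs : Nat.card {p : (Q →* ℂˣ) × T // SFix true (fun q => ((p.1 q : ℂˣ) : ℂ)) ∧
        p.2 ∈ Subgroup.normalizer (((iotaT ι T hQT).range : Subgroup T) : Set T) ∧
        ∀ q q' : Q, iotaT ι T hQT q' = p.2 * iotaT ι T hQT q * p.2⁻¹ → p.1 q' = p.1 q} =
      Nat.card {p : (Q →* ℂˣ) × H // SFix true (fun q => ((p.1 q : ℂˣ) : ℂ)) ∧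
        p.2 ∈ Subgroup.normalizer ((ι.range : Subgroup H) : Set H) ∧
        ∀ q q' : Q, ι q' = p.2 * ι q * p.2⁻¹ → p.1 q' = p.1 q} := by
    apply Nat.card_congr
    refine
      { toFun := fun p => ⟨(p.1.1, (p.1.2 : H)), p.2.1, p.1.2.2, ?_⟩
        invFun := fun p => ⟨(p.1.1, ⟨p.1.2, p.2.2.1⟩), p.2.1,
          (mem_normalizer_iotaT ι T hQT _).mpr p.2.2.1, ?_⟩
        left_inv := fun p => rfl
        right_inv := fun p => rfl }
    · intro q q' hqq'
      exact p.2.2.2 q q' (Subtype.ext (by simpa [iotaT_coe] using hqq'))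
    · intro q q' hqq'
      apply p.2.2.2 q q'
      have := congrArg Subtype.val hqq'
      simpa [iotaT_coe] using this
  rw [hcardN, hpairs, ← hG] at hN
  have hpos : 0 < Nat.card T := Nat.card_pos
  have h3 := Nat.eq_of_mul_eq_mul_left hpos hN
  have e1 : Nat.card {χ : IrrCharacter H //
      (∀ g : H, ((χ : H → ℂ) g).im = 0) ∧ Odd (charDegree (χ : H → ℂ))} =
      Nat.card {χ : IrrCharacter H // Odd (charDegree (χ : H → ℂ)) ∧ SFix true (χ : H → ℂ)} :=
    Nat.card_congr (Equiv.subtypeEquivRight (fun χ =>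
      ⟨fun h => ⟨h.2, fun _ => h.1⟩, fun h => ⟨h.2 rfl, h.1⟩⟩))
  have e2 : Nat.card {ψ : IrrCharacter T //
      (∀ g, ((ψ : T → ℂ) g).im = 0) ∧ Odd (charDegree (ψ : T → ℂ))} =
      Nat.card {χ : IrrCharacter T // Odd (charDegree (χ : T → ℂ)) ∧ SFix true (χ : T → ℂ)} :=
    Nat.card_congr (Equiv.subtypeEquivRight (fun χ =>
      ⟨fun h => ⟨h.2, fun _ => h.1⟩, fun h => ⟨h.2 rfl, h.1⟩⟩))
  rw [e1, e2]
  exact h3.symm

/-- **Self-normalizing Sylow `2`-subgroups.** -/
theorem count_self_normalizing (b : Bool) (hQ : IsPGroup 2 Q) (ι : Q →* H)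
    (hι : Function.Injective ι) (hodd : Odd ι.range.index)
    (hN : Subgroup.normalizer ((ι.range : Subgroup H) : Set H) ≤ ι.range) :
    Nat.card {χ : IrrCharacter H // Odd (charDegree (χ : H → ℂ)) ∧ SFix b (χ : H → ℂ)} =
      Nat.card {μ : Q →* ℂˣ // SFix b (fun q => ((μ q : ℂˣ) : ℂ))} := by
  have h := count_bot b hQ ι hι hodd (fun _ => hN)
  have hpairs : Nat.card {p : (Q →* ℂˣ) × H // SFix b (fun q => ((p.1 q : ℂˣ) : ℂ)) ∧
        p.2 ∈ Subgroup.normalizer ((ι.range : Subgroup H) : Set H) ∧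
        ∀ q q' : Q, ι q' = p.2 * ι q * p.2⁻¹ → p.1 q' = p.1 q} =
      Nat.card ({μ : Q →* ℂˣ // SFix b (fun q => ((μ q : ℂˣ) : ℂ))} ×
        Subgroup.normalizer ((ι.range : Subgroup H) : Set H)) := by
    apply Nat.card_congr
    refine
      { toFun := fun p => (⟨p.1.1, p.2.1⟩, ⟨p.1.2, p.2.2.1⟩)
        invFun := fun p => ⟨(p.1.1, (p.2 : H)), p.1.2, p.2.2, ?_⟩
        left_inv := fun p => rfl
        right_inv := fun p => rfl }
    intro q q' hqq'
    obtain ⟨q₀, hq₀⟩ := hN p.2.2
    have h1 : q' = q₀ * q * q₀⁻¹ := by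
      apply hι
      rw [hqq', map_mul, map_mul, map_inv, hq₀]
    rw [h1, map_mul, map_mul, map_inv, mul_comm, inv_mul_cancel_left]
  rw [hpairs, Nat.card_prod, mul_comm] at h
  have hpos : 0 < Nat.card (Subgroup.normalizer ((ι.range : Subgroup H) : Set H)) :=
    Nat.card_pos
  exact Nat.eq_of_mul_eq_mul_right hpos h

end Count

end Cfsg.Agent.Lib.Helper81.OddReal
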