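import Mathlib
import Cfsg.Agent.Lib.Helper75.PrincipalLambda
import Cfsg.Agent.Lib.Helper81.RamifiedSection
import Cfsg.Agent.Lib.Helper81.ORApply

/-!
# Real odd-degree characters force a self-normalizing Sylow `2`-subgroup (helper81)

`OddReal.self_normalizing_of_all_real`: if every odd-degree irreducible character of the finite
solvable group `H` is real-valued, then a Sylow `2`-subgroup of `H` is self-normalizing.
-/

set_option autoImplicit false
set_option linter.unusedSectionVars false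

namespace Cfsg.Agent.Lib.Helper81.OddReal

open Cfsg Cfsg.Agent.Lib.Helper75 Cfsg.Agent.Lib.Helper78
open scoped ComplexConjugate

universe u w

variable {H : Type u} [Group H] {Q : Type w} [Group Q]

/-- a linear character of `M`, trivial on `Z`, non-trivial at a given element outside `Z`, when
`M / Z` is abelian. -/
theorem exists_hom_ne_one [Finite H] (Z M : Subgroup H) [hZ : Z.Normal]
    (hab : ∀ x ∈ M, ∀ y ∈ M, x * y * x⁻¹ * y⁻¹ ∈ Z) (m : M) (hm : (m : H) ∉ Z) :
    ∃ ν : M →* ℂˣ, (∀ x : M, (x : H) ∈ Z → ν x = 1) ∧ ν m ≠ 1 := by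
  classical
  let _ : CommGroup (M ⧸ Z.subgroupOf M) :=
    { (inferInstance : Group (M ⧸ Z.subgroupOf M)) with
      mul_comm := by
        intro a b
        induction a using QuotientGroup.induction_on with
        | H x =>
          induction b using QuotientGroup.induction_on with
          | H y =>
            rw [← QuotientGroup.mk_mul, ← QuotientGroup.mk_mul, QuotientGroup.eq,
              Subgroup.mem_subgroupOf]
            have := hab (y : H)⁻¹ (M.inv_mem y.2) (x : H)⁻¹ (M.inv_mem x.2)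
            simpa [mul_assoc] using this }
  have hne : NeZero ((Monoid.exponent (M ⧸ Z.subgroupOf M) : ℕ) : ℂ) :=
    ⟨by exact_mod_cast Monoid.exponent_ne_zero_of_finite⟩
  have hm1 : (QuotientGroup.mk m : M ⧸ Z.subgroupOf M) ≠ 1 := by
    rw [Ne, QuotientGroup.eq_one_iff, Subgroup.mem_subgroupOf]
    exact hm
  obtain ⟨φ, hφ⟩ := CommGroup.exists_apply_ne_one_of_hasEnoughRootsOfUnity
    (M ⧸ Z.subgroupOf M) ℂ hm1
  refine ⟨φ.comp (QuotientGroup.mk' (Z.subgroupOf M)), ?_, hφ⟩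
  intro x hx
  have h1 : (QuotientGroup.mk' (Z.subgroupOf M)) x = 1 := by
    rw [QuotientGroup.mk'_apply, QuotientGroup.eq_one_iff, Subgroup.mem_subgroupOf]
    exact hx
  rw [MonoidHom.comp_apply, h1, map_one]

section Odd

variable [Finite H] [Finite Q]

/-- **The odd case.**  If all odd-degree irreducible characters with `Z` in the kernel are real,
`M / Z` is abelian of odd order, then elements of `M` normalizing `ι Q` lie in `Z`. -/
theorem mem_of_normalizes_of_real (hQ : IsPGroup 2 Q) (ι : Q →* H) (hodd : Odd ι.range.index)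
    (Z M : Subgroup H) [hZ : Z.Normal] [hM : M.Normal] (hZM : Z ≤ M)
    (hab : ∀ x ∈ M, ∀ y ∈ M, x * y * x⁻¹ * y⁻¹ ∈ Z) (hoddidx : Odd (Z.relIndex M))
    (hreal : ∀ χ : IrrCharacter H, Odd (charDegree (χ : H → ℂ)) →
      (∀ z : Z, (χ : H → ℂ) z = (χ : H → ℂ) 1) → ∀ h, ((χ : H → ℂ) h).im = 0)
    (m : H) (hmM : m ∈ M)
    (hmN : m ∈ Subgroup.normalizer ((ι.range : Subgroup H) : Set H)) : m ∈ Z := by
  classical
  by_contra hmZ
  let _ : Fintype H := Fintype.ofFinite H
  let _ : Fintype M := Fintype.ofFinite M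
  let _ : Fintype Z := Fintype.ofFinite Z
  let _ : Fintype Q := Fintype.ofFinite Q
  obtain ⟨ν₀, hν₀Z, hν₀m⟩ := exists_hom_ne_one Z M hab ⟨m, hmM⟩ hmZ
  -- the norm of `ν₀`
  set ν : M →* ℂˣ := ∏ q : Q, conjHom M (ι q) ν₀ with hν
  have hνapp : ∀ x : M, ν x = ∏ q : Q, ν₀ ⟨ι q * x * (ι q)⁻¹, hM.conj_mem x x.2 (ι q)⟩ := by
    intro x
    rw [hν, MonoidHom.finsetProd_apply]
    apply Finset.prod_congr rfl
    intro q _
    rw [conjHom_apply]
  have hνZ : ∀ z : Z, ν ⟨z, hZM z.2⟩ = 1 := by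
    intro z
    rw [hνapp]
    apply Finset.prod_eq_one
    intro q _
    apply hν₀Z
    exact hZ.conj_mem z z.2 (ι q)
  have hνQ : ι.range ≤ inertiaHom M ν := by
    rintro x ⟨q₀, rfl⟩
    rw [mem_inertiaHom]
    intro x
    rw [hνapp, hνapp]
    apply Fintype.prod_equiv (Equiv.mulRight q₀)
    intro q
    congr 1
    apply Subtype.ext
    simp [mul_assoc]
  -- the value at `m`
  have hνm : ν ⟨m, hmM⟩ = ν₀ ⟨m, hmM⟩ ^ Nat.card Q := by
    rw [hνapp]
    have h1 : ∀ q ∈ (Finset.univ : Finset Q),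
        ν₀ ⟨ι q * m * (ι q)⁻¹, hM.conj_mem m hmM (ι q)⟩ = ν₀ ⟨m, hmM⟩ := by
      intro q _
      -- `ι q * m * (ι q)⁻¹ * m⁻¹ ∈ Z`
      have h2 : m * (ι q)⁻¹ * m⁻¹ ∈ ι.range :=
        (Subgroup.mem_normalizer_iff.mp hmN (ι q)⁻¹).mp (ι.range.inv_mem ⟨q, rfl⟩)
      obtain ⟨q₁, hq₁⟩ := ι.range.mul_mem ⟨q, rfl⟩ h2
      have h3 : ι q₁ = ι q * m * (ι q)⁻¹ * m⁻¹ := by rw [hq₁]; group
      have h4 : ι q₁ ∈ M := by
        rw [h3]
        exact M.mul_mem (hM.conj_mem m hmM (ι q)) (M.inv_mem hmM)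
      have h5 : ι q₁ ∈ Z := range_mem_of_odd hQ ι Z M hoddidx q₁ h4
      have h6 : (⟨ι q * m * (ι q)⁻¹, hM.conj_mem m hmM (ι q)⟩ : M) =
          ⟨ι q₁, h4⟩ * ⟨m, hmM⟩ := by
        apply Subtype.ext
        change _ = ι q₁ * m
        rw [h3]
        group
      rw [h6, map_mul, hν₀Z ⟨ι q₁, h4⟩ h5, one_mul]
    rw [Finset.prod_congr rfl h1, Finset.prod_const, Finset.card_univ, Nat.card_eq_fintype_card]
  have hν₀idx : ν₀ ⟨m, hmM⟩ ^ Z.relIndex M = 1 := by
    have hmem : m ^ Z.relIndex M ∈ Z := pow_relIndex_mem Z M hmM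
    have h5 : (⟨m, hmM⟩ : M) ^ Z.relIndex M = ⟨m ^ Z.relIndex M, hZM hmem⟩ :=
      Subtype.ext (by simp)
    rw [← map_pow, h5]
    exact hν₀Z _ hmem
  have hνm1 : ν ⟨m, hmM⟩ ≠ 1 := by
    intro h1
    rw [hνm] at h1
    apply hν₀m
    have : Fact (Nat.Prime 2) := ⟨Nat.prime_two⟩
    obtain ⟨a, ha⟩ := IsPGroup.iff_card.mp hQ
    have h2 : orderOf (ν₀ ⟨m, hmM⟩) ∣ Nat.gcd (Z.relIndex M) (Nat.card Q) :=
      Nat.dvd_gcd (orderOf_dvd_of_pow_eq_one hν₀idx) (orderOf_dvd_of_pow_eq_one h1)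
    have h3 : Nat.Coprime (Z.relIndex M) (Nat.card Q) := by
      rw [ha]
      exact Nat.Coprime.pow_right a hoddidx.coprime_two_right
    rw [h3.gcd_eq_one, Nat.dvd_one, orderOf_eq_one_iff] at h2
    exact h2
  -- extension to `R = ι Q ⊔ M`
  set R : Subgroup H := ι.range ⊔ M with hR
  have hMR : M ≤ R := le_sup_right
  have hRT : R ≤ inertiaHom M ν := sup_le hνQ (le_inertiaHom M ν)
  have hνo : ∀ x : M, ν x ^ Z.relIndex M = 1 := by
    intro x
    have hmem : (x : H) ^ Z.relIndex M ∈ Z := pow_relIndex_mem Z M x.2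
    have h5 : x ^ Z.relIndex M = ⟨(x : H) ^ Z.relIndex M, hZM hmem⟩ := Subtype.ext (by simp)
    rw [← map_pow, h5]
    exact hνZ ⟨_, hmem⟩
  have hcop : (M.relIndex R).Coprime (Z.relIndex M) := by
    have h1 : M.relIndex R = M.relIndex ι.range := by
      rw [hR]
      exact Subgroup.relIndex_sup_right (H := ι.range) (K := M)
    have h2 : M.relIndex ι.range ∣ Nat.card ι.range := Subgroup.relIndex_dvd_card M ι.range
    have : Fact (Nat.Prime 2) := ⟨Nat.prime_two⟩
    have hQ' : IsPGroup 2 (ι.range) := by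
      rintro ⟨x, q, rfl⟩
      obtain ⟨j, hj⟩ := hQ q
      exact ⟨j, Subtype.ext (by
        change (ι q) ^ (2 ^ j) = 1
        rw [← map_pow, hj, map_one])⟩
    obtain ⟨a, ha⟩ := IsPGroup.iff_card.mp hQ'
    rw [h1]
    rw [ha] at h2
    obtain ⟨j, _, hj⟩ := (Nat.dvd_prime_pow Nat.prime_two).mp h2
    rw [hj]
    exact (Nat.Coprime.pow_right j hoddidx.coprime_two_right).symm
  have ho0 : Z.relIndex M ≠ 0 := by
    rcases hoddidx with ⟨c, hc⟩
    omega
  obtain ⟨ν', hν'ext, _⟩ := exists_extension_of_coprime M R hMR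
    (fun r _ x hx => hM.conj_mem x hx r) ν
    (fun r hr x => (mem_inertiaHom M ν r).mp (hRT hr) x) (Z.relIndex M) hνo ho0 hcop
  -- an odd-degree character over `ν'`
  let _ : Fintype R := Fintype.ofFinite R
  let θ' : IrrCharacter R := ⟨fun r => ((ν' r : ℂˣ) : ℂ),
    Cfsg.Agent.Lib.Helper77.isIrrCharacter_of_monoidHom ν'⟩
  have hsum := Helper75.sum_resMult_mul_charDegree R θ'
  have hRodd : Odd R.index := by
    obtain ⟨c, hc⟩ := Subgroup.index_dvd_of_le (le_sup_left : ι.range ≤ R)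
    rw [hc] at hodd
    exact (Nat.odd_mul.mp hodd).1
  have hdeg1 : charDegree (θ' : R → ℂ) = 1 := charDegree_hom ν'
  rw [hdeg1, mul_one] at hsum
  have hex : ∃ χ : IrrCharacter H, Odd (resMult R χ θ' * charDegree (χ : H → ℂ)) := by
    by_contra hcon
    push Not at hcon
    have heven : Even (∑ χ : IrrCharacter H, resMult R χ θ' * charDegree (χ : H → ℂ)) :=
      Finset.even_sum _ (fun χ _ => Nat.not_odd_iff_even.mp (hcon χ))
    rw [hsum] at heven
    exact (Nat.not_even_iff_odd.mpr hRodd) heven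
  obtain ⟨χ, hχodd⟩ := hex
  obtain ⟨hmult, hχdeg⟩ := Nat.odd_mul.mp hχodd
  have hover : classInner (fun r : R => (χ : H → ℂ) r) (θ' : R → ℂ) ≠ 0 := by
    rw [← resMult_ne_zero_iff]
    rcases hmult with ⟨c, hc⟩
    omega
  -- `ν` lies under `χ`
  have hνirr : IsIrrCharacter M (fun x : M => ((ν x : ℂˣ) : ℂ)) :=
    Cfsg.Agent.Lib.Helper77.isIrrCharacter_of_monoidHom ν
  have hunder : classInner (fun x : M => (χ : H → ℂ) x) (fun x : M => ((ν x : ℂˣ) : ℂ)) ≠ 0 := by
    have h1 := Cfsg.Agent.Lib.Helper81.classInner_comp_ne_zero_of_constituent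
      (Subgroup.inclusion hMR) (isCharacter_res R (IsIrrCharacter.isCharacter χ.2)) θ'.2 hover
      hνirr (by
        have h2 : ((θ' : R → ℂ) ∘ (Subgroup.inclusion hMR)) =
            fun x : M => ((ν x : ℂˣ) : ℂ) := by
          funext x
          change ((ν' ⟨(x : H), hMR x.2⟩ : ℂˣ) : ℂ) = _
          rw [hν'ext]
        rw [h2, classInner_irr_self hνirr]
        exact one_ne_zero)
    exact h1
  -- `Z` lies in the kernel of `χ`
  have hχZ : ∀ z : Z, (χ : H → ℂ) z = (χ : H → ℂ) 1 := by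
    intro z
    have h1 := apply_eq_of_linear_constituent M Z hZM 1 (fun _ _ => rfl) χ ν hνZ hunder z
    simpa using h1
  have hχreal := hreal χ hχdeg hχZ
  -- so `ν` is real, hence trivial
  have hνreal : ∀ x : M, ((ν x : ℂˣ) : ℂ).im = 0 := by
    apply real_constituent_of_real M χ hχreal ⟨_, hνirr⟩ hunder
    obtain ⟨c, hc⟩ := card_conjOrbit_dvd_charDegree M χ ⟨_, hνirr⟩ hunder
    rw [hc] at hχdeg
    exact (Nat.odd_mul.mp hχdeg).1
  have hν1 := hom_eq_one_of_real Z M hZM hoddidx ν hνZ hνreal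
  apply hνm1
  rw [hν1, MonoidHom.one_apply]

end Odd

section Main

variable [Finite H] [Group.IsSolvable H] [Finite Q]

/-- the inductive statement. -/
theorem normalizer_le_aux (hQ : IsPGroup 2 Q) (ι : Q →* H) (hodd : Odd ι.range.index) :
    ∀ (n : ℕ) (Z : Subgroup H) [Z.Normal], Z.index = n →
      (∀ χ : IrrCharacter H, Odd (charDegree (χ : H → ℂ)) →
        (∀ z : Z, (χ : H → ℂ) z = (χ : H → ℂ) 1) → ∀ h, ((χ : H → ℂ) h).im = 0) →
      ∀ x ∈ Subgroup.normalizer ((ι.range : Subgroup H) : Set H),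
        ∃ q : Q, ∃ z ∈ Z, x = ι q * z := by
  intro n
  induction n using Nat.strong_induction_on with
  | _ n ih =>
    intro Z hZ hn hreal x hx
    by_cases hZtop : Z = ⊤
    · refine ⟨1, x, by rw [hZtop]; exact Subgroup.mem_top x, by simp⟩
    · obtain ⟨M, hMn, hZM, hMZ, hab, hcase⟩ := exists_step Z hZtop
      have hlt : M.index < n := by
        rw [← hn, ← Subgroup.relIndex_mul_index hZM]
        have h1 : Z.relIndex M ≠ 1 := fun h => hMZ (Subgroup.relIndex_eq_one.mp h)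
        have h0 : Z.relIndex M ≠ 0 := by
          have : (Z.subgroupOf M).FiniteIndex := inferInstance
          exact this.index_ne_zero
        have h3 : 0 < M.index := Nat.pos_of_ne_zero (Subgroup.FiniteIndex.index_ne_zero)
        have h4 : 2 ≤ Z.relIndex M := by omega
        nlinarith
      have hrealM : ∀ χ : IrrCharacter H, Odd (charDegree (χ : H → ℂ)) →
          (∀ m : M, (χ : H → ℂ) m = (χ : H → ℂ) 1) → ∀ h, ((χ : H → ℂ) h).im = 0 :=
        fun χ hχ hχM => hreal χ hχ (fun z => hχM ⟨z, hZM z.2⟩)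
      obtain ⟨q, m, hmM, hxm⟩ := ih M.index hlt M rfl hrealM x hx
      rcases hcase with ⟨k, hk⟩ | hoddidx
      · obtain ⟨z, hz, a, ⟨q', rfl⟩, hza⟩ :=
          exists_mul_of_two_pow_relIndex Z M ι.range k hk hodd hmM
        refine ⟨q * q', (ι q')⁻¹ * z * (ι q')⁻¹⁻¹, hZ.conj_mem z hz _, ?_⟩
        rw [hxm, hza, map_mul]
        group
      · have hmN : m ∈ Subgroup.normalizer ((ι.range : Subgroup H) : Set H) := by
          have h1 : m = (ι q)⁻¹ * x := by rw [hxm]; group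
          rw [h1]
          exact Subgroup.mul_mem _ (Subgroup.inv_mem _ (Subgroup.le_normalizer ⟨q, rfl⟩)) hx
        have hmZ := mem_of_normalizes_of_real hQ ι hodd Z M hZM hab hoddidx hreal m hmM hmN
        exact ⟨q, m, hmZ, hxm⟩

/-- **Real odd-degree characters force a self-normalizing Sylow `2`-subgroup.** -/
theorem self_normalizing_of_all_real (hQ : IsPGroup 2 Q) (ι : Q →* H)
    (hodd : Odd ι.range.index)
    (hreal : ∀ χ : IrrCharacter H, Odd (charDegree (χ : H → ℂ)) →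
      ∀ h, ((χ : H → ℂ) h).im = 0) :
    Subgroup.normalizer ((ι.range : Subgroup H) : Set H) ≤ ι.range := by
  intro x hx
  obtain ⟨q, z, hz, hxz⟩ := normalizer_le_aux hQ ι hodd (⊥ : Subgroup H).index ⊥ rfl
    (fun χ hχ _ => hreal χ hχ) x hx
  rw [Subgroup.mem_bot] at hz
  rw [hxz, hz, mul_one]
  exact ⟨q, rfl⟩

end Main

end Cfsg.Agent.Lib.Helper81.OddReal
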