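import Mathlib
import Cfsg.Prelude.Def_Local
import Cfsg.Agent.Lib.Helper21.Quasisimple

/-!
# Project PGV (S3086), sub-project RED: leaves [T5-PGROUP] and [T5-COMMGEN]  (helper81, hedge)
-/

set_option autoImplicit false
set_option linter.unusedVariables false

universe v

namespace Cfsg.Agent.Lib.Helper81.PGV

open Cfsg Cfsg.Agent.Lib

variable {p : ℕ} [Fact p.Prime] {G : Type v} [Group G] [Finite G]

/-- **[T5-PGROUP]** a component is not a `p`-group modulo its centre. -/
theorem component_not_pgroup_mod_center {L : Subgroup G} (hL : IsComponent L)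
    (h : ∀ x ∈ L, ∃ k : ℕ, ∀ y ∈ L, x ^ (p ^ k) * y = y * x ^ (p ^ k)) : False := by
  have hqs : IsQuasisimple L := hL.2
  apply Helper21.qs_not_isSolvable hqs
  -- the central quotient is a `p`-group
  have hpg : IsPGroup p (↥L ⧸ Subgroup.center ↥L) := by
    intro g
    obtain ⟨x, rfl⟩ := QuotientGroup.mk_surjective g
    obtain ⟨k, hk⟩ := h x x.2
    refine ⟨k, ?_⟩
    rw [← QuotientGroup.mk_pow, QuotientGroup.eq_one_iff, Subgroup.mem_center_iff]
    intro y
    apply Subtype.ext
    have := hk y y.2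
    simp only [Subgroup.coe_mul, SubgroupClass.coe_pow]
    exact this.symm
  have hnil : Group.IsNilpotent (↥L ⧸ Subgroup.center ↥L) := hpg.isNilpotent
  have hs1 : Group.IsSolvable (↥L ⧸ Subgroup.center ↥L) := inferInstance
  have hs2 : Group.IsSolvable (Subgroup.center ↥L) :=
    Group.isSolvable_of_comm (fun a b => by
      apply Subtype.ext
      have := Subgroup.mem_center_iff.mp a.2 (b : L)
      simpa using this.symm)
  apply Group.isSolvable_of_ker_le_range (Subgroup.center ↥L).subtype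
    (QuotientGroup.mk' (Subgroup.center ↥L))
  rw [QuotientGroup.ker_mk', Subgroup.range_subtype]

omit [Finite G] in
/-- **[T5-COMMGEN]** `q` normalizes the component `L` and does not centralize it: then `[L, q] = L`. -/
theorem comm_gen_of_not_centralizes {L : Subgroup G} (hL : IsComponent L) (q : G)
    (hqN : ∀ x ∈ L, q * x * q⁻¹ ∈ L)
    (hqN' : ∀ x ∈ L, q⁻¹ * x * q ∈ L) (hnc : ¬ ∀ x ∈ L, q * x = x * q) :
    L ≤ Subgroup.closure {u | ∃ x ∈ L, u = q⁻¹ * x⁻¹ * q * x} := by
  have hqs : IsQuasisimple L := hL.2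
  set N : Subgroup G := Subgroup.closure {u | ∃ x ∈ L, u = q⁻¹ * x⁻¹ * q * x} with hN
  have hgen : ∀ x ∈ L, q⁻¹ * x⁻¹ * q * x ∈ N := fun x hx =>
    Subgroup.subset_closure ⟨x, hx, rfl⟩
  have hgenL : ∀ x ∈ L, q⁻¹ * x⁻¹ * q * x ∈ L := fun x hx =>
    L.mul_mem (hqN' _ (L.inv_mem hx)) hx
  have hNL : N ≤ L := by
    rw [hN, Subgroup.closure_le]
    rintro u ⟨x, hx, rfl⟩
    exact hgenL x hx
  -- `L` normalizes `N`
  have hconj : ∀ y ∈ L, ∀ n ∈ N, y⁻¹ * n * y ∈ N := by
    intro y hy n hn
    induction hn using Subgroup.closure_induction with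
    | mem u hu =>
      obtain ⟨x, hx, rfl⟩ := hu
      have h1 : y⁻¹ * (q⁻¹ * x⁻¹ * q * x) * y =
          (q⁻¹ * y⁻¹ * q * y)⁻¹ * (q⁻¹ * (x * y)⁻¹ * q * (x * y)) := by group
      rw [h1]
      exact N.mul_mem (N.inv_mem (hgen y hy)) (hgen (x * y) (L.mul_mem hx hy))
    | one => simp
    | mul a b _ _ ha hb =>
      have : y⁻¹ * (a * b) * y = (y⁻¹ * a * y) * (y⁻¹ * b * y) := by group
      rw [this]; exact N.mul_mem ha hb
    | inv a _ ha =>
      have : y⁻¹ * a⁻¹ * y = (y⁻¹ * a * y)⁻¹ := by group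
      rw [this]; exact N.inv_mem ha
  have hnorm : L ≤ Subgroup.normalizer (N : Set G) := by
    intro y hy
    rw [Subgroup.mem_normalizer_iff]
    intro n
    constructor
    · intro hn
      have := hconj y⁻¹ (L.inv_mem hy) n hn
      simpa using this
    · intro hn
      have := hconj y hy _ hn
      have h2 : y⁻¹ * (y * n * y⁻¹) * y = n := by group
      rwa [h2] at this
  rcases Helper21.qs_eq_or_commutator_eq_bot hqs hNL hnorm with h1 | h1
  · exact h1.ge
  · exfalso
    apply hnc
    rw [Helper21.commutator_eq_bot_iff_commute] at h1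
    -- the map `x ↦ q⁻¹ x⁻¹ q x` is a homomorphism of `L` with commuting values
    let φ : ↥L →* ↥L :=
      { toFun := fun x => ⟨q⁻¹ * (x : G)⁻¹ * q * x, hgenL x x.2⟩
        map_one' := by
          apply Subtype.ext
          simp
        map_mul' := by
          intro x y
          apply Subtype.ext
          simp only [Subgroup.coe_mul]
          have hc := h1 y y.2 _ (hgen x x.2)
          have hc2 := h1 (q⁻¹ * (y : G)⁻¹ * q * y) (hgenL y y.2) _ (hgen x x.2)
          calc q⁻¹ * ((x : G) * y)⁻¹ * q * (x * y)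
              = (q⁻¹ * (y : G)⁻¹ * q) * ((q⁻¹ * (x : G)⁻¹ * q * x) * y) := by group
            _ = (q⁻¹ * (y : G)⁻¹ * q) * (y * (q⁻¹ * (x : G)⁻¹ * q * x)) := by rw [hc]
            _ = (q⁻¹ * (y : G)⁻¹ * q * y) * (q⁻¹ * (x : G)⁻¹ * q * x) := by group
            _ = (q⁻¹ * (x : G)⁻¹ * q * x) * (q⁻¹ * (y : G)⁻¹ * q * y) := hc2 }
    have hφ : ∀ x : L, ((φ x : L) : G) = q⁻¹ * (x : G)⁻¹ * q * x := fun x => rfl
    have hcomm : ∀ a b : L, φ a * φ b = φ b * φ a := by
      intro a b
      apply Subtype.ext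
      simp only [Subgroup.coe_mul, hφ]
      exact h1 _ (hgenL a a.2) _ (hgen b b.2)
    have hker : commutator ↥L ≤ φ.ker := by
      rw [commutator_def, Subgroup.commutator_le]
      intro a _ b _
      rw [MonoidHom.mem_ker, map_commutatorElement, commutatorElement_eq_one_iff_mul_comm]
      exact hcomm a b
    have hperf : Group.IsPerfect ↥L := hqs.1
    have htop : commutator ↥L = ⊤ := by
      rw [commutator_def]; exact Group.IsPerfect.commutator_eq_top
    rw [htop, top_le_iff] at hker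
    intro x hx
    have hx1 : φ ⟨x, hx⟩ = 1 := by
      have : (⟨x, hx⟩ : L) ∈ φ.ker := hker ▸ Subgroup.mem_top _
      exact MonoidHom.mem_ker.mp this
    have hx2 : q⁻¹ * x⁻¹ * q * x = 1 := by
      have := congrArg (fun z : L => (z : G)) hx1
      simpa [hφ] using this
    have : q * x = x * q * (q⁻¹ * x⁻¹ * q * x) := by group
    rw [this, hx2, mul_one]

end Cfsg.Agent.Lib.Helper81.PGV
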