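import Mathlib

/-!
# S2787-[PSLELT] : braid partner of an element of order `p` in `PSL₂(F)`, `char F = p` odd
-/

namespace Cfsg.Agent.Lib.Helper81.PslBraid

open Matrix

/-- Cayley–Hamilton for `2 × 2` matrices, by hand. -/
theorem sq_fin_two {F : Type*} [CommRing F] (N : Matrix (Fin 2) (Fin 2) F) :
    N * N = N.trace • N - N.det • (1 : Matrix (Fin 2) (Fin 2) F) := by
  ext i j
  fin_cases i <;> fin_cases j <;>
    simp [Matrix.mul_apply, Fin.sum_univ_two, Matrix.trace_fin_two, Matrix.det_fin_two] <;> ring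

/-- A nilpotent `2 × 2` matrix over a field has trace `0`, determinant `0`. -/
theorem trace_det_of_nilpotent {F : Type*} [Field F] (N : Matrix (Fin 2) (Fin 2) F)
    (hN : IsNilpotent N) : N.trace = 0 ∧ N.det = 0 := by
  refine ⟨(Matrix.isNilpotent_trace_of_isNilpotent hN).eq_zero, ?_⟩
  obtain ⟨k, hk⟩ := hN
  have hk0 : k ≠ 0 := by
    rintro rfl
    simp at hk
  have : N.det ^ k = 0 := by
    rw [← Matrix.det_pow, hk]
    simp
  exact (pow_eq_zero_iff hk0).mp this

/-- A nilpotent `2 × 2` matrix over a field has the shape `!![a, b; c, -a]` with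
`a * a + b * c = 0`. -/
theorem shape_of_nilpotent {F : Type*} [Field F] (N : Matrix (Fin 2) (Fin 2) F)
    (hN : IsNilpotent N) :
    N 1 1 = - N 0 0 ∧ N 0 0 * N 0 0 + N 0 1 * N 1 0 = 0 := by
  obtain ⟨ht, hd⟩ := trace_det_of_nilpotent N hN
  rw [Matrix.trace_fin_two] at ht
  rw [Matrix.det_fin_two] at hd
  have h11 : N 1 1 = - N 0 0 := by linear_combination ht
  refine ⟨h11, ?_⟩
  rw [h11] at hd
  linear_combination -hd

theorem key1 {F : Type*} [Field F] (a b : F) (hb : b ≠ 0) :
    let M : Matrix (Fin 2) (Fin 2) F := !![1 + a, b; -(a*a)/b, 1 - a]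
    let H : Matrix (Fin 2) (Fin 2) F := !![1, 0; -1/b, 1]
    M * H * M = H * M * H ∧ (M * H * M) * (M * H * M) = -1 := by
  intro M H
  have e1 : M * H * M = !![a, b; -(a*a)/b - 1/b, -a] := by
    ext i j
    fin_cases i <;> fin_cases j <;>
      simp [M, H, Matrix.mul_apply, Fin.sum_univ_two] <;> field_simp <;> ring
  have e2 : H * M * H = !![a, b; -(a*a)/b - 1/b, -a] := by
    ext i j
    fin_cases i <;> fin_cases j <;>
      simp [M, H, Matrix.mul_apply, Fin.sum_univ_two] <;> field_simp <;> ring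
  refine ⟨e1.trans e2.symm, ?_⟩
  rw [e1]
  ext i j
  fin_cases i <;> fin_cases j <;>
    simp [Matrix.mul_apply, Fin.sum_univ_two] <;> field_simp <;> ring

theorem key2 {F : Type*} [Field F] (c : F) (hc : c ≠ 0) :
    let M : Matrix (Fin 2) (Fin 2) F := !![1, 0; c, 1]
    let H : Matrix (Fin 2) (Fin 2) F := !![1, -1/c; 0, 1]
    M * H * M = H * M * H ∧ (M * H * M) * (M * H * M) = -1 := by
  intro M H
  have hcc : c * (-1 / c) = -1 := by field_simp
  have e1 : M * H * M = !![0, -1/c; c, 0] := by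
    ext i j
    fin_cases i <;> fin_cases j <;>
      simp [M, H, Matrix.mul_apply, Fin.sum_univ_two, hc, hcc]
  have e2 : H * M * H = !![0, -1/c; c, 0] := by
    ext i j
    fin_cases i <;> fin_cases j <;>
      simp [M, H, Matrix.mul_apply, Fin.sum_univ_two, hc, hcc]
  refine ⟨e1.trans e2.symm, ?_⟩
  rw [e1]
  ext i j
  fin_cases i <;> fin_cases j <;>
    (simp [Matrix.mul_apply, Fin.sum_univ_two, hc]; try field_simp)

theorem matrix_partner {F : Type*} [Field F] (M : Matrix (Fin 2) (Fin 2) F)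
    (hN : IsNilpotent (M - 1)) (hM1 : M ≠ 1) :
    ∃ H : Matrix (Fin 2) (Fin 2) F, H.det = 1 ∧ M * H * M = H * M * H ∧
      (M * H * M) * (M * H * M) = -1 ∧ ∀ r : F, H * Matrix.scalar (Fin 2) r ≠ M := by
  obtain ⟨h11, hq⟩ := shape_of_nilpotent (M - 1) hN
  simp only [Matrix.sub_apply, Matrix.one_apply_eq, Matrix.one_apply_ne, ne_eq, zero_ne_one,
    one_ne_zero, not_false_eq_true, sub_zero, Fin.isValue] at h11 hq
  set a : F := M 0 0 - 1 with ha
  set b : F := M 0 1 with hb
  set c : F := M 1 0 with hc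
  have hM : M = !![1 + a, b; c, 1 - a] := by
    ext i j
    fin_cases i <;> fin_cases j <;> simp [ha, hb, hc]
    linear_combination h11
  by_cases hb0 : b = 0
  · have ha0 : a = 0 := by
      rw [hb0, zero_mul, add_zero] at hq
      exact mul_self_eq_zero.mp hq
    have hc0 : c ≠ 0 := by
      intro hc0
      apply hM1
      rw [hM, ha0, hb0, hc0]
      ext i j
      fin_cases i <;> fin_cases j <;> simp
    have hM' : M = !![1, 0; c, 1] := by
      rw [hM, ha0, hb0]; simp
    obtain ⟨k1, k2⟩ := key2 c hc0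
    refine ⟨!![1, -1/c; 0, 1], by simp [Matrix.det_fin_two_of], ?_, ?_, ?_⟩
    · rw [hM']; exact k1
    · rw [hM']; exact k2
    · intro r hr
      have h00 := congrFun (congrFun hr 0) 0
      have h01 := congrFun (congrFun hr 0) 1
      rw [hM'] at h00 h01
      simp [Matrix.mul_apply, Fin.sum_univ_two] at h00 h01
      rcases h01 with h | h
      · exact hc0 h
      · rw [h] at h00; exact zero_ne_one h00
  · have hcv : c = -(a*a)/b := by
      field_simp
      linear_combination hq
    have hM' : M = !![1 + a, b; -(a*a)/b, 1 - a] := by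
      rw [hM, hcv]
    obtain ⟨k1, k2⟩ := key1 a b hb0
    refine ⟨!![1, 0; -1/b, 1], by simp [Matrix.det_fin_two_of], ?_, ?_, ?_⟩
    · rw [hM']; exact k1
    · rw [hM']; exact k2
    · intro r hr
      have h01 := congrFun (congrFun hr 0) 1
      rw [hM'] at h01
      simp [Matrix.mul_apply, Fin.sum_univ_two] at h01
      exact hb0 h01.symm

theorem exists_braid_partner {F : Type*} [Field F] {p : ℕ} [Fact p.Prime] [CharP F p] (hp : p ≠ 2)
    (x : Matrix.ProjectiveSpecialLinearGroup (Fin 2) F) (hx1 : x ≠ 1) (hxp : x ^ p = 1) :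
    ∃ y : Matrix.ProjectiveSpecialLinearGroup (Fin 2) F,
      x * y * x = y * x * y ∧ (x * y * x) * (x * y * x) = 1 ∧ y ≠ x := by
  obtain ⟨g, rfl⟩ := QuotientGroup.mk_surjective x
  have hgp : g ^ p ∈ Subgroup.center (SpecialLinearGroup (Fin 2) F) := by
    rw [← QuotientGroup.eq_one_iff, QuotientGroup.mk_pow]; exact hxp
  obtain ⟨r, hr2, hr⟩ := Matrix.SpecialLinearGroup.mem_center_iff.mp hgp
  simp only [Fintype.card_fin] at hr2
  have hdet : (r • (g : Matrix (Fin 2) (Fin 2) F)).det = 1 := by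
    rw [Matrix.det_smul, Fintype.card_fin, hr2, one_mul]
    exact g.property
  set g' : SpecialLinearGroup (Fin 2) F := ⟨r • ↑g, hdet⟩ with hg'
  have hg'c : (g' : Matrix (Fin 2) (Fin 2) F) = r • ↑g := rfl
  have hmk : (QuotientGroup.mk g : Matrix.ProjectiveSpecialLinearGroup (Fin 2) F)
      = QuotientGroup.mk g' := by
    rw [QuotientGroup.eq, Matrix.SpecialLinearGroup.mem_center_iff]
    refine ⟨r, by simpa using hr2, ?_⟩
    rw [Matrix.SpecialLinearGroup.coe_mul, hg'c, Matrix.mul_smul,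
      ← Matrix.SpecialLinearGroup.coe_mul, inv_mul_cancel, Matrix.SpecialLinearGroup.coe_one,
      Matrix.scalar_apply, Matrix.smul_one_eq_diagonal]
  have hodd : Odd p := (Fact.out : p.Prime).odd_of_ne_two hp
  have hg'p : (g' : Matrix (Fin 2) (Fin 2) F) ^ p = 1 := by
    rw [hg'c, smul_pow, ← Matrix.SpecialLinearGroup.coe_pow, ← hr, Matrix.scalar_apply,
      ← Matrix.smul_one_eq_diagonal, smul_smul, ← pow_succ]
    obtain ⟨k, hk⟩ := hodd
    have : p + 1 = 2 * (k + 1) := by omega
    rw [this, pow_mul, hr2, one_pow, one_smul]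
  have hnil : IsNilpotent ((g' : Matrix (Fin 2) (Fin 2) F) - 1) := by
    refine ⟨p, ?_⟩
    rw [sub_pow_char_of_commute p (Commute.one_right _), hg'p, one_pow, sub_self]
  have hne1 : (g' : Matrix (Fin 2) (Fin 2) F) ≠ 1 := by
    intro h1
    apply hx1
    rw [hmk]
    have : g' = 1 := Subtype.ext h1
    rw [this]; rfl
  obtain ⟨H, hHdet, hbraid, hsq, hscal⟩ := matrix_partner _ hnil hne1
  set h : SpecialLinearGroup (Fin 2) F := ⟨H, hHdet⟩ with hh
  have hhc : (h : Matrix (Fin 2) (Fin 2) F) = H := rfl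
  refine ⟨QuotientGroup.mk h, ?_, ?_, ?_⟩
  · rw [hmk]
    have : g' * h * g' = h * g' * h := Subtype.ext (by
      simp only [Matrix.SpecialLinearGroup.coe_mul, hhc]; exact hbraid)
    exact congrArg (QuotientGroup.mk : _ → Matrix.ProjectiveSpecialLinearGroup (Fin 2) F) this
  · rw [hmk]
    have hc : (g' * h * g') * (g' * h * g') ∈ Subgroup.center (SpecialLinearGroup (Fin 2) F) := by
      rw [Matrix.SpecialLinearGroup.mem_center_iff]
      refine ⟨-1, by simp, ?_⟩
      simp only [Matrix.SpecialLinearGroup.coe_mul, hhc]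
      rw [hsq, Matrix.scalar_apply]
      ext i j
      fin_cases i <;> fin_cases j <;> simp
    exact (QuotientGroup.eq_one_iff _).mpr hc
  · intro heq
    rw [hmk, QuotientGroup.eq, Matrix.SpecialLinearGroup.mem_center_iff] at heq
    obtain ⟨r', -, hr'⟩ := heq
    apply hscal r'
    rw [hr', ← hhc, ← Matrix.SpecialLinearGroup.coe_mul, mul_inv_cancel_left]

end Cfsg.Agent.Lib.Helper81.PslBraid
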