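import Mathlib

/-!
# Twisted Burnside counting (helper81)

* `RealNorm.burnside_natCard'`: Burnside's lemma in `Nat.card` form.
* `RealNorm.sum_card_twisted_fixed`: for a finite group `N` acting on a finite set `I` with a
  commuting involution `σ`, when an odd power of every element acts trivially, the number of
  `N`-orbits on the `σ`-fixed points is computed by the twisted fixed point counts
  `#{θ | σ (n • θ) = θ}`.
* `RealNorm.exists_conj_sylow_in`: two `p`-subgroups of `p'`-index contained in `T` are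
  `T`-conjugate.
* `RealNorm.exists_normalizer_smul_eq`: two points fixed by a Sylow `p`-subgroup `P` that are
  conjugate under `G` are conjugate under `N_G(P)`.
-/

set_option autoImplicit false

namespace Cfsg.Agent.Lib.Helper81.RealNorm

/-- Burnside's orbit counting lemma in `Nat.card` form. -/
theorem burnside_natCard' (α β : Type*) [Group α] [Fintype α] [MulAction α β] [Finite β] :
    ∑ a : α, Nat.card (MulAction.fixedBy β a) =
      Nat.card (Quotient (MulAction.orbitRel α β)) * Nat.card α := by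
  classical
  have := Fintype.ofFinite β
  have h := MulAction.sum_card_fixedBy_eq_card_orbits_mul_card_group α β
  simp only [Nat.card_eq_fintype_card]
  convert h using 2

/-- the odd trick: if `σ (n • θ) = θ` and an odd power of `n` acts trivially then `θ` is fixed by
both `σ` and `n`. -/
theorem fixed_of_twisted_fixed {N : Type*} [Group N] {I : Type*} [MulAction N I]
    (σ : I → I) (hσ : ∀ θ, σ (σ θ) = θ) (hcomm : ∀ (n : N) (θ : I), σ (n • θ) = n • σ θ)
    (m : ℕ) (hm : Odd m) (hpow : ∀ (n : N) (θ : I), n ^ m • θ = θ) (n : N) (θ : I)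
    (h : σ (n • θ) = θ) : σ θ = θ ∧ n • θ = θ := by
  have h1 : n • θ = σ θ := by
    have := congrArg σ h
    rw [hσ] at this
    exact this
  have h2 : ∀ j : ℕ, n ^ j • θ = σ^[j] θ := by
    intro j
    induction j with
    | zero => simp
    | succ j ih =>
      rw [pow_succ, mul_smul, h1, ← hcomm, ih, Function.iterate_succ_apply']
  have h3 : σ θ = θ := by
    have hinv : Function.Involutive σ := hσ
    have := h2 m
    rw [hpow, hinv.iterate_odd hm] at this
    exact this.symm
  exact ⟨h3, by rw [h1, h3]⟩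

/-- **Twisted Burnside count.** -/
theorem sum_card_twisted_fixed {N : Type*} [Group N] [Fintype N] {I : Type*} [Finite I]
    [MulAction N I] (σ : I → I) (hσ : ∀ θ, σ (σ θ) = θ)
    (hcomm : ∀ (n : N) (θ : I), σ (n • θ) = n • σ θ)
    (m : ℕ) (hm : Odd m) (hpow : ∀ (n : N) (θ : I), n ^ m • θ = θ) :
    ∑ n : N, Nat.card {θ : I // σ (n • θ) = θ} =
      Nat.card (Quot (fun a b : {θ : I // σ θ = θ} => ∃ n : N, n • a.1 = b.1)) * Nat.card N := by
  classical
  letI act' : MulAction N {θ : I // σ θ = θ} :=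
    { smul := fun n θ => ⟨n • θ.1, by rw [hcomm, θ.2]⟩
      one_smul := fun θ => Subtype.ext (one_smul N θ.1)
      mul_smul := fun a b θ => Subtype.ext (mul_smul a b θ.1) }
  have hsmul : ∀ (n : N) (θ : {θ : I // σ θ = θ}), (n • θ).1 = n • θ.1 := fun _ _ => rfl
  have hquot : Nat.card (Quot (fun a b : {θ : I // σ θ = θ} => ∃ n : N, n • a.1 = b.1)) =
      Nat.card (Quotient (MulAction.orbitRel N {θ : I // σ θ = θ})) := by
    refine Nat.card_congr (Quot.congrRight ?_)
    intro a b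
    constructor
    · rintro ⟨n, hn⟩
      refine ⟨n⁻¹, ?_⟩
      apply Subtype.ext
      show n⁻¹ • b.1 = a.1
      rw [← hn, inv_smul_smul]
    · rintro ⟨n, hn⟩
      refine ⟨n⁻¹, ?_⟩
      have h1 : n • b.1 = a.1 := congrArg Subtype.val hn
      rw [← h1, inv_smul_smul]
  rw [hquot, ← burnside_natCard']
  refine Finset.sum_congr rfl fun n _ => ?_
  refine Nat.card_congr ?_
  refine ⟨fun θ => ⟨⟨θ.1, (fixed_of_twisted_fixed σ hσ hcomm m hm hpow n θ.1 θ.2).1⟩, ?_⟩,
    fun y => ⟨y.1.1, ?_⟩, fun θ => rfl, fun y => rfl⟩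
  · show n • (⟨θ.1, _⟩ : {θ : I // σ θ = θ}) = ⟨θ.1, _⟩
    apply Subtype.ext
    exact (fixed_of_twisted_fixed σ hσ hcomm m hm hpow n θ.1 θ.2).2
  · have h1 : n • y.1.1 = y.1.1 := congrArg Subtype.val y.2
    rw [h1, y.1.2]

/-- Two `p`-subgroups of index prime to `p` contained in a subgroup `T` are conjugate in `T`. -/
theorem exists_conj_sylow_in {H : Type*} [Group H] [Finite H] (p : ℕ) [Fact p.Prime]
    (T A B : Subgroup H) (hA : A ≤ T) (hB : B ≤ T)
    (hAp : IsPGroup p A) (hBp : IsPGroup p B) (hAi : ¬ p ∣ A.index) (hBi : ¬ p ∣ B.index) :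
    ∃ t ∈ T, ∀ x, x ∈ B ↔ t⁻¹ * x * t ∈ A := by
  have hidx : ∀ C : Subgroup H, C ≤ T → ¬ p ∣ C.index → ¬ p ∣ (C.subgroupOf T).index := by
    intro C hC hCi h2
    have h1 : (C.subgroupOf T).index ∣ C.index := by
      rw [← Subgroup.relIndex]
      exact ⟨T.index, (Subgroup.relIndex_mul_index hC).symm⟩
    exact hCi (dvd_trans h2 h1)
  have hA2' : IsPGroup p (A.subgroupOf T) := hAp.comap_subtype
  have hB2' : IsPGroup p (B.subgroupOf T) := hBp.comap_subtype
  let SA : Sylow p T := hA2'.toSylow (hidx A hA hAi)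
  let SB : Sylow p T := hB2'.toSylow (hidx B hB hBi)
  obtain ⟨t, ht⟩ := MulAction.exists_smul_eq T SA SB
  refine ⟨t, t.2, fun x => ?_⟩
  have h1 : ∀ y : T, y ∈ (SB : Subgroup T) ↔ t⁻¹ * y * t ∈ (SA : Subgroup T) := by
    intro y
    rw [← ht, Sylow.coe_subgroup_smul, Subgroup.mem_pointwise_smul_iff_inv_smul_mem]
    simp [MulAut.smul_def]
  constructor
  · intro hx
    have := (h1 ⟨x, hB hx⟩).mp (by
      change (⟨x, hB hx⟩ : T) ∈ B.subgroupOf T
      exact Subgroup.mem_subgroupOf.mpr hx)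
    have h2 : t⁻¹ * ⟨x, hB hx⟩ * t ∈ A.subgroupOf T := this
    exact Subgroup.mem_subgroupOf.mp h2
  · intro hx
    have hxT : x ∈ T := by
      have h3 : (t : H)⁻¹ * x * t ∈ T := hA hx
      have h4 : x = (t : H) * ((t : H)⁻¹ * x * t) * (t : H)⁻¹ := by group
      rw [h4]
      exact T.mul_mem (T.mul_mem t.2 h3) (T.inv_mem t.2)
    have h2 : t⁻¹ * ⟨x, hxT⟩ * t ∈ A.subgroupOf T := Subgroup.mem_subgroupOf.mpr hx
    have := (h1 ⟨x, hxT⟩).mpr h2
    have h3 : (⟨x, hxT⟩ : T) ∈ B.subgroupOf T := this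
    exact Subgroup.mem_subgroupOf.mp h3

/-- Two points fixed by a Sylow `p`-subgroup `P` of `G` which are `G`-conjugate are
`N_G(P)`-conjugate. -/
theorem exists_normalizer_smul_eq {G : Type*} [Group G] [Finite G] {X : Type*} [MulAction G X]
    (p : ℕ) [Fact p.Prime] (P : Sylow p G) (x x' : X)
    (hx : ∀ u ∈ (P : Subgroup G), u • x = x) (hx' : ∀ u ∈ (P : Subgroup G), u • x' = x')
    (g : G) (hg : g • x = x') :
    ∃ n ∈ Subgroup.normalizer ((P : Subgroup G) : Set G), n • x = x' := by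
  -- the conjugate Sylow subgroup
  let B : Subgroup G := ((g • P : Sylow p G) : Subgroup G)
  have hBmem : ∀ y, y ∈ B ↔ g⁻¹ * y * g ∈ (P : Subgroup G) := by
    intro y
    show y ∈ ((g • P : Sylow p G) : Subgroup G) ↔ _
    rw [Sylow.coe_subgroup_smul, Subgroup.mem_pointwise_smul_iff_inv_smul_mem]
    simp [MulAut.smul_def]
  have hBT : B ≤ MulAction.stabilizer G x' := by
    intro y hy
    rw [MulAction.mem_stabilizer_iff]
    have h1 := hx _ ((hBmem y).mp hy)
    have h2 : y = g * (g⁻¹ * y * g) * g⁻¹ := by group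
    rw [h2, mul_smul, mul_smul, ← hg, inv_smul_smul, h1]
  have hPT : (P : Subgroup G) ≤ MulAction.stabilizer G x' := by
    intro y hy
    rw [MulAction.mem_stabilizer_iff]
    exact hx' y hy
  obtain ⟨t, htT, ht⟩ := exists_conj_sylow_in p (MulAction.stabilizer G x') (P : Subgroup G) B
    hPT hBT P.isPGroup' (g • P : Sylow p G).isPGroup' P.not_dvd_index
    (g • P : Sylow p G).not_dvd_index
  -- n = t⁻¹ * g normalizes P
  refine ⟨t⁻¹ * g, ?_, ?_⟩
  · rw [Subgroup.mem_normalizer_iff]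
    intro u
    -- u ∈ P ↔ g u g⁻¹ ∈ B ↔ t⁻¹ g u g⁻¹ t ∈ P
    have h1 : u ∈ (P : Subgroup G) ↔ g * u * g⁻¹ ∈ B := by
      rw [hBmem]
      have : g⁻¹ * (g * u * g⁻¹) * g = u := by group
      rw [this]
    rw [h1, ht]
    have : t⁻¹ * (g * u * g⁻¹) * t = t⁻¹ * g * u * (t⁻¹ * g)⁻¹ := by group
    rw [this]
  · rw [mul_smul, hg]
    rw [MulAction.mem_stabilizer_iff] at htT
    rw [inv_smul_eq_iff, htT]

end Cfsg.Agent.Lib.Helper81.RealNorm
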