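import Mathlib
import Cfsg.Agent.Lib.Helper81.CoprimeChar
import Cfsg.Agent.Lib.Helper81.RNCount

/-!
# Orbits of a normalizing group on invariant real characters and classes (helper81)

`P` (a `p`-group) acts on `K` (`p ∤ |K|`) through `act`, a finite group `N` acts through `actN`
and normalizes the action of `P`; an odd power of every element of `N` acts as an inner
automorphism.  Then `N` has as many orbits on the real `P`-invariant irreducible characters of
`K` as on the real `P`-invariant classes of `K`: `card_quot_real_inv`.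
-/

set_option autoImplicit false
set_option linter.unusedSectionVars false
set_option linter.style.haveILetI false

namespace Cfsg.Agent.Lib.Helper81.RealNorm

open Cfsg Cfsg.Agent.Lib.Helper81
open scoped ComplexConjugate

universe u v w

section Abstract

variable {K : Type u} [Group K] {P : Type v} [Group P] (act : P →* MulAut K)
  {N : Type w} [Group N] (actN : N →* MulAut K)

/-- `N` normalizes the action of `P` on `K`. -/
def Normalizes : Prop := ∀ (n : N) (x : P), ∃ x' : P, actN n * act x = act x' * actN n

variable {act actN}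

theorem Normalizes.symm (hnorm : Normalizes act actN) (n : N) (x : P) :
    ∃ x' : P, act x * actN n = actN n * act x' := by
  obtain ⟨x', hx'⟩ := hnorm n⁻¹ x
  refine ⟨x', ?_⟩
  rw [map_inv] at hx'
  calc act x * actN n = actN n * ((actN n)⁻¹ * act x) * actN n := by group
    _ = actN n * (act x' * (actN n)⁻¹) * actN n := by rw [hx']
    _ = actN n * act x' := by group

theorem map_mk_aut (f : MulAut K) (k : K) :
    ConjClasses.map f.toMonoidHom (ConjClasses.mk k) = ConjClasses.mk (f k) := rfl

/-- the action of `N` on the `P`-invariant irreducible characters -/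
@[reducible] noncomputable def invIrrAct (hnorm : Normalizes act actN) :
    MulAction N (InvIrr act) where
  smul n θ := ⟨⟨fun k => (θ.1 : K → ℂ) (actN n⁻¹ k),
      isIrrCharacter_comp_mulEquiv θ.1.2 (actN n⁻¹)⟩, fun x k => by
      obtain ⟨x', hx'⟩ := hnorm n⁻¹ x
      show (θ.1 : K → ℂ) (actN n⁻¹ (act x k)) = (θ.1 : K → ℂ) (actN n⁻¹ k)
      have h1 : actN n⁻¹ (act x k) = act x' (actN n⁻¹ k) := by
        have := congrArg (fun f : MulAut K => f k) hx'
        simpa [MulAut.mul_apply] using this
      rw [h1, θ.2 x']⟩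
  one_smul θ := by
    apply Subtype.ext
    apply Subtype.ext
    funext k
    show (θ.1 : K → ℂ) (actN 1⁻¹ k) = _
    simp
  mul_smul a b θ := by
    apply Subtype.ext
    apply Subtype.ext
    funext k
    show (θ.1 : K → ℂ) (actN (a * b)⁻¹ k) = (θ.1 : K → ℂ) (actN b⁻¹ (actN a⁻¹ k))
    rw [mul_inv_rev, map_mul]
    rfl

/-- the action of `N` on the `P`-invariant classes -/
@[reducible] def invClassAct (hnorm : Normalizes act actN) : MulAction N (InvClass act) where
  smul n c := ⟨ConjClasses.map (actN n).toMonoidHom c.1, fun x => by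
      obtain ⟨x', hx'⟩ := hnorm.symm n x
      obtain ⟨c, hc⟩ := c
      obtain ⟨k, rfl⟩ := ConjClasses.exists_rep c
      show ConjClasses.map (act x).toMonoidHom (ConjClasses.map (actN n).toMonoidHom
        (ConjClasses.mk k)) = ConjClasses.map (actN n).toMonoidHom (ConjClasses.mk k)
      rw [map_mk_aut, map_mk_aut]
      have h1 : act x (actN n k) = actN n (act x' k) := by
        have := congrArg (fun f : MulAut K => f k) hx'
        simpa [MulAut.mul_apply] using this
      rw [h1, ← map_mk_aut (actN n), ← map_mk_aut (act x'), hc x']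
      rfl⟩
  one_smul c := by
    apply Subtype.ext
    obtain ⟨c, hc⟩ := c
    obtain ⟨k, rfl⟩ := ConjClasses.exists_rep c
    show ConjClasses.map (actN 1).toMonoidHom (ConjClasses.mk k) = ConjClasses.mk k
    rw [map_mk_aut]
    simp
  mul_smul a b c := by
    apply Subtype.ext
    obtain ⟨c, hc⟩ := c
    obtain ⟨k, rfl⟩ := ConjClasses.exists_rep c
    show ConjClasses.map (actN (a * b)).toMonoidHom (ConjClasses.mk k) =
      ConjClasses.map (actN a).toMonoidHom (ConjClasses.map (actN b).toMonoidHom
        (ConjClasses.mk k))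
    rw [map_mk_aut, map_mk_aut, map_mk_aut, map_mul]
    rfl

theorem invIrrAct_apply (hnorm : Normalizes act actN) (n : N) (θ : InvIrr act) (k : K) :
    (letI := invIrrAct hnorm; ((n • θ : InvIrr act).1 : K → ℂ) k) =
      (θ.1 : K → ℂ) (actN n⁻¹ k) := rfl

theorem invClassAct_val (hnorm : Normalizes act actN) (n : N) (c : InvClass act) :
    (letI := invClassAct hnorm; (n • c : InvClass act).1) =
      ConjClasses.map (actN n).toMonoidHom c.1 := rfl

/-- compatibility of the two actions with the invariant part of the character table -/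
theorem invTable_smul_smul (hnorm : Normalizes act actN) (n : N) (θ : InvIrr act)
    (c : InvClass act) :
    (letI := invIrrAct hnorm; letI := invClassAct hnorm;
      invTable act (n • θ) (n • c)) = invTable act θ c := by
  obtain ⟨c, hc⟩ := c
  obtain ⟨k, rfl⟩ := ConjClasses.exists_rep c
  show (θ.1 : K → ℂ) (actN n⁻¹ (actN n k)) = (θ.1 : K → ℂ) k
  rw [map_inv]
  simp

/-- twisted fixed point counts agree -/
theorem card_twisted_fixed_eq [Finite K] (hnorm : Normalizes act actN) (p : ℕ) [Fact p.Prime]
    (hP : IsPGroup p P) (hK : ¬ p ∣ Nat.card K) (n : N) :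
    (letI := invIrrAct hnorm; Nat.card {θ : InvIrr act // conjInvIrr act (n • θ) = θ}) =
      (letI := invClassAct hnorm;
        Nat.card {c : InvClass act // invInvClass act (n • c) = c}) := by
  classical
  letI := invIrrAct hnorm
  letI := invClassAct hnorm
  have := Fintype.ofFinite K
  have := Fintype.ofFinite (InvIrr act)
  have := Fintype.ofFinite (InvClass act)
  obtain ⟨⟨N₁, h1⟩, ⟨N₂, h2⟩⟩ := exists_inverses_invTable act p hP hK
  have h := card_fixed_eq_of_intertwine (invTable act) N₁ N₂ h1 h2
    (conjInvIrr act * MulAction.toPerm n) (invInvClass act * MulAction.toPerm n)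
    (fun θ c => by
      show invTable act (conjInvIrr act (n • θ)) (invInvClass act (n • c)) = invTable act θ c
      rw [invTable_conj_inv]
      exact invTable_smul_smul hnorm n θ c)
  exact h

theorem conjInvIrr_smul (hnorm : Normalizes act actN) (n : N) (θ : InvIrr act) :
    (letI := invIrrAct hnorm; conjInvIrr act (n • θ) = n • conjInvIrr act θ) := rfl

theorem invInvClass_smul (hnorm : Normalizes act actN) (n : N) (c : InvClass act) :
    (letI := invClassAct hnorm; invInvClass act (n • c) = n • invInvClass act c) := by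
  apply Subtype.ext
  exact (map_invClass (actN n).toMonoidHom c.1).symm

theorem invIrrAct_inner [Finite K] (hnorm : Normalizes act actN) (n : N) (k₀ : K)
    (h : actN n = MulAut.conj k₀) (θ : InvIrr act) :
    (letI := invIrrAct hnorm; n • θ = θ) := by
  apply Subtype.ext
  apply Subtype.ext
  funext k
  show (θ.1 : K → ℂ) (actN n⁻¹ k) = (θ.1 : K → ℂ) k
  rw [map_inv, h]
  have hcf := Cfsg.Agent.Lib.Helper78.isClassFunction_irr θ.1
  have : (MulAut.conj k₀)⁻¹ k = k₀⁻¹ * k * k₀⁻¹⁻¹ := by
    rw [← map_inv, MulAut.conj_apply]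
  rw [this]
  exact hcf k _

theorem invClassAct_inner (hnorm : Normalizes act actN) (n : N) (k₀ : K)
    (h : actN n = MulAut.conj k₀) (c : InvClass act) :
    (letI := invClassAct hnorm; n • c = c) := by
  apply Subtype.ext
  obtain ⟨c, hc⟩ := c
  obtain ⟨k, rfl⟩ := ConjClasses.exists_rep c
  show ConjClasses.map (actN n).toMonoidHom (ConjClasses.mk k) = ConjClasses.mk k
  rw [map_mk_aut, h, MulAut.conj_apply]
  exact ConjClasses.mk_eq_mk_iff_isConj.mpr (isConj_iff.mpr ⟨k₀⁻¹, by group⟩)

/-- **Orbit count**: `N` has as many orbits on the real `P`-invariant irreducible characters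
as on the real `P`-invariant classes. -/
theorem card_quot_real_inv [Finite K] [Finite N] (hnorm : Normalizes act actN) (p : ℕ)
    [Fact p.Prime] (hP : IsPGroup p P) (hK : ¬ p ∣ Nat.card K) (m : ℕ) (hm : Odd m)
    (hinner : ∀ n : N, ∃ k₀ : K, actN (n ^ m) = MulAut.conj k₀) :
    Nat.card (Quot (fun a b : {θ : InvIrr act // conjInvIrr act θ = θ} =>
      ∃ n : N, ∀ k : K, (b.1.1 : K → ℂ) (actN n k) = (a.1.1 : K → ℂ) k)) =
    Nat.card (Quot (fun a b : {c : InvClass act // invInvClass act c = c} =>
      ∃ n : N, ConjClasses.map (actN n).toMonoidHom a.1.1 = b.1.1)) := by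
  classical
  letI := invIrrAct hnorm
  letI := invClassAct hnorm
  have := Fintype.ofFinite N
  have hI := sum_card_twisted_fixed (N := N) (I := InvIrr act) (conjInvIrr act)
    (fun θ => by
      apply Subtype.ext
      apply Subtype.ext
      funext k
      show conj (conj ((θ.1 : K → ℂ) k)) = _
      simp)
    (fun n θ => conjInvIrr_smul hnorm n θ) m hm
    (fun n θ => by
      obtain ⟨k₀, hk₀⟩ := hinner n
      exact invIrrAct_inner hnorm (n ^ m) k₀ hk₀ θ)
  have hJ := sum_card_twisted_fixed (N := N) (I := InvClass act) (invInvClass act)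
    (fun c => Subtype.ext (invClass_invClass c.1))
    (fun n c => invInvClass_smul hnorm n c) m hm
    (fun n c => by
      obtain ⟨k₀, hk₀⟩ := hinner n
      exact invClassAct_inner hnorm (n ^ m) k₀ hk₀ c)
  have hsum : ∑ n : N, Nat.card {θ : InvIrr act // conjInvIrr act (n • θ) = θ} =
      ∑ n : N, Nat.card {c : InvClass act // invInvClass act (n • c) = c} :=
    Finset.sum_congr rfl (fun n _ => card_twisted_fixed_eq hnorm p hP hK n)
  rw [hI, hJ] at hsum
  have hN : 0 < Nat.card N := Nat.card_pos
  have h1 := Nat.eq_of_mul_eq_mul_right hN hsum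
  have e1 : Nat.card (Quot (fun a b : {θ : InvIrr act // conjInvIrr act θ = θ} =>
      ∃ n : N, ∀ k : K, (b.1.1 : K → ℂ) (actN n k) = (a.1.1 : K → ℂ) k)) =
      Nat.card (Quot (fun a b : {θ : InvIrr act // conjInvIrr act θ = θ} =>
        ∃ n : N, n • a.1 = b.1)) := by
    refine Nat.card_congr (Quot.congrRight ?_)
    intro a b
    constructor
    · rintro ⟨n, hn⟩
      refine ⟨n, ?_⟩
      apply Subtype.ext
      apply Subtype.ext
      funext k
      show (a.1.1 : K → ℂ) (actN n⁻¹ k) = (b.1.1 : K → ℂ) k
      rw [← hn, map_inv]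
      simp
    · rintro ⟨n, hn⟩
      refine ⟨n, fun k => ?_⟩
      rw [← hn]
      show (a.1.1 : K → ℂ) (actN n⁻¹ (actN n k)) = _
      rw [map_inv]
      simp
  have e2 : Nat.card (Quot (fun a b : {c : InvClass act // invInvClass act c = c} =>
      ∃ n : N, ConjClasses.map (actN n).toMonoidHom a.1.1 = b.1.1)) =
      Nat.card (Quot (fun a b : {c : InvClass act // invInvClass act c = c} =>
        ∃ n : N, n • a.1 = b.1)) := by
    refine Nat.card_congr (Quot.congrRight ?_)
    intro a b
    constructor
    · rintro ⟨n, hn⟩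
      exact ⟨n, Subtype.ext hn⟩
    · rintro ⟨n, hn⟩
      exact ⟨n, congrArg Subtype.val hn⟩
  rw [e1, e2]
  exact h1

end Abstract

end Cfsg.Agent.Lib.Helper81.RealNorm
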