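import Mathlib
import Cfsg.Agent.Lib.Helper81.RNInv
import Cfsg.Agent.Lib.Helper81.RealOddIndex

/-!
# Real classes and the Sylow normalizer: the coprime case (helper81)

`K ⊴ G` of odd index and of order prime to `p`, every real irreducible character of `G` of
degree prime to `p`, `P` a Sylow `p`-subgroup of `G`.  Then every real element of `G` is
conjugate to an element of `C_K(P) ≤ N_G(P)`: `exists_conj_mem_normalizer_of_coprime`.
-/

set_option autoImplicit false
set_option linter.unusedSectionVars false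
set_option linter.style.haveILetI false

namespace Cfsg.Agent.Lib.Helper81.RealNorm

open Cfsg Cfsg.Agent.Lib.Helper75 Cfsg.Agent.Lib.Helper78 Cfsg.Agent.Lib.Helper81
open scoped ComplexConjugate

universe u

section Elements

variable {G : Type u} [Group G] (K : Subgroup G) [hKn : K.Normal]

/-- A real element lies in every normal subgroup of odd index. -/
theorem mem_of_isConj_inv_of_odd_index [Finite G] (hodd : Odd K.index) (x : G)
    (hx : IsConj x x⁻¹) : x ∈ K := by
  obtain ⟨g, hg⟩ := isConj_iff.mp hx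
  obtain ⟨t, ht⟩ := hodd
  rw [← QuotientGroup.eq_one_iff]
  set π := QuotientGroup.mk' K with hπ
  have hcard : ∀ q : G ⧸ K, q ^ K.index = 1 := by
    intro q
    rw [Subgroup.index_eq_card]
    exact pow_card_eq_one'
  have h1 : π g * π x * (π g)⁻¹ = (π x)⁻¹ := by
    rw [← map_mul, ← map_inv, ← map_mul, hg, map_inv]
  -- conjugation by powers of `π g`
  have h2 : ∀ j : ℕ, π g ^ j * π x * (π g ^ j)⁻¹ = (fun q : G ⧸ K => q⁻¹)^[j] (π x) := by
    intro j
    induction j with
    | zero => simp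
    | succ j ih =>
      rw [Function.iterate_succ_apply', ← ih, pow_succ']
      calc π g * π g ^ j * π x * (π g * π g ^ j)⁻¹
          = π g ^ j * (π g * π x * (π g)⁻¹) * (π g ^ j)⁻¹ := by
            have hc : Commute (π g) (π g ^ j) := Commute.self_pow (π g) j
            rw [mul_inv_rev, hc.eq]
            have hc' : (π g ^ j)⁻¹ * (π g)⁻¹ = (π g)⁻¹ * (π g ^ j)⁻¹ := by
              rw [← mul_inv_rev, ← mul_inv_rev, hc.eq]
            rw [hc']
            group
        _ = π g ^ j * (π x)⁻¹ * (π g ^ j)⁻¹ := by rw [h1]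
        _ = (π g ^ j * π x * (π g ^ j)⁻¹)⁻¹ := by group
  have h3 := h2 K.index
  have hinv : Function.Involutive (fun q : G ⧸ K => q⁻¹) := inv_inv
  rw [hcard, hinv.iterate_odd ⟨t, ht⟩] at h3
  have h4 : π x = (π x)⁻¹ := by simpa using h3
  have h5 : π x ^ 2 = 1 := by
    rw [pow_two]
    nth_rewrite 2 [h4]
    exact mul_inv_cancel _
  have h6 := hcard (π x)
  rw [ht, pow_succ, pow_mul, h5, one_pow, one_mul] at h6
  exact h6

/-- The odd-index argument on elements: an element of `K` that is real in `G` is real in `K`. -/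
theorem isConj_inv_of_odd' [Finite G] (hodd : Odd K.index) (y : K) (h : G)
    (hh : h * (y : G)⁻¹ * h⁻¹ = (y : G)) : IsConj y y⁻¹ := by
  obtain ⟨t, ht⟩ := hodd
  have h1 : h * (y : G) * h⁻¹ = (y : G)⁻¹ := by
    have := congrArg (fun z => z⁻¹) hh
    simp only [mul_inv_rev, inv_inv] at this
    rw [← this]
    group
  have h2 : Commute (h ^ 2) (y : G) := by
    show h ^ 2 * (y : G) = (y : G) * h ^ 2
    have : h ^ 2 * (y : G) * (h ^ 2)⁻¹ = (y : G) := by
      calc h ^ 2 * (y : G) * (h ^ 2)⁻¹ = h * (h * (y : G) * h⁻¹) * h⁻¹ := by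
            rw [pow_two]; group
        _ = h * (y : G)⁻¹ * h⁻¹ := by rw [h1]
        _ = y := hh
    calc h ^ 2 * (y : G) = (h ^ 2 * (y : G) * (h ^ 2)⁻¹) * h ^ 2 := by group
      _ = (y : G) * h ^ 2 := by rw [this]
  have h3 : Commute ((h ^ 2) ^ t) (y : G) := h2.pow_left t
  have hk : h ^ K.index ∈ K := Subgroup.pow_index_mem K h
  have hpow : h ^ K.index = (h ^ 2) ^ t * h := by
    rw [ht, pow_succ, pow_mul]
  rw [isConj_iff]
  refine ⟨⟨h ^ K.index, hk⟩, ?_⟩
  apply Subtype.ext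
  show h ^ K.index * (y : G) * (h ^ K.index)⁻¹ = (y : G)⁻¹
  rw [hpow]
  calc (h ^ 2) ^ t * h * (y : G) * ((h ^ 2) ^ t * h)⁻¹
      = (h ^ 2) ^ t * (h * (y : G) * h⁻¹) * ((h ^ 2) ^ t)⁻¹ := by group
    _ = (h ^ 2) ^ t * (y : G)⁻¹ * ((h ^ 2) ^ t)⁻¹ := by rw [h1]
    _ = (y : G)⁻¹ := by
      have := h3.inv_right
      rw [this.eq]
      group

end Elements

section Concrete

variable {G : Type u} [Group G] (K : Subgroup G) [hKn : K.Normal]

/-- the conjugation action of a subgroup `Q` of `G` on the normal subgroup `K` -/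
def cAct (Q : Subgroup G) : ↥Q →* MulAut ↥K := (MulAut.conjNormal (H := K)).comp Q.subtype

theorem cAct_apply (Q : Subgroup G) (x : Q) (k : K) :
    ((cAct K Q x k : K) : G) = (x : G) * k * (x : G)⁻¹ := by
  simp [cAct, MulAut.conjNormal_apply]

theorem cAct_eq (Q : Subgroup G) (x : Q) : cAct K Q x = MulAut.conjNormal (x : G) := rfl

theorem normalizes_cAct (Q N : Subgroup G) (h : N ≤ Subgroup.normalizer (Q : Set G)) :
    Normalizes (cAct K Q) (cAct K N) := by
  intro n x
  refine ⟨⟨n * x * (n : G)⁻¹, (Subgroup.mem_normalizer_iff.mp (h n.2) x).mp x.2⟩, ?_⟩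
  rw [cAct_eq, cAct_eq, cAct_eq, ← map_mul, ← map_mul]
  congr 1
  simp

theorem cAct_pow_index (N : Subgroup G) (n : N) :
    ∃ k₀ : K, cAct K N (n ^ K.index) = MulAut.conj k₀ := by
  refine ⟨⟨(n : G) ^ K.index, Subgroup.pow_index_mem K _⟩, ?_⟩
  ext k
  rw [cAct_apply, MulAut.conj_apply]
  simp

/-- real `Q`-invariant irreducible characters of `K` -/
abbrev RI (Q : Subgroup G) : Type u :=
  {θ : InvIrr (cAct K Q) // conjInvIrr (cAct K Q) θ = θ}

/-- real `Q`-invariant classes of `K` -/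
abbrev RJ (Q : Subgroup G) : Type u :=
  {c : InvClass (cAct K Q) // invInvClass (cAct K Q) c = c}

/-- conjugacy under `N` on real `Q`-invariant irreducible characters -/
def relI (Q N : Subgroup G) (a b : RI K Q) : Prop :=
  ∃ n : N, ∀ k : K, (b.1.1 : K → ℂ) (cAct K N n k) = (a.1.1 : K → ℂ) k

/-- conjugacy under `N` on real `Q`-invariant classes -/
def relJ (Q N : Subgroup G) (a b : RJ K Q) : Prop :=
  ∃ n : N, ConjClasses.map (cAct K N n).toMonoidHom a.1.1 = b.1.1

theorem card_quot_relI_eq [Finite G] (p : ℕ) [Fact p.Prime] (Q N : Subgroup G)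
    (hQ : IsPGroup p Q) (hN : N ≤ Subgroup.normalizer (Q : Set G)) (hK : ¬ p ∣ Nat.card K)
    (hodd : Odd K.index) :
    Nat.card (Quot (relI K Q N)) = Nat.card (Quot (relJ K Q N)) :=
  card_quot_real_inv (normalizes_cAct K Q N hN) p hQ hK K.index hodd (cAct_pow_index K N)

/-- the action of `G` on the classes of `K` -/
@[reducible] def clsAct : MulAction G (ConjClasses K) where
  smul g c := ConjClasses.map (MulAut.conjNormal g : MulAut K).toMonoidHom c
  one_smul c := by
    obtain ⟨k, rfl⟩ := ConjClasses.exists_rep c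
    show ConjClasses.map (MulAut.conjNormal (1 : G) : MulAut K).toMonoidHom (ConjClasses.mk k) = _
    rw [map_mk_aut]
    simp
  mul_smul a b c := by
    obtain ⟨k, rfl⟩ := ConjClasses.exists_rep c
    show ConjClasses.map (MulAut.conjNormal (a * b) : MulAut K).toMonoidHom (ConjClasses.mk k) =
      ConjClasses.map (MulAut.conjNormal a : MulAut K).toMonoidHom
        (ConjClasses.map (MulAut.conjNormal b : MulAut K).toMonoidHom (ConjClasses.mk k))
    rw [map_mk_aut, map_mk_aut, map_mk_aut, map_mul]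
    rfl

theorem clsAct_smul (g : G) (c : ConjClasses K) :
    (letI := clsAct K; g • c) =
      ConjClasses.map (MulAut.conjNormal g : MulAut K).toMonoidHom c := rfl

/-- the relation on characters in terms of the action of `G` on `Irr(K)` -/
theorem relI_iff_smul (θ η : IrrCharacter K) (g : G) :
    (∀ k : K, (η : K → ℂ) (MulAut.conjNormal g k) = (θ : K → ℂ) k) ↔ conjIrr K g θ = η := by
  constructor
  · intro h
    apply Subtype.ext
    funext k
    rw [conjIrr_apply, ← h]
    refine congrArg (η : K → ℂ) ?_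
    apply Subtype.ext
    simp [MulAut.conjNormal_apply]
  · intro h k
    rw [← h, conjIrr_apply]
    refine congrArg (θ : K → ℂ) ?_
    apply Subtype.ext
    simp only [MulAut.conjNormal_apply]
    group

theorem conjIrr_eq_of_invIrr (Q : Subgroup G) (θ : InvIrr (cAct K Q)) (u : G) (hu : u ∈ Q) :
    conjIrr K u θ.1 = θ.1 := by
  rw [← relI_iff_smul]
  intro k
  exact θ.2 ⟨u, hu⟩ k

theorem invIrr_of_conjIrr_eq (Q : Subgroup G) (θ : IrrCharacter K)
    (h : ∀ u ∈ Q, conjIrr K u θ = θ) (x : Q) (k : K) :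
    (θ : K → ℂ) (cAct K Q x k) = (θ : K → ℂ) k :=
  (relI_iff_smul K θ θ x).mpr (h x x.2) k

theorem bot_inv_irr (θ : IrrCharacter K) (x : (⊥ : Subgroup G)) (k : K) :
    (θ : K → ℂ) (cAct K ⊥ x k) = (θ : K → ℂ) k := by
  refine congrArg (θ : K → ℂ) ?_
  apply Subtype.ext
  rw [cAct_apply, Subgroup.mem_bot.mp x.2]
  simp

theorem bot_inv_cls (c : ConjClasses K) (x : (⊥ : Subgroup G)) :
    ConjClasses.map (cAct K ⊥ x).toMonoidHom c = c := by
  obtain ⟨k, rfl⟩ := ConjClasses.exists_rep c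
  rw [map_mk_aut]
  congr 1
  apply Subtype.ext
  rw [cAct_apply, Subgroup.mem_bot.mp x.2]
  simp

/-- forgetting invariance, on characters -/
noncomputable def inclI (Q : Subgroup G) (a : RI K Q) : RI K (⊥ : Subgroup G) :=
  ⟨⟨a.1.1, bot_inv_irr K a.1.1⟩,
    (conjInvIrr_eq_self_iff _ _).mpr ((conjInvIrr_eq_self_iff _ a.1).mp a.2)⟩

/-- forgetting invariance, on classes -/
def inclJ (Q : Subgroup G) (a : RJ K Q) : RJ K (⊥ : Subgroup G) :=
  ⟨⟨a.1.1, bot_inv_cls K a.1.1⟩, Subtype.ext (by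
    have h := congrArg Subtype.val a.2
    show invClass a.1.1 = a.1.1
    exact h)⟩

theorem inclI_val (Q : Subgroup G) (a : RI K Q) : (inclI K Q a).1.1 = a.1.1 := rfl

theorem inclJ_val (Q : Subgroup G) (a : RJ K Q) : (inclJ K Q a).1.1 = a.1.1 := rfl

/-- the orbit of the character underlying a class of `relI ⊥ ⊤` -/
noncomputable def orbI : Quot (relI K (⊥ : Subgroup G) ⊤) → Set (IrrCharacter K) :=
  Quot.lift (fun a => (letI := conjIrrMulAction K; MulAction.orbit G a.1.1)) (by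
    letI := conjIrrMulAction K
    rintro a b ⟨n, hn⟩
    have h1 : conjIrr K (n : G) a.1.1 = b.1.1 := (relI_iff_smul K a.1.1 b.1.1 n).mp hn
    show MulAction.orbit G a.1.1 = MulAction.orbit G b.1.1
    rw [← h1]
    exact (MulAction.orbit_smul (n : G) a.1.1).symm)

/-- the orbit of the class underlying a class of `relJ ⊥ ⊤` -/
def orbJ : Quot (relJ K (⊥ : Subgroup G) ⊤) → Set (ConjClasses K) :=
  Quot.lift (fun a => (letI := clsAct K; MulAction.orbit G a.1.1)) (by
    letI := clsAct K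
    rintro a b ⟨n, hn⟩
    show MulAction.orbit G a.1.1 = MulAction.orbit G b.1.1
    have h1 : (n : G) • a.1.1 = b.1.1 := hn
    rw [← h1]
    exact (MulAction.orbit_smul (n : G) a.1.1).symm)

theorem exists_of_quot_mk_eq_I (a b : RI K (⊥ : Subgroup G))
    (h : Quot.mk (relI K (⊥ : Subgroup G) ⊤) a = Quot.mk (relI K (⊥ : Subgroup G) ⊤) b) :
    ∃ g : G, conjIrr K g a.1.1 = b.1.1 := by
  letI := conjIrrMulAction K
  have h1 : MulAction.orbit G a.1.1 = MulAction.orbit G b.1.1 := congrArg (orbI K) h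
  have h2 : b.1.1 ∈ MulAction.orbit G a.1.1 := by
    rw [h1]
    exact MulAction.mem_orbit_self _
  obtain ⟨g, hg⟩ := h2
  exact ⟨g, hg⟩

theorem exists_of_quot_mk_eq_J (a b : RJ K (⊥ : Subgroup G))
    (h : Quot.mk (relJ K (⊥ : Subgroup G) ⊤) a = Quot.mk (relJ K (⊥ : Subgroup G) ⊤) b) :
    ∃ g : G, ConjClasses.map (MulAut.conjNormal g : MulAut K).toMonoidHom a.1.1 = b.1.1 := by
  letI := clsAct K
  have h1 : MulAction.orbit G a.1.1 = MulAction.orbit G b.1.1 := congrArg (orbJ K) h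
  have h2 : b.1.1 ∈ MulAction.orbit G a.1.1 := by
    rw [h1]
    exact MulAction.mem_orbit_self _
  obtain ⟨g, hg⟩ := h2
  exact ⟨g, hg⟩

/-- the natural map from `N`-orbits of invariant real characters to `G`-orbits -/
noncomputable def mapI (Q N : Subgroup G) :
    Quot (relI K Q N) → Quot (relI K (⊥ : Subgroup G) ⊤) :=
  Quot.map (inclI K Q) (by
    rintro a b ⟨n, hn⟩
    exact ⟨⟨n, Subgroup.mem_top _⟩, hn⟩)

/-- the natural map from `N`-orbits of invariant real classes to `G`-orbits -/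
def mapJ (Q N : Subgroup G) :
    Quot (relJ K Q N) → Quot (relJ K (⊥ : Subgroup G) ⊤) :=
  Quot.map (inclJ K Q) (by
    rintro a b ⟨n, hn⟩
    exact ⟨⟨n, Subgroup.mem_top _⟩, hn⟩)

theorem mapI_injective [Finite G] (p : ℕ) [Fact p.Prime] (P : Sylow p G) :
    Function.Injective
      (mapI K (P : Subgroup G) (Subgroup.normalizer ((P : Subgroup G) : Set G))) := by
  letI := conjIrrMulAction K
  intro qa qb h
  obtain ⟨a, rfl⟩ := Quot.exists_rep qa
  obtain ⟨b, rfl⟩ := Quot.exists_rep qb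
  obtain ⟨g, hg⟩ := exists_of_quot_mk_eq_I K _ _ h
  rw [inclI_val, inclI_val] at hg
  obtain ⟨n, hn, hn2⟩ := exists_normalizer_smul_eq (X := IrrCharacter K) p P a.1.1 b.1.1
    (fun u hu => conjIrr_eq_of_invIrr K _ a.1 u hu)
    (fun u hu => conjIrr_eq_of_invIrr K _ b.1 u hu) g hg
  apply Quot.sound
  exact ⟨⟨n, hn⟩, (relI_iff_smul K a.1.1 b.1.1 n).mpr hn2⟩

theorem mapJ_injective [Finite G] (p : ℕ) [Fact p.Prime] (P : Sylow p G) :
    Function.Injective
      (mapJ K (P : Subgroup G) (Subgroup.normalizer ((P : Subgroup G) : Set G))) := by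
  letI := clsAct K
  intro qa qb h
  obtain ⟨a, rfl⟩ := Quot.exists_rep qa
  obtain ⟨b, rfl⟩ := Quot.exists_rep qb
  obtain ⟨g, hg⟩ := exists_of_quot_mk_eq_J K _ _ h
  rw [inclJ_val, inclJ_val] at hg
  obtain ⟨n, hn, hn2⟩ := exists_normalizer_smul_eq (X := ConjClasses K) p P a.1.1 b.1.1
    (fun u hu => a.1.2 ⟨u, hu⟩) (fun u hu => b.1.2 ⟨u, hu⟩) g hg
  apply Quot.sound
  exact ⟨⟨n, hn⟩, hn2⟩

end Concrete

end Cfsg.Agent.Lib.Helper81.RealNorm
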