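import Mathlib
import Cfsg.Agent.Lib.Helper81.RNCore

/-!
# Real classes and the Sylow normalizer: the coprime case, main theorem (helper81)

* `exists_pinv_conj`: every real irreducible character of `K` has a `P`-invariant `G`-conjugate.
* `exists_conj_mem_normalizer_of_coprime`: every real element of `G` is conjugate to an element
  of `N_G(P)`.
-/

set_option autoImplicit false
set_option linter.unusedSectionVars false
set_option linter.style.haveILetI false

namespace Cfsg.Agent.Lib.Helper81.RealNorm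

open Cfsg Cfsg.Agent.Lib.Helper75 Cfsg.Agent.Lib.Helper78 Cfsg.Agent.Lib.Helper81
open scoped ComplexConjugate

universe u

section Main

variable {G : Type u} [Group G] (K : Subgroup G) [hKn : K.Normal]

/-- Every real irreducible character of `K` has a `G`-conjugate which is invariant under the
Sylow `p`-subgroup `P`. -/
theorem exists_pinv_conj [Finite G] (p : ℕ) [Fact p.Prime] (hodd : Odd K.index)
    (hreal : ∀ χ : IrrCharacter G, (∀ g : G, ((χ : G → ℂ) g).im = 0) →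
      ¬ p ∣ charDegree (χ : G → ℂ)) (P : Sylow p G)
    (θ : IrrCharacter K) (hθ : ∀ k : K, ((θ : K → ℂ) k).im = 0) :
    ∃ g : G, ∀ u ∈ (P : Subgroup G), conjIrr K u (conjIrr K g θ) = conjIrr K g θ := by
  classical
  have := Fintype.ofFinite G
  have : Fintype K := Fintype.ofFinite K
  obtain ⟨χ, hχreal, hover⟩ := exists_real_over_of_odd_index K hodd θ hθ
  have hdeg := charDegree_eq_resMult_mul K χ θ hover
  have hp : ¬ p ∣ (conjOrbit K (θ : K → ℂ)).card := by
    intro h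
    apply hreal χ hχreal
    rw [hdeg]
    exact dvd_mul_of_dvd_left (dvd_mul_of_dvd_right h _) _
  letI := conjIrrMulAction K
  have hset : (↑(conjOrbit K (θ : K → ℂ)) : Set (IrrCharacter K)) = MulAction.orbit G θ := by
    ext φ
    rw [Finset.mem_coe, mem_conjOrbit]
    constructor
    · rintro ⟨g, hg⟩
      refine ⟨g⁻¹, ?_⟩
      apply Subtype.ext
      rw [← hg]
      funext k
      show (θ : K → ℂ) (MulAut.conjNormal g⁻¹⁻¹ k) = Cfsg.Agent.Lib.Helper75.conjFun K g (θ : K → ℂ) k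
      rw [conjFun_apply, inv_inv]
      rfl
    · rintro ⟨g, hg⟩
      refine ⟨g⁻¹, ?_⟩
      rw [← hg]
      funext k
      show Cfsg.Agent.Lib.Helper75.conjFun K g⁻¹ (θ : K → ℂ) k = (θ : K → ℂ) (MulAut.conjNormal g⁻¹ k)
      rw [conjFun_apply]
      rfl
  have hcard : Nat.card (MulAction.orbit G θ) = (conjOrbit K (θ : K → ℂ)).card := by
    rw [← hset, Nat.card_coe_set_eq, Set.ncard_coe_finset]
  have hp' : ¬ p ∣ Nat.card (MulAction.orbit G θ) := by rwa [hcard]
  obtain ⟨⟨φ, hφ⟩, hfix⟩ := (P.isPGroup').nonempty_fixed_point_of_prime_not_dvd_card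
    (MulAction.orbit G θ) hp'
  obtain ⟨g, hg⟩ := hφ
  refine ⟨g, fun u hu => ?_⟩
  have h1 := hfix ⟨u, hu⟩
  have h2 := congrArg Subtype.val h1
  have h3 : conjIrr K g θ = φ := hg
  rw [h3]
  exact h2

theorem mapI_surjective [Finite G] (p : ℕ) [Fact p.Prime] (hodd : Odd K.index)
    (hreal : ∀ χ : IrrCharacter G, (∀ g : G, ((χ : G → ℂ) g).im = 0) →
      ¬ p ∣ charDegree (χ : G → ℂ)) (P : Sylow p G) :
    Function.Surjective
      (mapI K (P : Subgroup G) (Subgroup.normalizer ((P : Subgroup G) : Set G))) := by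
  intro qa
  obtain ⟨a, rfl⟩ := Quot.exists_rep qa
  have hareal : ∀ k : K, ((a.1.1 : K → ℂ) k).im = 0 := (conjInvIrr_eq_self_iff _ a.1).mp a.2
  obtain ⟨g, hg⟩ := exists_pinv_conj K p hodd hreal P a.1.1 hareal
  let b0 : InvIrr (cAct K (P : Subgroup G)) :=
    ⟨conjIrr K g a.1.1, invIrr_of_conjIrr_eq K (P : Subgroup G) _ hg⟩
  have hb0 : conjInvIrr (cAct K (P : Subgroup G)) b0 = b0 := by
    rw [conjInvIrr_eq_self_iff]
    intro k
    show ((conjIrr K g a.1.1 : K → ℂ) k).im = 0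
    rw [conjIrr_apply]
    exact hareal _
  refine ⟨Quot.mk _ ⟨b0, hb0⟩, ?_⟩
  show Quot.mk _ (inclI K (P : Subgroup G) ⟨b0, hb0⟩) = Quot.mk _ a
  apply Quot.sound
  refine ⟨⟨g⁻¹, Subgroup.mem_top _⟩, ?_⟩
  show ∀ k : K, (a.1.1 : K → ℂ) (MulAut.conjNormal g⁻¹ k) = (conjIrr K g a.1.1 : K → ℂ) k
  intro k
  rw [conjIrr_apply]

/-- **The coprime case.** -/
theorem exists_conj_mem_normalizer_of_coprime [Finite G] (p : ℕ) [Fact p.Prime]
    (hodd : Odd K.index) (hK : ¬ p ∣ Nat.card K)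
    (hreal : ∀ χ : IrrCharacter G, (∀ g : G, ((χ : G → ℂ) g).im = 0) →
      ¬ p ∣ charDegree (χ : G → ℂ)) (P : Sylow p G) (x : G) (hx : IsConj x x⁻¹) :
    ∃ y ∈ Subgroup.normalizer ((P : Subgroup G) : Set G), IsConj x y := by
  classical
  set N := Subgroup.normalizer ((P : Subgroup G) : Set G) with hN
  -- cardinalities
  have hbij : Function.Bijective (mapI K (P : Subgroup G) N) :=
    ⟨mapI_injective K p P, mapI_surjective K p hodd hreal P⟩
  have c1 : Nat.card (Quot (relI K (P : Subgroup G) N)) =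
      Nat.card (Quot (relI K (⊥ : Subgroup G) ⊤)) := Nat.card_congr (Equiv.ofBijective _ hbij)
  have c2 := card_quot_relI_eq K p (P : Subgroup G) N P.isPGroup' le_rfl hK hodd
  have c3 := card_quot_relI_eq K p (⊥ : Subgroup G) ⊤ (IsPGroup.of_bot) (by
    intro g _
    rw [Subgroup.mem_normalizer_iff]
    intro h
    simp only [Subgroup.mem_bot]
    constructor
    · intro hh; rw [hh]; group
    · intro hh
      have : h = g⁻¹ * (g * h * g⁻¹) * g := by group
      rw [this, hh]; group) hK hodd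
  have hle : Nat.card (Quot (relJ K (⊥ : Subgroup G) ⊤)) ≤
      Nat.card (Quot (relJ K (P : Subgroup G) N)) := by
    rw [← c3, ← c1, c2]
  have hsurj : Function.Surjective (mapJ K (P : Subgroup G) N) :=
    ((mapJ_injective K p P).bijective_of_nat_card_le hle).2
  -- the class of `x`
  have hxK : x ∈ K := mem_of_isConj_inv_of_odd_index K hodd x hx
  obtain ⟨g₀, hg₀⟩ := isConj_iff.mp hx
  have hyreal : IsConj (⟨x, hxK⟩ : K) (⟨x, hxK⟩ : K)⁻¹ := by
    apply isConj_inv_of_odd' K hodd ⟨x, hxK⟩ g₀⁻¹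
    show g₀⁻¹ * x⁻¹ * g₀⁻¹⁻¹ = x
    rw [← hg₀]
    group
  let a0 : InvClass (cAct K (⊥ : Subgroup G)) :=
    ⟨ConjClasses.mk ⟨x, hxK⟩, bot_inv_cls K _⟩
  have ha0 : invInvClass (cAct K (⊥ : Subgroup G)) a0 = a0 := by
    apply Subtype.ext
    show ConjClasses.mk (⟨x, hxK⟩ : K)⁻¹ = ConjClasses.mk ⟨x, hxK⟩
    exact (ConjClasses.mk_eq_mk_iff_isConj.mpr hyreal).symm
  obtain ⟨qb, hqb⟩ := hsurj (Quot.mk _ ⟨a0, ha0⟩)
  obtain ⟨b, rfl⟩ := Quot.exists_rep qb
  obtain ⟨g, hg⟩ := exists_of_quot_mk_eq_J K _ _ hqb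
  rw [inclJ_val] at hg
  -- a fixed element in the invariant class `b`
  obtain ⟨k₁, hk₁⟩ := ConjClasses.exists_rep b.1.1
  have hinv : ∀ u : (P : Subgroup G), IsConj k₁ (cAct K (P : Subgroup G) u k₁) := by
    intro u
    have h1 := b.1.2 u
    rw [← hk₁, map_mk_aut] at h1
    exact (ConjClasses.mk_eq_mk_iff_isConj.mp h1).symm
  have hKfin : Finite K := inferInstance
  obtain ⟨k₂, hk₂, hfix⟩ := exists_fixed_of_invariant_class (cAct K (P : Subgroup G)) p
    P.isPGroup' hK k₁ hinv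
  -- `g k₂ g⁻¹` is `K`-conjugate to `x`
  have h2 : ConjClasses.mk (MulAut.conjNormal g k₂ : K) = ConjClasses.mk (⟨x, hxK⟩ : K) := by
    have h3 : ConjClasses.mk k₂ = b.1.1 := by
      rw [← hk₁]
      exact (ConjClasses.mk_eq_mk_iff_isConj.mpr hk₂).symm
    rw [← map_mk_aut, h3]
    exact hg
  obtain ⟨c, hc⟩ := isConj_iff.mp (ConjClasses.mk_eq_mk_iff_isConj.mp h2)
  have hc' : (c : G) * (g * (k₂ : G) * g⁻¹) * (c : G)⁻¹ = x := by
    have := congrArg Subtype.val hc
    simpa [MulAut.conjNormal_apply] using this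
  refine ⟨(k₂ : G), ?_, ?_⟩
  · -- `k₂` centralizes `P`
    rw [Subgroup.mem_normalizer_iff]
    intro u
    have hcomm : ∀ v ∈ (P : Subgroup G), v * (k₂ : G) * v⁻¹ = (k₂ : G) := by
      intro v hv
      have := congrArg Subtype.val (hfix ⟨v, hv⟩)
      rw [cAct_apply] at this
      exact this
    constructor
    · intro hu
      have h4 := hcomm u hu
      have h5 : (k₂ : G) * u * (k₂ : G)⁻¹ = u := by
        have : u * (k₂ : G) = (k₂ : G) * u := by
          calc u * (k₂ : G) = (u * (k₂ : G) * u⁻¹) * u := by group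
            _ = (k₂ : G) * u := by rw [h4]
        rw [← this]
        group
      rw [h5]
      exact hu
    · intro hu
      have h4 := hcomm _ hu
      -- (k₂ u k₂⁻¹) k₂ (k₂ u k₂⁻¹)⁻¹ = k₂ ⇒ u k₂ u⁻¹ = k₂
      have h5 : u * (k₂ : G) * u⁻¹ = (k₂ : G) := by
        have h6 : (k₂ : G) * u * (k₂ : G)⁻¹ * (k₂ : G) * ((k₂ : G) * u * (k₂ : G)⁻¹)⁻¹ =
            (k₂ : G) * (u * (k₂ : G) * u⁻¹) * (k₂ : G)⁻¹ := by group
        rw [h6] at h4
        have h7 : u * (k₂ : G) * u⁻¹ = (k₂ : G)⁻¹ * ((k₂ : G) * (u * (k₂ : G) * u⁻¹) *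
            (k₂ : G)⁻¹) * (k₂ : G) := by group
        rw [h7, h4]
        group
      have h8 : u = (k₂ : G) * u * (k₂ : G)⁻¹ := by
        have : u * (k₂ : G) = (k₂ : G) * u := by
          calc u * (k₂ : G) = (u * (k₂ : G) * u⁻¹) * u := by group
            _ = (k₂ : G) * u := by rw [h5]
        rw [← this]
        group
      rw [h8]
      exact hu
  · rw [isConj_comm, isConj_iff]
    exact ⟨(c : G) * g, by rw [← hc']; group⟩

end Main

end Cfsg.Agent.Lib.Helper81.RealNorm
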