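import Mathlib
import Cfsg.Agent.Lib.Helper81.RealPrimePrep

/-!
# Real characters of p'-degree: the Sylow p-subgroup centralizes a minimal normal r-subgroup
centralized by all 2-elements (helper81)
-/

set_option autoImplicit false
set_option linter.unusedSectionVars false

namespace Cfsg.Agent.Lib.Helper81

open Cfsg
open scoped commutatorElement

universe u

section Core

variable {G : Type u} [Group G] [Finite G]

/-- If all 2-elements centralize the minimal normal `r`-subgroup `N` (`r` odd, `r ≠ p`),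
`P ⊔ N ⊴ G`, `G / O^{2'}(G)` is a `p`-group and `G` has no nontrivial normal `p`-subgroup,
then `P` centralizes `N`. -/
theorem sylow_centralizes_of_two_elements (p : ℕ) [hp : Fact p.Prime] (r : ℕ) (hr : r.Prime)
    (hrp : r ≠ p) (hr2 : r ≠ 2) (P : Sylow p G) (N : Subgroup G) [hN : N.Normal]
    (hexp : ∀ a ∈ N, a ^ r = 1)
    (hLn : ((P : Subgroup G) ⊔ N).Normal)
    (hidx : ∃ a : ℕ, (ppGen G 2).index = p ^ a)
    (hOp : ∀ Q : Subgroup G, Q.Normal → Q ≠ ⊥ → ¬ IsPGroup p Q)
    (hall : ∀ t : G, (∃ k : ℕ, orderOf t = 2 ^ k) → t ∈ Subgroup.centralizer (N : Set G)) :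
    ∀ x ∈ (P : Subgroup G), ∀ n ∈ N, x * n = n * x := by
  classical
  have hrF : Fact r.Prime := ⟨hr⟩
  set K : Subgroup G := ppGen G 2 with hK
  set L : Subgroup G := (P : Subgroup G) ⊔ N with hL
  have hNr : IsPGroup r N := by
    intro x
    refine ⟨1, ?_⟩
    apply Subtype.ext
    rw [pow_one]
    simpa using hexp x x.2
  have hNP : Disjoint N (P : Subgroup G) := IsPGroup.disjoint_of_ne r p hrp N P hNr P.2
  have hcop : Nat.Coprime r p := (Nat.coprime_primes hr hp.out).mpr hrp
  -- `K ≤ C_G(N)`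
  have hKC : K ≤ Subgroup.centralizer (N : Set G) := by
    rw [hK, ppGen_def, Subgroup.closure_le]
    intro t ht
    exact hall t ht
  -- `N ≤ K`
  have hNK : N ≤ K := by
    intro n hn
    obtain ⟨a, ha⟩ := hidx
    rw [← QuotientGroup.eq_one_iff]
    have h1 : orderOf (n : G ⧸ K) ∣ p ^ a := by
      rw [← ha, Subgroup.index_eq_card]
      exact orderOf_dvd_natCard _
    have h2 : orderOf (n : G ⧸ K) ∣ r := by
      apply orderOf_dvd_of_pow_eq_one
      rw [← QuotientGroup.mk_pow, hexp n hn, QuotientGroup.mk_one]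
    have h3 : orderOf (n : G ⧸ K) ∣ 1 := by
      have := Nat.dvd_gcd h2 h1
      rwa [Nat.Coprime.pow_right a hcop] at this
    exact orderOf_eq_one_iff.mp (Nat.dvd_one.mp h3)
  -- decomposition of `K ⊓ L`
  have hdecomp : ∀ w ∈ K ⊓ L, ∃ y ∈ (P : Subgroup G) ⊓ K, ∃ z ∈ N, w = y * z := by
    intro w hw
    have hwL : w ∈ ((P : Subgroup G) ⊔ N : Subgroup G) := hw.2
    rw [← SetLike.mem_coe, Subgroup.mul_normal] at hwL
    obtain ⟨y, hy, z, hz, rfl⟩ := Set.mem_mul.mp hwL
    refine ⟨y, ⟨hy, ?_⟩, z, hz, rfl⟩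
    have : y = y * z * z⁻¹ := by group
    rw [this]
    exact K.mul_mem hw.1 (K.inv_mem (hNK hz))
  -- `Q = P ⊓ K` is normal
  set Q : Subgroup G := (P : Subgroup G) ⊓ K with hQ
  have hQn : Q.Normal := by
    constructor
    intro u hu g
    have hw : g * u * g⁻¹ ∈ K ⊓ L :=
      ⟨(inferInstance : K.Normal).conj_mem u hu.2 g, hLn.conj_mem u (le_sup_left (a := (P : Subgroup G)) hu.1) g⟩
    obtain ⟨y, hy, z, hz, hyz⟩ := hdecomp _ hw
    -- `z = 1`
    obtain ⟨j, hj⟩ := P.2 ⟨u, hu.1⟩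
    have huj : u ^ p ^ j = 1 := by
      have := congrArg Subtype.val hj
      simpa using this
    have hwj : (g * u * g⁻¹) ^ p ^ j = 1 := by
      rw [conj_pow, huj]; group
    have hcomm : Commute y z := by
      have := (Subgroup.mem_centralizer_iff.mp (hKC hy.2)) z hz
      exact this.symm
    rw [hyz, hcomm.mul_pow] at hwj
    have hzj : z ^ p ^ j ∈ N ⊓ (P : Subgroup G) := by
      refine ⟨N.pow_mem hz _, ?_⟩
      have : z ^ p ^ j = (y ^ p ^ j)⁻¹ := by
        rw [eq_inv_iff_mul_eq_one, ← (hcomm.pow_pow (p ^ j) (p ^ j)).eq]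
        exact hwj
      rw [this]
      exact (P : Subgroup G).inv_mem ((P : Subgroup G).pow_mem hy.1 _)
    rw [hNP.eq_bot, Subgroup.mem_bot] at hzj
    have hz1 : z = 1 := by
      have h1 : orderOf z ∣ p ^ j := orderOf_dvd_of_pow_eq_one hzj
      have h2 : orderOf z ∣ r := orderOf_dvd_of_pow_eq_one (hexp z hz)
      have h3 : orderOf z ∣ 1 := by
        have := Nat.dvd_gcd h2 h1
        rwa [Nat.Coprime.pow_right j hcop] at this
      exact orderOf_eq_one_iff.mp (Nat.dvd_one.mp h3)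
    rw [hyz, hz1, mul_one]
    exact hy
  have hQ1 : Q = ⊥ := by
    by_contra h
    exact hOp Q hQn h (P.2.to_le inf_le_left)
  -- every `x ∈ P` commutes with every 2-element
  have hcomm2 : ∀ x ∈ (P : Subgroup G), ∀ t : G, (∃ k : ℕ, orderOf t = 2 ^ k) → x * t = t * x := by
    intro x hx t ht
    obtain ⟨k, hk⟩ := ht
    have htK : t ∈ K := mem_ppGen_of_orderOf k hk
    set w : G := t⁻¹ * (x⁻¹ * t * x) with hw
    have hwKL : w ∈ K ⊓ L := by
      refine ⟨K.mul_mem (K.inv_mem htK) ?_, ?_⟩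
      · have := (inferInstance : K.Normal).conj_mem t htK x⁻¹
        simpa using this
      · have h1 : w = (t⁻¹ * x⁻¹ * t⁻¹⁻¹) * x := by rw [hw]; group
        rw [h1]
        refine L.mul_mem ?_ (le_sup_left (a := (P : Subgroup G)) hx)
        exact hLn.conj_mem x⁻¹ (L.inv_mem (le_sup_left (a := (P : Subgroup G)) hx)) t⁻¹
    obtain ⟨y, hy, z, hz, hyz⟩ := hdecomp w hwKL
    have hy1 : y = 1 := by
      have : y ∈ Q := hy
      rw [hQ1, Subgroup.mem_bot] at this
      exact this
    rw [hy1, one_mul] at hyz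
    -- `x⁻¹ t x = t z`, `t` commutes with `z`
    have htz : x⁻¹ * t * x = t * z := by
      rw [← hyz, hw]; group
    have hcz : Commute t z := by
      have := (Subgroup.mem_centralizer_iff.mp (hall t ⟨k, hk⟩)) z hz
      exact this.symm
    have h1 : (x⁻¹ * t * x) ^ 2 ^ k = 1 := by
      have : x⁻¹ * t * x = x⁻¹ * t * x⁻¹⁻¹ := by group
      rw [this, conj_pow, ← hk, pow_orderOf_eq_one]; group
    rw [htz, hcz.mul_pow, ← hk, pow_orderOf_eq_one, one_mul] at h1
    have hz1 : z = 1 := by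
      have h2 : orderOf z ∣ orderOf t := orderOf_dvd_of_pow_eq_one h1
      have h3 : orderOf z ∣ r := orderOf_dvd_of_pow_eq_one (hexp z hz)
      have hcop2 : Nat.Coprime r (2 ^ k) :=
        Nat.Coprime.pow_right k ((Nat.coprime_primes hr Nat.prime_two).mpr hr2)
      have h4 : orderOf z ∣ 1 := by
        have := Nat.dvd_gcd h3 (hk ▸ h2)
        rwa [hcop2] at this
      exact orderOf_eq_one_iff.mp (Nat.dvd_one.mp h4)
    rw [hz1, mul_one] at htz
    calc x * t = x * (x⁻¹ * t * x) := by rw [htz]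
      _ = t * x := by group
  -- conclusion
  intro x hx n hn
  have hKx : K ≤ Subgroup.centralizer ({x} : Set G) := by
    rw [hK, ppGen_def, Subgroup.closure_le]
    intro t ht
    rw [SetLike.mem_coe, Subgroup.mem_centralizer_iff]
    intro y hy
    rw [Set.mem_singleton_iff] at hy
    rw [hy]
    exact hcomm2 x hx t ht
  exact (Subgroup.mem_centralizer_iff.mp (hKx (hNK hn))) x rfl

end Core

end Cfsg.Agent.Lib.Helper81
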