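import Mathlib
import Cfsg.Agent.Lib.Helper81.RealPrimePrep
import Cfsg.Agent.Lib.Helper81.RealPrimeCore

/-!
# Real characters of p'-degree: the normal Sylow theorem (helper81)

`normal_sylow_of_real_pprime`: if `G / O^{2'}(G)` is a `p`-group, `O^{p'}(G)` is solvable and all
real irreducible characters of `G` have `p'`-degree, then `G` has a normal Sylow `p`-subgroup.
(Isaacs–Navarro, Theorems A and C.)
-/

set_option autoImplicit false

namespace Cfsg.Agent.Lib.Helper81

open Cfsg
open scoped commutatorElement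

universe u

/-- **Normal Sylow theorem** (Isaacs–Navarro): if `G / O^{2'}(G)` is a `p`-group, `O^{p'}(G)` is
solvable and every real irreducible character of `G` has `p'`-degree, then the Sylow
`p`-subgroups of `G` are normal. -/
theorem normal_sylow_of_real_pprime (p : ℕ) [hp : Fact p.Prime] :
    ∀ (n : ℕ) (G : Type u) [Group G] [Finite G], Nat.card G = n →
      (∃ a : ℕ, (ppGen G 2).index = p ^ a) →
      Group.IsSolvable (ppGen G p) →
      (∀ χ : IrrCharacter G, (∀ g : G, ((χ : G → ℂ) g).im = 0) →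
        ¬ p ∣ charDegree (χ : G → ℂ)) →
      ∀ P : Sylow p G, (P : Subgroup G).Normal := by
  intro n
  induction n using Nat.strong_induction_on with
  | _ n ih =>
  intro G _ _ hcard hidx hsolv hreal P
  classical
  -- the quotient step
  have hquot : ∀ (N : Subgroup G) [N.Normal], N ≠ ⊥ → ((P : Subgroup G) ⊔ N).Normal := by
    intro N _ hN
    have hlt : Nat.card (G ⧸ N) < n := by
      rw [← hcard, ← Subgroup.index_eq_card]
      have h1 := N.card_mul_index
      have h2 : 1 < Nat.card N := (Subgroup.one_lt_card_iff_ne_bot N).mpr hN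
      have h3 : 0 < N.index := Nat.pos_of_ne_zero Subgroup.index_ne_zero_of_finite
      nlinarith
    obtain ⟨h1, h2, h3⟩ := quotient_hyps p N hidx hsolv hreal
    have hn := ih _ hlt (G ⧸ N) rfl h1 h2 h3
      (P.mapSurjective (QuotientGroup.mk'_surjective N))
    have hc : ((P : Subgroup G) ⊔ N) = Subgroup.comap (QuotientGroup.mk' N)
        ((P : Subgroup G).map (QuotientGroup.mk' N)) := by
      rw [Subgroup.comap_map_eq, QuotientGroup.ker_mk']
    rw [hc]
    exact Subgroup.Normal.comap hn _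
  -- no nontrivial normal `p`-subgroup
  by_cases hOp : ∃ Q : Subgroup G, Q.Normal ∧ Q ≠ ⊥ ∧ IsPGroup p Q
  · obtain ⟨Q, hQn, hQ1, hQp⟩ := hOp
    have hQP : Q ≤ P := le_sylow_of_normal_pgroup Q hQp P
    have := hquot Q hQ1
    rwa [sup_eq_left.mpr hQP] at this
  push Not at hOp
  by_cases hR : ppGen G p = ⊥
  · have hP : (P : Subgroup G) = ⊥ := by
      have := sylow_le_ppGen P
      rw [hR] at this
      exact le_bot_iff.mp this
    rw [hP]
    infer_instance
  obtain ⟨N, hNn, hN1, hNR, hmin⟩ := exists_minimal_normal_le (ppGen G p) hR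
  have hNsolv : Group.IsSolvable N :=
    Group.isSolvable_of_isSolvable_injective (Subgroup.inclusion_injective hNR)
  have hab : ∀ a ∈ N, ∀ b ∈ N, a * b = b * a := abelian_of_minimal_normal_solvable N hmin hN1
  obtain ⟨r, hr, hexp⟩ :=
    Cfsg.Agent.Lib.Helper34.exists_prime_exponent_of_abelian_minimal_normal N hN1 hab hmin
  have hrF : Fact r.Prime := ⟨hr⟩
  have hNr : IsPGroup r N := by
    intro x
    refine ⟨1, ?_⟩
    apply Subtype.ext
    rw [pow_one]
    simpa using hexp x x.2
  have hrp : r ≠ p := by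
    rintro rfl
    exact hOp N hNn hN1 hNr
  have hLn := hquot N hN1
  set L : Subgroup G := (P : Subgroup G) ⊔ N with hL
  have hNP : Disjoint N (P : Subgroup G) := IsPGroup.disjoint_of_ne r p hrp N P hNr P.2
  -- Frattini
  set M : Subgroup G := Subgroup.normalizer ((P : Subgroup G) : Set G) with hM
  have hPM : (P : Subgroup G) ≤ M := Subgroup.le_normalizer
  have hsup : M ⊔ N = ⊤ := by
    have h1 : (P : Subgroup G) ≤ L := le_sup_left
    have h2 := Sylow.normalizer_sup_eq_top' P h1
    have h3 : M ⊔ L = M ⊔ N := by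
      rw [hL, ← sup_assoc, sup_eq_left.mpr hPM]
    rw [← h3]
    exact h2
  -- `N ⊓ M` is normal
  have hDn : (N ⊓ M).Normal := by
    constructor
    intro d hd g
    have hg : g ∈ ((M ⊔ N : Subgroup G) : Set G) := by rw [hsup]; trivial
    rw [Subgroup.mul_normal] at hg
    obtain ⟨m, hm, n', hn', rfl⟩ := Set.mem_mul.mp hg
    have h1 : n' * d * n'⁻¹ = d := by
      rw [hab n' hn' d hd.1]; group
    have h2 : m * n' * d * (m * n')⁻¹ = m * (n' * d * n'⁻¹) * m⁻¹ := by group
    rw [h2, h1]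
    exact ⟨hNn.conj_mem d hd.1 m, M.mul_mem (M.mul_mem hm hd.2) (M.inv_mem hm)⟩
  rcases hmin (N ⊓ M) hDn inf_le_left with hD | hD
  swap
  · have hNM : N ≤ M := by rw [← hD]; exact inf_le_right
    have hMtop : M = ⊤ := by rw [← hsup]; exact (sup_eq_left.mpr hNM).symm
    exact Subgroup.normalizer_eq_top_iff.mp hMtop
  exfalso
  -- if `N` centralizes `P` we are done
  have hnotcent : ¬ (∀ x ∈ (P : Subgroup G), ∀ n ∈ N, x * n = n * x) := by
    intro hc
    have hNM : N ≤ M := by
      intro n hn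
      apply Subgroup.centralizer_le_normalizer
      rw [Subgroup.mem_centralizer_iff]
      intro x hx
      exact hc x hx n hn
    have : N ≤ N ⊓ M := le_inf le_rfl hNM
    rw [hD] at this
    exact hN1 (le_bot_iff.mp this)
  -- `⁅N, L⁆ = N`
  have hNLn : (⁅N, L⁆).Normal := Subgroup.commutator_normal N L
  have hNL : ⁅N, L⁆ = N := by
    rcases hmin ⁅N, L⁆ hNLn (Subgroup.commutator_le_left N L) with h | h
    · exfalso
      apply hnotcent
      intro x hx n hn
      have h1 : ⁅n, x⁆ ∈ ⁅N, L⁆ :=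
        Subgroup.commutator_mem_commutator hn (le_sup_left (a := (P : Subgroup G)) hx)
      rw [h, Subgroup.mem_bot] at h1
      exact (commutatorElement_eq_one_iff_mul_comm.mp h1).symm
    · exact h
  -- kernels
  have hker : ∀ χ : IrrCharacter G, ¬ p ∣ charDegree (χ : G → ℂ) →
      ∀ n ∈ N, (χ : G → ℂ) n = (χ : G → ℂ) 1 := by
    intro χ hχ
    apply apply_eq_of_not_dvd_degree p L N hab ?_ ?_ χ hχ
    · have h1 : N.relIndex L = N.relIndex (P : Subgroup G) := Subgroup.relIndex_sup_right _ _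
      have h2 : N.relIndex (P : Subgroup G) ∣ Nat.card (P : Subgroup G) :=
        Subgroup.index_dvd_card _
      obtain ⟨k, hk⟩ := IsPGroup.iff_card.mp P.2
      rw [hk] at h2
      obtain ⟨a, -, ha⟩ := (Nat.dvd_prime_pow hp.out).mp h2
      exact ⟨a, by rw [h1, ha]⟩
    · have h1 : N ≤ L := le_sup_right
      calc N = ⁅N, L⁆ := hNL.symm
        _ ≤ ⁅L, L⁆ := Subgroup.commutator_mono h1 le_rfl
  -- a nontrivial real element of `N`
  have hv : ∃ v ∈ N, v ≠ 1 ∧ IsConj v v⁻¹ := by
    by_cases hr2 : r = 2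
    · obtain ⟨v, hvN, hv1⟩ := N.bot_or_exists_ne_one.resolve_left hN1
      refine ⟨v, hvN, hv1, ?_⟩
      have h1 : v⁻¹ = v := by
        have := hexp v hvN
        rw [hr2, pow_two] at this
        exact inv_eq_of_mul_eq_one_left this
      rw [h1]
    · have hex : ∃ t : G, (∃ k : ℕ, orderOf t = 2 ^ k) ∧
          t ∉ Subgroup.centralizer (N : Set G) := by
        by_contra hall
        push Not at hall
        exact hnotcent (sylow_centralizes_of_two_elements p r hr hrp hr2 P N hexp hLn hidx hOp hall)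
      obtain ⟨t, ⟨k, hk⟩, htC⟩ := hex
      exact exists_real_of_two_element_not_centralizing N t k hk htC
  obtain ⟨v, hvN, hv1, hvreal⟩ := hv
  -- real classes lift through the complement `M`
  have hrep : ∀ q : G ⧸ N, ∃ m ∈ M, (m : G ⧸ N) = q := by
    intro q
    obtain ⟨g, rfl⟩ := QuotientGroup.mk_surjective q
    have hg : g ∈ ((M ⊔ N : Subgroup G) : Set G) := by rw [hsup]; trivial
    rw [Subgroup.mul_normal] at hg
    obtain ⟨m, hm, n', hn', rfl⟩ := Set.mem_mul.mp hg
    refine ⟨m, hm, ?_⟩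
    rw [QuotientGroup.mk_mul, (QuotientGroup.eq_one_iff n').mpr hn', mul_one]
  have hlift : ∀ q : G ⧸ N, IsConj q q⁻¹ → ∃ g : G, (g : G ⧸ N) = q ∧ IsConj g g⁻¹ := by
    intro q hq
    obtain ⟨m, hm, rfl⟩ := hrep q
    obtain ⟨c, hc⟩ := isConj_iff.mp hq
    obtain ⟨m', hm', rfl⟩ := hrep c
    refine ⟨m, rfl, ?_⟩
    rw [isConj_iff]
    refine ⟨m', ?_⟩
    have h1 : ((m' * m * m'⁻¹ * m : G) : G ⧸ N) = 1 := by
      rw [QuotientGroup.mk_mul, QuotientGroup.mk_mul, QuotientGroup.mk_mul, QuotientGroup.mk_inv,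
        hc]
      group
    have h2 : m' * m * m'⁻¹ * m ∈ N ⊓ M :=
      ⟨(QuotientGroup.eq_one_iff _).mp h1,
        M.mul_mem (M.mul_mem (M.mul_mem hm' hm) (M.inv_mem hm')) hm⟩
    rw [hD, Subgroup.mem_bot] at h2
    exact mul_eq_one_iff_eq_inv.mp h2
  obtain ⟨χ, hχreal, a, haN, hχa⟩ := exists_real_irr_not_ker N hlift v hvN hv1 hvreal
  exact hχa (hker χ (hreal χ hχreal) a haN)

end Cfsg.Agent.Lib.Helper81
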