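import Mathlib
import Cfsg.Agent.Lib.Helper81.RealPrimeAC

/-!
# Real characters of p'-degree: normal Sylow subgroups of `O^{2'}(G)` and of the preimage of
`O_p(G / O^{2'}(G))` (helper81)
-/

set_option autoImplicit false
set_option linter.unusedSectionVars false

namespace Cfsg.Agent.Lib.Helper81

open Cfsg
open scoped commutatorElement

universe u

section Sub

variable {G : Type u} [Group G]

theorem map_subtype_ppGen_le (U : Subgroup G) (q : ℕ) :
    (ppGen U q).map U.subtype ≤ ppGen G q := by
  unfold ppGen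
  rw [MonoidHom.map_closure, Subgroup.closure_le]
  rintro _ ⟨x, ⟨k, hk⟩, rfl⟩
  apply Subgroup.subset_closure
  refine ⟨k, ?_⟩
  rw [← hk]
  exact (orderOf_injective U.subtype U.subtype_injective x)

theorem ppGen_subgroup_eq (U : Subgroup G) (q : ℕ) (h : ppGen G q ≤ U) :
    ppGen U q = (ppGen G q).subgroupOf U := by
  have h1 : (ppGen U q).map U.subtype = ppGen G q := by
    apply le_antisymm (map_subtype_ppGen_le U q)
    unfold ppGen
    rw [Subgroup.closure_le]
    rintro g ⟨k, hk⟩
    have hgU : g ∈ U := h (Subgroup.subset_closure ⟨k, hk⟩)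
    refine ⟨⟨g, hgU⟩, ?_, rfl⟩
    apply Subgroup.subset_closure
    refine ⟨k, ?_⟩
    rw [← hk]
    exact (orderOf_injective U.subtype U.subtype_injective ⟨g, hgU⟩).symm
  rw [Subgroup.subgroupOf, ← h1, Subgroup.comap_map_eq_self_of_injective U.subtype_injective]

/-- The normal Sylow theorem for normal subgroups `U ⊇ O^{2'}(G)` with `|U : O^{2'}(G)|` a power
of `p`. -/
theorem normal_sylow_subgroup_of_real_pprime [Finite G] (p : ℕ) [hp : Fact p.Prime]
    (hsolv : Group.IsSolvable (ppGen G p))
    (hreal : ∀ χ : IrrCharacter G, (∀ g : G, ((χ : G → ℂ) g).im = 0) →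
      ¬ p ∣ charDegree (χ : G → ℂ))
    (U : Subgroup G) [hU : U.Normal] (hKU : ppGen G 2 ≤ U)
    (hUp : ∃ a : ℕ, (ppGen G 2).relIndex U = p ^ a) (Q : Sylow p U) :
    (Q : Subgroup U).Normal := by
  classical
  have := Fintype.ofFinite G
  have : Fintype U := Fintype.ofFinite U
  refine normal_sylow_of_real_pprime p (Nat.card U) U rfl ?_ ?_ ?_ Q
  · obtain ⟨a, ha⟩ := hUp
    refine ⟨a, ?_⟩
    rw [ppGen_subgroup_eq U 2 hKU]
    exact ha
  · have hmem : ∀ x : ppGen U p, ((x : U) : G) ∈ ppGen G p := fun x =>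
      map_subtype_ppGen_le U p ⟨x.1, x.2, rfl⟩
    let f : ppGen U p →* ppGen G p :=
      (U.subtype.comp (ppGen U p).subtype).codRestrict (ppGen G p) hmem
    have hf : Function.Injective f := by
      intro x y hxy
      have h1 := congrArg Subtype.val hxy
      exact Subtype.ext (Subtype.ext h1)
    exact Group.isSolvable_of_isSolvable_injective hf
  · intro θ hθ
    have hodd : Odd U.index := by
      have h1 : U.index ∣ (ppGen G 2).index := Subgroup.index_dvd_of_le hKU
      exact Odd.of_dvd_nat (odd_index_ppGen_two G) h1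
    obtain ⟨χ, hχreal, hover⟩ := exists_real_over_of_odd_index U hodd θ hθ
    have h1 : charDegree (θ : U → ℂ) ∣ charDegree (χ : G → ℂ) :=
      Cfsg.Agent.Lib.Helper80.charDegree_dvd_of_over U χ.2 θ.2 hover
    intro h2
    exact hreal χ hχreal (dvd_trans h2 h1)

end Sub

end Cfsg.Agent.Lib.Helper81
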