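import Mathlib
import Cfsg.Agent.Lib.Helper81.RNMain
import Cfsg.Agent.Lib.Helper81.RealPrimeSub

/-!
# Real classes and the Sylow normalizer (helper81)

`O^{p'}(G)` solvable and every real irreducible character of `G` of degree prime to `p`: every
real element of `G` is conjugate to an element of `N_G(P)`, `P` a Sylow `p`-subgroup.
-/

set_option autoImplicit false
set_option linter.unusedSectionVars false
set_option linter.style.haveILetI false

namespace Cfsg.Agent.Lib.Helper81.RealNorm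

open Cfsg Cfsg.Agent.Lib.Helper81

universe u

/-- the hypothesis on real characters passes to quotients -/
theorem real_hyp_quotient {G : Type u} [Group G] [Finite G] (p : ℕ) (Q : Subgroup G) [Q.Normal]
    (hreal : ∀ χ : IrrCharacter G, (∀ g : G, ((χ : G → ℂ) g).im = 0) →
      ¬ p ∣ charDegree (χ : G → ℂ)) :
    ∀ χ : IrrCharacter (G ⧸ Q), (∀ q : G ⧸ Q, ((χ : G ⧸ Q → ℂ) q).im = 0) →
      ¬ p ∣ charDegree (χ : G ⧸ Q → ℂ) := by
  intro χ hχ
  have h1 := hreal (Cfsg.Agent.Lib.Helper77.inflate Q χ) (fun g => by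
    rw [Cfsg.Agent.Lib.Helper77.inflate_apply]; exact hχ _)
  rwa [Cfsg.Agent.Lib.Helper80.charDegree_inflate] at h1

/-- the order of the image of `K` modulo a subgroup `Q ≤ K` -/
theorem card_map_mk_eq_relIndex {G : Type u} [Group G] [Finite G] (Q K : Subgroup G) [Q.Normal]
    (hQK : Q ≤ K) : Nat.card (K.map (QuotientGroup.mk' Q)) = Q.relIndex K := by
  have h1 := Subgroup.card_mul_index (K.map (QuotientGroup.mk' Q))
  have h2 : (K.map (QuotientGroup.mk' Q)).index = K.index :=
    Subgroup.index_map_eq K (QuotientGroup.mk'_surjective Q) (by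
      rw [QuotientGroup.ker_mk']; exact hQK)
  have h3 : Nat.card (G ⧸ Q) = Q.index := (Subgroup.index_eq_card Q).symm
  have h4 := Subgroup.relIndex_mul_index hQK
  rw [h2, h3, ← h4] at h1
  have hpos : 0 < K.index := Nat.pos_of_ne_zero Subgroup.index_ne_zero_of_finite
  exact Nat.eq_of_mul_eq_mul_right hpos h1

/-- **Main theorem.** -/
theorem exists_conj_mem_normalizer {G : Type u} [Group G] [Finite G] (p : ℕ) [Fact p.Prime]
    (hsolv : Group.IsSolvable (ppGen G p))
    (hreal : ∀ χ : IrrCharacter G, (∀ g : G, ((χ : G → ℂ) g).im = 0) →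
      ¬ p ∣ charDegree (χ : G → ℂ))
    (P : Sylow p G) (x : G) (hx : IsConj x x⁻¹) :
    ∃ y ∈ Subgroup.normalizer ((P : Subgroup G) : Set G), IsConj x y := by
  classical
  have h2 : Fact (Nat.Prime 2) := ⟨Nat.prime_two⟩
  obtain ⟨Q₀⟩ : Nonempty (Sylow p (ppGen G 2)) := inferInstance
  have hQ₀n : (Q₀ : Subgroup (ppGen G 2)).Normal :=
    normal_sylow_subgroup_of_real_pprime p hsolv hreal (ppGen G 2) le_rfl
      ⟨0, by rw [Subgroup.relIndex_self, pow_zero]⟩ Q₀
  have hchar : (Q₀ : Subgroup (ppGen G 2)).Characteristic :=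
    Sylow.characteristic_of_normal Q₀ hQ₀n
  set Q : Subgroup G := (Q₀ : Subgroup (ppGen G 2)).map (ppGen G 2).subtype with hQ
  have hQn : Q.Normal := ConjAct.normal_of_characteristic_of_normal
  have hQp : IsPGroup p Q := Q₀.isPGroup'.map (ppGen G 2).subtype
  have hQP : Q ≤ (P : Subgroup G) := le_sylow_of_normal_pgroup Q hQp P
  have hQK : Q ≤ ppGen G 2 := Subgroup.map_subtype_le _
  have hsurj : Function.Surjective (QuotientGroup.mk' Q) := QuotientGroup.mk'_surjective Q
  have hker : (QuotientGroup.mk' Q).ker = Q := QuotientGroup.ker_mk' Q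
  have hreal' := real_hyp_quotient p Q hreal
  have hKbar : ppGen (G ⧸ Q) 2 = (ppGen G 2).map (QuotientGroup.mk' Q) :=
    (map_ppGen_eq (QuotientGroup.mk' Q) hsurj 2).symm
  have hodd : Odd (ppGen (G ⧸ Q) 2).index := odd_index_ppGen_two (G ⧸ Q)
  have hcard : ¬ p ∣ Nat.card (ppGen (G ⧸ Q) 2) := by
    rw [hKbar, card_map_mk_eq_relIndex Q (ppGen G 2) hQK, Subgroup.relIndex, hQ,
      Subgroup.subgroupOf, Subgroup.comap_map_eq_self_of_injective (ppGen G 2).subtype_injective]
    exact Q₀.not_dvd_index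
  have hxbar : IsConj (QuotientGroup.mk' Q x) (QuotientGroup.mk' Q x)⁻¹ := by
    rw [← map_inv]
    exact (QuotientGroup.mk' Q).map_isConj hx
  obtain ⟨ybar, hy1, hy2⟩ := exists_conj_mem_normalizer_of_coprime (ppGen (G ⧸ Q) 2) p hodd hcard
    hreal' (P.mapSurjective hsurj) (QuotientGroup.mk' Q x) hxbar
  obtain ⟨cbar, hc⟩ := isConj_iff.mp hy2
  obtain ⟨c, rfl⟩ := hsurj cbar
  refine ⟨c * x * c⁻¹, ?_, isConj_iff.mpr ⟨c, rfl⟩⟩
  rw [Sylow.coe_mapSurjective] at hy1
  have h3 : c * x * c⁻¹ ∈ (Subgroup.normalizer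
      (((P : Subgroup G).map (QuotientGroup.mk' Q) : Subgroup (G ⧸ Q)) : Set (G ⧸ Q))).comap
        (QuotientGroup.mk' Q) := by
    rw [Subgroup.mem_comap, map_mul, map_mul, map_inv, hc]
    exact hy1
  rw [Subgroup.comap_normalizer_eq_of_surjective _ hsurj, Subgroup.comap_map_eq, hker,
    sup_eq_left.mpr hQP] at h3
  exact h3

end Cfsg.Agent.Lib.Helper81.RealNorm
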