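import Mathlib

/-!
# Group-theoretic preliminaries for the real correspondence (helper81)

`K ⊴ G` with a normal Sylow `p`-subgroup `Q ⊴ G`, `P` a Sylow `p`-subgroup of `G`,
`N = N_G(P)`:  `P ∩ K ≤ Q` and `K ∩ N = {k ∈ K | [x, k] ∈ Q for all x ∈ P}`.
-/

set_option autoImplicit false

namespace Cfsg.Agent.Lib.Helper81.RealExt

universe u

section Grp

variable {G : Type u} [Group G] [Finite G] (p : ℕ) [hp : Fact p.Prime] (K Q : Subgroup G)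
  [hQn : Q.Normal]

/-- a `p`-subgroup of `K` lies in the normal `p`-subgroup `Q` of `p'`-index in `K` -/
theorem le_of_isPGroup_of_le (hQK : Q ≤ K) (hQp : IsPGroup p Q) (hQsyl : ¬ p ∣ Q.relIndex K)
    (R : Subgroup G) (hR : IsPGroup p R) (hRK : R ≤ K) : R ≤ Q := by
  have h1 : IsPGroup p (R ⊔ Q : Subgroup G) := IsPGroup.to_sup_of_normal_right hR hQp
  have hle : Q ≤ R ⊔ Q := le_sup_right
  have hle2 : R ⊔ Q ≤ K := sup_le hRK hQK
  have h2 := Subgroup.relIndex_mul_relIndex Q (R ⊔ Q) K hle hle2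
  have h3 : ¬ p ∣ Q.relIndex (R ⊔ Q) := fun h => hQsyl (h2 ▸ dvd_mul_of_dvd_left h _)
  obtain ⟨k, hk⟩ := h1.exists_card_eq
  have h4 : Q.relIndex (R ⊔ Q) ∣ p ^ k := by
    rw [← hk]
    exact Subgroup.relIndex_dvd_card Q (R ⊔ Q)
  obtain ⟨j, -, hj⟩ := (Nat.dvd_prime_pow hp.out).mp h4
  have hj0 : j = 0 := by
    by_contra hne
    apply h3
    rw [hj]
    exact dvd_pow_self p hne
  rw [hj0, pow_zero, Subgroup.relIndex_eq_one] at hj
  exact le_trans le_sup_left hj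

/-- the description of `K ∩ N_G(P)` by commutators -/
theorem mem_inf_normalizer_iff [hKn : K.Normal] (P : Sylow p G) (hQK : Q ≤ K)
    (hQp : IsPGroup p Q) (hQsyl : ¬ p ∣ Q.relIndex K) (hQP : Q ≤ (P : Subgroup G)) (k : G) :
    k ∈ K ⊓ Subgroup.normalizer ((P : Subgroup G) : Set G) ↔
      (k ∈ K ∧ ∀ x ∈ (P : Subgroup G), x * k * x⁻¹ * k⁻¹ ∈ Q) := by
  have hPKQ : (P : Subgroup G) ⊓ K ≤ Q :=
    le_of_isPGroup_of_le p K Q hQK hQp hQsyl _ (P.isPGroup'.to_le inf_le_left) inf_le_right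
  constructor
  · rintro ⟨hkK, hkN⟩
    refine ⟨hkK, fun x hx => hPKQ ⟨?_, ?_⟩⟩
    · have h1 : k * x⁻¹ * k⁻¹ ∈ (P : Subgroup G) :=
        (Subgroup.mem_normalizer_iff.mp hkN x⁻¹).mp (Subgroup.inv_mem _ hx)
      have h2 : x * k * x⁻¹ * k⁻¹ = x * (k * x⁻¹ * k⁻¹) := by group
      rw [h2]
      exact Subgroup.mul_mem _ hx h1
    · have h1 : x * k * x⁻¹ ∈ K := hKn.conj_mem k hkK x
      exact K.mul_mem h1 (K.inv_mem hkK)
  · rintro ⟨hkK, hcomm⟩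
    refine ⟨hkK, ?_⟩
    have hfwd : ∀ x ∈ (P : Subgroup G), k * x * k⁻¹ ∈ (P : Subgroup G) := by
      intro x hx
      have h1 := hQP (hcomm x⁻¹ (Subgroup.inv_mem _ hx))
      have h2 : k * x * k⁻¹ = x * (x⁻¹ * k * x⁻¹⁻¹ * k⁻¹) := by group
      rw [h2]
      exact Subgroup.mul_mem _ hx h1
    have hbwd : ∀ x ∈ (P : Subgroup G), k⁻¹ * x * k ∈ (P : Subgroup G) := by
      intro x hx
      have h1 : x⁻¹ * k * x⁻¹⁻¹ * k⁻¹ ∈ Q := hcomm x⁻¹ (Subgroup.inv_mem _ hx)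
      have h2 : k⁻¹ * (x⁻¹ * k * x⁻¹⁻¹ * k⁻¹)⁻¹ * k⁻¹⁻¹ ∈ Q := hQn.conj_mem _ (Q.inv_mem h1) k⁻¹
      have h3 : k⁻¹ * x * k = x * (k⁻¹ * (x⁻¹ * k * x⁻¹⁻¹ * k⁻¹)⁻¹ * k⁻¹⁻¹) := by group
      rw [h3]
      exact Subgroup.mul_mem _ hx (hQP h2)
    show k ∈ Subgroup.normalizer ((P : Subgroup G) : Set G)
    rw [Subgroup.mem_normalizer_iff]
    intro h
    constructor
    · exact hfwd h
    · intro hh
      have := hbwd _ hh
      have h2 : k⁻¹ * (k * h * k⁻¹) * k = h := by group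
      rwa [h2] at this

end Grp

end Cfsg.Agent.Lib.Helper81.RealExt
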