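import Mathlib
import Cfsg.Prelude.Def_Characters
import Cfsg.Agent.Lib.Helper81.RelAct
import Cfsg.Agent.Lib.Helper81.RamifiedSection
import Cfsg.Agent.Lib.Helper75.Clifford

/-!
# Conjugacy of invariant characters under the relative fixed points (helper81)

`P` (a `p`-group) acts on `K`, `Q ⊴ K` stable with `p ∤ |K : Q|`.

* `conjFun_act`: the conjugate of an invariant function by `act x k`.
* `actStable_inertiaSubgroup`: the inertia group of an invariant function is stable.
* `exists_relFix_conj`: two invariant irreducible characters of `Q` which are conjugate in `K`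
  are conjugate under `relFix act Q` (Glauberman's lemma).
-/

set_option autoImplicit false
set_option linter.unusedSectionVars false

namespace Cfsg.Agent.Lib.Helper81

open Cfsg MulAction
open Cfsg.Agent.Lib.Helper75

universe u v

section RelFixedConj

variable {K : Type u} [Group K] {P : Type v} [Group P] (act : P →* MulAut K)
  (Q : Subgroup K) [hQn : Q.Normal] (hQs : ActStable act Q)

theorem conjFun_act {θ : Q → ℂ}
    (hθP : ∀ (x : P) (q : Q), θ (actSub act Q hQs x q) = θ q) (x : P) (k : K) (n : Q) :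
    Helper75.conjFun Q (act x k) θ n = Helper75.conjFun Q k θ (actSub act Q hQs x⁻¹ n) := by
  rw [conjFun_apply, conjFun_apply]
  rw [← hθP x ⟨k * ((actSub act Q hQs x⁻¹ n : Q) : K) * k⁻¹, _⟩]
  congr 1
  apply Subtype.ext
  show act x k * (n : K) * (act x k)⁻¹ = act x (k * (act x⁻¹ (n : K)) * k⁻¹)
  rw [map_mul, map_mul, map_inv, map_inv]
  simp

theorem actStable_inertiaSubgroup {θ : Q → ℂ}
    (hθP : ∀ (x : P) (q : Q), θ (actSub act Q hQs x q) = θ q) :
    ActStable act (inertiaSubgroup Q θ) := by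
  intro x k hk
  rw [mem_inertiaSubgroup] at hk ⊢
  funext n
  rw [conjFun_act act Q hQs hθP, hk, hθP]

variable [Finite K]

theorem exists_relFix_conj (p : ℕ) [Fact p.Prime] (hP : IsPGroup p P) (hQi : ¬ p ∣ Q.index)
    {θ θ' : Q → ℂ}
    (hθP : ∀ (x : P) (q : Q), θ (actSub act Q hQs x q) = θ q)
    (hθ'P : ∀ (x : P) (q : Q), θ' (actSub act Q hQs x q) = θ' q)
    (hconj : ∃ k : K, Helper75.conjFun Q k θ = θ') :
    ∃ c : K, c ∈ relFix act Q hQs ∧ Helper75.conjFun Q c θ = θ' := by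
  classical
  obtain ⟨k₀, hk₀⟩ := hconj
  have := Fintype.ofFinite (K ⧸ Q)
  let _ : MulAction P (K ⧸ Q) := autActElt (quotAct act Q hQs)
  have hsmul : ∀ (x : P) (q : K ⧸ Q), x • q = quotAct act Q hQs x q := fun _ _ => rfl
  -- the set `S` and its image
  let S : Set K := {k | Helper75.conjFun Q k θ = θ'}
  have hSact : ∀ (x : P) (k : K), k ∈ S → act x k ∈ S := by
    intro x k hk
    show Helper75.conjFun Q (act x k) θ = θ'
    funext n
    have hk' : Helper75.conjFun Q k θ = θ' := hk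
    rw [conjFun_act act Q hQs hθP, hk', hθ'P]
  let Sb : Set (K ⧸ Q) := {q | ∃ k ∈ S, (k : K ⧸ Q) = q}
  have hSb : ∀ (x : P) (q : K ⧸ Q), q ∈ Sb → x • q ∈ Sb := by
    rintro x q ⟨k, hk, rfl⟩
    refine ⟨act x k, hSact x k hk, ?_⟩
    rw [hsmul, quotAct_mk]
  let F : K ⧸ Q → ℕ := fun q => if q ∈ Sb then 1 else 0
  have hF : ∀ (x : P) (q : K ⧸ Q), F (x • q) = F q := by
    intro x q
    have hiff : x • q ∈ Sb ↔ q ∈ Sb := by
      constructor
      · intro h
        have := hSb x⁻¹ _ h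
        rwa [inv_smul_smul] at this
      · exact hSb x q
    show (if x • q ∈ Sb then 1 else 0) = if q ∈ Sb then 1 else 0
    rw [if_congr hiff rfl rfl]
  have hsum := sum_nat_modEq_sum_fixedPoints p hP F hF
  -- the cardinality of `Sb`
  let T : Subgroup K := inertiaSubgroup Q θ
  let Tb : Subgroup (K ⧸ Q) := T.map (QuotientGroup.mk' Q)
  have hSbT : ∀ q : K ⧸ Q, q ∈ Sb ↔ q * ((k₀ : K ⧸ Q))⁻¹ ∈ Tb := by
    intro q
    constructor
    · rintro ⟨k, hk, rfl⟩
      refine ⟨k * k₀⁻¹, ?_, ?_⟩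
      · show Helper75.conjFun Q (k * k₀⁻¹) θ = θ
        have hk' : Helper75.conjFun Q k θ = θ' := hk
        rw [conjFun_mul, hk', ← hk₀, conjFun_inv_conjFun]
      · simp
    · rintro ⟨t, ht, hteq⟩
      refine ⟨t * k₀, ?_, ?_⟩
      · show Helper75.conjFun Q (t * k₀) θ = θ'
        have ht' : Helper75.conjFun Q t θ = θ := ht
        rw [conjFun_mul, ht', hk₀]
      · rw [QuotientGroup.mk_mul]
        have : ((t : K) : K ⧸ Q) = q * ((k₀ : K ⧸ Q))⁻¹ := hteq
        rw [this]
        simp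
  have hcard : ∑ q, F q = Nat.card Tb := by
    have h1 : ∑ q, F q = Nat.card {q : K ⧸ Q // q ∈ Sb} := by
      rw [Nat.card_eq_fintype_card, Fintype.card_subtype, Finset.card_filter]
    rw [h1]
    apply Nat.card_congr
    exact (Equiv.mulRight ((k₀ : K ⧸ Q))⁻¹).subtypeEquiv (fun q => hSbT q)
  have hnd : ¬ p ∣ ∑ q, F q := by
    intro h
    apply hQi
    rw [hcard] at h
    have h2 : Nat.card Tb ∣ Nat.card (K ⧸ Q) := Subgroup.card_subgroup_dvd_card Tb
    rw [← Subgroup.index_eq_card] at h2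
    exact h.trans h2
  have hnd2 : ¬ p ∣ ∑ q ∈ Finset.univ.filter (· ∈ fixedPoints P (K ⧸ Q)), F q := by
    intro h
    exact hnd ((Nat.modEq_zero_iff_dvd.mp (hsum.trans (Nat.modEq_zero_iff_dvd.mpr h))))
  have hne : ∑ q ∈ Finset.univ.filter (· ∈ fixedPoints P (K ⧸ Q)), F q ≠ 0 := by
    intro h
    rw [h] at hnd2
    exact hnd2 (dvd_zero p)
  obtain ⟨q, hqmem, hqF⟩ := Finset.exists_ne_zero_of_sum_ne_zero hne
  rw [Finset.mem_filter] at hqmem
  have hqS : q ∈ Sb := by
    by_contra h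
    apply hqF
    show (if q ∈ Sb then 1 else 0) = 0
    rw [if_neg h]
  obtain ⟨c, hc, rfl⟩ := hqS
  refine ⟨c, ?_, hc⟩
  show (QuotientGroup.mk' Q c) ∈ fixSub (quotAct act Q hQs)
  rw [mem_fixSub]
  intro x
  have := (MulAction.mem_fixedPoints.mp hqmem.2) x
  rw [hsmul] at this
  exact this

end RelFixedConj

end Cfsg.Agent.Lib.Helper81
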