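import Mathlib
import Cfsg.Prelude.Def_Characters
import Cfsg.Agent.Lib.Helper81.RelAct
import Cfsg.Agent.Lib.Helper81.CoprimeChar
import Cfsg.Agent.Lib.Helper81.IrrTransport
import Cfsg.Agent.Lib.Helper75.Clifford3

/-!
# Invariant constituents on a normal subgroup of `p'`-index (helper81)

`exists_inv_constituent`: if the `p`-group `P` acts on `K`, `Q ⊴ K` is stable of index prime
to `p`, and `χ ∈ Irr(K)` is `P`-invariant, then `χ_Q` has a `P`-invariant irreducible constituent.
-/

set_option autoImplicit false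
set_option linter.unusedSectionVars false

namespace Cfsg.Agent.Lib.Helper81

open Cfsg MulAction
open scoped ComplexConjugate

universe u v

theorem classInner_smul_autActIrr {Q : Type u} [Group Q] [Fintype Q] {P : Type v} [Group P]
    (aQ : P →* MulAut Q) (f : Q → ℂ) (hf : ∀ (x : P) (q : Q), f (aQ x q) = f q) (x : P)
    (φ : IrrCharacter Q) :
    (letI := autActIrr aQ; classInner f ((x • φ : IrrCharacter Q) : Q → ℂ)) =
      classInner f (φ : Q → ℂ) := by
  let _ := autActIrr aQ
  have h1 := classInner_comp_equiv_gen (aQ x).toEquiv f ((x • φ : IrrCharacter Q) : Q → ℂ)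
  rw [← h1]
  congr 1
  · funext q
    exact hf x q
  · funext q
    show (φ : Q → ℂ) (aQ x⁻¹ (aQ x q)) = (φ : Q → ℂ) q
    rw [map_inv]
    simp

theorem exists_inv_constituent {K : Type u} [Group K] [Fintype K] {P : Type v} [Group P]
    (act : P →* MulAut K) (p : ℕ) [Fact p.Prime] (hP : IsPGroup p P) (Q : Subgroup K)
    [hQn : Q.Normal] [Fintype Q] (hQs : ActStable act Q) (hQi : ¬ p ∣ Q.index) {χ : K → ℂ}
    (hχ : IsIrrCharacter K χ) (hχP : ∀ (x : P) (k : K), χ (act x k) = χ k) :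
    ∃ θ : IrrCharacter Q, classInner (fun q : Q => χ q) (θ : Q → ℂ) ≠ 0 ∧
      ∀ (x : P) (q : Q), (θ : Q → ℂ) (actSub act Q hQs x q) = (θ : Q → ℂ) q := by
  classical
  let _ : MulAction P (IrrCharacter Q) := autActIrr (actSub act Q hQs)
  let F : IrrCharacter Q → ℕ := fun φ =>
    if classInner (fun q : Q => χ q) (φ : Q → ℂ) ≠ 0 then 1 else 0
  have hF : ∀ (x : P) (φ : IrrCharacter Q), F (x • φ) = F φ := by
    intro x φ
    show (if classInner (fun q : Q => χ q) ((x • φ : IrrCharacter Q) : Q → ℂ) ≠ 0 then 1 else 0) =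
      if classInner (fun q : Q => χ q) (φ : Q → ℂ) ≠ 0 then 1 else 0
    rw [classInner_smul_autActIrr (actSub act Q hQs) (fun q : Q => χ q)
      (fun x q => hχP x (q : K)) x φ]
  have hsum := sum_nat_modEq_sum_fixedPoints p hP F hF
  have htot : ∑ φ, F φ =
      Nat.card {φ : IrrCharacter Q // classInner (fun q : Q => χ q) (φ : Q → ℂ) ≠ 0} := by
    rw [Nat.card_eq_fintype_card, Fintype.card_subtype, Finset.card_filter]
  have hnd : ¬ p ∣ ∑ φ, F φ := by
    intro h
    apply hQi
    rw [htot] at h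
    exact h.trans (Cfsg.Agent.Lib.Helper75.card_constituents_dvd_index Q hχ)
  have hnd2 : ¬ p ∣ ∑ φ ∈ Finset.univ.filter (· ∈ fixedPoints P (IrrCharacter Q)), F φ := by
    intro h
    exact hnd ((Nat.modEq_zero_iff_dvd.mp (hsum.trans (Nat.modEq_zero_iff_dvd.mpr h))))
  have hne : ∑ φ ∈ Finset.univ.filter (· ∈ fixedPoints P (IrrCharacter Q)), F φ ≠ 0 := by
    intro h
    rw [h] at hnd2
    exact hnd2 (dvd_zero p)
  obtain ⟨θ, hθmem, hθF⟩ := Finset.exists_ne_zero_of_sum_ne_zero hne
  rw [Finset.mem_filter] at hθmem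
  refine ⟨θ, ?_, ?_⟩
  · by_contra h
    apply hθF
    show (if classInner (fun q : Q => χ q) (θ : Q → ℂ) ≠ 0 then 1 else 0) = 0
    rw [if_neg (not_not.mpr h)]
  · exact (mem_fixedPoints_autActIrr_iff (actSub act Q hQs) θ).1 hθmem.2

end Cfsg.Agent.Lib.Helper81
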