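import Mathlib
import Cfsg.Prelude.Def_Characters
import Cfsg.Agent.Lib.Helper81.RelAct
import Cfsg.Agent.Lib.Helper81.RelFixedConj
import Cfsg.Agent.Lib.Helper81.IrrTransport
import Cfsg.Agent.Lib.Helper75.Clifford
import Cfsg.Agent.Lib.Helper75.Clifford2

/-!
# The Clifford correspondence and automorphisms (helper81)

* `indFun_act`: induction from a stable subgroup commutes with the action.
* `clifford_exists_inv`: an invariant `χ ∈ Irr(K | θ)` (with `θ` invariant) is induced from an
  invariant `ψ ∈ Irr(T | θ)`, `T` the inertia group.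
-/

set_option autoImplicit false
set_option linter.unusedSectionVars false

namespace Cfsg.Agent.Lib.Helper81

open Cfsg
open Cfsg.Agent.Lib.Helper75

universe u v

section IndAct

variable {G : Type u} [Group G] [Fintype G] {P : Type v} [Group P] (a : P →* MulAut G)
  (H : Subgroup G) (hH : ActStable a H)

theorem extendByZero_act (ψ : H → ℂ) (x : P) (z : G) :
    extendByZero H ψ (a x z) = extendByZero H (fun h : H => ψ (actSub a H hH x h)) z := by
  by_cases hz : z ∈ H
  · rw [Cfsg.Agent.Lib.Helper75.extendByZero_of_mem H _ hz,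
      Cfsg.Agent.Lib.Helper75.extendByZero_of_mem H _ (hH x z hz)]
    rfl
  · have hz' : a x z ∉ H := by
      intro h
      apply hz
      have := hH x⁻¹ _ h
      rwa [map_inv, MulAut.inv_apply, MulEquiv.symm_apply_apply] at this
    rw [Cfsg.Agent.Lib.Helper75.extendByZero_of_not_mem H _ hz,
      Cfsg.Agent.Lib.Helper75.extendByZero_of_not_mem H _ hz']

theorem indFun_act (ψ : H → ℂ) (x : P) (g : G) :
    indFun H ψ (a x g) = indFun H (fun h : H => ψ (actSub a H hH x h)) g := by
  unfold indFun
  congr 1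
  rw [← Equiv.sum_comp (a x).toEquiv]
  apply Finset.sum_congr rfl
  intro y _
  show extendByZero H ψ ((a x y)⁻¹ * a x g * a x y) = _
  rw [← map_inv, ← map_mul, ← map_mul, extendByZero_act a H hH]

theorem indFun_inv_of_inv (ψ : H → ℂ) (hψ : ∀ (x : P) (h : H), ψ (actSub a H hH x h) = ψ h)
    (x : P) (g : G) : indFun H ψ (a x g) = indFun H ψ g := by
  rw [indFun_act a H hH]
  congr 1
  funext h
  exact hψ x h

end IndAct

section KSide

variable {K : Type u} [Group K] [Fintype K] {P : Type v} [Group P] (act : P →* MulAut K)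
  (Q T : Subgroup K) [hQn : Q.Normal] [Fintype Q] [Fintype T] (hQs : ActStable act Q)
  (hTs : ActStable act T) (hQT : Q ≤ T) {θ : Q → ℂ} (hθ : IsIrrCharacter Q θ)
  (hθP : ∀ (x : P) (q : Q), θ (actSub act Q hQs x q) = θ q)
  (hT : ∀ g : K, g ∈ T ↔ Helper75.conjFun Q g θ = θ)

include hθP in
/-- twisting by the action preserves lying over an invariant character -/
theorem classInner_resNT_act (ψ : T → ℂ) (x : P) :
    classInner (resNT Q T hQT (fun t : T => ψ (actSub act T hTs x t))) θ =
      classInner (resNT Q T hQT ψ) θ := by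
  have h1 := classInner_comp_equiv_gen (actSub act Q hQs x).toEquiv (resNT Q T hQT ψ) θ
  rw [← h1]
  congr 1
  funext q
  exact (hθP x q).symm

include hθ hθP hT in
theorem clifford_exists_inv {χ : K → ℂ} (hχ : IsIrrCharacter K χ)
    (hχP : ∀ (x : P) (k : K), χ (act x k) = χ k)
    (hover : classInner (fun q : Q => χ q) θ ≠ 0) :
    ∃ ψ : IrrCharacter T, classInner (resNT Q T hQT (ψ : T → ℂ)) θ ≠ 0 ∧
      indFun T (ψ : T → ℂ) = χ ∧
      ∀ (x : P) (t : T), (ψ : T → ℂ) (actSub act T hTs x t) = (ψ : T → ℂ) t := by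
  obtain ⟨ψ, hψ, hind, hov⟩ := exists_indFun_eq_of_over Q T hQT hθ hT hχ hover
  have hovψ : classInner (resNT Q T hQT ψ) θ ≠ 0 := by rw [hov]; exact hover
  refine ⟨⟨ψ, hψ⟩, hovψ, hind, ?_⟩
  intro x t
  have hψx : IsIrrCharacter T (fun t : T => ψ (actSub act T hTs x t)) :=
    isIrrCharacter_comp_mulEquiv hψ (actSub act T hTs x)
  have hovx : classInner (resNT Q T hQT (fun t : T => ψ (actSub act T hTs x t))) θ ≠ 0 := by
    rw [classInner_resNT_act act Q T hQs hTs hQT hθP]
    exact hovψ
  have hindx : indFun T (fun t : T => ψ (actSub act T hTs x t)) = indFun T ψ := by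
    funext g
    rw [← indFun_act act T hTs, hind, hχP]
  have := indFun_injective_of_over Q T hQT hθ hT hψx hψ hovx hovψ hindx
  exact congrFun this t

end KSide

end Cfsg.Agent.Lib.Helper81
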