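import Mathlib
import Cfsg.Prelude.Def_Characters
import Cfsg.Agent.Lib.Helper81.RelCliffordK
import Cfsg.Agent.Lib.Helper81.GlaubermanOver

/-!
# The Clifford correspondence in a subgroup `C ≥ Q` (helper81)

`Q ⊴ K`, `θ ∈ Irr(Q)` with inertia group `T` in `K`, `Q ≤ C ≤ K`.  The inertia group of `θ` in
`C` is `T.subgroupOf C`.

* `cside_irr`, `cside_injective`, `cside_exists`: the Clifford correspondence for `C`.
* `classInner_res_indFun_indFun`: `[(ψ^K)_C, η^C] = [ψ_{T ∩ C}, η]` for `ψ ∈ Irr(T | θ)`,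
  `η ∈ Irr(T ∩ C | θ)`.
-/

set_option autoImplicit false
set_option linter.unusedSectionVars false

namespace Cfsg.Agent.Lib.Helper81

open Cfsg
open Cfsg.Agent.Lib.Helper75 Cfsg.Agent.Lib.Helper78

universe u

section CSide

variable {K : Type u} [Group K] [Fintype K] (Q C T : Subgroup K) [hQn : Q.Normal] [Fintype Q]
  [Fintype C] [Fintype T] [Fintype (Q.subgroupOf C)] [Fintype (T.subgroupOf C)]
  (hQC : Q ≤ C) (hQT : Q ≤ T)

/-- the inclusion of `T ∩ C` (inside `C`) into `T` -/
def subgroupOfIncl : T.subgroupOf C →* T where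
  toFun z := ⟨((z : C) : K), Subgroup.mem_subgroupOf.mp z.2⟩
  map_one' := rfl
  map_mul' _ _ := rfl

theorem subgroupOfIncl_coe (z : T.subgroupOf C) :
    ((subgroupOfIncl C T z : T) : K) = ((z : C) : K) := rfl

theorem subgroupOfIncl_injective : Function.Injective (subgroupOfIncl C T) := by
  intro z z' h
  apply Subtype.ext
  apply Subtype.ext
  exact congrArg (fun t : T => (t : K)) h

/-- the embedding of `Q` into `T ∩ C` (inside `C`) -/
def embQ : Q →* T.subgroupOf C where
  toFun q := ⟨⟨(q : K), hQC q.2⟩, Subgroup.mem_subgroupOf.mpr (hQT q.2)⟩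
  map_one' := rfl
  map_mul' _ _ := rfl

include hQT in
theorem subgroupOf_le_subgroupOf : Q.subgroupOf C ≤ T.subgroupOf C := by
  intro m hm
  exact Subgroup.mem_subgroupOf.mpr (hQT (Subgroup.mem_subgroupOf.mp hm))

theorem conjFun_liftNT_eq (θ : Q → ℂ) (c : C) :
    Helper75.conjFun (Q.subgroupOf C) c (liftNT Q C θ) =
      liftNT Q C (Helper75.conjFun Q (c : K) θ) := by
  funext m
  rfl

include hQC in
theorem liftNT_injective {θ θ' : Q → ℂ} (h : liftNT Q C θ = liftNT Q C θ') : θ = θ' := by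
  funext q
  exact congrFun h ⟨⟨(q : K), hQC q.2⟩, Subgroup.mem_subgroupOf.mpr q.2⟩

include hQC in
theorem mem_subgroupOf_iff_conjFun {θ : Q → ℂ}
    (hT : ∀ g : K, g ∈ T ↔ Helper75.conjFun Q g θ = θ) (c : C) :
    c ∈ T.subgroupOf C ↔
      Helper75.conjFun (Q.subgroupOf C) c (liftNT Q C θ) = liftNT Q C θ := by
  rw [Subgroup.mem_subgroupOf, hT, conjFun_liftNT_eq]
  constructor
  · intro h
    rw [h]
  · intro h
    exact liftNT_injective Q C hQC h

theorem classInner_res_liftNT (θ : Q → ℂ) (ξ : C → ℂ) :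
    classInner (fun n : Q.subgroupOf C => ξ n) (liftNT Q C θ) =
      classInner (resNT Q C hQC ξ) θ := by
  rw [res_eq_comp Q C hQC ξ, liftNT_eq_comp Q C hQC θ, classInner_comp_equiv_gen]

theorem classInner_resNT_subgroupOf (θ : Q → ℂ) (η : T.subgroupOf C → ℂ) :
    classInner (resNT (Q.subgroupOf C) (T.subgroupOf C) (subgroupOf_le_subgroupOf Q C T hQT) η)
      (liftNT Q C θ) = classInner (fun q : Q => η (embQ Q C T hQC hQT q)) θ := by
  rw [liftNT_eq_comp Q C hQC θ]
  have h1 : resNT (Q.subgroupOf C) (T.subgroupOf C) (subgroupOf_le_subgroupOf Q C T hQT) η =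
      (fun q : Q => η (embQ Q C T hQC hQT q)) ∘ (Subgroup.subgroupOfEquivOfLe hQC).toEquiv := by
    funext n
    rfl
  rw [h1, classInner_comp_equiv_gen]

variable {θ : Q → ℂ} (hθ : IsIrrCharacter Q θ)
  (hT : ∀ g : K, g ∈ T ↔ Helper75.conjFun Q g θ = θ)

include hθ hT in
theorem cside_irr (η : IrrCharacter (T.subgroupOf C))
    (hov : classInner (fun q : Q => (η : T.subgroupOf C → ℂ) (embQ Q C T hQC hQT q)) θ ≠ 0) :
    IsIrrCharacter C (indFun (T.subgroupOf C) (η : T.subgroupOf C → ℂ)) ∧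
      classInner (resNT Q C hQC (indFun (T.subgroupOf C) (η : T.subgroupOf C → ℂ))) θ ≠ 0 := by
  have hle := subgroupOf_le_subgroupOf Q C T hQT
  have hθC := isIrrCharacter_liftNT Q C hQC hθ
  have hTC := mem_subgroupOf_iff_conjFun Q C T hQC hT
  have hov' : classInner (resNT (Q.subgroupOf C) (T.subgroupOf C) hle
      (η : T.subgroupOf C → ℂ)) (liftNT Q C θ) ≠ 0 := by
    rw [classInner_resNT_subgroupOf Q C T hQC hQT]
    exact hov
  refine ⟨isIrrCharacter_indFun_of_over (Q.subgroupOf C) (T.subgroupOf C) hle hθC hTC η.2 hov', ?_⟩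
  rw [← classInner_res_liftNT Q C hQC,
    classInner_res_indFun_of_over (Q.subgroupOf C) (T.subgroupOf C) hle hθC hTC η.2 hov']
  exact hov'

include hθ hT in
theorem cside_injective (η η' : IrrCharacter (T.subgroupOf C))
    (hov : classInner (fun q : Q => (η : T.subgroupOf C → ℂ) (embQ Q C T hQC hQT q)) θ ≠ 0)
    (hov' : classInner (fun q : Q => (η' : T.subgroupOf C → ℂ) (embQ Q C T hQC hQT q)) θ ≠ 0)
    (h : indFun (T.subgroupOf C) (η : T.subgroupOf C → ℂ) =
      indFun (T.subgroupOf C) (η' : T.subgroupOf C → ℂ)) : η = η' := by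
  have hle := subgroupOf_le_subgroupOf Q C T hQT
  have hθC := isIrrCharacter_liftNT Q C hQC hθ
  have hTC := mem_subgroupOf_iff_conjFun Q C T hQC hT
  apply Subtype.ext
  apply indFun_injective_of_over (Q.subgroupOf C) (T.subgroupOf C) hle hθC hTC η.2 η'.2 _ _ h
  · rw [classInner_resNT_subgroupOf Q C T hQC hQT]
    exact hov
  · rw [classInner_resNT_subgroupOf Q C T hQC hQT]
    exact hov'

include hθ hT in
theorem cside_exists (ξ : IrrCharacter C)
    (hov : classInner (resNT Q C hQC (ξ : C → ℂ)) θ ≠ 0) :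
    ∃ η : IrrCharacter (T.subgroupOf C),
      classInner (fun q : Q => (η : T.subgroupOf C → ℂ) (embQ Q C T hQC hQT q)) θ ≠ 0 ∧
      indFun (T.subgroupOf C) (η : T.subgroupOf C → ℂ) = (ξ : C → ℂ) := by
  have hle := subgroupOf_le_subgroupOf Q C T hQT
  have hθC := isIrrCharacter_liftNT Q C hQC hθ
  have hTC := mem_subgroupOf_iff_conjFun Q C T hQC hT
  have hov' : classInner (fun n : Q.subgroupOf C => (ξ : C → ℂ) n) (liftNT Q C θ) ≠ 0 := by
    rw [classInner_res_liftNT Q C hQC]
    exact hov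
  obtain ⟨η, hη, hind, hres⟩ := exists_indFun_eq_of_over (Q.subgroupOf C) (T.subgroupOf C) hle
    hθC hTC ξ.2 hov'
  refine ⟨⟨η, hη⟩, ?_, hind⟩
  rw [← classInner_resNT_subgroupOf Q C T hQC hQT, hres]
  exact hov'

include hθ hT in
/-- `[(ψ^K)_C, η^C] = [ψ_{T ∩ C}, η]` -/
theorem classInner_res_indFun_indFun (ψ : IrrCharacter T)
    (hovψ : classInner (resNT Q T hQT (ψ : T → ℂ)) θ ≠ 0) (η : IrrCharacter (T.subgroupOf C))
    (hov : classInner (fun q : Q => (η : T.subgroupOf C → ℂ) (embQ Q C T hQC hQT q)) θ ≠ 0) :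
    classInner (fun c : C => indFun T (ψ : T → ℂ) c)
      (indFun (T.subgroupOf C) (η : T.subgroupOf C → ℂ)) =
      classInner (fun z : T.subgroupOf C => (ψ : T → ℂ) (subgroupOfIncl C T z))
        (η : T.subgroupOf C → ℂ) := by
  classical
  set χ : K → ℂ := indFun T (ψ : T → ℂ) with hχdef
  have hχ : IsIrrCharacter K χ := isIrrCharacter_indFun_of_over Q T hQT hθ hT ψ.2 hovψ
  have hχc : IsCharacter K χ := IsIrrCharacter.isCharacter hχ
  have hχcl : IsClassFunction K χ := IsCharacter.isClassFunction hχc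
  have hclC : IsClassFunction C (fun c : C => χ c) := isClassFunction_res C hχcl
  rw [frobenius_reciprocity' (T.subgroupOf C) _ hclC]
  have hχT : IsCharacter T (fun t : T => χ t) := isCharacter_res T hχc
  have h1 := classInner_comp_eq_sum (subgroupOfIncl C T) hχT (η : T.subgroupOf C → ℂ)
  have h2 : (fun h : T.subgroupOf C => (fun c : C => χ c) h) =
      fun d : T.subgroupOf C => (fun t : T => χ t) (subgroupOfIncl C T d) := by
    funext d
    rfl
  rw [h2, h1, Finset.sum_eq_single ψ]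
  · have h3 : classInner (fun t : T => χ t) (ψ : T → ℂ) = 1 := by
      rw [← frobenius_reciprocity' T _ hχcl]
      exact classInner_irr_self hχ
    rw [h3, one_mul]
  · intro φ _ hne
    by_cases h0 : classInner (fun d : T.subgroupOf C => (φ : T → ℂ) (subgroupOfIncl C T d))
        (η : T.subgroupOf C → ℂ) = 0
    · rw [h0, mul_zero]
    · -- `φ` lies over `θ`
      have hφc : IsCharacter (T.subgroupOf C)
          ((φ : T → ℂ) ∘ (subgroupOfIncl C T)) :=
        isCharacter_comp (IsIrrCharacter.isCharacter φ.2) (subgroupOfIncl C T)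
      have hovφ := classInner_comp_ne_zero_of_constituent (embQ Q C T hQC hQT) hφc η.2 h0 hθ hov
      have hovφ' : classInner (resNT Q T hQT (φ : T → ℂ)) θ ≠ 0 := hovφ
      have hφind : IsIrrCharacter K (indFun T (φ : T → ℂ)) :=
        isIrrCharacter_indFun_of_over Q T hQT hθ hT φ.2 hovφ'
      have h4 : classInner (fun t : T => χ t) (φ : T → ℂ) = 0 := by
        rw [← frobenius_reciprocity' T _ hχcl]
        apply classInner_irr_ne hχ hφind
        intro heq
        apply hne
        apply Subtype.ext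
        exact (indFun_injective_of_over Q T hQT hθ hT ψ.2 φ.2 hovψ hovφ' heq).symm
      rw [h4, zero_mul]
  · intro h
    exact absurd (Finset.mem_univ ψ) h

end CSide

end Cfsg.Agent.Lib.Helper81
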