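import Mathlib
import Cfsg.Prelude.Def_Characters
import Cfsg.Agent.Lib.Helper81.RelAct
import Cfsg.Agent.Lib.Helper81.GallagherHom
import Cfsg.Agent.Lib.Helper81.GlaubermanRel
import Cfsg.Agent.Lib.Helper81.GlaubermanBij
import Cfsg.Agent.Lib.Helper81.GlaubermanSign
import Cfsg.Agent.Lib.Helper81.ResIrr

/-!
# The relative Glauberman correspondence over an invariant extendible character (helper81)

`P` (a `p`-group) acts on `Y`, `N ⊴ Y` is stable with `p ∤ |Y : N|`, and `ϑ ∈ Irr(Y)` is a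
`P`-invariant character with `ϑ_N` irreducible.  `Z` is a group with an injective homomorphism
`ι : Z →* Y` whose image is the preimage of the fixed points of `P` on `Y ⧸ N`.
The `P`-invariant irreducible characters of `Y` over `ϑ_N` correspond to the irreducible
characters of `Z` over `ϑ_N` (Gallagher + Glauberman).
-/

set_option autoImplicit false
set_option linter.unusedSectionVars false

namespace Cfsg.Agent.Lib.Helper81

open Cfsg
open scoped ComplexConjugate

universe u v w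

section RelGlaubInv

variable {Y : Type u} [Group Y] [Fintype Y] {P : Type v} [Group P] (a : P →* MulAut Y)
  (N : Subgroup Y) [hN : N.Normal] [Fintype N] (hNs : ActStable a N)
  {Z : Type w} [Group Z] [Fintype Z] (ι : Z →* Y)
  (hrange : ∀ y : Y, y ∈ relFix a N hNs ↔ ∃ z, ι z = y)

theorem mk_mem_fixSub_of_mem_relFix {k : Y} (hk : k ∈ relFix a N hNs) :
    (QuotientGroup.mk' N k) ∈ fixSub (quotAct a N hNs) := hk

/-- the projection of `Z` onto the fixed points of `Y ⧸ N` -/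
def fixProj : Z →* fixSub (quotAct a N hNs) where
  toFun z := ⟨QuotientGroup.mk' N (ι z),
    mk_mem_fixSub_of_mem_relFix a N hNs ((hrange (ι z)).2 ⟨z, rfl⟩)⟩
  map_one' := by
    apply Subtype.ext
    show QuotientGroup.mk' N (ι 1) = 1
    rw [map_one, map_one]
  map_mul' z z' := by
    apply Subtype.ext
    show QuotientGroup.mk' N (ι (z * z')) = QuotientGroup.mk' N (ι z) * QuotientGroup.mk' N (ι z')
    rw [map_mul, map_mul]

theorem fixProj_coe (z : Z) :
    ((fixProj a N hNs ι hrange z : fixSub (quotAct a N hNs)) : Y ⧸ N) = ((ι z : Y) : Y ⧸ N) := rfl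

theorem fixProj_surjective : Function.Surjective (fixProj a N hNs ι hrange) := by
  rintro ⟨q, hq⟩
  obtain ⟨k, rfl⟩ := QuotientGroup.mk_surjective q
  have hk : k ∈ relFix a N hNs := hq
  obtain ⟨z, rfl⟩ := (hrange k).1 hk
  exact ⟨z, rfl⟩

theorem fixProj_ker (M : Subgroup Z) (hM : ∀ z, z ∈ M ↔ ι z ∈ N) :
    (fixProj a N hNs ι hrange).ker = M := by
  ext z
  rw [MonoidHom.mem_ker, hM, ← QuotientGroup.eq_one_iff]
  constructor
  · intro h
    have := congrArg Subtype.val h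
    exact this
  · intro h
    apply Subtype.ext
    exact h

variable (p : ℕ) [Fact p.Prime] (hP : IsPGroup p P) (hpi : ¬ p ∣ Nat.card (Y ⧸ N))
  {ϑ : Y → ℂ} (hϑ : IsIrrCharacter Y ϑ) (hϑN : IsIrrCharacter N (fun n : N => ϑ n))
  (hϑP : ∀ (x : P) (y : Y), ϑ (a x y) = ϑ y)
  (M : Subgroup Z) [hMn : M.Normal] [Fintype M] (hM : ∀ z, z ∈ M ↔ ι z ∈ N)
  (hϑM : IsIrrCharacter M (fun m : M => ϑ (ι m)))

include hϑ hϑM in
theorem isIrrCharacter_comp_of_res : IsIrrCharacter Z (fun z => ϑ (ι z)) := by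
  have h1 : IsCharacter Z (ϑ ∘ ι) :=
    isCharacter_comp (Cfsg.Agent.Lib.Helper78.IsIrrCharacter.isCharacter hϑ) ι
  exact isIrrCharacter_of_comp_isIrrCharacter h1 M.subtype hϑM

include hϑ hϑN in
theorem relInv_irr_Y (β : IrrCharacter (Y ⧸ N)) :
    IsIrrCharacter Y (fun y => (β : Y ⧸ N → ℂ) (QuotientGroup.mk' N y) * ϑ y) :=
  hom_gallagher_irr (QuotientGroup.mk' N) (QuotientGroup.mk'_surjective N) N
    (QuotientGroup.ker_mk' N) hϑ hϑN β

include hϑ hM hϑM in
theorem relInv_irr_Z (γ : IrrCharacter (fixSub (quotAct a N hNs))) :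
    IsIrrCharacter Z (fun z => (γ : fixSub (quotAct a N hNs) → ℂ) (fixProj a N hNs ι hrange z) *
      ϑ (ι z)) :=
  hom_gallagher_irr (fixProj a N hNs ι hrange) (fixProj_surjective a N hNs ι hrange) M
    (fixProj_ker a N hNs ι hrange M hM) (isIrrCharacter_comp_of_res ι hϑ M hϑM) hϑM γ

include hϑN in
theorem relInv_over_Y (β : IrrCharacter (Y ⧸ N)) :
    classInner (fun n : N => (β : Y ⧸ N → ℂ) (QuotientGroup.mk' N (n : Y)) * ϑ n)
      (fun n : N => ϑ n) ≠ 0 := by
  have h1 : (fun n : N => (β : Y ⧸ N → ℂ) (QuotientGroup.mk' N (n : Y)) * ϑ n) =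
      (β : Y ⧸ N → ℂ) 1 • (fun n : N => ϑ n) := by
    funext n
    have : QuotientGroup.mk' N (n : Y) = 1 := (QuotientGroup.eq_one_iff _).2 n.2
    rw [this]
    rfl
  rw [h1, Cfsg.Agent.Lib.Helper78.classInner_smul_left,
    Cfsg.Agent.Lib.Helper78.classInner_irr_self hϑN, mul_one]
  exact Cfsg.Agent.Lib.Helper78.IsIrrCharacter.apply_one_ne_zero β.2

include hM hϑM in
theorem relInv_over_Z (γ : IrrCharacter (fixSub (quotAct a N hNs))) :
    classInner (fun m : M => (γ : fixSub (quotAct a N hNs) → ℂ)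
      (fixProj a N hNs ι hrange (m : Z)) * ϑ (ι m)) (fun m : M => ϑ (ι m)) ≠ 0 := by
  have h1 : (fun m : M => (γ : fixSub (quotAct a N hNs) → ℂ)
      (fixProj a N hNs ι hrange (m : Z)) * ϑ (ι m)) =
      (γ : fixSub (quotAct a N hNs) → ℂ) 1 • (fun m : M => ϑ (ι m)) := by
    funext m
    have : fixProj a N hNs ι hrange (m : Z) = 1 := by
      have h2 : (m : Z) ∈ (fixProj a N hNs ι hrange).ker := by
        rw [fixProj_ker a N hNs ι hrange M hM]
        exact m.2
      exact h2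
    rw [this]
    rfl
  rw [h1, Cfsg.Agent.Lib.Helper78.classInner_smul_left,
    Cfsg.Agent.Lib.Helper78.classInner_irr_self hϑM, mul_one]
  exact Cfsg.Agent.Lib.Helper78.IsIrrCharacter.apply_one_ne_zero γ.2

include hϑ hϑN in
theorem relInv_exists_Y (ψ : IrrCharacter Y)
    (hover : classInner (fun n : N => (ψ : Y → ℂ) n) (fun n : N => ϑ n) ≠ 0) :
    ∃ β : IrrCharacter (Y ⧸ N),
      (ψ : Y → ℂ) = fun y => (β : Y ⧸ N → ℂ) (QuotientGroup.mk' N y) * ϑ y :=
  hom_gallagher_exists (QuotientGroup.mk' N) (QuotientGroup.mk'_surjective N) N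
    (QuotientGroup.ker_mk' N) hϑ hϑN ψ.2 hover

include hϑ hM hϑM in
theorem relInv_exists_Z (η : IrrCharacter Z)
    (hover : classInner (fun m : M => (η : Z → ℂ) m) (fun m : M => ϑ (ι m)) ≠ 0) :
    ∃ γ : IrrCharacter (fixSub (quotAct a N hNs)),
      (η : Z → ℂ) = fun z => (γ : fixSub (quotAct a N hNs) → ℂ) (fixProj a N hNs ι hrange z) *
        ϑ (ι z) :=
  hom_gallagher_exists (fixProj a N hNs ι hrange) (fixProj_surjective a N hNs ι hrange) M
    (fixProj_ker a N hNs ι hrange M hM) (isIrrCharacter_comp_of_res ι hϑ M hϑM) hϑM η.2 hover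

include hϑ hϑN hϑP in
/-- invariance of `(β ∘ π) ϑ` is invariance of `β` -/
theorem relInv_inv_iff (β : IrrCharacter (Y ⧸ N)) :
    (∀ (x : P) (y : Y), (β : Y ⧸ N → ℂ) (QuotientGroup.mk' N (a x y)) * ϑ (a x y) =
      (β : Y ⧸ N → ℂ) (QuotientGroup.mk' N y) * ϑ y) ↔
      ∀ (x : P) (q : Y ⧸ N), (β : Y ⧸ N → ℂ) (quotAct a N hNs x q) = (β : Y ⧸ N → ℂ) q := by
  constructor
  · intro h x
    let βx : IrrCharacter (Y ⧸ N) :=
      ⟨fun q => (β : Y ⧸ N → ℂ) (quotAct a N hNs x q),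
        isIrrCharacter_comp_mulEquiv β.2 (quotAct a N hNs x)⟩
    have h1 : (fun y => (βx : Y ⧸ N → ℂ) (QuotientGroup.mk' N y) * ϑ y) =
        fun y => (β : Y ⧸ N → ℂ) (QuotientGroup.mk' N y) * ϑ y := by
      funext y
      rw [← h x y, hϑP]
      show (β : Y ⧸ N → ℂ) (quotAct a N hNs x ((y : Y) : Y ⧸ N)) * ϑ y = _
      rw [quotAct_mk]
      rfl
    have h2 := hom_gallagher_injective (QuotientGroup.mk' N) (QuotientGroup.mk'_surjective N) N
      (QuotientGroup.ker_mk' N) hϑ hϑN βx β h1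
    intro q
    have := congrArg (fun b : IrrCharacter (Y ⧸ N) => (b : Y ⧸ N → ℂ) q) h2
    exact this
  · intro h x y
    rw [hϑP]
    congr 1
    have := h x ((y : Y) : Y ⧸ N)
    rw [quotAct_mk] at this
    exact this

include hϑ hM hϑM in
/-- the multiplicities are those of the Glauberman correspondence on `Y ⧸ N` -/
theorem relInv_mult [Fintype (fixSub (quotAct a N hNs))] (β : IrrCharacter (Y ⧸ N))
    (γ : IrrCharacter (fixSub (quotAct a N hNs))) :
    classInner (fun z : Z => (β : Y ⧸ N → ℂ) (QuotientGroup.mk' N (ι z)) * ϑ (ι z))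
      (fun z => (γ : fixSub (quotAct a N hNs) → ℂ) (fixProj a N hNs ι hrange z) * ϑ (ι z)) =
      classInner (fun c : fixSub (quotAct a N hNs) => (β : Y ⧸ N → ℂ) c)
        (γ : fixSub (quotAct a N hNs) → ℂ) := by
  have hΦ : IsCharacter (fixSub (quotAct a N hNs))
      (fun c : fixSub (quotAct a N hNs) => (β : Y ⧸ N → ℂ) c) :=
    isCharacter_res_fixSub (quotAct a N hNs) β
  exact hom_gallagher_char_inner (fixProj a N hNs ι hrange) (fixProj_surjective a N hNs ι hrange)
    M (fixProj_ker a N hNs ι hrange M hM) (isIrrCharacter_comp_of_res ι hϑ M hϑM) hϑM hΦ γ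

end RelGlaubInv

end Cfsg.Agent.Lib.Helper81
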