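import Mathlib
import Cfsg.Prelude.Def_Characters
import Cfsg.Agent.Lib.Helper81.RelGlaubInv

/-!
# The relative Glauberman correspondence over an invariant extendible character: main statements
(helper81)

Setting of `RelGlaubInv`.  `relInv_forward`, `relInv_backward`, `relInv_unique`, `relInv_inv_Z`.
-/

set_option autoImplicit false
set_option linter.unusedSectionVars false

namespace Cfsg.Agent.Lib.Helper81

open Cfsg
open scoped ComplexConjugate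

universe u v w

section RelGlaubInvMain

variable {Y : Type u} [Group Y] [Fintype Y] {P : Type v} [Group P] (a : P →* MulAut Y)
  (N : Subgroup Y) [hN : N.Normal] [Fintype N] (hNs : ActStable a N)
  {Z : Type w} [Group Z] [Fintype Z] (ι : Z →* Y)
  (hrange : ∀ y : Y, y ∈ relFix a N hNs ↔ ∃ z, ι z = y)
  (p : ℕ) [Fact p.Prime] (hP : IsPGroup p P) (hpi : ¬ p ∣ Nat.card (Y ⧸ N))
  {ϑ : Y → ℂ} (hϑ : IsIrrCharacter Y ϑ) (hϑN : IsIrrCharacter N (fun n : N => ϑ n))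
  (hϑP : ∀ (x : P) (y : Y), ϑ (a x y) = ϑ y)
  (M : Subgroup Z) [hMn : M.Normal] [Fintype M] (hM : ∀ z, z ∈ M ↔ ι z ∈ N)
  (hϑM : IsIrrCharacter M (fun m : M => ϑ (ι m)))

include hrange hP hpi hϑ hϑN hϑP hM hϑM in
theorem relInv_forward (ψ : IrrCharacter Y)
    (hψP : ∀ (x : P) (y : Y), (ψ : Y → ℂ) (a x y) = (ψ : Y → ℂ) y)
    (hover : classInner (fun n : N => (ψ : Y → ℂ) n) (fun n : N => ϑ n) ≠ 0) :
    ∃ η : IrrCharacter Z,
      classInner (fun m : M => (η : Z → ℂ) m) (fun m : M => ϑ (ι m)) ≠ 0 ∧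
      (∃ m : ℕ, classInner (fun z => (ψ : Y → ℂ) (ι z)) (η : Z → ℂ) = m ∧
        ((m : ℤ) ≡ 1 [ZMOD p] ∨ (m : ℤ) ≡ -1 [ZMOD p])) ∧
      ∀ η' : IrrCharacter Z,
        classInner (fun m : M => (η' : Z → ℂ) m) (fun m : M => ϑ (ι m)) ≠ 0 → η' ≠ η →
        ∃ m : ℕ, classInner (fun z => (ψ : Y → ℂ) (ι z)) (η' : Z → ℂ) = m ∧ p ∣ m := by
  classical
  let _ : Fintype (Y ⧸ N) := Fintype.ofFinite _
  let _ : Fintype (fixSub (quotAct a N hNs)) := Fintype.ofFinite _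
  obtain ⟨β, hβ⟩ := relInv_exists_Y N hϑ hϑN ψ hover
  have hβP : ∀ (x : P) (q : Y ⧸ N),
      (β : Y ⧸ N → ℂ) (quotAct a N hNs x q) = (β : Y ⧸ N → ℂ) q := by
    rw [← relInv_inv_iff a N hNs hϑ hϑN hϑP β]
    intro x y
    have := hψP x y
    rw [hβ] at this
    exact this
  obtain ⟨γ₀, hγ₀, huniq⟩ := existsUnique_glaubRel (quotAct a N hNs) p hP hpi β hβP
  obtain ⟨m₀, hm₀, hpm₀⟩ := hγ₀
  have hψι : (fun z => (ψ : Y → ℂ) (ι z)) =
      fun z : Z => (β : Y ⧸ N → ℂ) (QuotientGroup.mk' N (ι z)) * ϑ (ι z) := by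
    funext z
    rw [hβ]
  refine ⟨⟨_, relInv_irr_Z a N hNs ι hrange hϑ M hM hϑM γ₀⟩,
    relInv_over_Z a N hNs ι hrange M hM hϑM γ₀, ⟨m₀, ?_, ?_⟩, ?_⟩
  · rw [hψι]
    show classInner _ (fun z => (γ₀ : fixSub (quotAct a N hNs) → ℂ)
      (fixProj a N hNs ι hrange z) * ϑ (ι z)) = _
    rw [relInv_mult a N hNs ι hrange hϑ M hM hϑM β γ₀, hm₀]
  · exact glaubRel_modEq_one_or_neg_one (quotAct a N hNs) p hP hpi β hβP γ₀ m₀ hm₀ hpm₀
  · intro η' hover' hne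
    obtain ⟨γ', hγ'⟩ := relInv_exists_Z a N hNs ι hrange hϑ M hM hϑM η' hover'
    have hγne : γ' ≠ γ₀ := by
      intro h
      apply hne
      apply Subtype.ext
      rw [hγ', h]
    obtain ⟨m', hm'⟩ := Cfsg.Agent.Lib.Helper78.IsCharacter.exists_nat_classInner
      (isCharacter_res_fixSub (quotAct a N hNs) β) γ'
    refine ⟨m', ?_, ?_⟩
    · rw [hψι, hγ', relInv_mult a N hNs ι hrange hϑ M hM hϑM β γ', hm']
    · by_contra hnd
      exact hγne (huniq γ' ⟨m', hm', hnd⟩)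

include hrange hP hpi hϑ hϑN hϑP hM hϑM in
theorem relInv_backward (η : IrrCharacter Z)
    (hover : classInner (fun m : M => (η : Z → ℂ) m) (fun m : M => ϑ (ι m)) ≠ 0) :
    ∃ ψ : IrrCharacter Y, (∀ (x : P) (y : Y), (ψ : Y → ℂ) (a x y) = (ψ : Y → ℂ) y) ∧
      classInner (fun n : N => (ψ : Y → ℂ) n) (fun n : N => ϑ n) ≠ 0 ∧
      ∃ m : ℕ, classInner (fun z => (ψ : Y → ℂ) (ι z)) (η : Z → ℂ) = m ∧ ¬ p ∣ m := by
  classical
  let _ : Fintype (Y ⧸ N) := Fintype.ofFinite _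
  let _ : Fintype (fixSub (quotAct a N hNs)) := Fintype.ofFinite _
  obtain ⟨γ, hγ⟩ := relInv_exists_Z a N hNs ι hrange hϑ M hM hϑM η hover
  obtain ⟨β, hβP, m, hm, hpm⟩ := exists_glaubRel (quotAct a N hNs) p hP hpi γ
  refine ⟨⟨_, relInv_irr_Y N hϑ hϑN β⟩, ?_, relInv_over_Y N hϑN β, m, ?_, hpm⟩
  · exact (relInv_inv_iff a N hNs hϑ hϑN hϑP β).2 hβP
  · rw [hγ]
    show classInner (fun z : Z => (β : Y ⧸ N → ℂ) (QuotientGroup.mk' N (ι z)) * ϑ (ι z)) _ = _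
    rw [relInv_mult a N hNs ι hrange hϑ M hM hϑM β γ, hm]

include hrange hP hpi hϑ hϑN hϑP hM hϑM in
theorem relInv_unique (η : IrrCharacter Z)
    (hover : classInner (fun m : M => (η : Z → ℂ) m) (fun m : M => ϑ (ι m)) ≠ 0)
    (ψ ψ' : IrrCharacter Y)
    (hψP : ∀ (x : P) (y : Y), (ψ : Y → ℂ) (a x y) = (ψ : Y → ℂ) y)
    (hψ'P : ∀ (x : P) (y : Y), (ψ' : Y → ℂ) (a x y) = (ψ' : Y → ℂ) y)
    (hoverψ : classInner (fun n : N => (ψ : Y → ℂ) n) (fun n : N => ϑ n) ≠ 0)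
    (hoverψ' : classInner (fun n : N => (ψ' : Y → ℂ) n) (fun n : N => ϑ n) ≠ 0)
    (h : ∃ m : ℕ, classInner (fun z => (ψ : Y → ℂ) (ι z)) (η : Z → ℂ) = m ∧ ¬ p ∣ m)
    (h' : ∃ m : ℕ, classInner (fun z => (ψ' : Y → ℂ) (ι z)) (η : Z → ℂ) = m ∧ ¬ p ∣ m) :
    ψ = ψ' := by
  classical
  let _ : Fintype (Y ⧸ N) := Fintype.ofFinite _
  let _ : Fintype (fixSub (quotAct a N hNs)) := Fintype.ofFinite _
  obtain ⟨γ, hγ⟩ := relInv_exists_Z a N hNs ι hrange hϑ M hM hϑM η hover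
  obtain ⟨β, hβ⟩ := relInv_exists_Y N hϑ hϑN ψ hoverψ
  obtain ⟨β', hβ'⟩ := relInv_exists_Y N hϑ hϑN ψ' hoverψ'
  have hβP : ∀ (x : P) (q : Y ⧸ N),
      (β : Y ⧸ N → ℂ) (quotAct a N hNs x q) = (β : Y ⧸ N → ℂ) q := by
    rw [← relInv_inv_iff a N hNs hϑ hϑN hϑP β]
    intro x y
    have := hψP x y
    rw [hβ] at this
    exact this
  have hβ'P : ∀ (x : P) (q : Y ⧸ N),
      (β' : Y ⧸ N → ℂ) (quotAct a N hNs x q) = (β' : Y ⧸ N → ℂ) q := by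
    rw [← relInv_inv_iff a N hNs hϑ hϑN hϑP β']
    intro x y
    have := hψ'P x y
    rw [hβ'] at this
    exact this
  obtain ⟨m, hm, hpm⟩ := h
  obtain ⟨m', hm', hpm'⟩ := h'
  have hψι : (fun z => (ψ : Y → ℂ) (ι z)) =
      fun z : Z => (β : Y ⧸ N → ℂ) (QuotientGroup.mk' N (ι z)) * ϑ (ι z) := by
    funext z
    rw [hβ]
  have hψ'ι : (fun z => (ψ' : Y → ℂ) (ι z)) =
      fun z : Z => (β' : Y ⧸ N → ℂ) (QuotientGroup.mk' N (ι z)) * ϑ (ι z) := by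
    funext z
    rw [hβ']
  rw [hψι, hγ, relInv_mult a N hNs ι hrange hϑ M hM hϑM β γ] at hm
  rw [hψ'ι, hγ, relInv_mult a N hNs ι hrange hϑ M hM hϑM β' γ] at hm'
  have hββ' : β = β' := glaubRel_injective (quotAct a N hNs) p hP hpi β β' hβP hβ'P γ
    ⟨m, hm, hpm⟩ ⟨m', hm', hpm'⟩
  apply Subtype.ext
  rw [hβ, hβ', hββ']

include hrange hϑ hϑP hM hϑM in
theorem relInv_inv_Z (aZ : P →* MulAut Z) (haZ : ∀ (x : P) (z : Z), ι (aZ x z) = a x (ι z))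
    (η : IrrCharacter Z)
    (hover : classInner (fun m : M => (η : Z → ℂ) m) (fun m : M => ϑ (ι m)) ≠ 0)
    (x : P) (z : Z) : (η : Z → ℂ) (aZ x z) = (η : Z → ℂ) z := by
  obtain ⟨γ, hγ⟩ := relInv_exists_Z a N hNs ι hrange hϑ M hM hϑM η hover
  rw [hγ]
  show (γ : fixSub (quotAct a N hNs) → ℂ) (fixProj a N hNs ι hrange (aZ x z)) * ϑ (ι (aZ x z)) =
    (γ : fixSub (quotAct a N hNs) → ℂ) (fixProj a N hNs ι hrange z) * ϑ (ι z)
  have h1 : fixProj a N hNs ι hrange (aZ x z) = fixProj a N hNs ι hrange z := by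
    apply Subtype.ext
    rw [fixProj_coe, fixProj_coe, haZ, ← quotAct_mk a N hNs]
    exact (fixProj a N hNs ι hrange z).2 x
  rw [h1, haZ, hϑP]

end RelGlaubInvMain

end Cfsg.Agent.Lib.Helper81
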