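import Mathlib
import Cfsg.Prelude.Def_Characters
import Cfsg.Agent.Lib.Helper81.RelGlaubInvMain
import Cfsg.Agent.Lib.Helper81.RelCliffordC
import Cfsg.Agent.Lib.Helper81.CanonExtAct

/-!
# The relative Glauberman correspondence at the level of the inertia group (helper81)

`P` acts on `K`, `Q ⊴ K` a stable normal subgroup with `p ∤ |K : Q|`, `C` the preimage of the
fixed points on `K ⧸ Q`, `θ ∈ Irr(Q)` invariant with (stable) inertia group `T`, and `ϑ` an invariant
extension of `θ` to `T`.  We translate `relInv_forward` etc. to the subgroups `T` and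
`T.subgroupOf C`, with "lying over `θ`" expressed by restriction to `Q`.
-/

set_option autoImplicit false
set_option linter.unusedSectionVars false

namespace Cfsg.Agent.Lib.Helper81

open Cfsg
open Cfsg.Agent.Lib.Helper75 Cfsg.Agent.Lib.Helper78

universe u v

section RelLocal

variable {K : Type u} [Group K] [Fintype K] {P : Type v} [Group P] (act : P →* MulAut K)
  (p : ℕ) [Fact p.Prime] (hP : IsPGroup p P)
  (Q C T : Subgroup K) [hQn : Q.Normal] [Fintype Q] [Fintype C] [Fintype T]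
  [Fintype (Q.subgroupOf C)] [Fintype (T.subgroupOf C)] [Fintype (Q.subgroupOf T)]
  [Fintype ((Q.subgroupOf C).subgroupOf (T.subgroupOf C))]
  (hQs : ActStable act Q) (hCs : ActStable act C) (hTs : ActStable act T)
  (hQC : Q ≤ C) (hQT : Q ≤ T) (hQi : ¬ p ∣ Q.index)
  (hC : ∀ k : K, k ∈ C ↔ ∀ x : P, act x k * k⁻¹ ∈ Q)

include hQs in
theorem actStable_subgroupOf : ActStable (actSub act T hTs) (Q.subgroupOf T) :=
  fun x t ht => hQs x (t : K) ht

include hTs in
theorem actStable_subgroupOf_sub : ActStable (actSub act C hCs) (T.subgroupOf C) :=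
  fun x c hc => hTs x (c : K) hc

include hC in
theorem local_hrange (y : T) :
    y ∈ relFix (actSub act T hTs) (Q.subgroupOf T) (actStable_subgroupOf act Q T hQs hTs) ↔
      ∃ z : T.subgroupOf C, subgroupOfIncl C T z = y := by
  rw [mem_relFix]
  constructor
  · intro h
    have hyC : (y : K) ∈ C := (hC y).2 (fun x => h x)
    exact ⟨⟨⟨(y : K), hyC⟩, y.2⟩, Subtype.ext rfl⟩
  · rintro ⟨z, rfl⟩ x
    exact (hC ((z : C) : K)).1 (z : C).2 x

theorem local_hM (z : T.subgroupOf C) :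
    z ∈ (Q.subgroupOf C).subgroupOf (T.subgroupOf C) ↔ subgroupOfIncl C T z ∈ Q.subgroupOf T :=
  Iff.rfl

include hQT hQi in
theorem local_hpi : ¬ p ∣ Nat.card (T ⧸ Q.subgroupOf T) := by
  rw [← Subgroup.index_eq_card]
  intro h
  apply hQi
  have h1 : Q.relIndex T * T.index = Q.index := Subgroup.relIndex_mul_index hQT
  exact h.trans (Dvd.intro _ h1)

theorem local_haZ (x : P) (z : T.subgroupOf C) :
    subgroupOfIncl C T (actSub (actSub act C hCs) (T.subgroupOf C)
      (actStable_subgroupOf_sub act C T hCs hTs) x z) =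
      actSub act T hTs x (subgroupOfIncl C T z) := rfl

variable {θ : Q → ℂ} (hθ : IsIrrCharacter Q θ)
  {ϑ : T → ℂ} (hϑ : IsIrrCharacter T ϑ)
  (hext : ∀ n : Q.subgroupOf T, ϑ n = liftNT Q T θ n)
  (hϑP : ∀ (x : P) (t : T), ϑ (actSub act T hTs x t) = ϑ t)

/-- the isomorphism of `Q` (inside `T ∩ C` inside `C`) with `Q` -/
def subSubEquiv : (Q.subgroupOf C).subgroupOf (T.subgroupOf C) ≃* Q :=
  (Subgroup.subgroupOfEquivOfLe (subgroupOf_le_subgroupOf Q C T hQT)).trans
    (Subgroup.subgroupOfEquivOfLe hQC)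

include hQT hθ hext in
theorem local_hϑN : IsIrrCharacter (Q.subgroupOf T) (fun n : Q.subgroupOf T => ϑ n) := by
  rw [funext hext]
  exact isIrrCharacter_liftNT Q T hQT hθ

include hext in
theorem local_comp_eq :
    (fun m : (Q.subgroupOf C).subgroupOf (T.subgroupOf C) => ϑ (subgroupOfIncl C T m)) =
      θ ∘ (subSubEquiv Q C T hQC hQT) := by
  funext m
  exact hext ⟨subgroupOfIncl C T m, m.2⟩

include hQC hQT hθ hext in
theorem local_hϑM : IsIrrCharacter ((Q.subgroupOf C).subgroupOf (T.subgroupOf C))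
    (fun m : (Q.subgroupOf C).subgroupOf (T.subgroupOf C) => ϑ (subgroupOfIncl C T m)) := by
  rw [local_comp_eq Q C T hQC hQT hext]
  exact isIrrCharacter_comp_mulEquiv hθ (subSubEquiv Q C T hQC hQT)

include hext in
theorem over_T_conv (ψ : T → ℂ) :
    classInner (fun n : Q.subgroupOf T => ψ n) (fun n : Q.subgroupOf T => ϑ n) =
      classInner (resNT Q T hQT ψ) θ := by
  rw [funext hext]
  exact classInner_res_liftNT Q T hQT θ ψ

include hext in
theorem over_TC_conv (η : T.subgroupOf C → ℂ) :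
    classInner (fun m : (Q.subgroupOf C).subgroupOf (T.subgroupOf C) => η m)
      (fun m : (Q.subgroupOf C).subgroupOf (T.subgroupOf C) => ϑ (subgroupOfIncl C T m)) =
      classInner (fun q : Q => η (embQ Q C T hQC hQT q)) θ := by
  rw [local_comp_eq Q C T hQC hQT hext]
  have h1 : (fun m : (Q.subgroupOf C).subgroupOf (T.subgroupOf C) => η m) =
      (fun q : Q => η (embQ Q C T hQC hQT q)) ∘ (subSubEquiv Q C T hQC hQT).toEquiv := by
    funext m
    exact congrArg η (Subtype.ext (Subtype.ext rfl))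
  rw [h1]
  exact classInner_comp_equiv_gen (subSubEquiv Q C T hQC hQT).toEquiv _ θ

include hQs hP hQi hC hθ hϑ hext hϑP in
theorem tlevel_forward (ψ : IrrCharacter T)
    (hψP : ∀ (x : P) (t : T), (ψ : T → ℂ) (actSub act T hTs x t) = (ψ : T → ℂ) t)
    (hover : classInner (resNT Q T hQT (ψ : T → ℂ)) θ ≠ 0) :
    ∃ η : IrrCharacter (T.subgroupOf C),
      classInner (fun q : Q => (η : T.subgroupOf C → ℂ) (embQ Q C T hQC hQT q)) θ ≠ 0 ∧
      (∃ m : ℕ, classInner (fun z : T.subgroupOf C => (ψ : T → ℂ) (subgroupOfIncl C T z))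
        (η : T.subgroupOf C → ℂ) = m ∧ ((m : ℤ) ≡ 1 [ZMOD p] ∨ (m : ℤ) ≡ -1 [ZMOD p])) ∧
      ∀ η' : IrrCharacter (T.subgroupOf C),
        classInner (fun q : Q => (η' : T.subgroupOf C → ℂ) (embQ Q C T hQC hQT q)) θ ≠ 0 →
        η' ≠ η →
        ∃ m : ℕ, classInner (fun z : T.subgroupOf C => (ψ : T → ℂ) (subgroupOfIncl C T z))
          (η' : T.subgroupOf C → ℂ) = m ∧ p ∣ m := by
  have hover' : classInner (fun n : Q.subgroupOf T => (ψ : T → ℂ) n)
      (fun n : Q.subgroupOf T => ϑ n) ≠ 0 := by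
    rw [over_T_conv Q T hQT hext]
    exact hover
  obtain ⟨η, hη1, hη2, hη3⟩ := relInv_forward (actSub act T hTs) (Q.subgroupOf T)
    (actStable_subgroupOf act Q T hQs hTs) (subgroupOfIncl C T)
    (local_hrange act Q C T hQs hTs hC) p hP (local_hpi p Q T hQT hQi) hϑ
    (local_hϑN Q T hQT hθ hext) hϑP ((Q.subgroupOf C).subgroupOf (T.subgroupOf C))
    (local_hM Q C T) (local_hϑM Q C T hQC hQT hθ hext) ψ hψP hover'
  refine ⟨η, ?_, hη2, ?_⟩
  · rw [← over_TC_conv Q C T hQC hQT hext]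
    exact hη1
  · intro η' hov' hne
    apply hη3 η' _ hne
    rw [over_TC_conv Q C T hQC hQT hext]
    exact hov'

include hQs hP hQi hC hθ hϑ hext hϑP in
theorem tlevel_backward (η : IrrCharacter (T.subgroupOf C))
    (hov : classInner (fun q : Q => (η : T.subgroupOf C → ℂ) (embQ Q C T hQC hQT q)) θ ≠ 0) :
    ∃ ψ : IrrCharacter T,
      (∀ (x : P) (t : T), (ψ : T → ℂ) (actSub act T hTs x t) = (ψ : T → ℂ) t) ∧
      classInner (resNT Q T hQT (ψ : T → ℂ)) θ ≠ 0 ∧
      ∃ m : ℕ, classInner (fun z : T.subgroupOf C => (ψ : T → ℂ) (subgroupOfIncl C T z))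
        (η : T.subgroupOf C → ℂ) = m ∧ ¬ p ∣ m := by
  have hov' : classInner (fun m : (Q.subgroupOf C).subgroupOf (T.subgroupOf C) =>
      (η : T.subgroupOf C → ℂ) m)
      (fun m : (Q.subgroupOf C).subgroupOf (T.subgroupOf C) => ϑ (subgroupOfIncl C T m)) ≠ 0 := by
    rw [over_TC_conv Q C T hQC hQT hext]
    exact hov
  obtain ⟨ψ, hψ1, hψ2, hψ3⟩ := relInv_backward (actSub act T hTs) (Q.subgroupOf T)
    (actStable_subgroupOf act Q T hQs hTs) (subgroupOfIncl C T)
    (local_hrange act Q C T hQs hTs hC) p hP (local_hpi p Q T hQT hQi) hϑ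
    (local_hϑN Q T hQT hθ hext) hϑP ((Q.subgroupOf C).subgroupOf (T.subgroupOf C))
    (local_hM Q C T) (local_hϑM Q C T hQC hQT hθ hext) η hov'
  refine ⟨ψ, hψ1, ?_, hψ3⟩
  rw [← over_T_conv Q T hQT hext]
  exact hψ2

include hQs hP hQi hC hθ hϑ hext hϑP in
theorem tlevel_unique (η : IrrCharacter (T.subgroupOf C))
    (hov : classInner (fun q : Q => (η : T.subgroupOf C → ℂ) (embQ Q C T hQC hQT q)) θ ≠ 0)
    (ψ ψ' : IrrCharacter T)
    (hψP : ∀ (x : P) (t : T), (ψ : T → ℂ) (actSub act T hTs x t) = (ψ : T → ℂ) t)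
    (hψ'P : ∀ (x : P) (t : T), (ψ' : T → ℂ) (actSub act T hTs x t) = (ψ' : T → ℂ) t)
    (hoverψ : classInner (resNT Q T hQT (ψ : T → ℂ)) θ ≠ 0)
    (hoverψ' : classInner (resNT Q T hQT (ψ' : T → ℂ)) θ ≠ 0)
    (h : ∃ m : ℕ, classInner (fun z : T.subgroupOf C => (ψ : T → ℂ) (subgroupOfIncl C T z))
      (η : T.subgroupOf C → ℂ) = m ∧ ¬ p ∣ m)
    (h' : ∃ m : ℕ, classInner (fun z : T.subgroupOf C => (ψ' : T → ℂ) (subgroupOfIncl C T z))
      (η : T.subgroupOf C → ℂ) = m ∧ ¬ p ∣ m) : ψ = ψ' := by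
  have hov' : classInner (fun m : (Q.subgroupOf C).subgroupOf (T.subgroupOf C) =>
      (η : T.subgroupOf C → ℂ) m)
      (fun m : (Q.subgroupOf C).subgroupOf (T.subgroupOf C) => ϑ (subgroupOfIncl C T m)) ≠ 0 := by
    rw [over_TC_conv Q C T hQC hQT hext]
    exact hov
  have hoverψ1 : classInner (fun n : Q.subgroupOf T => (ψ : T → ℂ) n)
      (fun n : Q.subgroupOf T => ϑ n) ≠ 0 := by
    rw [over_T_conv Q T hQT hext]
    exact hoverψ
  have hoverψ1' : classInner (fun n : Q.subgroupOf T => (ψ' : T → ℂ) n)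
      (fun n : Q.subgroupOf T => ϑ n) ≠ 0 := by
    rw [over_T_conv Q T hQT hext]
    exact hoverψ'
  exact relInv_unique (actSub act T hTs) (Q.subgroupOf T)
    (actStable_subgroupOf act Q T hQs hTs) (subgroupOfIncl C T)
    (local_hrange act Q C T hQs hTs hC) p hP (local_hpi p Q T hQT hQi) hϑ
    (local_hϑN Q T hQT hθ hext) hϑP ((Q.subgroupOf C).subgroupOf (T.subgroupOf C))
    (local_hM Q C T) (local_hϑM Q C T hQC hQT hθ hext) η hov' ψ ψ' hψP hψ'P hoverψ1 hoverψ1' h h'

include hQs hC hθ hϑ hext hϑP in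
theorem tlevel_inv (η : IrrCharacter (T.subgroupOf C))
    (hov : classInner (fun q : Q => (η : T.subgroupOf C → ℂ) (embQ Q C T hQC hQT q)) θ ≠ 0)
    (x : P) (z : T.subgroupOf C) :
    (η : T.subgroupOf C → ℂ) (actSub (actSub act C hCs) (T.subgroupOf C)
      (actStable_subgroupOf_sub act C T hCs hTs) x z) = (η : T.subgroupOf C → ℂ) z := by
  have hov' : classInner (fun m : (Q.subgroupOf C).subgroupOf (T.subgroupOf C) =>
      (η : T.subgroupOf C → ℂ) m)
      (fun m : (Q.subgroupOf C).subgroupOf (T.subgroupOf C) => ϑ (subgroupOfIncl C T m)) ≠ 0 := by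
    rw [over_TC_conv Q C T hQC hQT hext]
    exact hov
  exact relInv_inv_Z (actSub act T hTs) (Q.subgroupOf T)
    (actStable_subgroupOf act Q T hQs hTs) (subgroupOfIncl C T)
    (local_hrange act Q C T hQs hTs hC) hϑ hϑP ((Q.subgroupOf C).subgroupOf (T.subgroupOf C))
    (local_hM Q C T) (local_hϑM Q C T hQC hQT hθ hext)
    (actSub (actSub act C hCs) (T.subgroupOf C) (actStable_subgroupOf_sub act C T hCs hTs))
    (local_haZ act C T hCs hTs) η hov' x z

end RelLocal

end Cfsg.Agent.Lib.Helper81
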