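import Mathlib
import Cfsg.Prelude.Def_Characters
import Cfsg.Agent.Lib.Helper81.RelLocal

/-!
# The relative Glauberman correspondence over a fixed invariant `θ ∈ Irr(Q)` (helper81)

`key_forward`, `key_backward`, `key_unique`: the correspondence between the invariant irreducible
characters of `K` over `θ` and the irreducible characters of `C` over `θ`.
-/

set_option autoImplicit false
set_option linter.unusedSectionVars false

namespace Cfsg.Agent.Lib.Helper81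

open Cfsg
open Cfsg.Agent.Lib.Helper75 Cfsg.Agent.Lib.Helper78

universe u v

section RelKey

variable {K : Type u} [Group K] [Fintype K] {P : Type v} [Group P] (act : P →* MulAut K)
  (p : ℕ) [Fact p.Prime] (hP : IsPGroup p P)
  (Q C T : Subgroup K) [hQn : Q.Normal] [Fintype Q] [Fintype C] [Fintype T]
  [Fintype (Q.subgroupOf C)] [Fintype (T.subgroupOf C)] [Fintype (Q.subgroupOf T)]
  [Fintype ((Q.subgroupOf C).subgroupOf (T.subgroupOf C))]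
  (hQs : ActStable act Q) (hCs : ActStable act C) (hTs : ActStable act T)
  (hQC : Q ≤ C) (hQT : Q ≤ T) (hQi : ¬ p ∣ Q.index) (hQp : ∃ k : ℕ, Nat.card Q = p ^ k)
  (hC : ∀ k : K, k ∈ C ↔ ∀ x : P, act x k * k⁻¹ ∈ Q)
  {θ : Q → ℂ} (hθ : IsIrrCharacter Q θ)
  (hθP : ∀ (x : P) (q : Q), θ (actSub act Q hQs x q) = θ q)
  (hT : ∀ g : K, g ∈ T ↔ Helper75.conjFun Q g θ = θ)

include hQT hQi hQp hθ hθP hT in
theorem exists_local_ext :
    ∃ ϑ : T → ℂ, IsIrrCharacter T ϑ ∧ (∀ n : Q.subgroupOf T, ϑ n = liftNT Q T θ n) ∧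
      ∀ (x : P) (t : T), ϑ (actSub act T hTs x t) = ϑ t := by
  have hp := (Fact.out : p.Prime)
  obtain ⟨k, hk⟩ := hQp
  have hcop : (Nat.card (Q.subgroupOf T)).Coprime (Q.subgroupOf T).index := by
    rw [Nat.card_congr (Subgroup.subgroupOfEquivOfLe hQT).toEquiv, hk]
    apply Nat.Coprime.pow_left
    rw [Nat.Prime.coprime_iff_not_dvd hp]
    intro h
    apply hQi
    have h1 : Q.relIndex T * T.index = Q.index := Subgroup.relIndex_mul_index hQT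
    exact h.trans (Dvd.intro _ h1)
  have hT' : ∀ g : K, g ∈ T → Helper75.conjFun Q g θ = θ := fun g hg => (hT g).1 hg
  exact exists_actInv_extension (actSub act T hTs) (Q.subgroupOf T)
    (actStable_subgroupOf act Q T hQs hTs) hcop (liftNT Q T θ)
    (isIrrCharacter_liftNT Q T hQT hθ)
    (fun g n => congrFun (conjFun_liftNT Q T hT' g) n)
    (fun x n => hθP x ⟨((n : T) : K), n.2⟩)

include hP hTs hQT hQi hQp hC hθ hθP hT in
theorem key_forward (χ : IrrCharacter K)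
    (hχP : ∀ (x : P) (k : K), (χ : K → ℂ) (act x k) = (χ : K → ℂ) k)
    (hover : classInner (fun q : Q => (χ : K → ℂ) q) θ ≠ 0) :
    ∃ ξ₀ : IrrCharacter C,
      (∀ (x : P) (c : C), (ξ₀ : C → ℂ) (actSub act C hCs x c) = (ξ₀ : C → ℂ) c) ∧
      classInner (resNT Q C hQC (ξ₀ : C → ℂ)) θ ≠ 0 ∧
      (∃ m : ℕ, classInner (fun c : C => (χ : K → ℂ) c) (ξ₀ : C → ℂ) = m ∧
        ((m : ℤ) ≡ 1 [ZMOD p] ∨ (m : ℤ) ≡ -1 [ZMOD p])) ∧
      ∀ ξ : IrrCharacter C, classInner (resNT Q C hQC (ξ : C → ℂ)) θ ≠ 0 → ξ ≠ ξ₀ →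
        ∃ m : ℕ, classInner (fun c : C => (χ : K → ℂ) c) (ξ : C → ℂ) = m ∧ p ∣ m := by
  obtain ⟨ϑ, hϑ, hext, hϑP⟩ := exists_local_ext act p Q T hQs hTs hQT hQi hQp hθ hθP hT
  obtain ⟨ψ, hovψ, hind, hψP⟩ := clifford_exists_inv act Q T hQs hTs hQT hθ hθP hT χ.2 hχP hover
  obtain ⟨η₀, hη1, ⟨m₀, hm₀, hm₀'⟩, hη3⟩ := tlevel_forward act p hP Q C T hQs hTs hQC hQT hQi hC
    hθ hϑ hext hϑP ψ hψP hovψ
  have hξ₀ := cside_irr Q C T hQC hQT hθ hT η₀ hη1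
  refine ⟨⟨_, hξ₀.1⟩, ?_, hξ₀.2, ⟨m₀, ?_, hm₀'⟩, ?_⟩
  · intro x c
    exact indFun_inv_of_inv (actSub act C hCs) (T.subgroupOf C)
      (actStable_subgroupOf_sub act C T hCs hTs) _
      (fun x z => tlevel_inv act Q C T hQs hCs hTs hQC hQT hC hθ hϑ hext hϑP η₀ hη1 x z) x c
  · rw [← hind]
    show classInner _ (indFun (T.subgroupOf C) (η₀ : T.subgroupOf C → ℂ)) = _
    rw [classInner_res_indFun_indFun Q C T hQC hQT hθ hT ψ hovψ η₀ hη1, hm₀]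
  · intro ξ hovξ hne
    obtain ⟨η, hovη, hindη⟩ := cside_exists Q C T hQC hQT hθ hT ξ hovξ
    have hηne : η ≠ η₀ := by
      intro h
      apply hne
      apply Subtype.ext
      rw [← hindη, h]
    obtain ⟨m, hm, hpm⟩ := hη3 η hovη hηne
    refine ⟨m, ?_, hpm⟩
    rw [← hind, ← hindη, classInner_res_indFun_indFun Q C T hQC hQT hθ hT ψ hovψ η hovη, hm]

include hP hTs hQT hQi hQp hC hθ hθP hT in
theorem key_backward (ξ : IrrCharacter C)
    (hov : classInner (resNT Q C hQC (ξ : C → ℂ)) θ ≠ 0) :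
    ∃ χ : IrrCharacter K, (∀ (x : P) (k : K), (χ : K → ℂ) (act x k) = (χ : K → ℂ) k) ∧
      ∃ m : ℕ, classInner (fun c : C => (χ : K → ℂ) c) (ξ : C → ℂ) = m ∧ ¬ p ∣ m := by
  obtain ⟨ϑ, hϑ, hext, hϑP⟩ := exists_local_ext act p Q T hQs hTs hQT hQi hQp hθ hθP hT
  obtain ⟨η, hovη, hindη⟩ := cside_exists Q C T hQC hQT hθ hT ξ hov
  obtain ⟨ψ, hψP, hovψ, m, hm, hpm⟩ := tlevel_backward act p hP Q C T hQs hTs hQC hQT hQi hC
    hθ hϑ hext hϑP η hovη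
  have hχ : IsIrrCharacter K (indFun T (ψ : T → ℂ)) :=
    isIrrCharacter_indFun_of_over Q T hQT hθ hT ψ.2 hovψ
  refine ⟨⟨_, hχ⟩, ?_, m, ?_, hpm⟩
  · intro x k
    exact indFun_inv_of_inv act T hTs _ hψP x k
  · rw [← hindη]
    show classInner (fun c : C => indFun T (ψ : T → ℂ) c) _ = _
    rw [classInner_res_indFun_indFun Q C T hQC hQT hθ hT ψ hovψ η hovη, hm]

include hP hTs hQT hQi hQp hC hθ hθP hT in
theorem key_unique (ξ : IrrCharacter C)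
    (hov : classInner (resNT Q C hQC (ξ : C → ℂ)) θ ≠ 0) (χ χ' : IrrCharacter K)
    (hχP : ∀ (x : P) (k : K), (χ : K → ℂ) (act x k) = (χ : K → ℂ) k)
    (hχ'P : ∀ (x : P) (k : K), (χ' : K → ℂ) (act x k) = (χ' : K → ℂ) k)
    (hover : classInner (fun q : Q => (χ : K → ℂ) q) θ ≠ 0)
    (hover' : classInner (fun q : Q => (χ' : K → ℂ) q) θ ≠ 0)
    (h : ∃ m : ℕ, classInner (fun c : C => (χ : K → ℂ) c) (ξ : C → ℂ) = m ∧ ¬ p ∣ m)
    (h' : ∃ m : ℕ, classInner (fun c : C => (χ' : K → ℂ) c) (ξ : C → ℂ) = m ∧ ¬ p ∣ m) :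
    χ = χ' := by
  obtain ⟨ϑ, hϑ, hext, hϑP⟩ := exists_local_ext act p Q T hQs hTs hQT hQi hQp hθ hθP hT
  obtain ⟨η, hovη, hindη⟩ := cside_exists Q C T hQC hQT hθ hT ξ hov
  obtain ⟨ψ, hovψ, hind, hψP⟩ := clifford_exists_inv act Q T hQs hTs hQT hθ hθP hT χ.2 hχP hover
  obtain ⟨ψ', hovψ', hind', hψ'P⟩ :=
    clifford_exists_inv act Q T hQs hTs hQT hθ hθP hT χ'.2 hχ'P hover'
  obtain ⟨m, hm, hpm⟩ := h
  obtain ⟨m', hm', hpm'⟩ := h'
  rw [← hind, ← hindη, classInner_res_indFun_indFun Q C T hQC hQT hθ hT ψ hovψ η hovη] at hm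
  rw [← hind', ← hindη, classInner_res_indFun_indFun Q C T hQC hQT hθ hT ψ' hovψ' η hovη] at hm'
  have hψψ' : ψ = ψ' := tlevel_unique act p hP Q C T hQs hTs hQC hQT hQi hC hθ hϑ hext hϑP η hovη
    ψ ψ' hψP hψ'P hovψ hovψ' ⟨m, hm, hpm⟩ ⟨m', hm', hpm'⟩
  apply Subtype.ext
  rw [← hind, ← hind', hψψ']

end RelKey

end Cfsg.Agent.Lib.Helper81
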