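import Mathlib
import Cfsg.Prelude.Def_Characters
import Cfsg.Agent.Lib.Helper81.RelKey
import Cfsg.Agent.Lib.Helper81.RelFixedConst
import Cfsg.Agent.Lib.Helper81.RelFixedConj

/-!
# The relative Glauberman correspondence: global statements (helper81)

`P` (a `p`-group) acts on `K` with a stable normal Sylow `p`-subgroup `Q`; `C` is the preimage
of the fixed points of `P` on `K ⧸ Q`.

* `global_forward`: for an invariant `χ ∈ Irr(K)` there is an invariant `ξ₀ ∈ Irr(C)` with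
  `[χ_C, ξ₀] ≡ ±1` and `p ∣ [χ_C, ξ]` for the other invariant `ξ`.
* `global_backward`, `global_unique`.
-/

set_option autoImplicit false
set_option linter.unusedSectionVars false

namespace Cfsg.Agent.Lib.Helper81

open Cfsg
open Cfsg.Agent.Lib.Helper75 Cfsg.Agent.Lib.Helper78

universe u v

section RelGlobal

variable {K : Type u} [Group K] [Fintype K] {P : Type v} [Group P] (act : P →* MulAut K)
  (p : ℕ) [Fact p.Prime] (hP : IsPGroup p P)
  (Q C : Subgroup K) [hQn : Q.Normal] [Fintype Q] [Fintype C] [Fintype (Q.subgroupOf C)]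
  (hQs : ActStable act Q) (hCs : ActStable act C)
  (hQC : Q ≤ C) (hQi : ¬ p ∣ Q.index) (hQp : ∃ k : ℕ, Nat.card Q = p ^ k)
  (hC : ∀ k : K, k ∈ C ↔ ∀ x : P, act x k * k⁻¹ ∈ Q)

include hP hQs hQi in
/-- an invariant irreducible character of `C` has an invariant constituent on `Q` -/
theorem exists_inv_constituent_sub (ξ : IrrCharacter C)
    (hξP : ∀ (x : P) (c : C), (ξ : C → ℂ) (actSub act C hCs x c) = (ξ : C → ℂ) c) :
    ∃ θ : IrrCharacter Q, classInner (resNT Q C hQC (ξ : C → ℂ)) (θ : Q → ℂ) ≠ 0 ∧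
      ∀ (x : P) (q : Q), (θ : Q → ℂ) (actSub act Q hQs x q) = (θ : Q → ℂ) q := by
  have hs : ActStable (actSub act C hCs) (Q.subgroupOf C) := fun x c hc => hQs x (c : K) hc
  have hi : ¬ p ∣ (Q.subgroupOf C).index := by
    intro h
    apply hQi
    have h1 : Q.relIndex C * C.index = Q.index := Subgroup.relIndex_mul_index hQC
    exact h.trans (Dvd.intro _ h1)
  obtain ⟨θC, hθC1, hθC2⟩ := exists_inv_constituent (actSub act C hCs) p hP (Q.subgroupOf C) hs hi
    ξ.2 hξP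
  let e : Q.subgroupOf C ≃* Q := Subgroup.subgroupOfEquivOfLe hQC
  have hlift : liftNT Q C ((irrTransport e θC : IrrCharacter Q) : Q → ℂ) =
      (θC : Q.subgroupOf C → ℂ) := by
    funext n
    show (θC : Q.subgroupOf C → ℂ) (e.symm (e n)) = _
    rw [MulEquiv.symm_apply_apply]
  refine ⟨irrTransport e θC, ?_, ?_⟩
  · rw [← classInner_res_liftNT Q C hQC, hlift]
    exact hθC1
  · intro x q
    exact hθC2 x (e.symm q)

include hQC in
/-- constituents of constituents -/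
theorem over_of_res_ne_zero {χ : K → ℂ} (hχ : IsCharacter K χ) (ξ : IrrCharacter C)
    (h1 : classInner (fun c : C => χ c) (ξ : C → ℂ) ≠ 0) {θ : Q → ℂ} (hθ : IsIrrCharacter Q θ)
    (h2 : classInner (resNT Q C hQC (ξ : C → ℂ)) θ ≠ 0) :
    classInner (fun q : Q => χ q) θ ≠ 0 :=
  classInner_comp_ne_zero_of_constituent (Subgroup.inclusion hQC) (isCharacter_res C hχ) ξ.2 h1
    hθ h2

/-- lying over is invariant under conjugation by `C` -/
theorem over_conj_of_mem (ξ : IrrCharacter C) (θ : Q → ℂ) (c : C) :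
    classInner (resNT Q C hQC (ξ : C → ℂ)) (Helper75.conjFun Q (c : K) θ) =
      classInner (resNT Q C hQC (ξ : C → ℂ)) θ := by
  rw [← classInner_res_liftNT Q C hQC, ← classInner_res_liftNT Q C hQC, ← conjFun_liftNT_eq,
    classInner_res_conjFun (Q.subgroupOf C) (isClassFunction_irr ξ) c]

include hP hQs hQC hQi hQp hC in
theorem global_forward (χ : IrrCharacter K)
    (hχP : ∀ (x : P) (k : K), (χ : K → ℂ) (act x k) = (χ : K → ℂ) k) :
    ∃ ξ₀ : IrrCharacter C,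
      (∀ (x : P) (c : C), (ξ₀ : C → ℂ) (actSub act C hCs x c) = (ξ₀ : C → ℂ) c) ∧
      (∃ m : ℕ, classInner (fun c : C => (χ : K → ℂ) c) (ξ₀ : C → ℂ) = m ∧
        ((m : ℤ) ≡ 1 [ZMOD p] ∨ (m : ℤ) ≡ -1 [ZMOD p])) ∧
      ∀ ξ : IrrCharacter C,
        (∀ (x : P) (c : C), (ξ : C → ℂ) (actSub act C hCs x c) = (ξ : C → ℂ) c) → ξ ≠ ξ₀ →
        ∃ m : ℕ, classInner (fun c : C => (χ : K → ℂ) c) (ξ : C → ℂ) = m ∧ p ∣ m := by
  classical
  have hχc : IsCharacter K (χ : K → ℂ) := IsIrrCharacter.isCharacter χ.2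
  obtain ⟨θ, hover, hθP⟩ := exists_inv_constituent act p hP Q hQs hQi χ.2 hχP
  let T : Subgroup K := inertiaSubgroup Q (θ : Q → ℂ)
  have : Fintype T := Fintype.ofFinite T
  have : Fintype (T.subgroupOf C) := Fintype.ofFinite _
  have : Fintype (Q.subgroupOf T) := Fintype.ofFinite _
  have : Fintype ((Q.subgroupOf C).subgroupOf (T.subgroupOf C)) := Fintype.ofFinite _
  have hTs : ActStable act T := actStable_inertiaSubgroup act Q hQs hθP
  have hQT : Q ≤ T := le_inertiaSubgroup Q (isClassFunction_irr θ)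
  have hT : ∀ g : K, g ∈ T ↔ Helper75.conjFun Q g (θ : Q → ℂ) = (θ : Q → ℂ) := fun g => Iff.rfl
  obtain ⟨ξ₀, hξ₀P, hξ₀ov, hξ₀m, hothers⟩ := key_forward act p hP Q C T hQs hCs hTs hQC hQT hQi
    hQp hC θ.2 hθP hT χ hχP hover
  refine ⟨ξ₀, hξ₀P, hξ₀m, ?_⟩
  intro ξ hξP hne
  obtain ⟨m, hm⟩ := IsCharacter.exists_nat_classInner (isCharacter_res C hχc) ξ
  by_cases hm0 : m = 0
  · exact ⟨m, hm, by rw [hm0]; exact dvd_zero p⟩
  · have hne0 : classInner (fun c : C => (χ : K → ℂ) c) (ξ : C → ℂ) ≠ 0 := by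
      rw [hm]
      exact_mod_cast hm0
    -- `ξ` lies over `θ`
    obtain ⟨θ', hθ'ov, hθ'P⟩ := exists_inv_constituent_sub act p hP Q C hQs hCs hQC hQi ξ hξP
    have hover' : classInner (fun q : Q => (χ : K → ℂ) q) (θ' : Q → ℂ) ≠ 0 :=
      over_of_res_ne_zero Q C hQC hχc ξ hne0 θ'.2 hθ'ov
    have hconj := clifford_conj Q χ.2 θ.2 θ'.2 hover hover'
    obtain ⟨c, hcfix, hc⟩ := exists_relFix_conj act Q hQs p hP hQi hθP hθ'P hconj
    have hcC : c ∈ C := by
      rw [hC]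
      exact (mem_relFix act Q hQs c).1 hcfix
    have hovξ : classInner (resNT Q C hQC (ξ : C → ℂ)) (θ : Q → ℂ) ≠ 0 := by
      rw [← over_conj_of_mem Q C hQC ξ (θ : Q → ℂ) ⟨c, hcC⟩]
      show classInner (resNT Q C hQC (ξ : C → ℂ)) (Helper75.conjFun Q c (θ : Q → ℂ)) ≠ 0
      rw [hc]
      exact hθ'ov
    exact hothers ξ hovξ hne

include hP hQs hQC hQi hQp hC in
theorem global_backward (ξ : IrrCharacter C)
    (hξP : ∀ (x : P) (c : C), (ξ : C → ℂ) (actSub act C hCs x c) = (ξ : C → ℂ) c) :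
    ∃ χ : IrrCharacter K, (∀ (x : P) (k : K), (χ : K → ℂ) (act x k) = (χ : K → ℂ) k) ∧
      ∃ m : ℕ, classInner (fun c : C => (χ : K → ℂ) c) (ξ : C → ℂ) = m ∧ ¬ p ∣ m := by
  classical
  obtain ⟨θ, hov, hθP⟩ := exists_inv_constituent_sub act p hP Q C hQs hCs hQC hQi ξ hξP
  let T : Subgroup K := inertiaSubgroup Q (θ : Q → ℂ)
  have : Fintype T := Fintype.ofFinite T
  have : Fintype (T.subgroupOf C) := Fintype.ofFinite _
  have : Fintype (Q.subgroupOf T) := Fintype.ofFinite _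
  have : Fintype ((Q.subgroupOf C).subgroupOf (T.subgroupOf C)) := Fintype.ofFinite _
  have hTs : ActStable act T := actStable_inertiaSubgroup act Q hQs hθP
  have hQT : Q ≤ T := le_inertiaSubgroup Q (isClassFunction_irr θ)
  have hT : ∀ g : K, g ∈ T ↔ Helper75.conjFun Q g (θ : Q → ℂ) = (θ : Q → ℂ) := fun g => Iff.rfl
  exact key_backward act p hP Q C T hQs hTs hQC hQT hQi hQp hC θ.2 hθP hT ξ hov

include hP hQs hQC hQi hQp hC in
theorem global_unique (ξ : IrrCharacter C)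
    (hξP : ∀ (x : P) (c : C), (ξ : C → ℂ) (actSub act C hCs x c) = (ξ : C → ℂ) c)
    (χ χ' : IrrCharacter K)
    (hχP : ∀ (x : P) (k : K), (χ : K → ℂ) (act x k) = (χ : K → ℂ) k)
    (hχ'P : ∀ (x : P) (k : K), (χ' : K → ℂ) (act x k) = (χ' : K → ℂ) k)
    (h : ∃ m : ℕ, classInner (fun c : C => (χ : K → ℂ) c) (ξ : C → ℂ) = m ∧ ¬ p ∣ m)
    (h' : ∃ m : ℕ, classInner (fun c : C => (χ' : K → ℂ) c) (ξ : C → ℂ) = m ∧ ¬ p ∣ m) :
    χ = χ' := by
  classical
  obtain ⟨θ, hov, hθP⟩ := exists_inv_constituent_sub act p hP Q C hQs hCs hQC hQi ξ hξP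
  let T : Subgroup K := inertiaSubgroup Q (θ : Q → ℂ)
  have : Fintype T := Fintype.ofFinite T
  have : Fintype (T.subgroupOf C) := Fintype.ofFinite _
  have : Fintype (Q.subgroupOf T) := Fintype.ofFinite _
  have : Fintype ((Q.subgroupOf C).subgroupOf (T.subgroupOf C)) := Fintype.ofFinite _
  have hTs : ActStable act T := actStable_inertiaSubgroup act Q hQs hθP
  have hQT : Q ≤ T := le_inertiaSubgroup Q (isClassFunction_irr θ)
  have hT : ∀ g : K, g ∈ T ↔ Helper75.conjFun Q g (θ : Q → ℂ) = (θ : Q → ℂ) := fun g => Iff.rfl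
  have hne : ∀ (χ : IrrCharacter K),
      (∃ m : ℕ, classInner (fun c : C => (χ : K → ℂ) c) (ξ : C → ℂ) = m ∧ ¬ p ∣ m) →
      classInner (fun c : C => (χ : K → ℂ) c) (ξ : C → ℂ) ≠ 0 := by
    rintro χ ⟨m, hm, hpm⟩
    rw [hm]
    intro h0
    apply hpm
    have : m = 0 := by exact_mod_cast h0
    rw [this]
    exact dvd_zero p
  have hover : classInner (fun q : Q => (χ : K → ℂ) q) (θ : Q → ℂ) ≠ 0 :=
    over_of_res_ne_zero Q C hQC (IsIrrCharacter.isCharacter χ.2) ξ (hne χ h) θ.2 hov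
  have hover' : classInner (fun q : Q => (χ' : K → ℂ) q) (θ : Q → ℂ) ≠ 0 :=
    over_of_res_ne_zero Q C hQC (IsIrrCharacter.isCharacter χ'.2) ξ (hne χ' h') θ.2 hov
  exact key_unique act p hP Q C T hQs hTs hQC hQT hQi hQp hC θ.2 hθP hT ξ hov χ χ' hχP hχ'P
    hover hover' h h'

end RelGlobal

end Cfsg.Agent.Lib.Helper81
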