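import Mathlib
import Cfsg.Prelude.Def_Characters
import Cfsg.Agent.Lib.Helper81.RelGlobal

/-!
# The relative Glauberman correspondence (helper81)

`rel_glauberman_abstract`: `P` (a `p`-group) acts on `K` with a stable normal Sylow
`p`-subgroup `Q`; `C` is the preimage of the fixed points of `P` on `K ⧸ Q`.  There is a bijection
`f` from the invariant irreducible characters of `K` onto those of `C` with
`[χ_C, f χ] ≡ ±1`, `p ∣ [χ_C, ξ]` for the other invariant `ξ`, and `f χ (1) ≡ ± χ(1)` modulo `p`.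
-/

set_option autoImplicit false
set_option linter.unusedSectionVars false

namespace Cfsg.Agent.Lib.Helper81

open Cfsg MulAction
open Cfsg.Agent.Lib.Helper75 Cfsg.Agent.Lib.Helper78

universe u v

theorem not_dvd_of_modEq_one_or_neg_one {p : ℕ} (hp : p.Prime) {m : ℕ}
    (h : (m : ℤ) ≡ 1 [ZMOD p] ∨ (m : ℤ) ≡ -1 [ZMOD p]) : ¬ p ∣ m := by
  intro hd
  have hd' : ((p : ℤ)) ∣ (m : ℤ) := by exact_mod_cast hd
  have h0 : (m : ℤ) ≡ 0 [ZMOD p] := (Int.modEq_zero_iff_dvd).2 hd'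
  have hp2 := hp.two_le
  rcases h with h | h
  · have h1 : (0 : ℤ) ≡ 1 [ZMOD p] := h0.symm.trans h
    have h2 := (Int.modEq_iff_dvd.1 h1)
    have h3 : ((p : ℤ)) ∣ 1 := by simpa using h2
    have h4 := Int.le_of_dvd one_pos h3
    omega
  · have h1 : (0 : ℤ) ≡ -1 [ZMOD p] := h0.symm.trans h
    have h2 := (Int.modEq_iff_dvd.1 h1)
    have h3 : ((p : ℤ)) ∣ 1 := by
      have : ((p : ℤ)) ∣ -1 := by simpa using h2
      exact (dvd_neg.mp this)
    have h4 := Int.le_of_dvd one_pos h3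
    omega

section RelMain

variable {K : Type u} [Group K] [Fintype K] {P : Type v} [Group P] (act : P →* MulAut K)
  (p : ℕ) [Fact p.Prime] (hP : IsPGroup p P)
  (Q C : Subgroup K) [hQn : Q.Normal] [Fintype Q] [Fintype C] [Fintype (Q.subgroupOf C)]
  (hQs : ActStable act Q) (hCs : ActStable act C)
  (hQC : Q ≤ C) (hQi : ¬ p ∣ Q.index) (hQp : ∃ k : ℕ, Nat.card Q = p ^ k)
  (hC : ∀ k : K, k ∈ C ↔ ∀ x : P, act x k * k⁻¹ ∈ Q)

include hP in
/-- the degree congruence -/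
theorem degree_congr (χ : IrrCharacter K)
    (hχP : ∀ (x : P) (k : K), (χ : K → ℂ) (act x k) = (χ : K → ℂ) k) (ξ₀ : IrrCharacter C)
    (hξ₀P : ∀ (x : P) (c : C), (ξ₀ : C → ℂ) (actSub act C hCs x c) = (ξ₀ : C → ℂ) c) (m₀ : ℕ)
    (hm₀ : classInner (fun c : C => (χ : K → ℂ) c) (ξ₀ : C → ℂ) = m₀)
    (hothers : ∀ ξ : IrrCharacter C,
      (∀ (x : P) (c : C), (ξ : C → ℂ) (actSub act C hCs x c) = (ξ : C → ℂ) c) → ξ ≠ ξ₀ →
      ∃ m : ℕ, classInner (fun c : C => (χ : K → ℂ) c) (ξ : C → ℂ) = m ∧ p ∣ m) :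
    (charDegree (χ : K → ℂ) : ZMod p) = (m₀ : ZMod p) * (charDegree (ξ₀ : C → ℂ) : ZMod p) := by
  classical
  have hχc : IsCharacter K (χ : K → ℂ) := IsIrrCharacter.isCharacter χ.2
  have hres : IsCharacter C (fun c : C => (χ : K → ℂ) c) := isCharacter_res C hχc
  choose mm hmm using fun ξ : IrrCharacter C => IsCharacter.exists_nat_classInner hres ξ
  have hdeg : charDegree (χ : K → ℂ) =
      ∑ ξ : IrrCharacter C, mm ξ * charDegree (ξ : C → ℂ) := by
    have h1 := congrFun (IsCharacter.eq_sum_irr hres) 1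
    simp only [Finset.sum_apply, Pi.smul_apply, smul_eq_mul, hmm] at h1
    have h2 : (χ : K → ℂ) ((1 : C) : K) = (charDegree (χ : K → ℂ) : ℂ) := by
      rw [OneMemClass.coe_one]
      exact IsCharacter.apply_one_eq_charDegree hχc
    rw [h2] at h1
    have h3 : ∀ ξ : IrrCharacter C, (ξ : C → ℂ) 1 = (charDegree (ξ : C → ℂ) : ℂ) := fun ξ =>
      IsCharacter.apply_one_eq_charDegree (IsIrrCharacter.isCharacter ξ.2)
    simp only [h3] at h1
    exact_mod_cast h1
  let _ : MulAction P (IrrCharacter C) := autActIrr (actSub act C hCs)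
  let F : IrrCharacter C → ℕ := fun ξ => mm ξ * charDegree (ξ : C → ℂ)
  have hF : ∀ (x : P) (ξ : IrrCharacter C), F (x • ξ) = F ξ := by
    intro x ξ
    have h1 : mm (x • ξ) = mm ξ := by
      have h2 := classInner_smul_autActIrr (actSub act C hCs) (fun c : C => (χ : K → ℂ) c)
        (fun x c => hχP x (c : K)) x ξ
      rw [hmm, hmm] at h2
      exact_mod_cast h2
    have h3 : charDegree ((x • ξ : IrrCharacter C) : C → ℂ) = charDegree (ξ : C → ℂ) := by
      unfold charDegree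
      have : ((x • ξ : IrrCharacter C) : C → ℂ) 1 = (ξ : C → ℂ) 1 := by
        show (ξ : C → ℂ) (actSub act C hCs x⁻¹ 1) = (ξ : C → ℂ) 1
        rw [map_one]
      rw [this]
    show mm (x • ξ) * charDegree ((x • ξ : IrrCharacter C) : C → ℂ) = mm ξ * charDegree (ξ : C → ℂ)
    rw [h1, h3]
  have hsum := sum_nat_modEq_sum_fixedPoints p hP F hF
  have hξ₀mem : ξ₀ ∈ Finset.univ.filter (· ∈ fixedPoints P (IrrCharacter C)) := by
    rw [Finset.mem_filter]
    exact ⟨Finset.mem_univ _, (mem_fixedPoints_autActIrr_iff (actSub act C hCs) ξ₀).2 hξ₀P⟩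
  have hsplit := Finset.add_sum_erase _ F hξ₀mem
  have hdvd : p ∣ ∑ ξ ∈ (Finset.univ.filter (· ∈ fixedPoints P (IrrCharacter C))).erase ξ₀, F ξ := by
    apply Finset.dvd_sum
    intro ξ hξ
    rw [Finset.mem_erase, Finset.mem_filter] at hξ
    have hξP := (mem_fixedPoints_autActIrr_iff (actSub act C hCs) ξ).1 hξ.2.2
    obtain ⟨m, hm, hpm⟩ := hothers ξ hξP hξ.1
    have : mm ξ = m := by
      have := (hmm ξ).symm.trans hm
      exact_mod_cast this
    show p ∣ mm ξ * charDegree (ξ : C → ℂ)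
    rw [this]
    exact hpm.mul_right _
  have hm₀' : mm ξ₀ = m₀ := by
    have := (hmm ξ₀).symm.trans hm₀
    exact_mod_cast this
  have hfinal : charDegree (χ : K → ℂ) ≡ m₀ * charDegree (ξ₀ : C → ℂ) [MOD p] := by
    rw [hdeg]
    refine hsum.trans ?_
    rw [← hsplit]
    show mm ξ₀ * charDegree (ξ₀ : C → ℂ) + _ ≡ _ [MOD p]
    rw [hm₀']
    have h0 : ∑ ξ ∈ (Finset.univ.filter (· ∈ fixedPoints P (IrrCharacter C))).erase ξ₀, F ξ ≡ 0
        [MOD p] := Nat.modEq_zero_iff_dvd.2 hdvd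
    have := Nat.ModEq.add_left (m₀ * charDegree (ξ₀ : C → ℂ)) h0
    simpa using this
  have := (ZMod.natCast_eq_natCast_iff _ _ p).2 hfinal
  rw [this]
  push_cast
  rfl

include hP hQs hQC hQi hQp hC in
theorem rel_glauberman_abstract :
    ∃ f : {χ : IrrCharacter K // ∀ (x : P) (k : K), (χ : K → ℂ) (act x k) = (χ : K → ℂ) k} →
        {ξ : IrrCharacter C //
          ∀ (x : P) (c : C), (ξ : C → ℂ) (actSub act C hCs x c) = (ξ : C → ℂ) c},
      Function.Bijective f ∧ ∀ χ,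
        (∀ ξ, ∃ m : ℕ, classInner (fun c : C => (χ.1 : K → ℂ) c) (ξ.1 : C → ℂ) = m ∧
          (ξ = f χ → ((m : ℤ) ≡ 1 [ZMOD p] ∨ (m : ℤ) ≡ -1 [ZMOD p])) ∧ (ξ ≠ f χ → p ∣ m)) ∧
        ((charDegree ((f χ).1 : C → ℂ) : ZMod p) = (charDegree (χ.1 : K → ℂ) : ZMod p) ∨
          (charDegree ((f χ).1 : C → ℂ) : ZMod p) = -(charDegree (χ.1 : K → ℂ) : ZMod p)) := by
  classical
  have hp := (Fact.out : p.Prime)
  choose g hg using fun χ : {χ : IrrCharacter K //
      ∀ (x : P) (k : K), (χ : K → ℂ) (act x k) = (χ : K → ℂ) k} =>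
    global_forward act p hP Q C hQs hCs hQC hQi hQp hC χ.1 χ.2
  refine ⟨fun χ => ⟨g χ, (hg χ).1⟩, ⟨?_, ?_⟩, ?_⟩
  · -- injective
    intro χ χ' hχχ'
    have hgg : g χ = g χ' := congrArg Subtype.val hχχ'
    obtain ⟨m, hm, hm'⟩ := (hg χ).2.1
    obtain ⟨m', hm2, hm2'⟩ := (hg χ').2.1
    rw [← hgg] at hm2
    apply Subtype.ext
    exact global_unique act p hP Q C hQs hCs hQC hQi hQp hC (g χ) (hg χ).1 χ.1 χ'.1 χ.2 χ'.2
      ⟨m, hm, not_dvd_of_modEq_one_or_neg_one hp hm'⟩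
      ⟨m', hm2, not_dvd_of_modEq_one_or_neg_one hp hm2'⟩
  · -- surjective
    intro ξ
    obtain ⟨χ, hχP, m, hm, hpm⟩ := global_backward act p hP Q C hQs hCs hQC hQi hQp hC ξ.1 ξ.2
    refine ⟨⟨χ, hχP⟩, ?_⟩
    by_contra hne
    have hne' : ξ.1 ≠ g ⟨χ, hχP⟩ := by
      intro h
      apply hne
      apply Subtype.ext
      exact h.symm
    obtain ⟨m', hm', hpm'⟩ := (hg ⟨χ, hχP⟩).2.2 ξ.1 ξ.2 hne'
    have : m = m' := by
      have := hm.symm.trans hm'
      exact_mod_cast this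
    rw [this] at hpm
    exact hpm hpm'
  · intro χ
    refine ⟨?_, ?_⟩
    · intro ξ
      by_cases h : ξ = ⟨g χ, (hg χ).1⟩
      · obtain ⟨m, hm, hm'⟩ := (hg χ).2.1
        refine ⟨m, ?_, fun _ => hm', fun hne => absurd h hne⟩
        rw [h]
        exact hm
      · obtain ⟨m, hm, hpm⟩ := (hg χ).2.2 ξ.1 ξ.2 (fun h' => h (Subtype.ext h'))
        exact ⟨m, hm, fun h' => absurd h' h, fun _ => hpm⟩
    · obtain ⟨m, hm, hm'⟩ := (hg χ).2.1
      have hdc := degree_congr act p hP C hCs χ.1 χ.2 (g χ) (hg χ).1 m hm (hg χ).2.2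
      show (charDegree ((g χ : IrrCharacter C) : C → ℂ) : ZMod p) = _ ∨
        (charDegree ((g χ : IrrCharacter C) : C → ℂ) : ZMod p) = _
      rw [hdc]
      rcases hm' with h1 | h1
      · left
        have : ((m : ℤ) : ZMod p) = ((1 : ℤ) : ZMod p) := (ZMod.intCast_eq_intCast_iff _ _ p).2 h1
        have h2 : (m : ZMod p) = 1 := by simpa using this
        rw [h2, one_mul]
      · right
        have : ((m : ℤ) : ZMod p) = ((-1 : ℤ) : ZMod p) :=
          (ZMod.intCast_eq_intCast_iff _ _ p).2 h1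
        have h2 : (m : ZMod p) = -1 := by simpa using this
        rw [h2]
        ring

end RelMain

end Cfsg.Agent.Lib.Helper81
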