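import Mathlib
import Cfsg.Prelude.Def_Characters
import Cfsg.Prelude.Def_Blocks
import Cfsg.Agent.Lib.Helper81.RelMain

/-!
# Auxiliary lemmas for the concrete form of the relative Glauberman correspondence (helper81)
-/

set_option autoImplicit false

namespace Cfsg.Agent.Lib.Helper81

open Cfsg

universe u v

/-- a normal Sylow `p`-subgroup is stable under every automorphism action -/
theorem actStable_of_normal_sylow {K : Type u} [Group K] [Finite K] {P : Type v} [Group P]
    (act : P →* MulAut K) (p : ℕ) [Fact p.Prime] (Q : Subgroup K) [hQn : Q.Normal]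
    (hQp : ∃ a : ℕ, Nat.card Q = p ^ a) (hQi : ¬ p ∣ Q.index) : ActStable act Q := by
  have hp := (Fact.out : p.Prime)
  obtain ⟨a, ha⟩ := hQp
  intro x k hk
  have h1 : orderOf k ∣ p ^ a := by
    rw [← ha]
    have := orderOf_dvd_natCard (⟨k, hk⟩ : Q)
    rwa [Subgroup.orderOf_mk] at this
  have h2 : orderOf (act x k) = orderOf k := MulEquiv.orderOf_eq (act x) k
  have h3 : orderOf (QuotientGroup.mk' Q (act x k)) ∣ p ^ a := by
    have := orderOf_map_dvd (QuotientGroup.mk' Q) (act x k)
    rw [h2] at this
    exact this.trans h1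
  have h4 : orderOf (QuotientGroup.mk' Q (act x k)) ∣ Q.index := by
    rw [Subgroup.index_eq_card]
    exact orderOf_dvd_natCard _
  have hcop : Nat.Coprime (p ^ a) Q.index :=
    Nat.Coprime.pow_left a ((Nat.Prime.coprime_iff_not_dvd hp).2 hQi)
  have h5 : orderOf (QuotientGroup.mk' Q (act x k)) = 1 :=
    Nat.eq_one_of_dvd_coprimes hcop h3 h4
  rw [orderOf_eq_one_iff] at h5
  exact (QuotientGroup.eq_one_iff _).1 h5

/-- irreducible characters of isomorphic groups -/
noncomputable def irrEquivOfMulEquiv {A B : Type*} [Group A] [Group B] (e : A ≃* B) :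
    IrrCharacter A ≃ IrrCharacter B where
  toFun := irrTransport e
  invFun := irrTransport e.symm
  left_inv := irrTransport_symm_irrTransport e
  right_inv := irrTransport_irrTransport_symm e

theorem irrEquivOfMulEquiv_apply {A B : Type*} [Group A] [Group B] (e : A ≃* B)
    (β : IrrCharacter A) : irrEquivOfMulEquiv e β = irrTransport e β := rfl

theorem charDegree_irrTransport {A B : Type*} [Group A] [Group B] (e : A ≃* B)
    (β : IrrCharacter A) :
    charDegree ((irrTransport e β : IrrCharacter B) : B → ℂ) = charDegree (β : A → ℂ) := by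
  unfold charDegree
  rw [irrTransport_apply, map_one]

theorem actStable_of_mem_iff {K : Type u} [Group K] {P : Type v} [Group P]
    (act : P →* MulAut K) (Q C : Subgroup K) [hQn : Q.Normal] (hQs : ActStable act Q)
    (hC : ∀ k : K, k ∈ C ↔ ∀ x : P, act x k * k⁻¹ ∈ Q) : ActStable act C := by
  have : C = relFix act Q hQs :=
    Subgroup.ext fun k => (hC k).trans (mem_relFix act Q hQs k).symm
  rw [this]
  exact actStable_relFix act Q hQs

end Cfsg.Agent.Lib.Helper81
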