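import Mathlib
import Cfsg.Agent.S4914
import Cfsg.Agent.Lib.Helper81.RXGroup
import Cfsg.Agent.Lib.Helper81.RNCore
import Cfsg.Agent.Lib.Helper81.RelConcrete
import Cfsg.Agent.Lib.Helper75.OddIndexParity

/-!
# The real correspondence `Irr_P(K) → Irr_P(K ∩ N_G(P))` (helper81)

From the relative Glauberman correspondence `S4914`: an `N_G(P)`-equivariant bijection, commuting
with complex conjugation, with degrees congruent up to sign modulo `p`, transported to the normal
subgroup `K.subgroupOf N_G(P)` of `N_G(P)`.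
-/

set_option autoImplicit false
set_option linter.unusedSectionVars false
set_option linter.style.haveILetI false
set_option maxHeartbeats 400000

namespace Cfsg.Agent.Lib.Helper81.RealExt

open Cfsg Cfsg.Agent.Lib.Helper75 Cfsg.Agent.Lib.Helper78 Cfsg.Agent.Lib.Helper81
open scoped ComplexConjugate

universe u

section Corr

variable {G : Type u} [Group G] (p : ℕ) [hp : Fact p.Prime] (K : Subgroup G)
  [hKn : K.Normal] (P : Sylow p G)

/-- the normalizer of `P` -/
abbrev NP : Subgroup G := Subgroup.normalizer ((P : Subgroup G) : Set G)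

/-- `K ∩ N_G(P)` as a subgroup of `G` -/
abbrev CG : Subgroup G := K ⊓ NP p P

/-- `K ∩ N_G(P)` as a subgroup of `N_G(P)` -/
abbrev CN : Subgroup (NP p P) := K.subgroupOf (NP p P)

theorem cn_normal : (CN p K P).Normal := inferInstance

/-- the identification of the two versions of `K ∩ N_G(P)` -/
def eC : CN p K P ≃* CG p K P where
  toFun c := ⟨((c : NP p P) : G), ⟨Subgroup.mem_subgroupOf.mp c.2, (c : NP p P).2⟩⟩
  invFun c := ⟨⟨(c : G), c.2.2⟩, Subgroup.mem_subgroupOf.mpr c.2.1⟩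
  left_inv := fun _ => rfl
  right_inv := fun _ => rfl
  map_mul' := fun _ _ => rfl

theorem eC_coe (c : CN p K P) : ((eC p K P c : CG p K P) : G) = ((c : NP p P) : G) := rfl

theorem np_le_normalizer_cg :
    NP p P ≤ Subgroup.normalizer ((CG p K P : Subgroup G) : Set G) := by
  intro n hn
  have hfwd : ∀ m : G, m ∈ NP p P → ∀ h, h ∈ CG p K P → m * h * m⁻¹ ∈ CG p K P := by
    intro m hm h hh
    exact ⟨hKn.conj_mem h hh.1 m,
      (NP p P).mul_mem ((NP p P).mul_mem hm hh.2) ((NP p P).inv_mem hm)⟩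
  rw [Subgroup.mem_normalizer_iff]
  intro h
  constructor
  · exact hfwd n hn h
  · intro hh
    have := hfwd n⁻¹ ((NP p P).inv_mem hn) _ hh
    have h2 : n⁻¹ * (n * h * n⁻¹) * n⁻¹⁻¹ = h := by group
    rwa [h2] at this

/-- the action of `N_G(P)` on `K ∩ N_G(P)` -/
noncomputable def actC : ↥(NP p P) →* MulAut ↥(CG p K P) :=
  Cfsg.Agent.S4911.normAct (NP p P) (CG p K P) (np_le_normalizer_cg p K P)

theorem actC_coe (n : NP p P) (c : CG p K P) :
    ((actC p K P n c : CG p K P) : G) = (n : G) * c * (n : G)⁻¹ := rfl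

/-- conjugation by `n ∈ N_G(P)` on `Irr(K ∩ N_G(P))` -/
noncomputable def conjC (n : NP p P) (ξ : IrrCharacter (CG p K P)) : IrrCharacter (CG p K P) :=
  ⟨fun c => (ξ : CG p K P → ℂ) (actC p K P n⁻¹ c),
    isIrrCharacter_comp_mulEquiv ξ.2 (actC p K P n⁻¹)⟩

/-- `P`-invariance, in the form of `S4914`, on `K` -/
def PInvK (θ : IrrCharacter K) : Prop :=
  ∀ x ∈ (P : Subgroup G), ∀ k k' : K, (k' : G) = x * (k : G) * x⁻¹ →
    (θ : K → ℂ) k' = (θ : K → ℂ) k

/-- `P`-invariance, in the form of `S4914`, on `K ∩ N_G(P)` -/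
def PInvC (ξ : IrrCharacter (CG p K P)) : Prop :=
  ∀ x ∈ (P : Subgroup G), ∀ k k' : CG p K P, (k' : G) = x * (k : G) * x⁻¹ →
    (ξ : CG p K P → ℂ) k' = (ξ : CG p K P → ℂ) k

theorem pinvK_iff (θ : IrrCharacter K) :
    PInvK p K P θ ↔ ∀ u ∈ (P : Subgroup G), conjIrr K u θ = θ := by
  constructor
  · intro h u hu
    rw [← RealNorm.relI_iff_smul]
    intro k
    exact h u hu k _ (by simp [MulAut.conjNormal_apply])
  · intro h x hx k k' hk'
    have h1 := (RealNorm.relI_iff_smul K θ θ x).mpr (h x hx) k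
    have h2 : k' = MulAut.conjNormal x k := Subtype.ext (by simp [MulAut.conjNormal_apply, hk'])
    rw [h2]
    exact h1

theorem le_normalizer_self : (P : Subgroup G) ≤ NP p P := Subgroup.le_normalizer

theorem pinvK_conjIrr (n : G) (hn : n ∈ NP p P) (θ : IrrCharacter K) (h : PInvK p K P θ) :
    PInvK p K P (conjIrr K n θ) := by
  rw [pinvK_iff] at h ⊢
  intro u hu
  have hu' : n⁻¹ * u * n⁻¹⁻¹ ∈ (P : Subgroup G) :=
    (Subgroup.mem_normalizer_iff.mp ((NP p P).inv_mem hn) u).mp hu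
  have h1 := h _ hu'
  have h2 : u * n = n * (n⁻¹ * u * n⁻¹⁻¹) := by group
  rw [← conjIrr_mul, h2, conjIrr_mul, h1]

theorem pinvC_conjC (n : NP p P) (ξ : IrrCharacter (CG p K P)) (h : PInvC p K P ξ) :
    PInvC p K P (conjC p K P n ξ) := by
  intro x hx k k' hk'
  show (ξ : CG p K P → ℂ) (actC p K P n⁻¹ k') = (ξ : CG p K P → ℂ) (actC p K P n⁻¹ k)
  have hx' : (n : G)⁻¹ * x * (n : G)⁻¹⁻¹ ∈ (P : Subgroup G) :=
    (Subgroup.mem_normalizer_iff.mp ((NP p P).inv_mem n.2) x).mp hx
  apply h _ hx'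
  rw [actC_coe, actC_coe, hk']
  simp only [Subgroup.coe_inv]
  group

/-- complex conjugate of an irreducible character of `K ∩ N_G(P)` -/
noncomputable def barC (ξ : IrrCharacter (CG p K P)) : IrrCharacter (CG p K P) :=
  ⟨fun c => conj ((ξ : CG p K P → ℂ) c), isIrrCharacter_conj ξ.2⟩

theorem pinvK_bar (θ : IrrCharacter K) (h : PInvK p K P θ) : PInvK p K P (barIrr θ) := by
  intro x hx k k' hk'
  show conj ((θ : K → ℂ) k') = conj ((θ : K → ℂ) k)
  rw [h x hx k k' hk']

theorem pinvC_bar (ξ : IrrCharacter (CG p K P)) (h : PInvC p K P ξ) :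
    PInvC p K P (barC p K P ξ) := by
  intro x hx k k' hk'
  show conj ((ξ : CG p K P → ℂ) k') = conj ((ξ : CG p K P → ℂ) k)
  rw [h x hx k k' hk']

/-- the multiplicity pairing -/
noncomputable def mult [Fintype (CG p K P)] (χ : IrrCharacter K) (ξ : IrrCharacter (CG p K P)) :
    ℂ :=
  classInner (fun c : CG p K P => (χ : K → ℂ) (Subgroup.inclusion inf_le_left c))
    (ξ : CG p K P → ℂ)

theorem mult_conj [Fintype (CG p K P)] (n : NP p P) (χ : IrrCharacter K)
    (ξ : IrrCharacter (CG p K P)) :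
    mult p K P (conjIrr K (n : G) χ) (conjC p K P n ξ) = mult p K P χ ξ := by
  unfold mult
  have h1 : (fun c : CG p K P => (conjIrr K (n : G) χ : K → ℂ) (Subgroup.inclusion inf_le_left c)) =
      (fun c : CG p K P => (χ : K → ℂ) (Subgroup.inclusion inf_le_left c)) ∘
        (actC p K P n⁻¹).toEquiv := by
    funext c
    show (χ : K → ℂ) (MulAut.conjNormal (n : G)⁻¹ (Subgroup.inclusion inf_le_left c)) = _
    refine congrArg (χ : K → ℂ) ?_
    apply Subtype.ext
    rfl
  have h2 : ((conjC p K P n ξ : IrrCharacter (CG p K P)) : CG p K P → ℂ) =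
      (ξ : CG p K P → ℂ) ∘ (actC p K P n⁻¹).toEquiv := rfl
  rw [h1, h2]
  exact classInner_comp_equiv_gen _ _ _

theorem mult_bar [Fintype (CG p K P)] (χ : IrrCharacter K) (ξ : IrrCharacter (CG p K P)) :
    mult p K P (barIrr χ) (barC p K P ξ) = conj (mult p K P χ ξ) := by
  unfold mult
  exact classInner_conj_conj _ _

end Corr

end Cfsg.Agent.Lib.Helper81.RealExt
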