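import Mathlib
import Cfsg.Agent.Lib.Helper81.RXCorr
import Cfsg.Agent.Lib.Helper81.RealPrimeGroup

/-!
# The real correspondence, interface (helper81)

`exists_corr`: an injective map `g` from the `P`-invariant irreducible characters of `K` onto the
`P`-invariant irreducible characters of `K.subgroupOf N_G(P)`, equivariant under `N_G(P)`,
commuting with complex conjugation, with degrees congruent modulo `p` up to sign.
-/

set_option autoImplicit false
set_option linter.unusedSectionVars false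
set_option linter.style.haveILetI false
set_option maxHeartbeats 400000

namespace Cfsg.Agent.Lib.Helper81.RealExt

open Cfsg Cfsg.Agent.Lib.Helper75 Cfsg.Agent.Lib.Helper78 Cfsg.Agent.Lib.Helper81
open scoped ComplexConjugate

universe u

section Main

variable {G : Type u} [Group G] [Finite G] (p : ℕ) [hp : Fact p.Prime] (K : Subgroup G)
  [hKn : K.Normal] (P : Sylow p G) (Q : Subgroup G) [hQn : Q.Normal]

theorem not_dvd_of_zmod_one_or_neg_one {m : ℕ}
    (h : (m : ZMod p) = 1 ∨ (m : ZMod p) = -1) : ¬ p ∣ m := by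
  intro hd
  have h0 : (m : ZMod p) = 0 := (ZMod.natCast_eq_zero_iff m p).mpr hd
  rw [h0] at h
  rcases h with h | h
  · exact zero_ne_one h
  · have : (1 : ZMod p) = 0 := by
      have := congrArg (fun z => -z) h
      simpa using this.symm
    exact one_ne_zero this

/-- the correspondence of `S4914` with its characterisation by multiplicities -/
theorem exists_corrC [Fintype (CG p K P)] (hQK : Q ≤ K) (hQp : IsPGroup p Q)
    (hQsyl : ¬ p ∣ Q.relIndex K) :
    ∃ f : {χ : IrrCharacter K // PInvK p K P χ} → {ξ : IrrCharacter (CG p K P) // PInvC p K P ξ},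
      Function.Bijective f ∧
      (∀ χ ξ, ξ = f χ ↔ ∃ m : ℕ, mult p K P χ.1 ξ.1 = m ∧ ¬ p ∣ m) ∧
      (∀ χ, (charDegree ((f χ).1 : CG p K P → ℂ) : ZMod p) = (charDegree (χ.1 : K → ℂ) : ZMod p) ∨
        (charDegree ((f χ).1 : CG p K P → ℂ) : ZMod p) = -(charDegree (χ.1 : K → ℂ) : ZMod p)) := by
  classical
  have hQP : Q ≤ (P : Subgroup G) := le_sylow_of_normal_pgroup Q hQp P
  have hPK : (P : Subgroup G) ≤ Subgroup.normalizer (K : Set G) := by
    intro x _
    rw [Subgroup.mem_normalizer_iff]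
    intro h
    constructor
    · intro hh; exact hKn.conj_mem h hh x
    · intro hh
      have := hKn.conj_mem _ hh x⁻¹
      have h2 : x⁻¹ * (x * h * x⁻¹) * x⁻¹⁻¹ = h := by group
      rwa [h2] at this
  obtain ⟨f, hbij, hf⟩ := Cfsg.Agent.S4914.result p (P : Subgroup G) K Q (CG p K P) P.isPGroup'
    hPK hQK (fun k _ q hq => hQn.conj_mem q hq k) hQp.exists_card_eq hQsyl inf_le_left
    (mem_inf_normalizer_iff p K Q P hQK hQp hQsyl hQP)
  have hmult : ∀ (χ : IrrCharacter K) (ξ : IrrCharacter (CG p K P)),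
      (Nat.card ↥(CG p K P) : ℂ)⁻¹ * ∑ᶠ c : ↥(CG p K P),
        (χ : K → ℂ) (Subgroup.inclusion inf_le_left c) *
          (starRingEnd ℂ) ((ξ : CG p K P → ℂ) c) = mult p K P χ ξ := by
    intro χ ξ
    unfold mult classInner
    rw [finsum_eq_sum_of_fintype]
  refine ⟨f, hbij, ?_, fun χ => (hf χ).2⟩
  intro χ ξ
  obtain ⟨m, hm, hm1, hm2⟩ := (hf χ).1 ξ
  rw [hmult] at hm
  constructor
  · intro h
    exact ⟨m, hm, not_dvd_of_zmod_one_or_neg_one p (hm1 h)⟩
  · rintro ⟨m', hm', hpm'⟩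
    by_contra hne
    have h1 : (m : ℂ) = (m' : ℂ) := hm.symm.trans hm'
    have h2 : m = m' := by exact_mod_cast h1
    exact hpm' (h2 ▸ hm2 hne)

/-- the transport to the normal subgroup of `N_G(P)` -/
noncomputable def tauC (ξ : IrrCharacter (CG p K P)) : IrrCharacter (CN p K P) :=
  irrTransport (eC p K P).symm ξ

theorem tauC_apply (ξ : IrrCharacter (CG p K P)) (c : CN p K P) :
    (tauC p K P ξ : CN p K P → ℂ) c = (ξ : CG p K P → ℂ) (eC p K P c) := rfl

theorem tauC_injective : Function.Injective (tauC p K P) := by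
  intro ξ ξ' h
  have := congrArg (irrTransport (eC p K P)) h
  unfold tauC at this
  have e1 := irrTransport_symm_irrTransport (eC p K P).symm ξ
  have e2 := irrTransport_symm_irrTransport (eC p K P).symm ξ'
  simp only [MulEquiv.symm_symm] at e1 e2
  rw [e1, e2] at this
  exact this

theorem tauC_surjective : Function.Surjective (tauC p K P) := by
  intro η
  refine ⟨irrTransport (eC p K P) η, ?_⟩
  unfold tauC
  exact irrTransport_symm_irrTransport (eC p K P) η

theorem conjIrr_tauC (n : NP p P) (ξ : IrrCharacter (CG p K P)) :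
    conjIrr (CN p K P) n (tauC p K P ξ) = tauC p K P (conjC p K P n ξ) := by
  apply Subtype.ext
  funext c
  show (ξ : CG p K P → ℂ) (eC p K P (MulAut.conjNormal n⁻¹ c)) =
    (ξ : CG p K P → ℂ) (actC p K P n⁻¹ (eC p K P c))
  refine congrArg (ξ : CG p K P → ℂ) ?_
  apply Subtype.ext
  rfl

theorem tauC_barC (ξ : IrrCharacter (CG p K P)) :
    tauC p K P (barC p K P ξ) = barIrr (tauC p K P ξ) := rfl

/-- `P`-invariance on `Irr(K.subgroupOf N_G(P))` -/
def PInvN (η : IrrCharacter (CN p K P)) : Prop :=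
  ∀ u : NP p P, (u : G) ∈ (P : Subgroup G) → conjIrr (CN p K P) u η = η

theorem pinvN_tauC_iff (ξ : IrrCharacter (CG p K P)) :
    PInvN p K P (tauC p K P ξ) ↔ PInvC p K P ξ := by
  constructor
  · intro h x hx k k' hk'
    have hxN : x ∈ NP p P := le_normalizer_self p P hx
    have h1 := h (⟨x, hxN⟩ : NP p P)⁻¹ (by
      show ((⟨x, hxN⟩ : NP p P)⁻¹ : NP p P).1 ∈ (P : Subgroup G)
      rw [Subgroup.coe_inv]
      exact Subgroup.inv_mem _ hx)
    rw [conjIrr_tauC] at h1
    have h2 := congrArg (fun η : IrrCharacter (CN p K P) => (η : CN p K P → ℂ)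
      ((eC p K P).symm k)) h1
    simp only [tauC_apply, MulEquiv.apply_symm_apply] at h2
    rw [← h2]
    show (ξ : CG p K P → ℂ) k' = (ξ : CG p K P → ℂ) (actC p K P (⟨x, hxN⟩ : NP p P)⁻¹⁻¹ k)
    refine congrArg (ξ : CG p K P → ℂ) ?_
    apply Subtype.ext
    rw [actC_coe, hk', inv_inv]
  · intro h u hu
    rw [conjIrr_tauC]
    congr 1
    apply Subtype.ext
    funext c
    show (ξ : CG p K P → ℂ) (actC p K P u⁻¹ c) = (ξ : CG p K P → ℂ) c
    apply h (u : G)⁻¹ (Subgroup.inv_mem _ hu)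
    rw [actC_coe]
    simp

/-- **The correspondence.** -/
theorem exists_corr (hQK : Q ≤ K) (hQp : IsPGroup p Q) (hQsyl : ¬ p ∣ Q.relIndex K) :
    ∃ g : {θ : IrrCharacter K // PInvK p K P θ} → IrrCharacter (CN p K P),
      Function.Injective g ∧
      (∀ θ, PInvN p K P (g θ)) ∧
      (∀ η, PInvN p K P η → ∃ θ, g θ = η) ∧
      (∀ (θ : {θ : IrrCharacter K // PInvK p K P θ}) (n : NP p P),
        g ⟨conjIrr K (n : G) θ.1, pinvK_conjIrr p K P n n.2 θ.1 θ.2⟩ =
          conjIrr (CN p K P) n (g θ)) ∧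
      (∀ θ : {θ : IrrCharacter K // PInvK p K P θ},
        g ⟨barIrr θ.1, pinvK_bar p K P θ.1 θ.2⟩ = barIrr (g θ)) ∧
      (∀ θ, (charDegree ((g θ : IrrCharacter (CN p K P)) : CN p K P → ℂ) : ZMod p) =
          (charDegree (θ.1 : K → ℂ) : ZMod p) ∨
        (charDegree ((g θ : IrrCharacter (CN p K P)) : CN p K P → ℂ) : ZMod p) =
          -(charDegree (θ.1 : K → ℂ) : ZMod p)) := by
  classical
  have : Fintype (CG p K P) := Fintype.ofFinite _
  obtain ⟨f, hbij, hchar, hdeg⟩ := exists_corrC p K P Q hQK hQp hQsyl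
  refine ⟨fun θ => tauC p K P (f θ).1, ?_, ?_, ?_, ?_, ?_, ?_⟩
  · intro θ θ' h
    have h1 := tauC_injective p K P h
    exact hbij.1 (Subtype.ext h1)
  · intro θ
    exact (pinvN_tauC_iff p K P _).mpr (f θ).2
  · intro η hη
    obtain ⟨ξ, rfl⟩ := tauC_surjective p K P η
    have hξ := (pinvN_tauC_iff p K P ξ).mp hη
    obtain ⟨θ, hθ⟩ := hbij.2 ⟨ξ, hξ⟩
    exact ⟨θ, by show tauC p K P (f θ).1 = tauC p K P ξ; rw [hθ]⟩
  · intro θ n
    show tauC p K P (f _).1 = conjIrr (CN p K P) n (tauC p K P (f θ).1)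
    rw [conjIrr_tauC]
    congr 1
    obtain ⟨m, hm, hpm⟩ := (hchar θ (f θ)).mp rfl
    have h1 : (⟨conjC p K P n (f θ).1, pinvC_conjC p K P n (f θ).1 (f θ).2⟩ :
        {ξ : IrrCharacter (CG p K P) // PInvC p K P ξ}) =
        f ⟨conjIrr K (n : G) θ.1, pinvK_conjIrr p K P n n.2 θ.1 θ.2⟩ := by
      rw [hchar]
      exact ⟨m, by rw [← hm]; exact mult_conj p K P n θ.1 (f θ).1, hpm⟩
    exact (congrArg Subtype.val h1).symm
  · intro θ
    show tauC p K P (f _).1 = barIrr (tauC p K P (f θ).1)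
    rw [← tauC_barC]
    congr 1
    obtain ⟨m, hm, hpm⟩ := (hchar θ (f θ)).mp rfl
    have h1 : (⟨barC p K P (f θ).1, pinvC_bar p K P (f θ).1 (f θ).2⟩ :
        {ξ : IrrCharacter (CG p K P) // PInvC p K P ξ}) =
        f ⟨barIrr θ.1, pinvK_bar p K P θ.1 θ.2⟩ := by
      rw [hchar]
      refine ⟨m, ?_, hpm⟩
      show mult p K P (barIrr θ.1) (barC p K P (f θ).1) = m
      rw [mult_bar, hm, Complex.conj_natCast]
    exact (congrArg Subtype.val h1).symm
  · intro θ
    show (charDegree ((tauC p K P (f θ).1 : IrrCharacter (CN p K P)) : CN p K P → ℂ) : ZMod p) = _ ∨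
      (charDegree ((tauC p K P (f θ).1 : IrrCharacter (CN p K P)) : CN p K P → ℂ) : ZMod p) = _
    unfold tauC
    rw [charDegree_irrTransport]
    exact hdeg θ

end Main

end Cfsg.Agent.Lib.Helper81.RealExt
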