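import Mathlib
import Cfsg.Agent.S4866
import Cfsg.Agent.Lib.Helper74.RealCount
import Cfsg.Agent.Lib.Helper81.RNCore

/-!
# Real characters over a normal subgroup of odd index: uniqueness (helper81)

`M ⊴ H` of odd index.  Every real `θ ∈ Irr(M)` lies under a unique real `χ ∈ Irr(H)`, and every
real `χ ∈ Irr(H)` lies over a real `θ ∈ Irr(M)`.  (Counting argument: no Feit–Thompson.)
-/

set_option autoImplicit false
set_option linter.unusedSectionVars false
set_option linter.style.haveILetI false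

namespace Cfsg.Agent.Lib.Helper81.RealExt

open Cfsg Cfsg.Agent.Lib.Helper75 Cfsg.Agent.Lib.Helper78 Cfsg.Agent.Lib.Helper81
open scoped ComplexConjugate

universe u

section Unique

variable {H : Type u} [Group H] (M : Subgroup H) [hMn : M.Normal]

/-- the relation of `S4866` on real irreducible characters of `M` -/
def relT (θ η : {θ : IrrCharacter M // ∀ k : M, ((θ : M → ℂ) k).im = 0}) : Prop :=
  ∃ g : H, ∀ k k' : M, (k' : H) = g * (k : H) * g⁻¹ → (η.1 : M → ℂ) k' = (θ.1 : M → ℂ) k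

/-- the relation of `S4866` on real elements of `M` -/
def relR (x y : {x : M // IsConj x x⁻¹}) : Prop := ∃ g : H, (y.1 : H) = g * x.1 * g⁻¹

/-- real classes of `H` correspond to `H`-classes of real elements of `M` -/
theorem card_realClasses_eq [Finite H] (hodd : Odd M.index) :
    Nat.card {C : ConjClasses H // ∀ g : H, ConjClasses.mk g = C → IsConj g g⁻¹} =
      Nat.card (Quot (relR M)) := by
  symm
  let F : Quot (relR M) → {C : ConjClasses H // ∀ g : H, ConjClasses.mk g = C → IsConj g g⁻¹} :=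
    Quot.lift (fun x => ⟨ConjClasses.mk ((x.1 : M) : H), fun g hg => by
      have h1 : IsConj g ((x.1 : M) : H) := ConjClasses.mk_eq_mk_iff_isConj.mp hg
      have h2 : IsConj ((x.1 : M) : H) ((x.1 : M) : H)⁻¹ := by
        have := M.subtype.map_isConj x.2
        simpa using this
      obtain ⟨c, hc⟩ := isConj_iff.mp h1
      have h3 : IsConj ((x.1 : M) : H)⁻¹ g⁻¹ := isConj_iff.mpr ⟨c⁻¹, by rw [← hc]; group⟩
      exact (h1.trans h2).trans h3⟩) (by
      rintro x y ⟨g, hg⟩
      apply Subtype.ext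
      show ConjClasses.mk ((x.1 : M) : H) = ConjClasses.mk ((y.1 : M) : H)
      rw [ConjClasses.mk_eq_mk_iff_isConj, isConj_iff]
      exact ⟨g, hg.symm⟩)
  refine Nat.card_congr (Equiv.ofBijective F ⟨?_, ?_⟩)
  · intro qa qb h
    obtain ⟨a, rfl⟩ := Quot.exists_rep qa
    obtain ⟨b, rfl⟩ := Quot.exists_rep qb
    have h1 : ConjClasses.mk ((a.1 : M) : H) = ConjClasses.mk ((b.1 : M) : H) :=
      congrArg Subtype.val h
    obtain ⟨g, hg⟩ := isConj_iff.mp (ConjClasses.mk_eq_mk_iff_isConj.mp h1)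
    exact Quot.sound ⟨g, hg.symm⟩
  · rintro ⟨C, hC⟩
    obtain ⟨h, rfl⟩ := ConjClasses.exists_rep C
    have hreal := hC h rfl
    have hM : h ∈ M := RealNorm.mem_of_isConj_inv_of_odd_index M hodd h hreal
    obtain ⟨g₀, hg₀⟩ := isConj_iff.mp hreal
    have hMreal : IsConj (⟨h, hM⟩ : M) (⟨h, hM⟩ : M)⁻¹ := by
      apply RealNorm.isConj_inv_of_odd' M hodd ⟨h, hM⟩ g₀⁻¹
      show g₀⁻¹ * h⁻¹ * g₀⁻¹⁻¹ = h
      rw [← hg₀]
      group
    exact ⟨Quot.mk _ ⟨⟨h, hM⟩, hMreal⟩, rfl⟩

/-- the number of real irreducible characters of `H` is the number of `H`-orbits of real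
irreducible characters of `M` -/
theorem card_realIrr_eq [Finite H] (hodd : Odd M.index) :
    Nat.card {χ : IrrCharacter H // ∀ g : H, ((χ : H → ℂ) g).im = 0} =
      Nat.card (Quot (relT M)) := by
  rw [Cfsg.Agent.Lib.Helper74.card_real_irr_eq_card_real_classes, card_realClasses_eq M hodd]
  exact (Cfsg.Agent.S4866.result M hodd).symm

theorem relT_of_conjFun (θ η : {θ : IrrCharacter M // ∀ k : M, ((θ : M → ℂ) k).im = 0})
    (g : H) (hg : Cfsg.Agent.Lib.Helper75.conjFun M g (θ.1 : M → ℂ) = (η.1 : M → ℂ)) :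
    relT M θ η := by
  refine ⟨g⁻¹, fun k k' hk => ?_⟩
  rw [← hg, conjFun_apply]
  refine congrArg (θ.1 : M → ℂ) ?_
  apply Subtype.ext
  simp only [hk]
  group

/-- **Uniqueness of the real character over a real character**, together with the existence of
a real character under a real character. -/
theorem real_over_unique_and_under [Fintype H] [Fintype M] (hodd : Odd M.index) :
    (∀ (θ : IrrCharacter M) (χ χ' : IrrCharacter H), (∀ k : M, ((θ : M → ℂ) k).im = 0) →
      (∀ g : H, ((χ : H → ℂ) g).im = 0) → (∀ g : H, ((χ' : H → ℂ) g).im = 0) →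
      classInner (fun m : M => (χ : H → ℂ) m) (θ : M → ℂ) ≠ 0 →
      classInner (fun m : M => (χ' : H → ℂ) m) (θ : M → ℂ) ≠ 0 → χ = χ') ∧
    (∀ χ : IrrCharacter H, (∀ g : H, ((χ : H → ℂ) g).im = 0) →
      ∃ θ : IrrCharacter M, (∀ k : M, ((θ : M → ℂ) k).im = 0) ∧
        classInner (fun m : M => (χ : H → ℂ) m) (θ : M → ℂ) ≠ 0) := by
  classical
  -- a choice of a real character over each orbit
  have hex : ∀ q : Quot (relT M), ∃ χ : IrrCharacter H, (∀ g : H, ((χ : H → ℂ) g).im = 0) ∧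
      classInner (fun u : M => (χ : H → ℂ) u) (q.out.1 : M → ℂ) ≠ 0 :=
    fun q => exists_real_over_of_odd_index M hodd q.out.1 q.out.2
  choose c hc1 hc2 using hex
  let F : Quot (relT M) → {χ : IrrCharacter H // ∀ g : H, ((χ : H → ℂ) g).im = 0} :=
    fun q => ⟨c q, hc1 q⟩
  have hconj : ∀ (χ : IrrCharacter H) (θ η : {θ : IrrCharacter M // ∀ k : M, ((θ : M → ℂ) k).im = 0}),
      classInner (fun u : M => (χ : H → ℂ) u) (θ.1 : M → ℂ) ≠ 0 →
      classInner (fun u : M => (χ : H → ℂ) u) (η.1 : M → ℂ) ≠ 0 →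
      Quot.mk (relT M) θ = Quot.mk (relT M) η := by
    intro χ θ η h1 h2
    obtain ⟨g, hg⟩ := clifford_conj M χ.2 θ.1.2 η.1.2 h1 h2
    exact Quot.sound (relT_of_conjFun M θ η g hg)
  have hFinj : Function.Injective F := by
    intro q q' h
    have h1 : c q = c q' := congrArg Subtype.val h
    have h2 := hconj (c q) q.out q'.out (hc2 q) (by rw [h1]; exact hc2 q')
    rwa [Quot.out_eq, Quot.out_eq] at h2
  have hFbij : Function.Bijective F :=
    hFinj.bijective_of_nat_card_le (le_of_eq (card_realIrr_eq M hodd))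
  constructor
  · intro θ χ χ' hθ hχ hχ' h1 h2
    obtain ⟨q, hq⟩ := hFbij.2 ⟨χ, hχ⟩
    obtain ⟨q', hq'⟩ := hFbij.2 ⟨χ', hχ'⟩
    have e1 : c q = χ := congrArg Subtype.val hq
    have e2 : c q' = χ' := congrArg Subtype.val hq'
    have h3 : q = Quot.mk _ ⟨θ, hθ⟩ := by
      have := hconj χ q.out ⟨θ, hθ⟩ (by rw [← e1]; exact hc2 q) h1
      rwa [Quot.out_eq] at this
    have h4 : q' = Quot.mk _ ⟨θ, hθ⟩ := by
      have := hconj χ' q'.out ⟨θ, hθ⟩ (by rw [← e2]; exact hc2 q') h2
      rwa [Quot.out_eq] at this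
    rw [← e1, ← e2, h3, h4]
  · intro χ hχ
    obtain ⟨q, hq⟩ := hFbij.2 ⟨χ, hχ⟩
    have e1 : c q = χ := congrArg Subtype.val hq
    exact ⟨q.out.1, q.out.2, by rw [← e1]; exact hc2 q⟩

end Unique

end Cfsg.Agent.Lib.Helper81.RealExt
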