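import Mathlib
import Cfsg.Agent.Lib.Helper81.RXUnique
import Cfsg.Agent.Lib.Helper81.Gallagher
import Cfsg.Agent.Lib.Helper81.CyclicExt
import Cfsg.Agent.Lib.Helper80.PResidualExt
import Cfsg.Agent.Lib.Helper77.Linear
import Cfsg.Agent.Lib.Helper75.CompatExt

/-!
# Real extensions over a normal subgroup of odd index (helper81)

`M ⊴ H` of odd index and `θ ∈ Irr(M)` real and `H`-invariant: `θ` has a real extension to `H`
(`exists_real_extension`).  No Feit–Thompson: extension to the Sylow overgroups by induction,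
then Isaacs 11.31.
-/

set_option autoImplicit false
set_option linter.unusedSectionVars false
set_option linter.style.haveILetI false

namespace Cfsg.Agent.Lib.Helper81.RealExt

open Cfsg Cfsg.Agent.Lib.Helper75 Cfsg.Agent.Lib.Helper78 Cfsg.Agent.Lib.Helper81
open scoped ComplexConjugate

universe u

section OfExtension

variable {H : Type u} [Group H] [Fintype H] (M : Subgroup H) [hMn : M.Normal] [Fintype M]

/-- If a real `θ ∈ Irr(M)` extends to `H` (`M` of odd index) then it has a real extension. -/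
theorem exists_real_extension_of_extension (hodd : Odd M.index) (θ : M → ℂ)
    (hθ : IsIrrCharacter M θ) (hθr : ∀ m : M, (θ m).im = 0) (χ₀ : H → ℂ)
    (hχ₀ : IsIrrCharacter H χ₀) (hext : ∀ m : M, χ₀ m = θ m) :
    ∃ χ : H → ℂ, IsIrrCharacter H χ ∧ (∀ g : H, (χ g).im = 0) ∧ ∀ m : M, χ m = θ m := by
  classical
  have hres : (fun n : M => χ₀ n) = θ := funext hext
  have hχN : IsIrrCharacter M (fun n : M => χ₀ n) := by rw [hres]; exact hθ
  have hbar : IsIrrCharacter H (fun g => conj (χ₀ g)) := isIrrCharacter_conj hχ₀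
  have hresbar : (fun n : M => conj (χ₀ n)) = θ := by
    funext n
    rw [hext n]
    exact Complex.conj_eq_iff_im.mpr (hθr n)
  have hover : classInner (fun n : M => (fun g => conj (χ₀ g)) n) (fun n : M => χ₀ n) ≠ 0 := by
    show classInner (fun n : M => conj (χ₀ n)) (fun n : M => χ₀ n) ≠ 0
    rw [hresbar, hres, classInner_irr_self hθ]
    exact one_ne_zero
  obtain ⟨β, hβ⟩ := Cfsg.Agent.Lib.Helper80.gallagher_exists M hχ₀ hχN hbar hover
  have hβg : ∀ g : H, conj (χ₀ g) = Cfsg.Agent.Lib.Helper80.infl M β g * χ₀ g := by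
    intro g
    have := congrFun hβ g
    rwa [Pi.mul_apply] at this
  -- the inflated character has degree one
  have h1ne : χ₀ 1 ≠ 0 := IsIrrCharacter.apply_one_ne_zero hχ₀
  have hβ1 : Cfsg.Agent.Lib.Helper80.infl M β 1 = 1 := by
    have h2 := hβg 1
    have h3 : conj (χ₀ 1) = χ₀ 1 := by
      have := hext 1
      rw [Subgroup.coe_one] at this
      rw [this]
      exact Complex.conj_eq_iff_im.mpr (hθr 1)
    rw [h3] at h2
    have h4 : (1 : ℂ) * χ₀ 1 = Cfsg.Agent.Lib.Helper80.infl M β 1 * χ₀ 1 := by rw [one_mul]; exact h2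
    exact (mul_right_cancel₀ h1ne h4).symm
  obtain ⟨φ₀, hφ₀⟩ := Cfsg.Agent.Lib.Helper77.exists_monoidHom_of_degree_one
    (IsIrrCharacter.isCharacter (Cfsg.Agent.Lib.Helper77.inflate M β).2) hβ1
  have hφM : ∀ m : M, φ₀ (m : H) = 1 := by
    intro m
    apply Units.ext
    rw [← hφ₀, Units.val_one]
    show ((Cfsg.Agent.Lib.Helper77.inflate M β : IrrCharacter H) : H → ℂ) (m : H) = 1
    rw [Cfsg.Agent.Lib.Helper77.inflate_apply_of_mem M β m m.2]
    exact hβ1
  obtain ⟨t, ht⟩ := hodd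
  -- `φ₀ ^ index = 1`
  have hφpow : ∀ g : H, φ₀ g ^ (2 * t + 1) = 1 := by
    intro g
    rw [← map_pow, ← ht]
    exact hφM ⟨g ^ M.index, Subgroup.pow_index_mem M g⟩
  -- the square root
  let μ : H →* ℂˣ := φ₀ ^ (t + 1)
  have hμ2 : ∀ g : H, μ g * μ g = φ₀ g := by
    intro g
    show (φ₀ ^ (t + 1)) g * (φ₀ ^ (t + 1)) g = φ₀ g
    rw [MonoidHom.pow_apply, ← pow_add]
    have : t + 1 + (t + 1) = (2 * t + 1) + 1 := by ring
    rw [this, pow_succ, hφpow g, one_mul]
  have hμM : ∀ m : M, μ (m : H) = 1 := by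
    intro m
    show (φ₀ ^ (t + 1)) (m : H) = 1
    rw [MonoidHom.pow_apply, hφM m, one_pow]
  refine ⟨fun g => ((μ g : ℂˣ) : ℂ) * χ₀ g, isIrrCharacter_monoidHom_mul μ hχ₀, ?_, ?_⟩
  · intro g
    apply Complex.conj_eq_iff_im.mp
    have hφ₀' : Cfsg.Agent.Lib.Helper80.infl M β g = ((φ₀ g : ℂˣ) : ℂ) := hφ₀ g
    show conj (((μ g : ℂˣ) : ℂ) * χ₀ g) = ((μ g : ℂˣ) : ℂ) * χ₀ g
    rw [map_mul, hβg g, hφ₀', ← hμ2 g, Units.val_mul]
    have h5 := monoidHom_units_mul_conj μ g
    calc conj ((μ g : ℂˣ) : ℂ) * (((μ g : ℂˣ) : ℂ) * ((μ g : ℂˣ) : ℂ) * χ₀ g)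
        = (((μ g : ℂˣ) : ℂ) * conj ((μ g : ℂˣ) : ℂ)) * (((μ g : ℂˣ) : ℂ) * χ₀ g) := by ring
      _ = ((μ g : ℂˣ) : ℂ) * χ₀ g := by rw [h5, one_mul]
  · intro m
    show ((μ (m : H) : ℂˣ) : ℂ) * χ₀ m = θ m
    rw [hμM m, Units.val_one, one_mul, hext m]

end OfExtension

section PGroup

/-- a normal subgroup of prime index containing `M`, when `H/M` is a nontrivial `r`-group -/
theorem exists_normal_index_prime {H : Type u} [Group H] [Finite H] (M : Subgroup H)
    [hMn : M.Normal] (r : ℕ) [hr : Fact r.Prime] (n : ℕ) (hidx : M.index = r ^ (n + 1)) :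
    ∃ H₁ : Subgroup H, H₁.Normal ∧ M ≤ H₁ ∧ H₁.index = r := by
  have hcard : Nat.card (H ⧸ M) = r ^ (n + 1) := by rw [← Subgroup.index_eq_card, hidx]
  obtain ⟨S, hS⟩ := Sylow.exists_subgroup_card_pow_prime r
    (show r ^ n ∣ Nat.card (H ⧸ M) by rw [hcard]; exact pow_dvd_pow r (Nat.le_succ n))
  have hSidx : S.index = r := by
    have h1 := Subgroup.card_mul_index S
    rw [hS, hcard, pow_succ] at h1
    exact Nat.eq_of_mul_eq_mul_left (pow_pos hr.out.pos n) h1
  have hSn : S.Normal := by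
    apply Subgroup.normal_of_index_eq_minFac_card
    rw [hSidx, hcard, Nat.Prime.pow_minFac hr.out (Nat.succ_ne_zero n)]
  refine ⟨S.comap (QuotientGroup.mk' M), hSn.comap _, ?_, ?_⟩
  · intro m hm
    rw [Subgroup.mem_comap]
    have : QuotientGroup.mk' M m = 1 := (QuotientGroup.eq_one_iff m).mpr hm
    rw [this]
    exact S.one_mem
  · rw [Subgroup.index_comap_of_surjective S (QuotientGroup.mk'_surjective M), hSidx]

/-- A real invariant irreducible character of `M ⊴ H`, `H/M` an `r`-group of odd order, has a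
real extension to `H`. -/
theorem exists_real_extension_of_pgroup (r : ℕ) [hr : Fact r.Prime] :
    ∀ (n : ℕ) (H : Type u) [Group H] [Finite H] (M : Subgroup H) [M.Normal],
      M.index = r ^ n → Odd M.index → ∀ θ : M → ℂ, IsIrrCharacter M θ →
      (∀ m : M, (θ m).im = 0) →
      (∀ (g : H) (m : M), θ (MulAut.conjNormal g m) = θ m) →
      ∃ χ : H → ℂ, IsIrrCharacter H χ ∧ (∀ g : H, (χ g).im = 0) ∧ ∀ m : M, χ m = θ m := by
  intro n
  induction n with
  | zero =>
    intro H _ _ M _ hidx _ θ hθ hθr _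
    rw [pow_zero, Subgroup.index_eq_one] at hidx
    have hbij : Function.Bijective M.subtype :=
      ⟨M.subtype_injective, fun g => ⟨⟨g, by rw [hidx]; exact Subgroup.mem_top g⟩, rfl⟩⟩
    let e : M ≃* H := MulEquiv.ofBijective M.subtype hbij
    have he : ∀ m : M, e.symm (m : H) = m := fun m => e.symm_apply_apply m
    refine ⟨θ ∘ e.symm, isIrrCharacter_comp_mulEquiv hθ e.symm, fun g => hθr _, fun m => ?_⟩
    show θ (e.symm (m : H)) = θ m
    rw [he]
  | succ n ih =>
    intro H _ _ M hMn hidx hodd θ hθ hθr hinv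
    classical
    have := Fintype.ofFinite H
    have : Fintype M := Fintype.ofFinite M
    obtain ⟨H₁, hH₁n, hMH₁, hH₁idx⟩ := exists_normal_index_prime M r n hidx
    have : Fintype H₁ := Fintype.ofFinite H₁
    -- index of `M` in `H₁`
    have hrel : (M.subgroupOf H₁).index = r ^ n := by
      have h1 := Subgroup.relIndex_mul_index hMH₁
      rw [hidx, hH₁idx, pow_succ] at h1
      exact Nat.eq_of_mul_eq_mul_right hr.out.pos h1
    have hodd₁ : Odd (M.subgroupOf H₁).index := by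
      have h1 : (M.subgroupOf H₁).index ∣ M.index := ⟨H₁.index, (Subgroup.relIndex_mul_index hMH₁).symm⟩
      exact Odd.of_dvd_nat hodd h1
    -- the transported character
    have hθ' : IsIrrCharacter (M.subgroupOf H₁) (liftNT M H₁ θ) := isIrrCharacter_liftNT M H₁ hMH₁ hθ
    have hθ'r : ∀ m : M.subgroupOf H₁, (liftNT M H₁ θ m).im = 0 := fun m => hθr _
    have hinv' : ∀ (g : H₁) (m : M.subgroupOf H₁),
        liftNT M H₁ θ (MulAut.conjNormal g m) = liftNT M H₁ θ m := by
      intro g m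
      exact hinv (g : H) ⟨((m : H₁) : H), Subgroup.mem_subgroupOf.mp m.2⟩
    obtain ⟨θ₁, hθ₁, hθ₁r, hθ₁ext⟩ := ih H₁ (M.subgroupOf H₁) hrel hodd₁ (liftNT M H₁ θ) hθ' hθ'r hinv'
    -- invariance of `θ₁` by uniqueness
    have huniq := (real_over_unique_and_under (M.subgroupOf H₁) hodd₁).1
    have hθ₁inv : ∀ (g : H) (x : H₁), θ₁ (MulAut.conjNormal g x) = θ₁ x := by
      intro g x
      have hψ : IsIrrCharacter H₁ (fun x => θ₁ (MulAut.conjNormal g x)) :=
        isIrrCharacter_conjNormal H₁ hθ₁ g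
      have hψres : (fun m : M.subgroupOf H₁ => θ₁ (MulAut.conjNormal g (m : H₁))) =
          liftNT M H₁ θ := by
        funext m
        have hmem : (MulAut.conjNormal g (m : H₁) : H₁) ∈ M.subgroupOf H₁ := by
          rw [Subgroup.mem_subgroupOf]
          show g * ((m : H₁) : H) * g⁻¹ ∈ M
          exact hMn.conj_mem _ (Subgroup.mem_subgroupOf.mp m.2) g
        have h1 := hθ₁ext ⟨MulAut.conjNormal g (m : H₁), hmem⟩
        rw [h1]
        exact hinv g ⟨((m : H₁) : H), Subgroup.mem_subgroupOf.mp m.2⟩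
      have hθ₁res : (fun m : M.subgroupOf H₁ => θ₁ (m : H₁)) = liftNT M H₁ θ := funext hθ₁ext
      have h1ne : classInner (liftNT M H₁ θ) (liftNT M H₁ θ) ≠ 0 := by
        rw [classInner_irr_self hθ']
        exact one_ne_zero
      have heq := huniq ⟨liftNT M H₁ θ, hθ'⟩ ⟨fun x => θ₁ (MulAut.conjNormal g x), hψ⟩ ⟨θ₁, hθ₁⟩
        hθ'r (fun x => hθ₁r _) hθ₁r (by
          show classInner (fun m : M.subgroupOf H₁ => θ₁ (MulAut.conjNormal g (m : H₁)))
            (liftNT M H₁ θ) ≠ 0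
          rw [hψres]; exact h1ne) (by
          show classInner (fun m : M.subgroupOf H₁ => θ₁ (m : H₁)) (liftNT M H₁ θ) ≠ 0
          rw [hθ₁res]; exact h1ne)
      exact congrFun (congrArg Subtype.val heq) x
    -- extension to `H`
    have hcyc : IsCyclic (H ⧸ H₁) := by
      have : Fact (Nat.card (H ⧸ H₁)).Prime := ⟨by rw [← Subgroup.index_eq_card, hH₁idx]; exact hr.out⟩
      exact isCyclic_of_prime_card rfl
    obtain ⟨χ₀, hχ₀, hχ₀ext⟩ := exists_irr_extension_of_cyclic H₁ hcyc hθ₁ hθ₁inv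
    have hχ₀M : ∀ m : M, χ₀ m = θ m := by
      intro m
      have h1 := hχ₀ext ⟨(m : H), hMH₁ m.2⟩
      have h2 := hθ₁ext ⟨⟨(m : H), hMH₁ m.2⟩, Subgroup.mem_subgroupOf.mpr m.2⟩
      rw [h1, h2]
      rfl
    exact exists_real_extension_of_extension M hodd θ hθ hθr χ₀ hχ₀ hχ₀M

end PGroup

section General

/-- **Real extension**: a real invariant irreducible character of a normal subgroup of odd index
has a real extension. -/
theorem exists_real_extension {H : Type u} [Group H] [Finite H] (M : Subgroup H) [hMn : M.Normal]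
    (hodd : Odd M.index) (θ : M → ℂ) (hθ : IsIrrCharacter M θ) (hθr : ∀ m : M, (θ m).im = 0)
    (hinv : ∀ (g : H) (m : M), θ (MulAut.conjNormal g m) = θ m) :
    ∃ χ : H → ℂ, IsIrrCharacter H χ ∧ (∀ g : H, (χ g).im = 0) ∧ ∀ m : M, χ m = θ m := by
  classical
  have := Fintype.ofFinite H
  have : Fintype M := Fintype.ofFinite M
  have hext : ∃ χ₀ : H → ℂ, IsIrrCharacter H χ₀ ∧ ∀ n : M, χ₀ n = θ n := by
    apply exists_irr_extension_of_sylow M θ hθ (fun g n => hinv g n)
    intro r hr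
    have : Fact r.Prime := ⟨hr⟩
    obtain ⟨S⟩ : Nonempty (Sylow r (H ⧸ M)) := inferInstance
    set R : Subgroup H := (S : Subgroup (H ⧸ M)).comap (QuotientGroup.mk' M) with hR
    have hMR : M ≤ R := by
      intro m hm
      rw [hR, Subgroup.mem_comap]
      have : QuotientGroup.mk' M m = 1 := (QuotientGroup.eq_one_iff m).mpr hm
      rw [this]
      exact Subgroup.one_mem _
    have hRidx : R.index = (S : Subgroup (H ⧸ M)).index :=
      Subgroup.index_comap_of_surjective _ (QuotientGroup.mk'_surjective M)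
    obtain ⟨k, hk⟩ := S.isPGroup'.exists_card_eq
    have hrel : M.relIndex R = r ^ k := by
      have h1 := Subgroup.relIndex_mul_index hMR
      have h2 := Subgroup.card_mul_index (S : Subgroup (H ⧸ M))
      rw [← Subgroup.index_eq_card, ← hRidx, hk] at h2
      have hpos : 0 < R.index := Nat.pos_of_ne_zero Subgroup.index_ne_zero_of_finite
      exact Nat.eq_of_mul_eq_mul_right hpos (h1.trans h2.symm)
    have hodd₁ : Odd (M.subgroupOf R).index := by
      have h1 : (M.subgroupOf R).index ∣ M.index := ⟨R.index, (Subgroup.relIndex_mul_index hMR).symm⟩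
      exact Odd.of_dvd_nat hodd h1
    have hθ' : IsIrrCharacter (M.subgroupOf R) (liftNT M R θ) := isIrrCharacter_liftNT M R hMR hθ
    obtain ⟨η, hη, -, hηext⟩ := exists_real_extension_of_pgroup r k R (M.subgroupOf R) hrel hodd₁
      (liftNT M R θ) hθ' (fun m => hθr _)
      (fun g m => hinv (g : H) ⟨((m : R) : H), Subgroup.mem_subgroupOf.mp m.2⟩)
    refine ⟨R, hMR, η, ?_, ⟨k, hrel⟩, hη, fun n => ?_⟩
    · rw [hRidx]
      exact (Nat.Prime.coprime_iff_not_dvd hr).mpr S.not_dvd_index |>.symm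
    · exact hηext ⟨⟨(n : H), hMR n.2⟩, Subgroup.mem_subgroupOf.mpr n.2⟩
  obtain ⟨χ₀, hχ₀, hχ₀ext⟩ := hext
  exact exists_real_extension_of_extension M hodd θ hθ hθr χ₀ hχ₀ hχ₀ext

end General

end Cfsg.Agent.Lib.Helper81.RealExt
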