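import Mathlib
import Cfsg.Agent.Lib.Helper81.RXExt
import Cfsg.Agent.Lib.Helper75.Monomial

/-!
# The degree of the real character over a real character (helper81)

`M ⊴ H` of odd index, `χ ∈ Irr(H)` real over the real `θ ∈ Irr(M)`: then `[χ_M, θ] = 1` and
`χ(1) = |orbit of θ| · θ(1)`.
-/

set_option autoImplicit false
set_option linter.unusedSectionVars false
set_option linter.style.haveILetI false

namespace Cfsg.Agent.Lib.Helper81.RealExt

open Cfsg Cfsg.Agent.Lib.Helper75 Cfsg.Agent.Lib.Helper78 Cfsg.Agent.Lib.Helper81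
open scoped ComplexConjugate

universe u

section Deg

variable {H : Type u} [Group H] [Fintype H] (M : Subgroup H) [hMn : M.Normal] [Fintype M]

/-- an induced function of a real-valued function is real-valued -/
theorem indFun_im_eq_zero (T : Subgroup H) (ψ : T → ℂ) (hψ : ∀ t : T, (ψ t).im = 0) (g : H) :
    (indFun T ψ g).im = 0 := by
  apply Complex.conj_eq_iff_im.mp
  unfold indFun
  rw [map_mul, map_inv₀, Complex.conj_natCast, map_sum]
  congr 1
  refine Finset.sum_congr rfl fun x _ => ?_
  by_cases hx : x⁻¹ * g * x ∈ T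
  · rw [extendByZero_of_mem T ψ hx]
    exact Complex.conj_eq_iff_im.mpr (hψ _)
  · rw [extendByZero_of_not_mem T ψ hx, map_zero]

/-- **Multiplicity one.** -/
theorem classInner_real_over_eq_one (hodd : Odd M.index) (χ : IrrCharacter H)
    (θ : IrrCharacter M) (hχ : ∀ g : H, ((χ : H → ℂ) g).im = 0)
    (hθ : ∀ m : M, ((θ : M → ℂ) m).im = 0)
    (hover : classInner (fun m : M => (χ : H → ℂ) m) (θ : M → ℂ) ≠ 0) :
    classInner (fun m : M => (χ : H → ℂ) m) (θ : M → ℂ) = 1 := by
  classical
  set T : Subgroup H := inertia M (θ : M → ℂ) with hTdef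
  have hMT : M ≤ T := le_inertia M (isClassFunction_irr θ)
  have : Fintype T := Fintype.ofFinite T
  have hT : ∀ g : H, g ∈ T ↔ Cfsg.Agent.Lib.Helper75.conjFun M g (θ : M → ℂ) = (θ : M → ℂ) :=
    fun g => mem_inertia M
  have hodd₁ : Odd (M.subgroupOf T).index := by
    have h1 : (M.subgroupOf T).index ∣ M.index :=
      ⟨T.index, (Subgroup.relIndex_mul_index hMT).symm⟩
    exact Odd.of_dvd_nat hodd h1
  have hθ' : IsIrrCharacter (M.subgroupOf T) (liftNT M T (θ : M → ℂ)) :=
    isIrrCharacter_liftNT M T hMT θ.2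
  have hinv' : ∀ (t : T) (m : M.subgroupOf T),
      liftNT M T (θ : M → ℂ) (MulAut.conjNormal t m) = liftNT M T (θ : M → ℂ) m := by
    intro t m
    have h1 := congrFun (conjFun_liftNT M T (fun g hg => (hT g).mp hg) t) m
    rw [conjFun_apply] at h1
    exact h1
  obtain ⟨ψ, hψ, hψr, hψext⟩ := exists_real_extension (M.subgroupOf T) hodd₁
    (liftNT M T (θ : M → ℂ)) hθ' (fun m => hθ _) hinv'
  have hψres : resNT M T hMT ψ = (θ : M → ℂ) := by
    funext n
    exact hψext ⟨⟨(n : H), hMT n.2⟩, Subgroup.mem_subgroupOf.mpr n.2⟩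
  have hoverψ : classInner (resNT M T hMT ψ) (θ : M → ℂ) ≠ 0 := by
    rw [hψres, classInner_irr_self θ.2]
    exact one_ne_zero
  have hind : IsIrrCharacter H (indFun T ψ) :=
    isIrrCharacter_indFun_of_over M T hMT θ.2 hT hψ hoverψ
  have hmult : classInner (fun n : M => indFun T ψ n) (θ : M → ℂ) = 1 := by
    rw [classInner_res_indFun_of_over M T hMT θ.2 hT hψ hoverψ, hψres, classInner_irr_self θ.2]
  have heq := (real_over_unique_and_under M hodd).1 θ ⟨indFun T ψ, hind⟩ χ hθ
    (fun g => indFun_im_eq_zero T ψ hψr g) hχ (by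
      show classInner (fun n : M => indFun T ψ n) (θ : M → ℂ) ≠ 0
      rw [hmult]; exact one_ne_zero) hover
  rw [← heq]
  exact hmult

/-- **Degree formula** for the real character over a real character. -/
theorem charDegree_real_over (hodd : Odd M.index) (χ : IrrCharacter H)
    (θ : IrrCharacter M) (hχ : ∀ g : H, ((χ : H → ℂ) g).im = 0)
    (hθ : ∀ m : M, ((θ : M → ℂ) m).im = 0)
    (hover : classInner (fun m : M => (χ : H → ℂ) m) (θ : M → ℂ) ≠ 0) :
    charDegree (χ : H → ℂ) = (conjOrbit M (θ : M → ℂ)).card * charDegree (θ : M → ℂ) := by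
  have h1 := charDegree_eq_resMult_mul M χ θ hover
  have h2 := classInner_real_over_eq_one M hodd χ θ hχ hθ hover
  rw [resMult_spec] at h2
  have h3 : resMult M χ θ = 1 := by exact_mod_cast h2
  rw [h1, h3, one_mul]

end Deg

end Cfsg.Agent.Lib.Helper81.RealExt
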