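import Mathlib
import Cfsg.Agent.Lib.Helper81.RNCore

/-!
# Orbits of irreducible characters of a normal subgroup (helper81)

* `conjIrr_coe`: `conjIrr` in terms of `Helper75.conjFun`.
* `classInner_res_conjIrr`: the multiplicity of `θ^x` in `χ|_M` is that of `θ`.
* `card_orbit_eq_card_conjOrbit`.
* `exists_inv_conj_of_not_dvd`: an orbit of size prime to `p` contains a character invariant
  under a given `p`-subgroup.
-/

set_option autoImplicit false
set_option linter.unusedSectionVars false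
set_option linter.style.haveILetI false

namespace Cfsg.Agent.Lib.Helper81.RealExt

open Cfsg Cfsg.Agent.Lib.Helper75 Cfsg.Agent.Lib.Helper78 Cfsg.Agent.Lib.Helper81
open scoped ComplexConjugate

universe u

section Orbit

variable {H : Type u} [Group H] (M : Subgroup H) [hMn : M.Normal]

theorem conjIrr_coe (x : H) (θ : IrrCharacter M) :
    (conjIrr M x θ : M → ℂ) = Cfsg.Agent.Lib.Helper75.conjFun M x⁻¹ (θ : M → ℂ) := rfl

theorem conjFun_eq_conjIrr (x : H) (θ : IrrCharacter M) :
    Cfsg.Agent.Lib.Helper75.conjFun M x (θ : M → ℂ) = (conjIrr M x⁻¹ θ : M → ℂ) := by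
  rw [conjIrr_coe, inv_inv]

theorem classInner_res_conjIrr [Fintype M] {χ : H → ℂ} (hχ : IsClassFunction H χ) (x : H)
    (θ : IrrCharacter M) :
    classInner (fun m : M => χ m) (conjIrr M x θ : M → ℂ) =
      classInner (fun m : M => χ m) (θ : M → ℂ) := by
  rw [conjIrr_coe]
  exact classInner_res_conjFun M hχ x⁻¹ _

theorem coe_conjOrbit_eq_orbit [Fintype H] [Fintype M] (θ : IrrCharacter M) :
    (↑(conjOrbit M (θ : M → ℂ)) : Set (IrrCharacter M)) =
      (letI := conjIrrMulAction M; MulAction.orbit H θ) := by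
  letI := conjIrrMulAction M
  ext φ
  rw [Finset.mem_coe, mem_conjOrbit]
  constructor
  · rintro ⟨g, hg⟩
    refine ⟨g⁻¹, ?_⟩
    apply Subtype.ext
    rw [← hg]
    exact (conjFun_eq_conjIrr M g θ).symm
  · rintro ⟨g, hg⟩
    refine ⟨g⁻¹, ?_⟩
    rw [← hg]
    exact conjFun_eq_conjIrr M g⁻¹ θ |>.trans (by rw [inv_inv]; rfl)

theorem card_orbit_eq_card_conjOrbit [Fintype H] [Fintype M] (θ : IrrCharacter M) :
    Nat.card (letI := conjIrrMulAction M; MulAction.orbit H θ) =
      (conjOrbit M (θ : M → ℂ)).card := by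
  rw [← coe_conjOrbit_eq_orbit, Nat.card_coe_set_eq, Set.ncard_coe_finset]

/-- An orbit of size prime to `p` contains a character invariant under a `p`-subgroup. -/
theorem exists_inv_conj_of_not_dvd [Fintype H] [Fintype M] (p : ℕ) [Fact p.Prime] (P' : Subgroup H)
    (hP' : IsPGroup p P') (θ : IrrCharacter M) (hp : ¬ p ∣ (conjOrbit M (θ : M → ℂ)).card) :
    ∃ x : H, ∀ u ∈ P', conjIrr M u (conjIrr M x θ) = conjIrr M x θ := by
  classical
  letI := conjIrrMulAction M
  have hp' : ¬ p ∣ Nat.card (MulAction.orbit H θ) := by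
    rwa [card_orbit_eq_card_conjOrbit]
  obtain ⟨⟨φ, hφ⟩, hfix⟩ := hP'.nonempty_fixed_point_of_prime_not_dvd_card
    (MulAction.orbit H θ) hp'
  obtain ⟨g, hg⟩ := hφ
  refine ⟨g, fun u hu => ?_⟩
  have h1 := hfix ⟨u, hu⟩
  have h2 := congrArg Subtype.val h1
  have h3 : conjIrr M g θ = φ := hg
  rw [h3]
  exact h2

end Orbit

end Cfsg.Agent.Lib.Helper81.RealExt
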