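import Mathlib
import Cfsg.Agent.Lib.Helper81.RXCorr2
import Cfsg.Agent.Lib.Helper81.RXDeg
import Cfsg.Agent.Lib.Helper81.RXOrbit
import Cfsg.Agent.Lib.Helper81.RNMain

/-!
# Real characters of `G` and of `N_G(P)`: the relation (helper81)

`Rel g χ ξ`: the real `χ ∈ Irr(G)` and the real `ξ ∈ Irr(N_G(P))` lie over corresponding real
`P`-invariant characters of `K` and of `K ∩ N_G(P)`.  It is the graph of a bijection preserving
degrees modulo `p` up to sign.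
-/

set_option autoImplicit false
set_option linter.unusedSectionVars false
set_option linter.style.haveILetI false
set_option maxHeartbeats 400000

namespace Cfsg.Agent.Lib.Helper81.RealExt

open Cfsg Cfsg.Agent.Lib.Helper75 Cfsg.Agent.Lib.Helper78 Cfsg.Agent.Lib.Helper81
open scoped ComplexConjugate

universe u

section Assembly

variable {G : Type u} [Group G] [Fintype G] (p : ℕ) [hp : Fact p.Prime] (K : Subgroup G)
  [hKn : K.Normal] [Fintype K] (P : Sylow p G) [Fintype (NP p P)] [Fintype (CN p K P)]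

/-- the properties of the correspondence -/
structure IsCorr (g : {θ : IrrCharacter K // PInvK p K P θ} → IrrCharacter (CN p K P)) :
    Prop where
  inj : Function.Injective g
  pinv : ∀ θ, PInvN p K P (g θ)
  surj : ∀ η, PInvN p K P η → ∃ θ, g θ = η
  equiv : ∀ (θ : {θ : IrrCharacter K // PInvK p K P θ}) (n : NP p P),
    g ⟨conjIrr K (n : G) θ.1, pinvK_conjIrr p K P n n.2 θ.1 θ.2⟩ = conjIrr (CN p K P) n (g θ)
  bar : ∀ θ : {θ : IrrCharacter K // PInvK p K P θ},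
    g ⟨barIrr θ.1, pinvK_bar p K P θ.1 θ.2⟩ = barIrr (g θ)
  deg : ∀ θ, (charDegree ((g θ : IrrCharacter (CN p K P)) : CN p K P → ℂ) : ZMod p) =
      (charDegree (θ.1 : K → ℂ) : ZMod p) ∨
    (charDegree ((g θ : IrrCharacter (CN p K P)) : CN p K P → ℂ) : ZMod p) =
      -(charDegree (θ.1 : K → ℂ) : ZMod p)

theorem barIrr_eq_self_iff' {A : Type*} [Group A] (β : IrrCharacter A) :
    barIrr β = β ↔ ∀ a : A, ((β : A → ℂ) a).im = 0 := by
  constructor
  · intro h a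
    have := congrFun (congrArg Subtype.val h) a
    rw [barIrr_apply] at this
    exact Complex.conj_eq_iff_im.mp this
  · intro h
    apply Subtype.ext
    funext a
    rw [barIrr_apply]
    exact Complex.conj_eq_iff_im.mpr (h a)

variable {p K P}

theorem IsCorr.real_iff {g : {θ : IrrCharacter K // PInvK p K P θ} → IrrCharacter (CN p K P)}
    (hg : IsCorr p K P g) (θ : {θ : IrrCharacter K // PInvK p K P θ}) :
    (∀ k : K, ((θ.1 : K → ℂ) k).im = 0) ↔
      ∀ c : CN p K P, (((g θ : IrrCharacter (CN p K P)) : CN p K P → ℂ) c).im = 0 := by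
  rw [← barIrr_eq_self_iff', ← barIrr_eq_self_iff', ← hg.bar θ]
  constructor
  · intro h
    congr 1
    exact Subtype.ext h
  · intro h
    exact congrArg Subtype.val (hg.inj h)

variable (p K P)

theorem odd_index_cn (hodd : Odd K.index) : Odd (CN p K P).index := by
  have h1 : (CN p K P).index ∣ K.index := Subgroup.relIndex_dvd_index_of_normal K (NP p P)
  exact Odd.of_dvd_nat hodd h1

/-- the relation between real characters of `G` and of `N_G(P)` -/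
def Rel (g : {θ : IrrCharacter K // PInvK p K P θ} → IrrCharacter (CN p K P))
    (χ : IrrCharacter G) (ξ : IrrCharacter (NP p P)) : Prop :=
  ∃ θ : {θ : IrrCharacter K // PInvK p K P θ}, (∀ k : K, ((θ.1 : K → ℂ) k).im = 0) ∧
    classInner (fun k : K => (χ : G → ℂ) k) (θ.1 : K → ℂ) ≠ 0 ∧
    classInner (fun c : CN p K P => (ξ : NP p P → ℂ) c)
      ((g θ : IrrCharacter (CN p K P)) : CN p K P → ℂ) ≠ 0

variable {p K P}

theorem rel_exists_right {g : {θ : IrrCharacter K // PInvK p K P θ} → IrrCharacter (CN p K P)}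
    (hg : IsCorr p K P g) (hodd : Odd K.index)
    (hreal : ∀ χ : IrrCharacter G, (∀ x : G, ((χ : G → ℂ) x).im = 0) →
      ¬ p ∣ charDegree (χ : G → ℂ))
    (χ : IrrCharacter G) (hχ : ∀ x : G, ((χ : G → ℂ) x).im = 0) :
    ∃ ξ : IrrCharacter (NP p P), (∀ n : NP p P, ((ξ : NP p P → ℂ) n).im = 0) ∧
      Rel p K P g χ ξ := by
  obtain ⟨θ₀, hθ₀r, hθ₀⟩ := (real_over_unique_and_under K hodd).2 χ hχ
  obtain ⟨x, hx⟩ := RealNorm.exists_pinv_conj K p hodd hreal P θ₀ hθ₀r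
  have hPθ : PInvK p K P (conjIrr K x θ₀) := (pinvK_iff p K P _).mpr hx
  have hθr : ∀ k : K, ((conjIrr K x θ₀ : K → ℂ) k).im = 0 := fun k => hθ₀r _
  have hθover : classInner (fun k : K => (χ : G → ℂ) k) (conjIrr K x θ₀ : K → ℂ) ≠ 0 := by
    rw [classInner_res_conjIrr K (isClassFunction_irr χ) x θ₀]
    exact hθ₀
  have hηr := (hg.real_iff ⟨conjIrr K x θ₀, hPθ⟩).mp hθr
  obtain ⟨ξ, hξr, hξ⟩ := exists_real_over_of_odd_index (CN p K P) (odd_index_cn p K P hodd)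
    (g ⟨conjIrr K x θ₀, hPθ⟩) hηr
  exact ⟨ξ, hξr, ⟨conjIrr K x θ₀, hPθ⟩, hθr, hθover, hξ⟩

theorem rel_exists_left {g : {θ : IrrCharacter K // PInvK p K P θ} → IrrCharacter (CN p K P)}
    (hg : IsCorr p K P g) (hodd : Odd K.index)
    (ξ : IrrCharacter (NP p P)) (hξ : ∀ n : NP p P, ((ξ : NP p P → ℂ) n).im = 0)
    (hpξ : ¬ p ∣ charDegree (ξ : NP p P → ℂ)) :
    ∃ χ : IrrCharacter G, (∀ x : G, ((χ : G → ℂ) x).im = 0) ∧ Rel p K P g χ ξ := by
  have hoddN := odd_index_cn p K P hodd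
  obtain ⟨η₀, hη₀r, hη₀⟩ := (real_over_unique_and_under (CN p K P) hoddN).2 ξ hξ
  have hdeg := charDegree_real_over (CN p K P) hoddN ξ η₀ hξ hη₀r hη₀
  have hporb : ¬ p ∣ (conjOrbit (CN p K P) (η₀ : CN p K P → ℂ)).card := by
    intro h
    apply hpξ
    rw [hdeg]
    exact dvd_mul_of_dvd_left h _
  obtain ⟨x, hx⟩ := exists_inv_conj_of_not_dvd (CN p K P) p
    ((P : Subgroup G).subgroupOf (NP p P)) (P.isPGroup'.comap_subtype) η₀ hporb
  set η := conjIrr (CN p K P) x η₀ with hη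
  have hPη : PInvN p K P η := fun u hu => hx u (Subgroup.mem_subgroupOf.mpr hu)
  have hηr : ∀ c : CN p K P, ((η : CN p K P → ℂ) c).im = 0 := fun c => hη₀r _
  have hηover : classInner (fun c : CN p K P => (ξ : NP p P → ℂ) c) (η : CN p K P → ℂ) ≠ 0 := by
    rw [hη, classInner_res_conjIrr (CN p K P) (isClassFunction_irr ξ) x η₀]
    exact hη₀
  obtain ⟨θ, hθ⟩ := hg.surj η hPη
  have hθr := (hg.real_iff θ).mpr (by rw [hθ]; exact hηr)
  obtain ⟨χ, hχr, hχ⟩ := exists_real_over_of_odd_index K hodd θ.1 hθr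
  exact ⟨χ, hχr, θ, hθr, hχ, by rw [hθ]; exact hηover⟩

theorem rel_right_unique {g : {θ : IrrCharacter K // PInvK p K P θ} → IrrCharacter (CN p K P)}
    (hg : IsCorr p K P g) (hodd : Odd K.index) (χ : IrrCharacter G)
    (ξ ξ' : IrrCharacter (NP p P)) (hξ : ∀ n : NP p P, ((ξ : NP p P → ℂ) n).im = 0)
    (hξ' : ∀ n : NP p P, ((ξ' : NP p P → ℂ) n).im = 0)
    (h : Rel p K P g χ ξ) (h' : Rel p K P g χ ξ') : ξ = ξ' := by
  letI := conjIrrMulAction K
  obtain ⟨θ, hθr, hθ, hξθ⟩ := h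
  obtain ⟨θ', hθ'r, hθ', hξθ'⟩ := h'
  obtain ⟨x, hx⟩ := clifford_conj K χ.2 θ.1.2 θ'.1.2 hθ hθ'
  have hx' : conjIrr K x⁻¹ θ.1 = θ'.1 := Subtype.ext (by rw [← hx, conjFun_eq_conjIrr])
  obtain ⟨n, hn, hn2⟩ := RealNorm.exists_normalizer_smul_eq (X := IrrCharacter K) p P θ.1 θ'.1
    ((pinvK_iff p K P θ.1).mp θ.2) ((pinvK_iff p K P θ'.1).mp θ'.2) x⁻¹ hx'
  have hn3 : conjIrr K n θ.1 = θ'.1 := hn2
  have hθ'eq : θ' = ⟨conjIrr K ((⟨n, hn⟩ : NP p P) : G) θ.1,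
      pinvK_conjIrr p K P n hn θ.1 θ.2⟩ := Subtype.ext hn3.symm
  have hgθ' : g θ' = conjIrr (CN p K P) (⟨n, hn⟩ : NP p P) (g θ) := by
    rw [hθ'eq]
    exact hg.equiv θ ⟨n, hn⟩
  have hξover : classInner (fun c : CN p K P => (ξ : NP p P → ℂ) c)
      ((g θ' : IrrCharacter (CN p K P)) : CN p K P → ℂ) ≠ 0 := by
    rw [hgθ', classInner_res_conjIrr (CN p K P) (isClassFunction_irr ξ)]
    exact hξθ
  exact (real_over_unique_and_under (CN p K P) (odd_index_cn p K P hodd)).1 (g θ') ξ ξ'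
    ((hg.real_iff θ').mp hθ'r) hξ hξ' hξover hξθ'

theorem rel_left_unique {g : {θ : IrrCharacter K // PInvK p K P θ} → IrrCharacter (CN p K P)}
    (hg : IsCorr p K P g) (hodd : Odd K.index) (χ χ' : IrrCharacter G)
    (ξ : IrrCharacter (NP p P)) (hχ : ∀ x : G, ((χ : G → ℂ) x).im = 0)
    (hχ' : ∀ x : G, ((χ' : G → ℂ) x).im = 0)
    (h : Rel p K P g χ ξ) (h' : Rel p K P g χ' ξ) : χ = χ' := by
  obtain ⟨θ, hθr, hθ, hξθ⟩ := h
  obtain ⟨θ', hθ'r, hθ', hξθ'⟩ := h'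
  obtain ⟨n, hn⟩ := clifford_conj (CN p K P) ξ.2 (g θ).2 (g θ').2 hξθ hξθ'
  have hn' : conjIrr (CN p K P) n⁻¹ (g θ) = g θ' :=
    Subtype.ext (by rw [← hn, conjFun_eq_conjIrr])
  rw [← hg.equiv θ n⁻¹] at hn'
  have hθ'eq := hg.inj hn'
  have hθ'1 : θ'.1 = conjIrr K ((n⁻¹ : NP p P) : G) θ.1 := (congrArg Subtype.val hθ'eq).symm
  have hχ'over : classInner (fun k : K => (χ' : G → ℂ) k) (θ.1 : K → ℂ) ≠ 0 := by
    rw [hθ'1, classInner_res_conjIrr K (isClassFunction_irr χ')] at hθ'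
    exact hθ'
  exact (real_over_unique_and_under K hodd).1 θ.1 χ χ' hθr hχ hχ' hθ hχ'over

end Assembly

end Cfsg.Agent.Lib.Helper81.RealExt
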