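import Mathlib
import Cfsg.Agent.Lib.Helper81.RXMain
import Cfsg.Agent.Lib.Helper81.RNQuot

/-!
# Real characters of `G` and of `N_G(P)`: degrees and the bijection (helper81)

* `card_conjOrbit_modEq`: corresponding `P`-invariant characters have orbits of congruent sizes.
* `rel_degree`: related real characters have degrees congruent modulo `p` up to sign.
* `exists_real_bijection`: the bijection.
-/

set_option autoImplicit false
set_option linter.unusedSectionVars false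
set_option linter.style.haveILetI false
set_option maxHeartbeats 400000

namespace Cfsg.Agent.Lib.Helper81.RealExt

open Cfsg Cfsg.Agent.Lib.Helper75 Cfsg.Agent.Lib.Helper78 Cfsg.Agent.Lib.Helper81
open scoped ComplexConjugate

universe u

section Final

variable {G : Type u} [Group G] [Fintype G] {p : ℕ} [hp : Fact p.Prime] {K : Subgroup G}
  [hKn : K.Normal] [Fintype K] {P : Sylow p G} [Fintype (NP p P)] [Fintype (CN p K P)]

theorem card_conjOrbit_modEq
    {g : {θ : IrrCharacter K // PInvK p K P θ} → IrrCharacter (CN p K P)}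
    (hg : IsCorr p K P g) (θ : {θ : IrrCharacter K // PInvK p K P θ}) :
    (conjOrbit K (θ.1 : K → ℂ)).card ≡
      (conjOrbit (CN p K P) ((g θ : IrrCharacter (CN p K P)) : CN p K P → ℂ)).card [MOD p] := by
  classical
  letI := conjIrrMulAction K
  have h1 := P.isPGroup'.card_modEq_card_fixedPoints (MulAction.orbit G θ.1)
  rw [card_orbit_eq_card_conjOrbit] at h1
  have hfixP : ∀ (a : MulAction.fixedPoints ↥(P : Subgroup G) ↥(MulAction.orbit G θ.1)),
      PInvK p K P a.1.1 := by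
    intro a
    rw [pinvK_iff]
    intro u hu
    exact congrArg Subtype.val (a.2 ⟨u, hu⟩)
  have hmem : ∀ (a : MulAction.fixedPoints ↥(P : Subgroup G) ↥(MulAction.orbit G θ.1)),
      g ⟨a.1.1, hfixP a⟩ ∈
        conjOrbit (CN p K P) ((g θ : IrrCharacter (CN p K P)) : CN p K P → ℂ) := by
    intro a
    obtain ⟨x, hx⟩ := a.1.2
    have hx' : conjIrr K x θ.1 = a.1.1 := hx
    obtain ⟨n, hn, hn2⟩ := RealNorm.exists_normalizer_smul_eq (X := IrrCharacter K) p P θ.1 a.1.1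
      ((pinvK_iff p K P θ.1).mp θ.2) ((pinvK_iff p K P a.1.1).mp (hfixP a)) x hx'
    have hn3 : conjIrr K n θ.1 = a.1.1 := hn2
    have heq : (⟨a.1.1, hfixP a⟩ : {θ : IrrCharacter K // PInvK p K P θ}) =
        ⟨conjIrr K ((⟨n, hn⟩ : NP p P) : G) θ.1, pinvK_conjIrr p K P n hn θ.1 θ.2⟩ :=
      Subtype.ext hn3.symm
    rw [heq, hg.equiv θ ⟨n, hn⟩, mem_conjOrbit]
    refine ⟨(⟨n, hn⟩ : NP p P)⁻¹, ?_⟩
    rw [conjFun_eq_conjIrr, inv_inv]
  let F : MulAction.fixedPoints ↥(P : Subgroup G) ↥(MulAction.orbit G θ.1) →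
      {η : IrrCharacter (CN p K P) //
        η ∈ conjOrbit (CN p K P) ((g θ : IrrCharacter (CN p K P)) : CN p K P → ℂ)} :=
    fun a => ⟨g ⟨a.1.1, hfixP a⟩, hmem a⟩
  have hF : Function.Bijective F := by
    constructor
    · intro a b hab
      have h2 : g ⟨a.1.1, hfixP a⟩ = g ⟨b.1.1, hfixP b⟩ := congrArg Subtype.val hab
      have h3 := congrArg Subtype.val (hg.inj h2)
      exact Subtype.ext (Subtype.ext h3)
    · rintro ⟨η, hη⟩
      rw [mem_conjOrbit] at hη
      obtain ⟨n, hn⟩ := hη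
      rw [conjFun_eq_conjIrr] at hn
      have hn' : conjIrr (CN p K P) n⁻¹ (g θ) = η := Subtype.ext hn
      rw [← hg.equiv θ n⁻¹] at hn'
      have hP' := pinvK_conjIrr p K P ((n⁻¹ : NP p P) : G) (n⁻¹ : NP p P).2 θ.1 θ.2
      have horb : conjIrr K ((n⁻¹ : NP p P) : G) θ.1 ∈ MulAction.orbit G θ.1 :=
        ⟨((n⁻¹ : NP p P) : G), rfl⟩
      refine ⟨⟨⟨conjIrr K ((n⁻¹ : NP p P) : G) θ.1, horb⟩, ?_⟩, ?_⟩
      · intro u
        apply Subtype.ext
        exact (pinvK_iff p K P _).mp hP' u.1 u.2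
      · apply Subtype.ext
        exact hn'
  have h2 : Nat.card (MulAction.fixedPoints ↥(P : Subgroup G) ↥(MulAction.orbit G θ.1)) =
      (conjOrbit (CN p K P) ((g θ : IrrCharacter (CN p K P)) : CN p K P → ℂ)).card := by
    rw [Nat.card_eq_of_bijective F hF, Nat.card_eq_fintype_card, Fintype.card_coe]
  rw [h2] at h1
  exact h1

theorem rel_degree {g : {θ : IrrCharacter K // PInvK p K P θ} → IrrCharacter (CN p K P)}
    (hg : IsCorr p K P g) (hodd : Odd K.index) (χ : IrrCharacter G)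
    (ξ : IrrCharacter (NP p P)) (hχ : ∀ x : G, ((χ : G → ℂ) x).im = 0)
    (hξ : ∀ n : NP p P, ((ξ : NP p P → ℂ) n).im = 0)
    (h : Rel p K P g χ ξ) :
    (charDegree (ξ : NP p P → ℂ) : ZMod p) = (charDegree (χ : G → ℂ) : ZMod p) ∨
      (charDegree (ξ : NP p P → ℂ) : ZMod p) = -(charDegree (χ : G → ℂ) : ZMod p) := by
  obtain ⟨θ, hθr, hθ, hξθ⟩ := h
  have hηr := (hg.real_iff θ).mp hθr
  have h1 := charDegree_real_over K hodd χ θ.1 hχ hθr hθ
  have h2 := charDegree_real_over (CN p K P) (odd_index_cn p K P hodd) ξ (g θ) hξ hηr hξθ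
  have h3 := (ZMod.natCast_eq_natCast_iff _ _ p).mpr (card_conjOrbit_modEq hg θ)
  rw [h1, h2, Nat.cast_mul, Nat.cast_mul, ← h3]
  rcases hg.deg θ with h4 | h4
  · left; rw [h4]
  · right; rw [h4, mul_neg]

end Final

/-- **The bijection.** -/
theorem exists_real_bijection {G : Type u} [Group G] [Finite G] (p : ℕ) [Fact p.Prime]
    (hsolv : Group.IsSolvable (ppGen G p))
    (hreal : ∀ χ : IrrCharacter G, (∀ g : G, ((χ : G → ℂ) g).im = 0) →
      ¬ p ∣ charDegree (χ : G → ℂ))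
    (P : Sylow p G) :
    ∃ f : {χ : IrrCharacter G // ∀ g : G, ((χ : G → ℂ) g).im = 0} →
      {ξ : IrrCharacter (NP p P) // (∀ n, ((ξ : NP p P → ℂ) n).im = 0) ∧
        ¬ p ∣ charDegree (ξ : NP p P → ℂ)},
      Function.Bijective f ∧
      ∀ χ, ((charDegree ((f χ).1 : NP p P → ℂ) : ZMod p) = (charDegree (χ.1 : G → ℂ) : ZMod p) ∨
        (charDegree ((f χ).1 : NP p P → ℂ) : ZMod p) = -(charDegree (χ.1 : G → ℂ) : ZMod p)) := by
  classical
  have hFG : Fintype G := Fintype.ofFinite G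
  have h2 : Fact (Nat.Prime 2) := ⟨Nat.prime_two⟩
  have hFK : Fintype (ppGen G 2) := Fintype.ofFinite _
  have hFN : Fintype (NP p P) := Fintype.ofFinite _
  have hFC : Fintype (CN p (ppGen G 2) P) := Fintype.ofFinite _
  have hodd : Odd (ppGen G 2).index := odd_index_ppGen_two G
  obtain ⟨Q₀⟩ : Nonempty (Sylow p (ppGen G 2)) := inferInstance
  have hQ₀n : (Q₀ : Subgroup (ppGen G 2)).Normal :=
    normal_sylow_subgroup_of_real_pprime p hsolv hreal (ppGen G 2) le_rfl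
      ⟨0, by rw [Subgroup.relIndex_self, pow_zero]⟩ Q₀
  have hchar : (Q₀ : Subgroup (ppGen G 2)).Characteristic :=
    Sylow.characteristic_of_normal Q₀ hQ₀n
  set Q : Subgroup G := (Q₀ : Subgroup (ppGen G 2)).map (ppGen G 2).subtype with hQ
  have hQn : Q.Normal := ConjAct.normal_of_characteristic_of_normal
  have hQp : IsPGroup p Q := Q₀.isPGroup'.map (ppGen G 2).subtype
  have hQK : Q ≤ ppGen G 2 := Subgroup.map_subtype_le _
  have hQsyl : ¬ p ∣ Q.relIndex (ppGen G 2) := by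
    rw [Subgroup.relIndex, hQ, Subgroup.subgroupOf,
      Subgroup.comap_map_eq_self_of_injective (ppGen G 2).subtype_injective]
    exact Q₀.not_dvd_index
  obtain ⟨g, hg1, hg2, hg3, hg4, hg5, hg6⟩ := exists_corr p (ppGen G 2) P Q hQK hQp hQsyl
  have hg : IsCorr p (ppGen G 2) P g := ⟨hg1, hg2, hg3, hg4, hg5, hg6⟩
  have hex := fun χ : {χ : IrrCharacter G // ∀ g : G, ((χ : G → ℂ) g).im = 0} =>
    rel_exists_right hg hodd hreal χ.1 χ.2
  choose f hfr hfrel using hex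
  have hdeg : ∀ χ, ((charDegree ((f χ : IrrCharacter (NP p P)) : NP p P → ℂ) : ZMod p) =
        (charDegree (χ.1 : G → ℂ) : ZMod p) ∨
      (charDegree ((f χ : IrrCharacter (NP p P)) : NP p P → ℂ) : ZMod p) =
        -(charDegree (χ.1 : G → ℂ) : ZMod p)) :=
    fun χ => rel_degree hg hodd χ.1 (f χ) χ.2 (hfr χ) (hfrel χ)
  have hpf : ∀ χ, ¬ p ∣ charDegree ((f χ : IrrCharacter (NP p P)) : NP p P → ℂ) := by
    intro χ hdvd
    have h0 : (charDegree ((f χ : IrrCharacter (NP p P)) : NP p P → ℂ) : ZMod p) = 0 :=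
      (ZMod.natCast_eq_zero_iff _ _).mpr hdvd
    have h1 : (charDegree (χ.1 : G → ℂ) : ZMod p) = 0 := by
      rcases hdeg χ with h | h
      · rw [h0] at h; exact h.symm
      · rw [h0] at h; exact neg_eq_zero.mp h.symm
    exact hreal χ.1 χ.2 ((ZMod.natCast_eq_zero_iff _ _).mp h1)
  refine ⟨fun χ => ⟨f χ, hfr χ, hpf χ⟩, ⟨?_, ?_⟩, fun χ => hdeg χ⟩
  · intro χ χ' h
    have h' : f χ = f χ' := congrArg Subtype.val h
    apply Subtype.ext
    have h'' : Rel p (ppGen G 2) P g χ'.1 (f χ) := by rw [h']; exact hfrel χ'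
    exact rel_left_unique hg hodd χ.1 χ'.1 (f χ) χ.2 χ'.2 (hfrel χ) h''
  · rintro ⟨ξ, hξr, hpξ⟩
    obtain ⟨χ, hχr, hχ⟩ := rel_exists_left hg hodd ξ hξr hpξ
    refine ⟨⟨χ, hχr⟩, ?_⟩
    apply Subtype.ext
    show f ⟨χ, hχr⟩ = ξ
    exact rel_right_unique hg hodd χ (f ⟨χ, hχr⟩) ξ (hfr ⟨χ, hχr⟩) hξr (hfrel ⟨χ, hχr⟩) hχ

end Cfsg.Agent.Lib.Helper81.RealExt
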