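import Mathlib

/-!
# A Sylow section adapted to a normal subgroup (helper81)

* `exists_sylow_section`: for `Z ≤ K` normal subgroups of a finite group `H` and a prime `p` there
  is `S ≥ Z` with `|S : Z|` a power of `p`, `|H : S|` prime to `p`, and `N_H(S ∩ K) K = H`
  (Frattini argument).
* `exists_index_eq_of_factor`: bookkeeping for the index of `K`.
-/

set_option autoImplicit false

namespace Cfsg.Agent.Lib.Helper81

theorem exists_sylow_section {H : Type*} [Group H] [Finite H] (Z K : Subgroup H) [hZ : Z.Normal]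
    [hK : K.Normal] (hZK : Z ≤ K) (p : ℕ) [hp : Fact p.Prime] :
    ∃ (S : Subgroup H) (a b : ℕ), Z ≤ S ∧ Z.relIndex S = p ^ a ∧ ¬ p ∣ S.index ∧
      K.relIndex S = p ^ b ∧ Subgroup.normalizer ((S ⊓ K : Subgroup H) : Set H) ⊔ K = ⊤ := by
  classical
  obtain ⟨PK⟩ : Nonempty (Sylow p K) := inferInstance
  set R : Subgroup H := (PK : Subgroup K).map K.subtype with hR
  have hRp : IsPGroup p R := PK.isPGroup'.map K.subtype
  obtain ⟨Q, hRQ⟩ := hRp.exists_le_sylow
  have hRK : R ≤ K := by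
    rintro x ⟨y, -, rfl⟩
    exact y.2
  refine ⟨Z ⊔ (Q : Subgroup H), ?_⟩
  -- `|S : Z|` is a power of `p`
  have h1 : Z.relIndex (Z ⊔ (Q : Subgroup H)) ∣ Nat.card (Q : Subgroup H) := by
    rw [Subgroup.relIndex_sup_left]
    exact Subgroup.relIndex_dvd_card _ _
  obtain ⟨n, hn⟩ := IsPGroup.iff_card.mp Q.isPGroup'
  rw [hn] at h1
  obtain ⟨a, -, ha⟩ := (Nat.dvd_prime_pow hp.out).1 h1
  have h2 : K.relIndex (Z ⊔ (Q : Subgroup H)) ∣ p ^ a := by
    rw [← ha]
    exact Subgroup.relIndex_dvd_of_le_left _ hZK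
  obtain ⟨b, -, hb⟩ := (Nat.dvd_prime_pow hp.out).1 h2
  refine ⟨a, b, le_sup_left, ha, ?_, hb, ?_⟩
  · intro h
    exact Q.not_dvd_index (h.trans (Subgroup.index_dvd_of_le le_sup_right))
  -- Frattini
  have hQK : (Q : Subgroup H) ⊓ K ≤ R := by
    intro x hx
    have hpg : IsPGroup p (((Q : Subgroup H) ⊓ K).subgroupOf K) := by
      have : IsPGroup p ((Q : Subgroup H) ⊓ K : Subgroup H) := Q.isPGroup'.to_le inf_le_left
      exact this.comap_subtype
    have hle : (PK : Subgroup K) ≤ ((Q : Subgroup H) ⊓ K).subgroupOf K := by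
      intro y hy
      rw [Subgroup.mem_subgroupOf]
      exact ⟨hRQ ⟨y, hy, rfl⟩, y.2⟩
    have heq := PK.is_maximal' hpg hle
    have hxm : (⟨x, hx.2⟩ : K) ∈ ((Q : Subgroup H) ⊓ K).subgroupOf K := by
      rw [Subgroup.mem_subgroupOf]
      exact hx
    rw [heq] at hxm
    exact ⟨⟨x, hx.2⟩, hxm, rfl⟩
  have hSK : (Z ⊔ (Q : Subgroup H)) ⊓ K = Z ⊔ R := by
    apply le_antisymm
    · intro x hx
      obtain ⟨z, hz, q, hq, rfl⟩ := Subgroup.mem_sup_of_normal_left.1 hx.1
      have hqK : q ∈ K := by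
        have h3 : z⁻¹ * (z * q) ∈ K := K.mul_mem (K.inv_mem (hZK hz)) hx.2
        simpa using h3
      exact Subgroup.mem_sup_of_normal_left.2 ⟨z, hz, q, hQK ⟨hq, hqK⟩, rfl⟩
    · apply le_inf
      · exact sup_le le_sup_left (hRQ.trans le_sup_right)
      · exact sup_le hZK hRK
  have hnorm : Subgroup.normalizer (R : Set H) ≤ Subgroup.normalizer ((Z ⊔ R : Subgroup H) : Set H) := by
    intro g hg
    have key : ∀ g : H, g ∈ Subgroup.normalizer (R : Set H) → ∀ h, h ∈ Z ⊔ R → g * h * g⁻¹ ∈ Z ⊔ R := by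
      intro g hg h hh
      obtain ⟨z, hz, r, hr, rfl⟩ := Subgroup.mem_sup_of_normal_left.1 hh
      have h4 : g * (z * r) * g⁻¹ = (g * z * g⁻¹) * (g * r * g⁻¹) := by group
      rw [h4]
      exact Subgroup.mem_sup_of_normal_left.2
        ⟨g * z * g⁻¹, hZ.conj_mem z hz g, g * r * g⁻¹, (Subgroup.mem_normalizer_iff.1 hg r).1 hr, rfl⟩
    rw [Subgroup.mem_normalizer_iff]
    intro h
    constructor
    · exact key g hg h
    · intro hh
      have h5 := key g⁻¹ (Subgroup.inv_mem _ hg) _ hh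
      have h6 : g⁻¹ * (g * h * g⁻¹) * g⁻¹⁻¹ = h := by group
      rwa [h6] at h5
  rw [hSK]
  have h7 := Sylow.normalizer_sup_eq_top PK
  rw [eq_top_iff, ← h7]
  exact sup_le_sup_right hnorm K

/-- the `p`-part of `|H : K|` is `|S : S ∩ K|` -/
theorem factorization_index_of_section {H : Type*} [Group H] [Finite H] (K S : Subgroup H)
    [hK : K.Normal] (p : ℕ) [hp : Fact p.Prime] (b : ℕ) (hKS : K.relIndex S = p ^ b)
    (hHS : ¬ p ∣ S.index) : (Nat.card (H ⧸ K)).factorization p = b := by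
  have h1 : Nat.card (H ⧸ K) = K.index := rfl
  have h2 : K.relIndex (S ⊔ K) * (S ⊔ K).index = K.index := Subgroup.relIndex_mul_index le_sup_right
  rw [Subgroup.relIndex_sup_right, hKS] at h2
  have h3 : ¬ p ∣ (S ⊔ K).index := fun h => hHS (h.trans (Subgroup.index_dvd_of_le le_sup_left))
  have h4 : (S ⊔ K).index ≠ 0 := Subgroup.index_ne_zero_of_finite
  rw [h1, ← h2, Nat.factorization_mul (pow_ne_zero b hp.out.ne_zero) h4,
    Nat.Prime.factorization_pow hp.out]
  simp [Nat.factorization_eq_zero_of_not_dvd h3]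

end Cfsg.Agent.Lib.Helper81
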