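import Mathlib
import Cfsg.Prelude.Def_Characters
import Cfsg.Agent.Lib.Helper75.Clifford
import Cfsg.Agent.Lib.Helper75.Clifford2
import Cfsg.Agent.Lib.Helper75.Ramified
import Cfsg.Agent.Lib.Helper81.StabIndex
import Cfsg.Agent.Lib.Helper81.SylowSection
import Cfsg.Agent.Lib.Helper81.RamifiedSection

/-!
# Complements from multiplicity-free sections of a fully ramified character (helper81)

`ψ ∈ Irr(S)` fully ramified over `Z`, `Z ≤ K ⊴ H`, `S ≤ H` a "Sylow section" (`|S : S ∩ K| = p ^ b`,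
`|H : S|` prime to `p`, `N_H(S ∩ K) K = H`), `θ` invariant in `H`, and `ζ ∈ Irr(S ∩ K)` a
constituent of multiplicity one of `ψ`.  Then `H / K` has a subgroup of index the `p`-part of
`|H / K|`: the image of the stabilizer of `ζ` in `N_H(S ∩ K)`.
-/

set_option autoImplicit false

namespace Cfsg.Agent.Lib.Helper81

open Cfsg Cfsg.Agent.Lib.Helper75 Cfsg.Agent.Lib.Helper78
open scoped ComplexConjugate

universe u

section SecConj

variable {H : Type u} [Group H] (S K : Subgroup H)

/-- the normalizer of `S ∩ K` -/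
abbrev secNorm : Subgroup H := Subgroup.normalizer ((S ⊓ K : Subgroup H) : Set H)

theorem secConj_mem (n : H) (hn : n ∈ secNorm S K) (y : K.subgroupOf S) :
    n * ((y : S) : H) * n⁻¹ ∈ S ⊓ K :=
  (Subgroup.mem_normalizer_iff.1 hn _).1 ⟨(y : S).2, Subgroup.mem_subgroupOf.1 y.2⟩

/-- conjugation by an element of `N_H(S ∩ K)` on `K.subgroupOf S` -/
def secConj (n : H) (hn : n ∈ secNorm S K) (y : K.subgroupOf S) : K.subgroupOf S :=
  ⟨⟨n * ((y : S) : H) * n⁻¹, (secConj_mem S K n hn y).1⟩,
    Subgroup.mem_subgroupOf.2 (secConj_mem S K n hn y).2⟩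

theorem secConj_coe (n : H) (hn : n ∈ secNorm S K) (y : K.subgroupOf S) :
    (((secConj S K n hn y : K.subgroupOf S) : S) : H) = n * ((y : S) : H) * n⁻¹ := rfl

/-- conjugation as a group isomorphism -/
def secConjEquiv (n : H) (hn : n ∈ secNorm S K) : K.subgroupOf S ≃* K.subgroupOf S where
  toFun := secConj S K n hn
  invFun := secConj S K n⁻¹ (Subgroup.inv_mem _ hn)
  left_inv y := by
    apply Subtype.ext
    apply Subtype.ext
    rw [secConj_coe, secConj_coe]
    group
  right_inv y := by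
    apply Subtype.ext
    apply Subtype.ext
    rw [secConj_coe, secConj_coe]
    group
  map_mul' x y := by
    apply Subtype.ext
    apply Subtype.ext
    show n * (((x * y : K.subgroupOf S) : S) : H) * n⁻¹ =
      (n * ((x : S) : H) * n⁻¹) * (n * ((y : S) : H) * n⁻¹)
    rw [Subgroup.coe_mul, Subgroup.coe_mul]
    group

/-- the action of `N_H(S ∩ K)` on functions on `K.subgroupOf S` -/
@[instance_reducible]
def secAct : MulAction (secNorm S K) (K.subgroupOf S → ℂ) where
  smul n f := fun y => f (secConj S K (n : H)⁻¹ (Subgroup.inv_mem _ n.2) y)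
  one_smul f := by
    funext y
    show f (secConj S K ((1 : secNorm S K) : H)⁻¹ _ y) = f y
    congr 1
    apply Subtype.ext
    apply Subtype.ext
    rw [secConj_coe]
    simp
  mul_smul m n f := by
    funext y
    show f (secConj S K ((m * n : secNorm S K) : H)⁻¹ _ y) =
      f (secConj S K (n : H)⁻¹ _ (secConj S K (m : H)⁻¹ _ y))
    congr 1
    apply Subtype.ext
    apply Subtype.ext
    rw [secConj_coe, secConj_coe, secConj_coe, Subgroup.coe_mul]
    group

theorem secAct_apply (n : secNorm S K) (f : K.subgroupOf S → ℂ) (y : K.subgroupOf S) :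
    (secAct S K).smul n f y = f (secConj S K (n : H)⁻¹ (Subgroup.inv_mem _ n.2) y) := rfl

theorem le_secNorm [hK : K.Normal] : S ≤ secNorm S K := by
  intro s hs
  rw [Subgroup.mem_normalizer_iff]
  intro h
  constructor
  · intro hh
    exact ⟨S.mul_mem (S.mul_mem hs hh.1) (S.inv_mem hs), hK.conj_mem h hh.2 s⟩
  · intro hh
    constructor
    · have h1 : s⁻¹ * (s * h * s⁻¹) * s ∈ S := S.mul_mem (S.mul_mem (S.inv_mem hs) hh.1) hs
      have h2 : s⁻¹ * (s * h * s⁻¹) * s = h := by group
      rwa [h2] at h1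
    · have h1 := hK.conj_mem _ hh.2 s⁻¹
      have h2 : s⁻¹ * (s * h * s⁻¹) * s⁻¹⁻¹ = h := by group
      rwa [h2] at h1

end SecConj

theorem exists_index_of_section {H : Type u} [Group H] [Fintype H] (Z K : Subgroup H)
    [hZ : Z.Normal] [hK : K.Normal] [Fintype Z] (hZK : Z ≤ K) {θ : Z → ℂ}
    (hθ : IsIrrCharacter Z θ) (hinv : ∀ g : H, Helper75.conjFun Z g θ = θ)
    (p : ℕ) [hp : Fact p.Prime] (S : Subgroup H) [Fintype S] [Fintype (Z.subgroupOf S)]
    [Fintype (K.subgroupOf S)] (hZS : Z ≤ S) (b : ℕ) (hKS : K.relIndex S = p ^ b)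
    (hHS : ¬ p ∣ S.index) (hfrat : secNorm S K ⊔ K = ⊤)
    {ψ : S → ℂ} (hψ : IsIrrCharacter S ψ) (d : ℕ)
    (hres : (fun z : Z.subgroupOf S => ψ z) = (d : ℂ) • liftNT Z S θ)
    (hd : d ^ 2 = (Z.subgroupOf S).index)
    {ζ : K.subgroupOf S → ℂ} (hζ : IsIrrCharacter (K.subgroupOf S) ζ)
    (he₀ : classInner (fun n : K.subgroupOf S => ψ n) ζ = 1) :
    ∃ M : Subgroup (H ⧸ K), M.index = p ^ (Nat.card (H ⧸ K)).factorization p := by
  classical
  have hθ' := isIrrCharacter_liftNT Z S hZS hθ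
  have hZN : Z.subgroupOf S ≤ K.subgroupOf S := by
    intro x hx
    rw [Subgroup.mem_subgroupOf] at hx ⊢
    exact hZK hx
  have hcon : classInner (fun n : K.subgroupOf S => ψ n) ζ ≠ 0 := by rw [he₀]; exact one_ne_zero
  have hover := ramified_over_of_constituent (Z.subgroupOf S) (K.subgroupOf S) hZN hψ hθ' d hres hd
    hζ hcon
  have hζcf : IsClassFunction (K.subgroupOf S) ζ :=
    IsCharacter.isClassFunction (IsIrrCharacter.isCharacter hζ)
  let act : MulAction (secNorm S K) (K.subgroupOf S → ℂ) := secAct S K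
  have hsmul : ∀ (n : secNorm S K) (y : K.subgroupOf S),
      (n • ζ) y = ζ (secConj S K (n : H)⁻¹ (Subgroup.inv_mem _ n.2) y) := fun n y => rfl
  -- the action of elements of `S` is conjugation
  have hact : ∀ (s : secNorm S K) (hs : (s : H) ∈ S),
      s • ζ = Helper75.conjFun (K.subgroupOf S) ((⟨(s : H), hs⟩ : S)⁻¹) ζ := by
    intro s hs
    funext y
    rw [hsmul, conjFun_apply]
    congr 1
  have hSle := le_secNorm S K
  -- hypotheses of `stabilizer_index_of_regular`
  have htriv : ∀ s ∈ (S ⊓ K).subgroupOf (secNorm S K), s • ζ = ζ := by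
    intro s hs
    rw [Subgroup.mem_subgroupOf] at hs
    rw [hact s hs.1]
    have h1 : ((⟨(s : H), hs.1⟩ : S)⁻¹) =
        (((⟨⟨(s : H), hs.1⟩, Subgroup.mem_subgroupOf.2 hs.2⟩ : K.subgroupOf S)⁻¹ :
          K.subgroupOf S) : S) := rfl
    rw [h1]
    exact conjFun_of_mem (K.subgroupOf S) hζcf _
  have hfree : ∀ s ∈ S.subgroupOf (secNorm S K), s • ζ = ζ →
      s ∈ (S ⊓ K).subgroupOf (secNorm S K) := by
    intro s hs hfix
    rw [Subgroup.mem_subgroupOf] at hs ⊢
    rw [hact s hs] at hfix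
    have h1 := ramified_section_free (Z.subgroupOf S) (K.subgroupOf S) hZN hψ hθ' d hres hd hζ he₀
      _ hfix
    rw [Subgroup.mem_subgroupOf] at h1
    have h2 : (s : H)⁻¹ ∈ K := h1
    exact ⟨hs, by simpa using K.inv_mem h2⟩
  have htrans : ∀ n : secNorm S K, ∃ s ∈ S.subgroupOf (secNorm S K), n • ζ = s • ζ := by
    intro n
    have hirr : IsIrrCharacter (K.subgroupOf S) (n • ζ) := by
      have := isIrrCharacter_comp_mulEquiv hζ
        (secConjEquiv S K (n : H)⁻¹ (Subgroup.inv_mem _ n.2))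
      exact this
    -- the conjugation on `Z.subgroupOf S`
    have hmem : ∀ (m : H) (z : Z.subgroupOf S), m * ((z : S) : H) * m⁻¹ ∈ Z := fun m z =>
      hZ.conj_mem _ (Subgroup.mem_subgroupOf.1 z.2) m
    let τf : H → Z.subgroupOf S → Z.subgroupOf S := fun m z =>
      ⟨⟨m * ((z : S) : H) * m⁻¹, hZS (hmem m z)⟩, Subgroup.mem_subgroupOf.2 (hmem m z)⟩
    let τ : Z.subgroupOf S ≃ Z.subgroupOf S :=
      { toFun := τf (n : H)⁻¹
        invFun := τf (n : H)
        left_inv := by
          intro z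
          apply Subtype.ext
          apply Subtype.ext
          show (n : H) * ((n : H)⁻¹ * ((z : S) : H) * (n : H)⁻¹⁻¹) * (n : H)⁻¹ = ((z : S) : H)
          group
        right_inv := by
          intro z
          apply Subtype.ext
          apply Subtype.ext
          show (n : H)⁻¹ * ((n : H) * ((z : S) : H) * (n : H)⁻¹) * (n : H)⁻¹⁻¹ = ((z : S) : H)
          group }
    have h1 : resNT (Z.subgroupOf S) (K.subgroupOf S) hZN (n • ζ) =
        resNT (Z.subgroupOf S) (K.subgroupOf S) hZN ζ ∘ τ := by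
      funext z
      show (n • ζ) _ = ζ _
      rw [hsmul]
      congr 1
    have h2 : liftNT Z S θ = liftNT Z S θ ∘ τ := by
      funext z
      have h3 := congrFun (hinv (n : H)⁻¹) ⟨((z : S) : H), Subgroup.mem_subgroupOf.1 z.2⟩
      rw [conjFun_apply] at h3
      exact h3.symm
    have hover' : classInner (resNT (Z.subgroupOf S) (K.subgroupOf S) hZN (n • ζ))
        (liftNT Z S θ) ≠ 0 := by
      rw [h1, h2, classInner_comp_equiv]
      exact hover
    obtain ⟨g, hg⟩ := ramified_section_conj (Z.subgroupOf S) (K.subgroupOf S) hZN hψ hθ' d hres hd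
      hζ hirr hover hover'
    refine ⟨⟨((g⁻¹ : S) : H), hSle (g⁻¹ : S).2⟩, ?_, ?_⟩
    · rw [Subgroup.mem_subgroupOf]
      exact (g⁻¹ : S).2
    · rw [hact ⟨((g⁻¹ : S) : H), hSle (g⁻¹ : S).2⟩ (g⁻¹ : S).2, ← hg]
      congr 1
      apply Subtype.ext
      simp
  have hq : ((S ⊓ K).subgroupOf (secNorm S K)).relIndex (S.subgroupOf (secNorm S K)) = p ^ b := by
    rw [Subgroup.relIndex_subgroupOf hSle, Subgroup.inf_relIndex_left, hKS]
  have hcop : ¬ p ∣ ((S ⊓ K).subgroupOf (secNorm S K)).relIndex (K.subgroupOf (secNorm S K)) := by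
    intro hdvd
    apply hHS
    have h1 : K.subgroupOf (secNorm S K) = (K ⊓ secNorm S K).subgroupOf (secNorm S K) :=
      (Subgroup.inf_subgroupOf_right K (secNorm S K)).symm
    rw [h1, Subgroup.relIndex_subgroupOf inf_le_right] at hdvd
    have h2 : S ⊓ K ≤ K ⊓ secNorm S K := le_inf inf_le_right (inf_le_left.trans hSle)
    have h3 := Subgroup.relIndex_mul_relIndex (S ⊓ K) (K ⊓ secNorm S K) K h2 inf_le_left
    have h4 : (S ⊓ K).relIndex (K ⊓ secNorm S K) ∣ S.relIndex K := by
      have h6 : (S ⊓ K).relIndex K = S.relIndex K := Subgroup.inf_relIndex_right S K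
      rw [← h6, ← h3]
      exact dvd_mul_right _ _
    have h5 : S.relIndex K ∣ S.index := by
      rw [← relIndex_sup_of_normal S K]
      exact Subgroup.relIndex_dvd_index_of_le le_sup_left
    exact hdvd.trans (h4.trans h5)
  obtain ⟨hker, hidx⟩ := stabilizer_index_of_regular (N := secNorm S K) ζ
    (S.subgroupOf (secNorm S K)) ((S ⊓ K).subgroupOf (secNorm S K)) (K.subgroupOf (secNorm S K))
    (fun x hx => by
      rw [Subgroup.mem_subgroupOf] at hx ⊢
      exact hx.1)
    (fun x hx => by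
      rw [Subgroup.mem_subgroupOf] at hx ⊢
      exact hx.2) htriv hfree htrans p b hq hcop
  -- the image in `H / K`
  let f : secNorm S K →* H ⧸ K := (QuotientGroup.mk' K).comp (secNorm S K).subtype
  have hf : Function.Surjective f := by
    intro q
    obtain ⟨h, rfl⟩ := QuotientGroup.mk_surjective q
    have hh : h ∈ secNorm S K ⊔ K := by rw [hfrat]; exact Subgroup.mem_top h
    obtain ⟨n, hn, k, hk, rfl⟩ := Subgroup.mem_sup_of_normal_right.1 hh
    refine ⟨⟨n, hn⟩, ?_⟩
    show ((n : H) : H ⧸ K) = ((n * k : H) : H ⧸ K)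
    rw [QuotientGroup.eq]
    simpa using hk
  have hfker : f.ker ≤ MulAction.stabilizer (secNorm S K) ζ := by
    intro x hx
    apply hker
    rw [MonoidHom.mem_ker] at hx
    have h1 : ((x : H) : H ⧸ K) = 1 := hx
    rw [QuotientGroup.eq_one_iff] at h1
    rw [Subgroup.mem_subgroupOf]
    exact h1
  refine ⟨(MulAction.stabilizer (secNorm S K) ζ).map f, ?_⟩
  rw [Subgroup.index_map_eq _ hf hfker, hidx, hq, factorization_index_of_section K S p b hKS hHS]

end Cfsg.Agent.Lib.Helper81
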