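import Mathlib
import Cfsg.Prelude.Def_Characters
import Cfsg.Agent.Lib.Helper75.Clifford
import Cfsg.Agent.Lib.Helper75.Clifford2
import Cfsg.Agent.Lib.Helper75.Ramified
import Cfsg.Agent.Lib.Helper81.StabIndex
import Cfsg.Agent.Lib.Helper81.RamifiedSection

/-!
# Fully ramified characters induced from an intermediate normal subgroup (helper81)

* `classInner_indFun_comp_ne_zero`: a constituent of `φ` restricted along `ι : W → K` is a
  constituent of `(φ^H)` restricted along `ι`, for `K ⊴ H`.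
* `over_of_constituent_of_res_smul`
* `indFun_eq_smul_of_ramified`, `sq_dvd_index_of_ramified`: `ζ^G = e₀ ψ` and `e₀² ∣ |G : N|`.
* `classInner_res_eq_one_of_induced`: if `χ = φ^H` with `φ` a character of `K`, then on a Sylow
  section `S` the fully ramified `ψ ∈ Irr(S)` restricts multiplicity freely to `S ∩ K`.
-/

set_option autoImplicit false

namespace Cfsg.Agent.Lib.Helper81

open Cfsg Cfsg.Agent.Lib.Helper75 Cfsg.Agent.Lib.Helper78
open scoped ComplexConjugate

universe u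

theorem classInner_indFun_comp_ne_zero {H : Type u} [Group H] [Fintype H] (K : Subgroup H)
    [hK : K.Normal] [Fintype K] {φ : K → ℂ} (hφ : IsCharacter K φ) {W : Type u} [Group W]
    [Fintype W] (ι : W →* K) {ν : W → ℂ} (hν : IsIrrCharacter W ν)
    (h : classInner (φ ∘ ι) ν ≠ 0) :
    classInner (fun w : W => indFun K φ ((ι w : K) : H)) ν ≠ 0 := by
  classical
  have h1 : (fun w : W => indFun K φ ((ι w : K) : H)) =
      (Nat.card K : ℂ)⁻¹ • ∑ x : H, (Helper75.conjFun K x⁻¹ φ ∘ ι) := by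
    funext w
    rw [indFun_res_normal K φ (ι w), Pi.smul_apply, Finset.sum_apply, smul_eq_mul]
    rfl
  choose k hk using fun x : H => IsCharacter.exists_nat_classInner
    (isCharacter_comp (isCharacter_conjFun K hφ x⁻¹) ι) (⟨ν, hν⟩ : IrrCharacter W)
  rw [h1, classInner_smul_left, classInner_sum_left]
  have h2 : ∑ x : H, classInner (Helper75.conjFun K x⁻¹ φ ∘ ι) ν = ((∑ x : H, k x : ℕ) : ℂ) := by
    push_cast
    exact Finset.sum_congr rfl (fun x _ => hk x)
  rw [h2]
  have hk1 : k 1 ≠ 0 := by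
    intro h0
    apply h
    have h3 := hk 1
    rw [inv_one, conjFun_one, h0, Nat.cast_zero] at h3
    exact h3
  have hpos : 0 < ∑ x : H, k x :=
    lt_of_lt_of_le (Nat.pos_of_ne_zero hk1)
      (Finset.single_le_sum (f := k) (fun _ _ => Nat.zero_le _) (Finset.mem_univ (1 : H)))
  have hK0 : (Nat.card K : ℂ) ≠ 0 := by
    have : 0 < Nat.card K := Nat.card_pos
    exact_mod_cast this.ne'
  apply mul_ne_zero (inv_ne_zero hK0)
  exact_mod_cast hpos.ne'

theorem over_of_constituent_of_res_smul {N Z : Type u} [Group N] [Fintype N] [Group Z] [Fintype Z]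
    (ι : Z →* N) {α : N → ℂ} (hα : IsCharacter N α) {θ : Z → ℂ} (hθ : IsIrrCharacter Z θ) (c : ℂ)
    (hres : α ∘ ι = c • θ) {ζ : N → ℂ} (hζ : IsIrrCharacter N ζ) (hcon : classInner α ζ ≠ 0) :
    classInner (ζ ∘ ι) θ ≠ 0 := by
  classical
  have hζZ : IsCharacter Z (ζ ∘ ι) := isCharacter_comp (IsIrrCharacter.isCharacter hζ) ι
  have h1 : (ζ ∘ ι) 1 ≠ 0 := by
    rw [Function.comp_apply, map_one]
    exact IsIrrCharacter.apply_one_ne_zero hζ
  obtain ⟨θ', hθ'⟩ := exists_irr_constituent hζZ h1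
  have h2 : classInner (α ∘ ι) (θ' : Z → ℂ) ≠ 0 :=
    classInner_comp_ne_zero_of_constituent ι hα hζ hcon θ'.2 hθ'
  rw [hres, classInner_smul_left] at h2
  have h4 : (θ' : Z → ℂ) = θ := by
    by_contra hne
    apply h2
    rw [classInner_irr_ne hθ θ'.2 (fun h => hne h.symm), mul_zero]
  rw [← h4]
  exact hθ'

section Section3

variable {G : Type u} [Group G] [Fintype G] (Z N : Subgroup G) [hZ : Z.Normal] [hN : N.Normal]
  [Fintype Z] [Fintype N] (hZN : Z ≤ N)
  {ψ : G → ℂ} (hψ : IsIrrCharacter G ψ) {θ : Z → ℂ} (hθ : IsIrrCharacter Z θ) (d : ℕ)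
  (hres : (fun z : Z => ψ z) = (d : ℂ) • θ) (hd : d ^ 2 = Z.index)

include hZN hψ hθ hres hd

/-- `ζ^G = e₀ ψ` -/
theorem indFun_eq_smul_of_ramified {ζ : N → ℂ} (hζ : IsIrrCharacter N ζ) (e₀ : ℕ)
    (he₀ : classInner (fun n : N => ψ n) ζ = (e₀ : ℂ)) (he₀0 : e₀ ≠ 0) :
    indFun N ζ = (e₀ : ℂ) • ψ := by
  classical
  have hcon : classInner (fun n : N => ψ n) ζ ≠ 0 := by
    rw [he₀]
    exact_mod_cast he₀0
  have hover := ramified_over_of_constituent Z N hZN hψ hθ d hres hd hζ hcon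
  have h3 : ∀ χ : IrrCharacter G, classInner (indFun N ζ) (χ : G → ℂ) =
      if χ = ⟨ψ, hψ⟩ then (e₀ : ℂ) else 0 := by
    intro χ
    rw [frobenius_reciprocity N ζ (isClassFunction_irr χ)]
    split_ifs with h
    · rw [h, ← classInner_conj_symm]
      show conj (classInner (fun n : N => ψ n) ζ) = (e₀ : ℂ)
      rw [he₀, Complex.conj_natCast]
    · by_contra hne
      apply h
      have h4 : classInner (fun n : N => (χ : G → ℂ) n) ζ ≠ 0 := by
        intro h0
        apply hne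
        rw [← classInner_conj_symm, h0, map_zero]
      have h5 : classInner ((fun n : N => (χ : G → ℂ) n) ∘ (Subgroup.inclusion hZN)) θ ≠ 0 :=
        classInner_comp_ne_zero_of_constituent (Subgroup.inclusion hZN)
          (isCharacter_res N (IsIrrCharacter.isCharacter χ.2)) hζ h4 hθ hover
      exact Subtype.ext (ramified_unique Z hψ hθ d hres hd χ.2 h5)
  have h6 := classFunction_eq_sum_irr (isClassFunction_indFun N ζ)
  rw [h6, Finset.sum_congr rfl (fun χ _ => by rw [h3 χ]),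
    Finset.sum_eq_single (⟨ψ, hψ⟩ : IrrCharacter G)]
  · rw [if_pos rfl]
  · intro χ _ hne
    rw [if_neg hne, zero_smul]
  · intro h
    exact absurd (Finset.mem_univ _) h

/-- `e₀² ∣ |G : N|` -/
theorem sq_dvd_index_of_ramified {ζ : N → ℂ} (hζ : IsIrrCharacter N ζ) (e₀ : ℕ)
    (he₀ : classInner (fun n : N => ψ n) ζ = (e₀ : ℂ)) (he₀0 : e₀ ≠ 0) :
    e₀ ^ 2 ∣ N.index := by
  classical
  let T : Subgroup G := inertiaSubgroup N ζ
  have : Fintype T := Fintype.ofFinite T
  have hT : ∀ g : G, g ∈ T ↔ Helper75.conjFun N g ζ = ζ := fun g => Iff.rfl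
  have hNT : N ≤ T :=
    le_inertiaSubgroup N (IsCharacter.isClassFunction (IsIrrCharacter.isCharacter hζ))
  have h1 := classInner_indFun_self N T hζ hT
  rw [indFun_eq_smul_of_ramified Z N hZN hψ hθ d hres hd hζ e₀ he₀ he₀0, classInner_smul_left,
    classInner_smul_right, classInner_irr_self hψ, Complex.conj_natCast, mul_one] at h1
  have hNne : (Nat.card N : ℂ) ≠ 0 := by
    have : 0 < Nat.card N := Nat.card_pos
    exact_mod_cast this.ne'
  have h2 : ((e₀ ^ 2 * Nat.card N : ℕ) : ℂ) = (Nat.card T : ℂ) := by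
    push_cast
    field_simp at h1
    rw [← h1]
  have h3 : e₀ ^ 2 * Nat.card N = Nat.card T := by exact_mod_cast h2
  have h4 : Nat.card T * T.index = Nat.card N * N.index := by
    rw [T.card_mul_index, N.card_mul_index]
  rw [← h3] at h4
  have h5 : Nat.card N * (e₀ ^ 2 * T.index) = Nat.card N * N.index := by
    rw [← h4]; ring
  have h6 := Nat.eq_of_mul_eq_mul_left Nat.card_pos h5
  exact ⟨T.index, h6.symm⟩

end Section3

theorem classInner_res_eq_one_of_induced {H : Type u} [Group H] [Fintype H] (Z K : Subgroup H)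
    [hZ : Z.Normal] [hK : K.Normal] [Fintype Z] [Fintype K] (hZK : Z ≤ K) {χ : H → ℂ}
    (hχ : IsIrrCharacter H χ) {θ : Z → ℂ} (hθ : IsIrrCharacter Z θ) (e : ℕ)
    (hresχ : (fun z : Z => χ z) = (e : ℂ) • θ) (he : e ^ 2 = Z.index)
    {φ : K → ℂ} (hφ : IsCharacter K φ) (hind : indFun K φ = χ)
    (p : ℕ) [hp : Fact p.Prime] (S : Subgroup H) [Fintype S] [Fintype (Z.subgroupOf S)]
    [Fintype (K.subgroupOf S)] (hZS : Z ≤ S) (a b : ℕ) (hSZ : Z.relIndex S = p ^ a)
    (hKS : K.relIndex S = p ^ b) (hHS : ¬ p ∣ S.index)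
    {ψ : S → ℂ} (hψ : IsIrrCharacter S ψ) (d : ℕ)
    (hres : (fun z : Z.subgroupOf S => ψ z) = (d : ℂ) • liftNT Z S θ)
    (hd : d ^ 2 = (Z.subgroupOf S).index)
    {ζ : K.subgroupOf S → ℂ} (hζ : IsIrrCharacter (K.subgroupOf S) ζ)
    (hcon : classInner (fun n : K.subgroupOf S => ψ n) ζ ≠ 0) :
    classInner (fun n : K.subgroupOf S => ψ n) ζ = 1 := by
  classical
  have hθ' := isIrrCharacter_liftNT Z S hZS hθ
  have hZN : Z.subgroupOf S ≤ K.subgroupOf S := by
    intro x hx
    rw [Subgroup.mem_subgroupOf] at hx ⊢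
    exact hZK hx
  have hover := ramified_over_of_constituent (Z.subgroupOf S) (K.subgroupOf S) hZN hψ hθ' d hres hd
    hζ hcon
  obtain ⟨e₀, he₀⟩ := IsCharacter.exists_nat_classInner
    (isCharacter_res (K.subgroupOf S) (IsIrrCharacter.isCharacter hψ))
    (⟨ζ, hζ⟩ : IrrCharacter (K.subgroupOf S))
  have he₀' : classInner (fun n : K.subgroupOf S => ψ n) ζ = (e₀ : ℂ) := he₀
  have he₀0 : e₀ ≠ 0 := by
    rintro rfl
    apply hcon
    rw [he₀', Nat.cast_zero]
  -- (i)
  have hindζ := indFun_eq_smul_of_ramified (Z.subgroupOf S) (K.subgroupOf S) hZN hψ hθ' d hres hd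
    hζ e₀ he₀' he₀0
  have hsq := sq_dvd_index_of_ramified (Z.subgroupOf S) (K.subgroupOf S) hZN hψ hθ' d hres hd
    hζ e₀ he₀' he₀0
  have hNidx : (K.subgroupOf S).index = p ^ b := hKS
  have hZidx : (Z.subgroupOf S).index = p ^ a := hSZ
  have hψ1 : ψ 1 = (d : ℂ) * θ 1 := by
    have := congrFun hres 1
    have h0 : liftNT Z S θ 1 = θ 1 := rfl
    rw [Pi.smul_apply, smul_eq_mul, h0] at this
    exact this
  have hχ1 : χ 1 = (e : ℂ) * θ 1 := by
    have := congrFun hresχ 1
    simpa using this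
  have hχ1' : χ 1 = (K.index : ℂ) * φ 1 := by
    rw [← hind, indFun_one]
  have hi : ((p : ℂ) ^ b) * ζ 1 = (e₀ : ℂ) * ((d : ℂ) * θ 1) := by
    have := congrFun hindζ 1
    rw [indFun_one, hNidx, Pi.smul_apply, smul_eq_mul, hψ1] at this
    exact_mod_cast this
  -- degrees of the constituents of `φ` on `S ∩ K`
  let ι : K.subgroupOf S →* K :=
    MonoidHom.codRestrict (S.subtype.comp (K.subgroupOf S).subtype) K
      (fun y => Subgroup.mem_subgroupOf.1 y.2)
  obtain ⟨m, hm⟩ := (isCharacter_iff_exists_nat_combination (φ ∘ ι)).1 (isCharacter_comp hφ ι)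
  have hdeg : ∀ ν : IrrCharacter (K.subgroupOf S), m ν ≠ 0 →
      (ν : K.subgroupOf S → ℂ) 1 = ζ 1 := by
    intro ν hν
    have h1 : classInner (φ ∘ ι) (ν : K.subgroupOf S → ℂ) ≠ 0 := by
      rw [hm, classInner_nat_combination (fun ν => (m ν : ℂ)) ν]
      exact_mod_cast hν
    have h2 := classInner_indFun_comp_ne_zero K hφ ι ν.2 h1
    rw [hind] at h2
    have hα : IsCharacter (K.subgroupOf S) (fun w : K.subgroupOf S => χ ((ι w : K) : H)) :=
      isCharacter_res (K.subgroupOf S) (isCharacter_res S (IsIrrCharacter.isCharacter hχ))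
    have hαres : (fun w : K.subgroupOf S => χ ((ι w : K) : H)) ∘ (Subgroup.inclusion hZN) =
        (e : ℂ) • liftNT Z S θ := by
      funext z
      have := congrFun hresχ ⟨((z : S) : H), Subgroup.mem_subgroupOf.mp z.2⟩
      simp only [Pi.smul_apply, smul_eq_mul] at this
      exact this
    have h3 := over_of_constituent_of_res_smul (Subgroup.inclusion hZN) hα hθ' (e : ℂ) hαres ν.2 h2
    obtain ⟨g, hg⟩ := ramified_section_conj (Z.subgroupOf S) (K.subgroupOf S) hZN hψ hθ' d hres hd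
      hζ ν.2 hover h3
    rw [← hg, conjFun_apply]
    congr 1
    apply Subtype.ext
    simp
  have hφ1 : φ 1 = ((∑ ν : IrrCharacter (K.subgroupOf S), m ν : ℕ) : ℂ) * ζ 1 := by
    have h1 : φ 1 = (φ ∘ ι) 1 := by
      rw [Function.comp_apply, map_one]
    rw [h1, hm, Finset.sum_apply]
    push_cast
    rw [Finset.sum_mul]
    apply Finset.sum_congr rfl
    intro ν _
    rw [Pi.smul_apply, smul_eq_mul]
    by_cases h0 : m ν = 0
    · rw [h0, Nat.cast_zero, zero_mul, zero_mul]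
    · rw [hdeg ν h0]
  -- numerics
  set g := ∑ ν : IrrCharacter (K.subgroupOf S), m ν with hg
  have hKidx : K.index = p ^ b * (S ⊔ K).index := by
    have h2 : K.relIndex (S ⊔ K) * (S ⊔ K).index = K.index :=
      Subgroup.relIndex_mul_index le_sup_right
    rw [Subgroup.relIndex_sup_right, hKS] at h2
    exact h2.symm
  have ht : θ 1 ≠ 0 := IsIrrCharacter.apply_one_ne_zero hθ
  have h7 : (e : ℂ) * θ 1 = (((S ⊔ K).index * g * e₀ * d : ℕ) : ℂ) * θ 1 := by
    rw [← hχ1, hχ1', hφ1, hKidx]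
    push_cast
    linear_combination ((S ⊔ K).index * g : ℂ) * hi
  have h8 : (e : ℂ) = (((S ⊔ K).index * g * e₀ * d : ℕ) : ℂ) := mul_right_cancel₀ ht h7
  have h9 : e = (S ⊔ K).index * g * e₀ * d := by exact_mod_cast h8
  have h10 : p ^ a * S.index = Z.index := by
    rw [← hSZ]
    exact Subgroup.relIndex_mul_index hZS
  have h11 : p ^ a * S.index = p ^ a * (((S ⊔ K).index * g * e₀) ^ 2) := by
    rw [h10, ← he, h9, ← hZidx, ← hd]
    ring
  have h12 : S.index = ((S ⊔ K).index * g * e₀) ^ 2 :=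
    Nat.eq_of_mul_eq_mul_left (pow_pos hp.out.pos a) h11
  have h13 : ¬ p ∣ e₀ := by
    intro hdvd
    apply hHS
    rw [h12]
    exact (hdvd.trans (dvd_mul_left _ _)).trans (dvd_pow_self _ two_ne_zero)
  have h14 : e₀ ∣ p ^ b := by
    rw [← hNidx]
    exact (dvd_pow_self e₀ two_ne_zero).trans hsq
  obtain ⟨j, -, hj⟩ := (Nat.dvd_prime_pow hp.out).1 h14
  have hj0 : j = 0 := by
    by_contra hne
    apply h13
    rw [hj]
    exact dvd_pow_self p hne
  rw [he₀', hj, hj0, pow_zero, Nat.cast_one]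

end Cfsg.Agent.Lib.Helper81
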