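import Mathlib
import Cfsg.Prelude.Def_Characters
import Cfsg.Agent.Lib.Helper75.Clifford
import Cfsg.Agent.Lib.Helper75.Clifford2
import Cfsg.Agent.Lib.Helper75.Ramified
import Cfsg.Agent.Lib.Helper81.Gallagher

/-!
# A fully ramified character stays fully ramified on Sylow sections (helper81)

* `exists_ramified_sylow`: `χ ∈ Irr(H)` fully ramified over `Z ⊴ H`; `Z ≤ S ≤ H` with `|S : Z|` a
  power of `p` and `|H : S|` prime to `p`.  Then some `ψ ∈ Irr(S)` is fully ramified over `Z`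
  (DeMeyer–Janusz, one direction).
-/

set_option autoImplicit false

namespace Cfsg.Agent.Lib.Helper81

open Cfsg Cfsg.Agent.Lib.Helper75 Cfsg.Agent.Lib.Helper78
open scoped ComplexConjugate

universe u

theorem exists_ramified_sylow {H : Type u} [Group H] [Fintype H] (Z : Subgroup H) [hZ : Z.Normal]
    [Fintype Z] {χ : H → ℂ} (hχ : IsIrrCharacter H χ) {θ : Z → ℂ} (hθ : IsIrrCharacter Z θ)
    (e : ℕ) (hres : (fun z : Z => χ z) = (e : ℂ) • θ) (he : e ^ 2 = Z.index)
    (p : ℕ) [hp : Fact p.Prime] (S : Subgroup H) [Fintype S] [Fintype (Z.subgroupOf S)]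
    (hZS : Z ≤ S) (a : ℕ) (hSZ : Z.relIndex S = p ^ a) (hHS : ¬ p ∣ S.index) :
    ∃ (ψ : S → ℂ) (d : ℕ), IsIrrCharacter S ψ ∧
      (fun z : Z.subgroupOf S => ψ z) = (d : ℂ) • liftNT Z S θ ∧
      d ^ 2 = (Z.subgroupOf S).index := by
  classical
  obtain ⟨hvan, hinv⟩ := ramified_a_to_b Z hχ hθ e hres he
  have hθ' := isIrrCharacter_liftNT Z S hZS hθ
  have hinv' : ∀ t : S, Helper75.conjFun (Z.subgroupOf S) t (liftNT Z S θ) = liftNT Z S θ :=
    conjFun_liftNT Z S (fun g _ => hinv g)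
  obtain ⟨ψ, hψ⟩ := exists_classInner_indFun_ne_zero (Z.subgroupOf S) hθ'
  rw [frobenius_reciprocity (Z.subgroupOf S) _ (isClassFunction_irr ψ),
    ← classInner_conj_symm] at hψ
  have hcon : classInner (fun z : Z.subgroupOf S => (ψ : S → ℂ) z) (liftNT Z S θ) ≠ 0 := by
    intro h
    apply hψ
    rw [h, map_zero]
  obtain ⟨d, hd0, -, hd⟩ := res_eq_smul_of_invariant (Z.subgroupOf S) ψ.2 hθ' hcon hinv'
  refine ⟨ψ, d, ψ.2, hd, ?_⟩
  -- cardinalities
  have hcardS : Nat.card S = Nat.card (Z.subgroupOf S) * p ^ a := by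
    rw [← hSZ]
    exact ((Z.subgroupOf S).card_mul_index).symm
  have hZ'pos : 0 < Nat.card (Z.subgroupOf S) := Nat.card_pos
  have hZ'ne : (Nat.card (Z.subgroupOf S) : ℂ) ≠ 0 := by exact_mod_cast hZ'pos.ne'
  have hSne : (Nat.card S : ℂ) ≠ 0 := by
    have : 0 < Nat.card S := Nat.card_pos
    exact_mod_cast this.ne'
  have hθ'norm : ∑ z : Z.subgroupOf S, liftNT Z S θ z * conj (liftNT Z S θ z) =
      (Nat.card (Z.subgroupOf S) : ℂ) := by
    have := classInner_irr_self hθ'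
    unfold classInner at this
    field_simp at this
    exact this
  have hψval : ∀ z : Z.subgroupOf S, (ψ : S → ℂ) z = (d : ℂ) * liftNT Z S θ z := by
    intro z
    have := congrFun hd z
    simpa using this
  have hχval : ∀ z : Z.subgroupOf S, χ ((z : S) : H) = (e : ℂ) * liftNT Z S θ z := by
    intro z
    have := congrFun hres ⟨((z : S) : H), Subgroup.mem_subgroupOf.mp z.2⟩
    simp only [Pi.smul_apply, smul_eq_mul] at this
    exact this
  -- the multiplicity of `ψ` in `χ_S`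
  obtain ⟨n, hn⟩ := IsCharacter.exists_nat_classInner
    (isCharacter_res S (IsIrrCharacter.isCharacter hχ)) ψ
  have hn1 : (n : ℂ) * (p : ℂ) ^ a = (e : ℂ) * (d : ℂ) := by
    unfold classInner at hn
    rw [sum_eq_sum_subgroup_of_vanish (Z.subgroupOf S)
      (fun s : S => χ (s : H) * conj ((ψ : S → ℂ) s)) (fun t ht => by
        have : χ (t : H) = 0 := hvan (t : H) (fun h => ht (Subgroup.mem_subgroupOf.mpr h))
        rw [this, zero_mul])] at hn
    have h1 : ∀ z : Z.subgroupOf S, χ ((z : S) : H) * conj ((ψ : S → ℂ) z) =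
        ((e : ℂ) * (d : ℂ)) * (liftNT Z S θ z * conj (liftNT Z S θ z)) := by
      intro z
      rw [hχval z, hψval z, map_mul, Complex.conj_natCast]
      ring
    rw [Finset.sum_congr rfl (fun z _ => h1 z), ← Finset.mul_sum, hθ'norm, hcardS] at hn
    push_cast at hn
    field_simp at hn
    have hpa : (p : ℂ) ^ a ≠ 0 := pow_ne_zero a (by exact_mod_cast hp.out.ne_zero)
    rw [← hn]
    field_simp
  have hn2 : n * p ^ a = e * d := by exact_mod_cast hn1
  -- `d² ≤ p ^ a`
  have hle : d ^ 2 ≤ p ^ a := by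
    have h1 := card_mul_classInner_self_split (Z.subgroupOf S) (ψ : S → ℂ)
    rw [classInner_irr_self ψ.2, mul_one, hd, classInner_smul_left, classInner_smul_right,
      classInner_irr_self hθ', Complex.conj_natCast, mul_one] at h1
    have h2 : (Nat.card S : ℝ) = (Nat.card (Z.subgroupOf S) : ℝ) * ((d : ℝ) * (d : ℝ)) +
        ∑ g ∈ Finset.univ.filter (fun g : S => g ∉ Z.subgroupOf S),
          Complex.normSq ((ψ : S → ℂ) g) := by
      have : ((Nat.card S : ℝ) : ℂ) = (((Nat.card (Z.subgroupOf S) : ℝ) * ((d : ℝ) * (d : ℝ)) +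
        ∑ g ∈ Finset.univ.filter (fun g : S => g ∉ Z.subgroupOf S),
          Complex.normSq ((ψ : S → ℂ) g) : ℝ) : ℂ) := by
        push_cast
        push_cast at h1
        rw [h1]
      exact_mod_cast this
    have h3 : (0 : ℝ) ≤ ∑ g ∈ Finset.univ.filter (fun g : S => g ∉ Z.subgroupOf S),
        Complex.normSq ((ψ : S → ℂ) g) :=
      Finset.sum_nonneg (fun g _ => Complex.normSq_nonneg _)
    have h4 : (Nat.card (Z.subgroupOf S) : ℝ) * ((d : ℝ) * (d : ℝ)) ≤ (Nat.card S : ℝ) := by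
      linarith
    have h5 : Nat.card (Z.subgroupOf S) * (d * d) ≤ Nat.card S := by exact_mod_cast h4
    rw [hcardS] at h5
    rw [pow_two]
    exact Nat.le_of_mul_le_mul_left h5 hZ'pos
  -- arithmetic
  have hidx : e ^ 2 = p ^ a * S.index := by
    rw [he, ← hSZ]
    exact (Subgroup.relIndex_mul_index hZS).symm
  have h6 : n ^ 2 * p ^ a = S.index * d ^ 2 := by
    have h7 : (n * p ^ a) ^ 2 = e ^ 2 * d ^ 2 := by rw [hn2]; ring
    rw [hidx] at h7
    have h8 : p ^ a * (n ^ 2 * p ^ a) = p ^ a * (S.index * d ^ 2) := by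
      calc p ^ a * (n ^ 2 * p ^ a) = (n * p ^ a) ^ 2 := by ring
        _ = p ^ a * S.index * d ^ 2 := h7
        _ = p ^ a * (S.index * d ^ 2) := by ring
    exact Nat.eq_of_mul_eq_mul_left (pow_pos hp.out.pos a) h8
  have hcop : Nat.Coprime (p ^ a) S.index :=
    Nat.Coprime.pow_left a ((Nat.Prime.coprime_iff_not_dvd hp.out).2 hHS)
  have hdvd : p ^ a ∣ d ^ 2 := by
    have : p ^ a ∣ S.index * d ^ 2 := ⟨n ^ 2, by rw [← h6]; ring⟩
    exact hcop.dvd_of_dvd_mul_left this
  have hge : p ^ a ≤ d ^ 2 := Nat.le_of_dvd (pow_pos (Nat.pos_of_ne_zero hd0) 2) hdvd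
  show d ^ 2 = Z.relIndex S
  rw [hSZ]
  exact le_antisymm hle hge

end Cfsg.Agent.Lib.Helper81
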