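import Mathlib
import Cfsg.Agent.Lib.Helper81.RealCounting
import Cfsg.Agent.Lib.Helper81.RealKernels

/-!
# Real characters of p'-degree: 2-elements centralize normal subgroups inside `P'` (helper81)

`two_elements_centralize`: `p` odd, all real irreducible characters of `G` of `p'`-degree,
`M ⊴ G` with `M ≤ P'` (`P` a Sylow `p`-subgroup): every element of 2-power order centralizes `M`.
-/

set_option autoImplicit false

namespace Cfsg.Agent.Lib.Helper81

open Cfsg
open scoped commutatorElement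

universe u

theorem two_elements_centralize {G : Type u} [Group G] [Finite G] (p : ℕ) [hp : Fact p.Prime]
    (hp2 : p ≠ 2)
    (hreal : ∀ χ : IrrCharacter G, (∀ g : G, ((χ : G → ℂ) g).im = 0) →
      ¬ p ∣ charDegree (χ : G → ℂ))
    (P : Sylow p G) (M : Subgroup G) [hM : M.Normal]
    (hMP : M ≤ ⁅(P : Subgroup G), (P : Subgroup G)⁆) (t : G) (k : ℕ) (ht : orderOf t = 2 ^ k) :
    ∀ m ∈ M, m * t = t * m := by
  classical
  by_contra hcon
  set C : Subgroup G := Subgroup.centralizer (M : Set G) with hC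
  have htC : t ∉ C := by
    intro h
    apply hcon
    intro m hm
    exact (Subgroup.mem_centralizer_iff.mp h) m hm
  have hex : ∃ i : ℕ, t ^ (2 ^ i) ∈ C := ⟨k, by rw [← ht, pow_orderOf_eq_one]; exact C.one_mem⟩
  set i := Nat.find hex with hi
  have hi0 : i ≠ 0 := by
    intro h0
    have := Nat.find_spec hex
    rw [← hi, h0, pow_zero, pow_one] at this
    exact htC this
  set s : G := t ^ (2 ^ (i - 1)) with hs
  have hsC : s ∉ C := Nat.find_min hex (by omega : i - 1 < i)
  have hs2 : s ^ 2 ∈ C := by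
    have := Nat.find_spec hex
    rw [← hi] at this
    have e : 2 ^ i = 2 ^ (i - 1) * 2 := by
      rw [← pow_succ]; congr 1; omega
    rw [hs, ← pow_mul, ← e]
    exact this
  -- an element not commuting with `s`
  have hn : ∃ n ∈ M, n * s ≠ s * n := by
    by_contra h
    push Not at h
    exact hsC (Subgroup.mem_centralizer_iff.mpr h)
  obtain ⟨n, hnM, hns⟩ := hn
  set v : G := n * (s * n * s⁻¹)⁻¹ with hv
  have hvM : v ∈ M := M.mul_mem hnM (M.inv_mem (hM.conj_mem n hnM s))
  have hv1 : v ≠ 1 := by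
    intro h
    apply hns
    have h1 : n = s * n * s⁻¹ := by
      have := mul_inv_eq_one.mp h
      exact this
    calc n * s = s * n * s⁻¹ * s := by rw [← h1]
      _ = s * n := by group
  have hcomm : n⁻¹ * s ^ 2 = s ^ 2 * n⁻¹ :=
    (Subgroup.mem_centralizer_iff.mp hs2) n⁻¹ (M.inv_mem hnM)
  have hvreal : IsConj v v⁻¹ := by
    rw [isConj_iff]
    refine ⟨s, ?_⟩
    have h1 : s * v * s⁻¹ = s * n * s⁻¹ * (s ^ 2 * n⁻¹ * (s ^ 2)⁻¹) := by
      rw [hv]; group
    have h2 : s ^ 2 * n⁻¹ * (s ^ 2)⁻¹ = n⁻¹ := by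
      rw [← hcomm]; group
    rw [h1, h2, hv]
    group
  -- `M` has odd order
  have hMP' : M ≤ (P : Subgroup G) := le_trans hMP (commutator_self_le _)
  have hMp : IsPGroup p M := P.2.to_le hMP'
  have hodd : Odd (Nat.card M) := by
    obtain ⟨j, hj⟩ := IsPGroup.iff_card.mp hMp
    rw [hj]
    exact Odd.pow (hp.out.odd_of_ne_two hp2)
  obtain ⟨χ, hχreal, a, haM, hχa⟩ := exists_real_irr_not_ker M
    (fun q hq => exists_real_lift_of_odd M hodd q hq) v hvM hv1 hvreal
  exact hχa (apply_eq_of_le_commutator_sylow p P M hMP χ (hreal χ hχreal) a haM)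

end Cfsg.Agent.Lib.Helper81
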