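import Mathlib
import Cfsg.Agent.Lib.Helper81.S1936NT
import Cfsg.Agent.Lib.Helper81.S1936Q8

/-!
S1936 (helper22's skeleton `notes/helper22_S1936_modules.lean.txt`): the modules TSTR-[NT] and Q8-[FREE] with the
exact skeleton statements and names, in the namespace `Cfsg.Agent.Lib.Helper81.S1936`.
-/

set_option autoImplicit false
universe u

namespace Cfsg.Agent.Lib.Helper81.S1936

variable {G : Type u} [Group G] [Finite G] {p : ℕ} [Fact p.Prime]

/-- TSTR-[NT] (C3, C4): pure number theory. -/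
theorem two_pow_sub_one_eq_prime_pow {k q j : ℕ} (hk : 3 ≤ k) (hq : q.Prime) (h : 2 ^ k - 1 = q ^ j) :
    j = 1 ∧ q % 4 = 3 := by
  obtain ⟨h1, h2, -⟩ := Cfsg.Agent.Lib.Helper81.S1936NT.two_pow_sub_one_eq_prime_pow hq hk h
  exact ⟨h1, by omega⟩

/-- Q8-[FREE]: exactly the `hfree` hypothesis of S0118. -/
theorem not_section_SL2 (hp2 : p ≠ 2)
    (h2 : ∀ S : Subgroup G, IsPGroup 2 ↥S → ∀ x ∈ S, ∀ y ∈ S, x * y = y * x) :
    ¬ ∃ (H K : Subgroup G) (hK : (K.subgroupOf H).Normal),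
      Nonempty ((H ⧸ K.subgroupOf H) ≃* Matrix.SpecialLinearGroup (Fin 2) (ZMod p)) :=
  Cfsg.Agent.Lib.Helper81.S1936Q8.hfree_of_two_subgroups_abelian hp2 h2

end Cfsg.Agent.Lib.Helper81.S1936
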