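import Mathlib
import Cfsg.Agent.Lib.Helper22.S1936Defs

set_option autoImplicit false
universe u

namespace Cfsg.Agent.Lib.Helper81.S1936

open Cfsg.Agent.Lib.Helper22.S1936

/-- Frattini + Schur–Zassenhaus: a normal subgroup of `p'`-index has a `p'`-supplement. -/
theorem exists_supplement {K : Type*} [Group K] [Finite K] (p : ℕ) [Fact p.Prime] (N : Subgroup K)
    [N.Normal] (hidx : N.index.Coprime p) :
    ∃ H : Subgroup K, (Nat.card H).Coprime p ∧ ∀ k : K, ∃ h ∈ H, ∃ n ∈ N, k = h * n := by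
  obtain ⟨P⟩ : Nonempty (Sylow p K) := inferInstance
  have hPN : (P : Subgroup K) ≤ N := by
    intro x hx
    rw [← QuotientGroup.eq_one_iff]
    obtain ⟨k, hk⟩ := P.isPGroup' ⟨x, hx⟩
    have hk' : x ^ (p ^ k) = 1 := congrArg Subtype.val hk
    have h1 : (QuotientGroup.mk x : K ⧸ N) ^ (p ^ k) = 1 := by
      rw [← QuotientGroup.mk_pow, hk']; rfl
    have h2 : orderOf (QuotientGroup.mk x : K ⧸ N) ∣ p ^ k := orderOf_dvd_of_pow_eq_one h1
    have h3 : orderOf (QuotientGroup.mk x : K ⧸ N) ∣ N.index := by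
      rw [Subgroup.index_eq_card]; exact orderOf_dvd_natCard _
    have hcop : (p ^ k).Coprime N.index := (Nat.Coprime.pow_right k hidx).symm
    have := Nat.Coprime.eq_one_of_dvd (Nat.Coprime.coprime_dvd_left h2 hcop) h3
    exact orderOf_eq_one_iff.mp this
  have hfr := Sylow.normalizer_sup_eq_top (P.subtype hPN)
  have hP'eq : ((P.subtype hPN : Sylow p ↥N) : Subgroup ↥N).map N.subtype = (P : Subgroup K) := by
    rw [Sylow.coe_subtype, Subgroup.subgroupOf_map_subtype, inf_eq_left]
    exact hPN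
  rw [hP'eq] at hfr
  -- Schur–Zassenhaus in the normaliser
  have hcop1 : (Nat.card ((P : Subgroup K).subgroupOf (Subgroup.normalizer ((P : Subgroup K) : Set K)))).Coprime
      ((P : Subgroup K).subgroupOf (Subgroup.normalizer ((P : Subgroup K) : Set K))).index := by
    obtain ⟨a, ha⟩ := IsPGroup.iff_card.mp P.isPGroup'
    have hc : Nat.card ((P : Subgroup K).subgroupOf (Subgroup.normalizer ((P : Subgroup K) : Set K))) =
        Nat.card (P : Subgroup K) :=
      Nat.card_congr (Subgroup.subgroupOfEquivOfLe Subgroup.le_normalizer).toEquiv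
    rw [hc, ha]
    apply Nat.Coprime.pow_left
    rw [Nat.coprime_comm]
    apply (Nat.Prime.coprime_iff_not_dvd (Fact.out : p.Prime)).mpr |> fun h => (Nat.coprime_comm.mp (h ?_))
    intro hdvd
    have h4 : (P : Subgroup K).relIndex (Subgroup.normalizer ((P : Subgroup K) : Set K)) ∣ (P : Subgroup K).index :=
      Dvd.intro _ (Subgroup.relIndex_mul_index Subgroup.le_normalizer)
    exact P.not_dvd_index (hdvd.trans h4)
  obtain ⟨H1, hH1⟩ := Subgroup.exists_right_complement'_of_coprime hcop1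
  refine ⟨H1.map (Subgroup.normalizer ((P : Subgroup K) : Set K)).subtype, ?_, ?_⟩
  · rw [Subgroup.card_map_of_injective (Subgroup.subtype_injective _), ← hH1.symm.index_eq_card]
    -- p ∤ index
    apply (Nat.Prime.coprime_iff_not_dvd (Fact.out : p.Prime)).mpr |> fun h => (Nat.coprime_comm.mp (h ?_))
    intro hdvd
    have h4 : (P : Subgroup K).relIndex (Subgroup.normalizer ((P : Subgroup K) : Set K)) ∣ (P : Subgroup K).index :=
      Dvd.intro _ (Subgroup.relIndex_mul_index Subgroup.le_normalizer)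
    exact P.not_dvd_index (hdvd.trans h4)
  · intro k
    have hk : k ∈ (Subgroup.normalizer ((P : Subgroup K) : Set K) ⊔ N : Subgroup K) := by
      rw [hfr]; exact Subgroup.mem_top k
    rw [← SetLike.mem_coe, Subgroup.mul_normal] at hk
    obtain ⟨k1, hk1, n, hn, rfl⟩ := Set.mem_mul.mp hk
    obtain ⟨⟨x, h⟩, hxh⟩ := hH1.2 ⟨k1, hk1⟩
    have hxh' : (x : ↥(Subgroup.normalizer ((P : Subgroup K) : Set K))).1 * (h : ↥(Subgroup.normalizer ((P : Subgroup K) : Set K))).1 = k1 :=
      congrArg Subtype.val hxh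
    have hxN : ((x : ↥(Subgroup.normalizer ((P : Subgroup K) : Set K))) : K) ∈ N := hPN x.2
    refine ⟨((h : ↥(Subgroup.normalizer ((P : Subgroup K) : Set K))) : K), ⟨h.1, h.2, rfl⟩,
      ((h : ↥(Subgroup.normalizer ((P : Subgroup K) : Set K))) : K)⁻¹ * x.1.1 * h.1.1 * n, ?_, ?_⟩
    · refine N.mul_mem ?_ hn
      have := (inferInstance : N.Normal).conj_mem _ hxN (((h : ↥(Subgroup.normalizer ((P : Subgroup K) : Set K))) : K)⁻¹)
      simpa using this
    · rw [← hxh']; group

variable {G : Type u} [Group G] [Finite G] {p : ℕ} [Fact p.Prime]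

/-- RED-[QUOT] (0.1): `HP` passes to arbitrary quotients (Frattini + Schur–Zassenhaus). -/
theorem hp_quotient (h : HP p G) (N : Subgroup G) [N.Normal] : HP p (G ⧸ N) := by
  intro Kb hKb
  -- the full preimage
  have hK : HP p ↥(Kb.comap (QuotientGroup.mk' N)) := h.subgroup _
  have hidx : ((N.subgroupOf (Kb.comap (QuotientGroup.mk' N))).index).Coprime p := by
    have h1 : (N.subgroupOf (Kb.comap (QuotientGroup.mk' N))).index =
        N.relIndex (Kb.comap (QuotientGroup.mk' N)) := rfl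
    have h2 : (⊥ : Subgroup (G ⧸ N)).comap (QuotientGroup.mk' N) = N := by
      rw [MonoidHom.comap_bot, QuotientGroup.ker_mk']
    have h3 : N.relIndex (Kb.comap (QuotientGroup.mk' N)) =
        ((⊥ : Subgroup (G ⧸ N)).comap (QuotientGroup.mk' N)).relIndex (Kb.comap (QuotientGroup.mk' N)) := by
      rw [h2]
    rw [h1, h3, Subgroup.relIndex_comap, Subgroup.map_comap_eq_self_of_surjective
      (QuotientGroup.mk'_surjective N), Subgroup.relIndex_bot_left]
    exact hKb
  obtain ⟨H, hHcop, hH⟩ := exists_supplement p (N.subgroupOf (Kb.comap (QuotientGroup.mk' N))) hidx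
  obtain ⟨hc, he⟩ := hK H hHcop
  -- every element of `Kb` is the class of an element of `H`
  have key : ∀ x ∈ Kb, ∃ y : ↥(Kb.comap (QuotientGroup.mk' N)), y ∈ H ∧
      (QuotientGroup.mk (y : G) : G ⧸ N) = x := by
    intro x hx
    obtain ⟨g, rfl⟩ := QuotientGroup.mk_surjective x
    have hg : g ∈ Kb.comap (QuotientGroup.mk' N) := hx
    obtain ⟨y, hy, n, hn, hgn⟩ := hH ⟨g, hg⟩
    refine ⟨y, hy, ?_⟩
    have hgn' : g = (y : G) * (n : G) := congrArg Subtype.val hgn
    have hnN : (n : G) ∈ N := hn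
    rw [hgn', QuotientGroup.mk_mul, (QuotientGroup.eq_one_iff (n : G)).mpr hnN, mul_one]
  refine ⟨⟨⟨fun a b => ?_⟩⟩, fun x hx => ?_⟩
  · obtain ⟨y, hy, hya⟩ := key a.1 a.2
    obtain ⟨z, hz, hzb⟩ := key b.1 b.2
    have hcomm : y * z = z * y := congrArg Subtype.val (hc.is_comm.comm ⟨y, hy⟩ ⟨z, hz⟩)
    apply Subtype.ext
    show a.1 * b.1 = b.1 * a.1
    rw [← hya, ← hzb, ← QuotientGroup.mk_mul, ← QuotientGroup.mk_mul]
    exact congrArg (fun w : ↥(Kb.comap (QuotientGroup.mk' N)) => (QuotientGroup.mk (w : G) : G ⧸ N)) hcomm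
  · obtain ⟨y, hy, hyx⟩ := key x hx
    have hpow : y ^ (p - 1) = 1 := he y hy
    rw [← hyx, ← QuotientGroup.mk_pow]
    have : (y : G) ^ (p - 1) = 1 := by
      have := congrArg Subtype.val hpow
      simpa using this
    rw [this]; rfl

end Cfsg.Agent.Lib.Helper81.S1936
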