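/-
helper81: project SQF (S4130, helper85), module SQF-[DER] (hedge):
`|G'|` is squarefree for a finite solvable group with squarefree class sizes.

`squarefree_card_commutator_of` takes the conclusions of SQF-[SS], SQF-[IDX] and SQF-[DER-BASE]
(for all groups of the universe) as hypotheses.
-/
import Mathlib
import Cfsg.Agent.Lib.Helper85.SqfDefs
import Cfsg.Agent.Lib.Helper85.SqfAux
import Cfsg.Agent.Lib.Helper52.SqfInh
import Cfsg.Agent.Lib.Helper1.PCore
import Cfsg.Agent.Lib.Helper1.Fitting
import Cfsg.Agent.Lib.Helper21.OddTransLinearMul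

set_option autoImplicit false

universe u

namespace Cfsg.Agent.Lib.Helper81.Sqf

open Cfsg Cfsg.Agent.Lib.Helper85.Sqf

/-- the order of a subgroup is the order of its image times the order of its part in the kernel -/
theorem h81_card_eq_card_map_mul {G H : Type*} [Group G] [Group H] [Finite G] (f : G →* H)
    (K : Subgroup G) :
    Nat.card K = Nat.card (K.map f) * Nat.card (f.ker.subgroupOf K) := by
  classical
  have e1 : (f.comp K.subtype).range = K.map f := by
    ext y
    constructor
    · rintro ⟨x, rfl⟩
      exact ⟨x, x.2, rfl⟩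
    · rintro ⟨x, hx, rfl⟩
      exact ⟨⟨x, hx⟩, rfl⟩
  have e2 : (f.comp K.subtype).ker = f.ker.subgroupOf K := by
    ext x
    rw [MonoidHom.mem_ker, Subgroup.mem_subgroupOf, MonoidHom.mem_ker]
    rfl
  have h1 := Subgroup.card_eq_card_quotient_mul_card_subgroup (f.comp K.subtype).ker
  have h2 : Nat.card (K ⧸ (f.comp K.subtype).ker) = Nat.card (f.comp K.subtype).range :=
    Nat.card_congr (QuotientGroup.quotientKerEquivRange (f.comp K.subtype)).toEquiv
  rw [h1, h2, e1, e2]

/-- SQF-[DER] with the conclusions of SQF-[SS], SQF-[IDX], SQF-[DER-BASE] as hypotheses. -/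
theorem squarefree_card_commutator_of
    (hSS : ∀ (H : Type u) [Group H] [Finite H] [Group.IsSolvable H], SqF H → Cfsg.IsSupersolvable H)
    (hIDX : ∀ (H : Type u) [Group H] [Finite H], SqF H → commutator H ≤ fittingSubgroup H →
      Squarefree (fittingSubgroup H).index)
    (hDB : ∀ (H : Type u) [Group H] [Finite H], SqF H → ∀ (p : ℕ) [Fact p.Prime],
      IsPGroup p (fittingSubgroup H) →
      Subgroup.centralizer (fittingSubgroup H : Set H) ≤ fittingSubgroup H →
      commutator H ≤ fittingSubgroup H → IsCyclic (H ⧸ fittingSubgroup H) →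
      Nat.card (commutator H) ∣ p)
    {G : Type u} [Group G] [Finite G] [Group.IsSolvable G]
    (h : SqF G) : Squarefree (Nat.card (commutator G)) := by
  classical
  -- strong induction on the order
  suffices key : ∀ (n : ℕ) (G : Type u) [Group G] [Finite G] [Group.IsSolvable G],
      Nat.card G = n → SqF G → Squarefree (Nat.card (commutator G)) from key _ G rfl h
  intro n
  induction n using Nat.strong_induction_on with
  | _ n ih =>
    intro G _ _ _ hn h
    rw [Nat.squarefree_iff_prime_squarefree]
    intro p hp hpp
    have : Fact p.Prime := ⟨hp⟩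
    by_cases hcase : ∃ r : ℕ, r.Prime ∧ r ≠ p ∧ pCore r G ≠ ⊥
    · -- pass to the quotient by `O_r(G)`
      obtain ⟨r, hr, hrp, hne⟩ := hcase
      have : Fact r.Prime := ⟨hr⟩
      set N : Subgroup G := pCore r G with hN
      have hNn : N.Normal := Cfsg.Agent.Lib.Helper1.pCore_normal r
      let f : G →* G ⧸ N := QuotientGroup.mk' N
      have hf : Function.Surjective f := QuotientGroup.mk'_surjective N
      have hQ : SqF (G ⧸ N) := Cfsg.Agent.Lib.Helper52.Sqf.SqF.of_surjective h f hf
      have hlt : Nat.card (G ⧸ N) < n := by
        rw [← hn, ← Subgroup.index_eq_card, ← Subgroup.card_mul_index N]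
        have h1 : 1 < Nat.card N := by
          rw [Finite.one_lt_card_iff_nontrivial]
          exact (Subgroup.nontrivial_iff_ne_bot N).mpr hne
        have h2 : 0 < N.index := Nat.pos_of_ne_zero Subgroup.index_ne_zero_of_finite
        nlinarith
      have hsqQ := ih _ hlt (G ⧸ N) rfl hQ
      -- `(G/N)' = image of G'`
      have hmap : (commutator G).map f = commutator (G ⧸ N) := by
        rw [commutator_def, commutator_def, Subgroup.map_commutator,
          Subgroup.map_top_of_surjective f hf]
      have hcard := h81_card_eq_card_map_mul f (commutator G)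
      rw [hmap] at hcard
      -- the kernel part is an `r`-group
      have hker : IsPGroup r (f.ker.subgroupOf (commutator G)) := by
        have hk : f.ker = N := QuotientGroup.ker_mk' N
        rw [hk]
        have hNr : IsPGroup r N := Cfsg.Agent.Lib.Helper1.pCore_isPGroup r
        exact hNr.comap_of_injective _ (Subgroup.subtype_injective _)
      obtain ⟨k, hk⟩ := IsPGroup.iff_card.mp hker
      rw [hk] at hcard
      rw [hcard] at hpp
      have hcop : Nat.Coprime (p * p) (r ^ k) := by
        apply Nat.Coprime.pow_right
        have := (Nat.coprime_primes hp hr).mpr (Ne.symm hrp)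
        exact Nat.Coprime.mul_left this this
      have hdvd : p * p ∣ Nat.card (commutator (G ⧸ N)) := hcop.dvd_of_dvd_mul_right hpp
      exact (Nat.squarefree_iff_prime_squarefree.mp hsqQ) p hp hdvd
    · -- `F(G)` is a `p`-group
      push Not at hcase
      have hF : fittingSubgroup G = pCore p G := by
        rw [Cfsg.Agent.Lib.Helper1.fittingSubgroup_eq_iSup_pCore]
        apply le_antisymm
        · refine iSup_le fun r => ?_
          by_cases hrp : (r : ℕ) = p
          · rw [hrp]
          · rw [hcase r r.2 hrp]
            exact bot_le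
        · exact le_iSup (fun r : Nat.Primes => pCore (r : ℕ) G) ⟨p, hp⟩
      have hFp : IsPGroup p (fittingSubgroup G) := by
        rw [hF]
        exact Cfsg.Agent.Lib.Helper1.pCore_isPGroup p
      have hss := hSS G h
      have hab := commutator_le_fitting_of_isSupersolvable hss
      have hsq := hIDX G h hab
      have hcyc := isCyclic_quotient_fitting_of hab hsq Cfsg.Agent.Lib.Helper1.fittingSubgroup_normal
      have hCF := Cfsg.Agent.Lib.Helper21.OddTransLinear.centralizer_fitting_le_of_isSolvable
        (R := G) inferInstance
      have hdvd := hDB G h p hFp hCF hab hcyc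
      have hle : p * p ≤ p := Nat.le_of_dvd hp.pos (dvd_trans hpp hdvd)
      have := hp.one_lt
      nlinarith

end Cfsg.Agent.Lib.Helper81.Sqf
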