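/-
helper81: project SQF (S4130, helper85), module SQF-[IDX] (hedge):
`|G : F(G)|` is squarefree for a group with squarefree class sizes and `G' ≤ F(G)`.

`squarefree_index_fitting_of` takes the conclusion of SQF-[IDX-U] as a hypothesis.
-/
import Mathlib
import Cfsg.Agent.Lib.Helper85.SqfDefs
import Cfsg.Agent.Lib.Helper1.PCore
import Cfsg.Agent.Lib.Helper1.Fitting

set_option autoImplicit false

namespace Cfsg.Agent.Lib.Helper81.Sqf

open Cfsg Cfsg.Agent.Lib.Helper85.Sqf

variable {G : Type*} [Group G]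

/-- SQF-[IDX] with the conclusion of SQF-[IDX-U] as a hypothesis. -/
theorem squarefree_index_fitting_of [Finite G] (h : SqF G)
    (hU : ∀ (q : ℕ) [Fact q.Prime], ∃ u ∈ fittingSubgroup G, ∀ y : G,
      (∃ k : ℕ, orderOf y = q ^ k) → y * u = u * y → y ∈ fittingSubgroup G) :
    Squarefree (fittingSubgroup G).index := by
  classical
  rw [Nat.squarefree_iff_prime_squarefree]
  intro q hq hqq
  have : Fact q.Prime := ⟨hq⟩
  obtain ⟨u, -, hu⟩ := hU q
  set Cu : Subgroup G := Subgroup.centralizer ({u} : Set G) with hCu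
  obtain ⟨R⟩ : Nonempty (Sylow q Cu) := inferInstance
  -- the image of `R` in `G` lies in `F`
  have hRF : (R : Subgroup Cu).map Cu.subtype ≤ fittingSubgroup G := by
    rintro _ ⟨r, hr, rfl⟩
    apply hu
    · obtain ⟨k, hk⟩ := (IsPGroup.iff_orderOf.mp R.isPGroup') ⟨r, hr⟩
      refine ⟨k, ?_⟩
      have h1 : orderOf (⟨r, hr⟩ : (R : Subgroup Cu)) = orderOf r := Subgroup.orderOf_mk r hr
      have h2 : orderOf (Cu.subtype r) = orderOf r := Subgroup.orderOf_coe r
      rw [h2, ← h1, hk]
    · have hr' : (r : G) ∈ Subgroup.centralizer ({u} : Set G) := r.2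
      rw [Subgroup.mem_centralizer_iff] at hr'
      exact (hr' u (Set.mem_singleton u)).symm
  have hcardR : Nat.card ((R : Subgroup Cu).map Cu.subtype) = q ^ (Nat.card Cu).factorization q := by
    rw [Subgroup.card_map_of_injective Cu.subtype_injective]
    exact Sylow.card_eq_multiplicity R
  set a := (Nat.card Cu).factorization q with ha
  have hdvdF : q ^ a ∣ Nat.card (fittingSubgroup G) := by
    rw [← hcardR]
    exact Subgroup.card_dvd_of_le hRF
  -- `q^(a+2)` divides `|G|`
  have hG : q ^ (a + 2) ∣ Nat.card G := by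
    rw [← Subgroup.card_mul_index (fittingSubgroup G), pow_add, pow_two]
    exact Nat.mul_dvd_mul hdvdF hqq
  -- split off the `q`-part of `|Cu|`
  have hCpos : Nat.card Cu ≠ 0 := Nat.card_pos.ne'
  obtain ⟨c, hc⟩ := Nat.ordProj_dvd (Nat.card Cu) q
  have hcq : ¬ q ∣ c := by
    have := Nat.not_dvd_ordCompl hq hCpos
    have hcc : c = Nat.card Cu / q ^ a := by
      rw [hc, Nat.mul_div_cancel_left _ (pow_pos hq.pos _)]
    rwa [← hcc] at this
  have hG2 : q ^ a * (q * q) ∣ q ^ a * (c * Cu.index) := by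
    have e : q ^ a * (c * Cu.index) = Nat.card G := by
      rw [← Subgroup.card_mul_index Cu, ← mul_assoc, ← hc]
    rw [e, ← pow_two, ← pow_add]
    exact hG
  have hqq' : q * q ∣ c * Cu.index := Nat.dvd_of_mul_dvd_mul_left (pow_pos hq.pos _) hG2
  have hcop : Nat.Coprime (q * q) c :=
    Nat.Coprime.mul_left ((Nat.Prime.coprime_iff_not_dvd hq).mpr hcq)
      ((Nat.Prime.coprime_iff_not_dvd hq).mpr hcq)
  have hfin : q * q ∣ Cu.index := hcop.dvd_of_dvd_mul_left hqq'
  exact (Nat.squarefree_iff_prime_squarefree.mp (h u)) q hq hfin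

end Cfsg.Agent.Lib.Helper81.Sqf
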