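import Mathlib
import Cfsg.Agent.Lib.Helper62.HHDual
import Cfsg.Agent.Lib.Helper63.HHAbGroup
import Cfsg.Agent.Lib.Helper81.TISylowChar

/-!
# `p`-solvable groups with a TI Sylow `p`-subgroup and a small faithful character (helper81)

`ti_sylow_normal_of_faithful`: `G` `p`-solvable, `P ∈ Syl_p(G)` TI, `χ` a faithful character with
`χ(1)² ≤ |P|`; then `P ⊴ G`.
-/

set_option linter.unusedSectionVars false
set_option autoImplicit false

namespace Cfsg.Agent.Lib.Helper81

open Cfsg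
open scoped commutatorElement Pointwise

universe u

section TIMain

variable {G : Type u} [Group G] [Finite G]

/-- A `p`-group `P` normalizing a normal `p'`-subgroup `K` normalizes a Sylow `r`-subgroup of `K`. -/
theorem exists_invariant_sylow_of_pgroup (K : Subgroup G) [K.Normal] (p r : ℕ) [Fact p.Prime]
    [Fact r.Prime] (hK : (Nat.card K).Coprime p) (P : Subgroup G) (hP : IsPGroup p P) :
    ∃ Q : Sylow r K, ∀ y ∈ P, ∀ k : K, k ∈ Q → (MulAut.conjNormal y : MulAut K) k ∈ Q := by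
  have hp : p.Prime := Fact.out
  set A : Subgroup (MulAut K) := P.map (MulAut.conjNormal : G →* MulAut K) with hA
  have hAp : IsPGroup p A := hP.map _
  have hnd : ¬ p ∣ Nat.card (Sylow r K) := by
    intro hdvd
    obtain ⟨Q0⟩ : Nonempty (Sylow r K) := inferInstance
    have h1 : Nat.card (Sylow r K) ∣ Nat.card K :=
      (Sylow.card_dvd_index Q0).trans (Subgroup.index_dvd_card _)
    have h2 : p ∣ Nat.gcd (Nat.card K) p := Nat.dvd_gcd (hdvd.trans h1) dvd_rfl
    rw [hK] at h2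
    exact hp.one_lt.ne' (Nat.dvd_one.1 h2)
  obtain ⟨Q, hQ⟩ := hAp.nonempty_fixed_point_of_prime_not_dvd_card (Sylow r K) hnd
  refine ⟨Q, ?_⟩
  intro y hy k hk
  have hα : (MulAut.conjNormal y : MulAut K) ∈ A := ⟨y, hy, rfl⟩
  have h1 : (⟨_, hα⟩ : A) • Q = Q := hQ _
  have h2 : (⟨_, hα⟩ : A) • (k : K) ∈ (⟨_, hα⟩ : A) • (Q : Subgroup K) :=
    Subgroup.smul_mem_pointwise_smul _ _ _ hk
  have h3 : (((⟨_, hα⟩ : A) • Q : Sylow r K) : Subgroup K) = (⟨_, hα⟩ : A) • (Q : Subgroup K) :=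
    Sylow.pointwise_smul_def
  rw [h1] at h3
  rw [← h3] at h2
  exact h2


/-- **Main theorem.** `G` `p`-solvable, `P ∈ Syl_p(G)` a TI subgroup, `χ` a faithful character with
`χ(1)² ≤ |P|`: then `P ⊴ G`. -/
theorem ti_sylow_normal_of_faithful (p : ℕ) [Fact p.Prime] (hsolv : IsPSolvable p G)
    (P : Sylow p G)
    (hTI : ∀ g : G, g ∉ Subgroup.normalizer ((P : Subgroup G) : Set G) →
      (P : Subgroup G) ⊓ (MulAut.conj g • (P : Subgroup G)) = ⊥)
    (χ : G → ℂ) (hχ : IsCharacter G χ) (hfaith : ∀ g : G, χ g = χ 1 → g = 1)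
    (hdeg : charDegree χ ^ 2 ≤ Nat.card (P : Subgroup G)) : (P : Subgroup G).Normal := by
  classical
  by_contra hN
  have hp : p.Prime := Fact.out
  have hNtop : Subgroup.normalizer ((P : Subgroup G) : Set G) ≠ ⊤ := by
    intro h; exact hN (Subgroup.normalizer_eq_top_iff.mp h)
  obtain ⟨g, hg⟩ : ∃ g : G, g ∉ Subgroup.normalizer ((P : Subgroup G) : Set G) := by
    by_contra hcon
    push Not at hcon
    exact hNtop (eq_top_iff.mpr (fun x _ => hcon x))
  have hTIg := hTI g hg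
  -- no nontrivial normal `p`-subgroups
  have hcore : ∀ N : Subgroup G, N.Normal → IsPGroup p N → N = ⊥ := by
    intro N hNn hNp
    have h1 : N ≤ (P : Subgroup G) := le_sylow_of_normal_pgroup N hNp P
    have h2 : N ≤ MulAut.conj g • (P : Subgroup G) := by
      intro n hn
      rw [Subgroup.mem_pointwise_smul_iff_inv_smul_mem]
      have h3 : (MulAut.conj g)⁻¹ • n = g⁻¹ * n * g⁻¹⁻¹ := by
        rw [← map_inv, MulAut.smul_def, MulAut.conj_apply]
      rw [h3]
      exact h1 (hNn.conj_mem n hn g⁻¹)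
    rw [eq_bot_iff, ← hTIg]
    exact le_inf h1 h2
  have hKn : (pPrimeCore p G).Normal := Cfsg.Agent.Lib.Helper55.pPrimeCore_normal' p
  set K : Subgroup G := pPrimeCore p G with hKdef
  have hKcent : Subgroup.centralizer (K : Set G) ≤ K :=
    Cfsg.Agent.Lib.Helper62.centralizer_pPrimeCore_le p hsolv hcore
  have hKcop : (Nat.card K).Coprime p := Cfsg.Agent.Lib.Helper1.pPrimeCore_card_coprime p
  -- `P ∩ K = 1`
  have hPK : ∀ x ∈ (P : Subgroup G), x ∈ K → x = 1 := by
    intro x hxP hxK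
    obtain ⟨n, hn⟩ := (IsPGroup.iff_orderOf.mp P.2) ⟨x, hxP⟩
    rw [Subgroup.orderOf_mk] at hn
    have h1 : orderOf x ∣ Nat.card K := by
      have := orderOf_dvd_natCard (⟨x, hxK⟩ : K)
      rwa [Subgroup.orderOf_mk] at this
    have h2 : (orderOf x).Coprime (Nat.card K) := by
      rw [hn]; exact (Nat.Coprime.pow_right n hKcop).symm
    have h3 : orderOf x = 1 := Nat.Coprime.eq_one_of_dvd h2 h1
    exact orderOf_eq_one_iff.mp h3
  -- uniform centralizers
  have hunif : ∀ x ∈ (P : Subgroup G), x ≠ 1 → ∀ k ∈ K, x * k = k * x →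
      ∀ y ∈ (P : Subgroup G), y * k = k * y := by
    intro x hx hx1 k hk hxk y hy
    have hkN : k ∈ Subgroup.normalizer ((P : Subgroup G) : Set G) := by
      by_contra hkN
      have h1 := hTI k hkN
      have h2 : x ∈ (P : Subgroup G) ⊓ (MulAut.conj k • (P : Subgroup G)) := by
        refine Subgroup.mem_inf.mpr ⟨hx, ?_⟩
        rw [Subgroup.mem_pointwise_smul_iff_inv_smul_mem]
        have h3 : (MulAut.conj k)⁻¹ • x = k⁻¹ * x * k⁻¹⁻¹ := by
          rw [← map_inv, MulAut.smul_def, MulAut.conj_apply]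
        rw [h3, inv_inv, mul_assoc, hxk, ← mul_assoc, inv_mul_cancel, one_mul]
        exact hx
      rw [h1] at h2
      exact hx1 (Subgroup.mem_bot.mp h2)
    have h1 : k * y * k⁻¹ ∈ (P : Subgroup G) :=
      (Subgroup.mem_normalizer_iff.mp hkN y).mp hy
    have h2 : k * y * k⁻¹ * y⁻¹ ∈ (P : Subgroup G) := Subgroup.mul_mem _ h1 (Subgroup.inv_mem _ hy)
    have h3 : k * y * k⁻¹ * y⁻¹ ∈ K := by
      have h4 : y * k⁻¹ * y⁻¹ ∈ K := hKn.conj_mem _ (K.inv_mem hk) y
      have := K.mul_mem hk h4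
      simpa [mul_assoc] using this
    have h5 := hPK _ h2 h3
    have h6 : k * y = y * k := by
      calc k * y = (k * y * k⁻¹ * y⁻¹) * (y * k) := by group
        _ = y * k := by rw [h5, one_mul]
    exact h6.symm
  -- `P` does not centralize `K`
  have hPne : (P : Subgroup G) ≠ ⊥ := by
    intro h
    apply hN
    rw [h]
    infer_instance
  have hnotcent : ¬ ∀ y ∈ (P : Subgroup G), ∀ k ∈ K, y * k = k * y := by
    intro hcent
    apply hPne
    rw [eq_bot_iff]
    intro y hy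
    have hyK : y ∈ K := hKcent (Subgroup.mem_centralizer_iff.mpr (fun k hk => (hcent y hy k hk).symm))
    exact Subgroup.mem_bot.mpr (hPK y hy hyK)
  -- an invariant Sylow subgroup of `K` not centralized by `P`
  have hex : ∃ (r : ℕ) (_ : Fact r.Prime) (R₀ : Subgroup G), R₀ ≤ K ∧ IsPGroup r R₀ ∧
      (∀ y ∈ (P : Subgroup G), ∀ s ∈ R₀, y * s * y⁻¹ ∈ R₀) ∧
      ∃ y ∈ (P : Subgroup G), ∃ s ∈ R₀, y * s ≠ s * y := by
    by_contra hcon
    push Not at hcon
    apply hnotcent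
    have hCK : K ⊓ Subgroup.centralizer ((P : Subgroup G) : Set G) = K := by
      apply Cfsg.Agent.Lib.Helper63.eq_of_forall_sylow_le K _ inf_le_left
      intro r hr
      obtain ⟨Q, hQ⟩ := exists_invariant_sylow_of_pgroup K p r hKcop (P : Subgroup G) P.2
      refine ⟨Q, ?_⟩
      set R₀ : Subgroup G := (Q : Subgroup K).map K.subtype with hR₀
      have hR₀K : R₀ ≤ K := Subgroup.map_subtype_le _
      have hR₀r : IsPGroup r R₀ := Q.2.map _
      have hR₀inv : ∀ y ∈ (P : Subgroup G), ∀ s ∈ R₀, y * s * y⁻¹ ∈ R₀ := by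
        rintro y hy _ ⟨k, hk, rfl⟩
        exact ⟨(MulAut.conjNormal y : MulAut K) k, hQ y hy k hk, by simp [MulAut.conjNormal_apply]⟩
      have hc := hcon r hr R₀ hR₀K hR₀r hR₀inv
      refine le_inf hR₀K ?_
      intro s hs
      rw [Subgroup.mem_centralizer_iff]
      intro y hy
      exact hc y hy s hs
    intro y hy k hk
    have hk' : k ∈ K ⊓ Subgroup.centralizer ((P : Subgroup G) : Set G) := by rw [hCK]; exact hk
    exact Subgroup.mem_centralizer_iff.mp hk'.2 y hy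
  obtain ⟨r, hr, R₀, hR₀K, hR₀r, hR₀inv, hR₀nc⟩ := hex
  -- a minimal such subgroup
  set 𝓕 : Set (Subgroup G) := {R | R ≤ K ∧ IsPGroup r R ∧
      (∀ y ∈ (P : Subgroup G), ∀ s ∈ R, y * s * y⁻¹ ∈ R) ∧
      ∃ y ∈ (P : Subgroup G), ∃ s ∈ R, y * s ≠ s * y} with h𝓕
  have h𝓕ne : 𝓕.Nonempty := ⟨R₀, hR₀K, hR₀r, hR₀inv, hR₀nc⟩
  obtain ⟨R₁, hR₁mem, hR₁min⟩ :=
    Set.exists_min_image 𝓕 (fun R : Subgroup G => Nat.card R) (Set.toFinite _) h𝓕ne
  obtain ⟨hR₁K, hR₁r, hR₁inv, hR₁nc⟩ := hR₁mem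
  have hdata : TIData (P : Subgroup G) R₁ := by
    refine ⟨hR₁inv, ?_, ?_, ?_, hR₁nc⟩
    · obtain ⟨n, hn⟩ := IsPGroup.iff_card.mp P.2
      rw [hn]
      apply Nat.Coprime.pow_left
      have h1 : Nat.card R₁ ∣ Nat.card K := Subgroup.card_dvd_of_le hR₁K
      exact (Nat.Coprime.coprime_dvd_left h1 hKcop).symm
    · intro x hx hx1 s hs hxs y hy
      exact hunif x hx hx1 s (hR₁K hs) hxs y hy
    · intro M hMR hMne hMinv
      by_contra hcon
      push Not at hcon
      obtain ⟨y, hy, m, hm, hym⟩ := hcon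
      have hM𝓕 : M ∈ 𝓕 := ⟨hMR.trans hR₁K, hR₁r.to_le hMR, hMinv, y, hy, m, hm, hym⟩
      have h1 := hR₁min M hM𝓕
      exact hMne (Subgroup.eq_of_le_of_card_ge hMR h1)
  have hDR : ⁅R₁, R₁⁆ ≠ R₁ := by
    intro hD
    have hnil : Group.IsNilpotent R₁ := hR₁r.isNilpotent
    have hnt : Nontrivial R₁ := by
      obtain ⟨y, hy, s, hs, hys⟩ := hR₁nc
      refine ⟨⟨⟨s, hs⟩, 1, ?_⟩⟩
      intro h1
      have : s = 1 := congrArg Subtype.val h1
      exact hys (by rw [this]; simp)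
    have hlt : commutator R₁ < ⊤ := Group.IsSolvable.commutator_lt_top_of_nontrivial R₁
    have h1 : (commutator R₁).map R₁.subtype = ⁅R₁, R₁⁆ := by
      rw [commutator_def, Subgroup.map_commutator, ← MonoidHom.range_eq_map,
        Subgroup.range_subtype]
    have h2 : (commutator R₁).map R₁.subtype = (⊤ : Subgroup R₁).map R₁.subtype := by
      rw [h1, hD, ← MonoidHom.range_eq_map, Subgroup.range_subtype]
    have h3 := Subgroup.map_injective R₁.subtype_injective h2
    exact hlt.ne h3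
  have hlt := hdata.lt_degree_sq P.2 hDR χ hχ hfaith
  omega

end TIMain

end Cfsg.Agent.Lib.Helper81
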