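/-
helper81: project S2244 (helper5), module S2244-[T3-G2]:
in the Chevalley group of type `G₂` over a finite field with at least four elements, every non-fundamental
positive root element lies in `⁅U_J, U⁆` as soon as `J` misses a fundamental root.
-/
import Cfsg.Agent.Lib.Helper18.Bruhat1
import Cfsg.Agent.S1045
import Cfsg.Agent.S1025
import Mathlib

set_option autoImplicit false

namespace Cfsg.Agent.Lib.Helper81.WC

open Cfsg.Lie Cfsg.Agent.Lib.Helper18
open scoped commutatorElement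

universe u

variable {F : Type u} [Field F] {D : ChevalleyDatum}

/-- A finite field with `card ≠ 2, 3` has three distinct nonzero elements. -/
theorem h81_exists_three [Fintype F] (h2 : Fintype.card F ≠ 2) (h3 : Fintype.card F ≠ 3) :
    ∃ a b c : F, a ≠ 0 ∧ b ≠ 0 ∧ c ≠ 0 ∧ a ≠ b ∧ a ≠ c ∧ b ≠ c := by
  classical
  have hcard : 3 < Fintype.card F := by
    have h1 : 1 < Fintype.card F := Fintype.one_lt_card
    omega
  -- remove `0`, then pick three elements
  have hc' : 3 ≤ ((Finset.univ : Finset F).erase 0).card := by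
    rw [Finset.card_erase_of_mem (Finset.mem_univ _), Finset.card_univ]
    omega
  obtain ⟨s, hs, hs3⟩ := Finset.exists_subset_card_eq hc'
  obtain ⟨a, b, c, hab, hac, hbc, rfl⟩ := Finset.card_eq_three.mp hs3
  have ha : a ∈ (Finset.univ : Finset F).erase 0 := hs (by simp)
  have hb : b ∈ (Finset.univ : Finset F).erase 0 := hs (by simp)
  have hc : c ∈ (Finset.univ : Finset F).erase 0 := hs (by simp)
  exact ⟨a, b, c, (Finset.mem_erase.mp ha).1, (Finset.mem_erase.mp hb).1, (Finset.mem_erase.mp hc).1,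
    hab, hac, hbc⟩

section G2

variable (hD : chevG2 ∈ [chevG2, chevB2, chevD4, chevF4, chevE6, chevE7, chevE8])

/-- Generic: if the commutator formula for `(r, s)` has no terms, the root elements commute. -/
theorem h81_g2_commute (r s : ℕ) (hr : r < chevG2.nroots) (hs : s < chevG2.nroots) (hrs : s ≠ r)
    (hneg : s ≠ chevG2.neg r) (hct : chevG2.commTerms r s = []) (t u : F) :
    xG hD s u * xG hD r t = xG hD r t * xG hD s u := by
  have h := Cfsg.Agent.S1025.result (F := F) chevG2 hD r s hr hs hrs hneg t u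
  have hw : chevG2.commWord F r s t u = [] := by
    unfold ChevalleyDatum.commWord
    rw [hct]
    rfl
  apply Units.ext
  rw [Units.val_mul, Units.val_mul, coe_xG, coe_xG, h, hw]
  unfold ChevalleyDatum.wordMat
  simp only [List.map_nil, List.prod_nil, mul_one]

/-- The commutator formula for the two fundamental roots of `G₂` (`7` short, `6` long). -/
theorem h81_g2_comm67 (t u : F) :
    (xG hD 6 u)⁻¹ * (xG hD 7 t)⁻¹ * xG hD 6 u * xG hD 7 t
      = xG hD 8 (t * u) * xG hD 9 (t ^ 2 * u) * xG hD 10 (-(t ^ 3 * u)) * xG hD 11 (-(t ^ 3 * u ^ 2)) := by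
  have hct : chevG2.commTerms 7 6 = [(8, -1, 1, 1), (9, 1, 2, 1), (10, 1, 3, 1), (11, 1, 3, 2)] := by decide
  have h := Cfsg.Agent.S1025.result (F := F) chevG2 hD 7 6 (by decide) (by decide) (by decide) (by decide) t u
  have hw : chevG2.commWord F 7 6 t u
      = [(8, t * u), (9, t ^ 2 * u), (10, -(t ^ 3 * u)), (11, -(t ^ 3 * u ^ 2))] := by
    unfold ChevalleyDatum.commWord
    rw [hct]
    simp only [List.map_cons, List.map_nil, Int.cast_one, Int.cast_neg, pow_one]
    refine congrArg₂ _ (Prod.ext rfl ?_) (congrArg₂ _ (Prod.ext rfl ?_) (congrArg₂ _ (Prod.ext rfl ?_)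
      (congrArg₂ _ (Prod.ext rfl ?_) rfl)))
    · show (-1 : F) * -t * u = t * u
      ring
    · show (1 : F) * (-t) ^ 2 * u = t ^ 2 * u
      ring
    · show (1 : F) * (-t) ^ 3 * u = -(t ^ 3 * u)
      ring
    · show (1 : F) * (-t) ^ 3 * u ^ 2 = -(t ^ 3 * u ^ 2)
      ring
  have hg : xG hD 6 u * xG hD 7 t = xG hD 7 t * xG hD 6 u *
      (xG hD 8 (t * u) * xG hD 9 (t ^ 2 * u) * xG hD 10 (-(t ^ 3 * u)) * xG hD 11 (-(t ^ 3 * u ^ 2))) := by
    apply Units.ext
    simp only [Units.val_mul, coe_xG]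
    rw [h, hw]
    unfold ChevalleyDatum.wordMat
    simp only [List.map_cons, List.map_nil, List.prod_cons, List.prod_nil, mul_one, mul_assoc]
  calc (xG hD 6 u)⁻¹ * (xG hD 7 t)⁻¹ * xG hD 6 u * xG hD 7 t
      = (xG hD 6 u)⁻¹ * (xG hD 7 t)⁻¹ * (xG hD 6 u * xG hD 7 t) := by group
    _ = _ := by rw [hg]; group

/-- The commutator of `x_{3a+b}` and `x_b` is `x_{3a+2b}`. -/
theorem h81_g2_comm_6_10 (t u : F) :
    (xG hD 10 u)⁻¹ * (xG hD 6 t)⁻¹ * xG hD 10 u * xG hD 6 t = xG hD 11 (-(t * u)) := by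
  have hct : chevG2.commTerms 6 10 = [(11, 1, 1, 1)] := by decide
  have h := Cfsg.Agent.S1025.result (F := F) chevG2 hD 6 10 (by decide) (by decide) (by decide) (by decide) t u
  have hw : chevG2.commWord F 6 10 t u = [(11, -(t * u))] := by
    unfold ChevalleyDatum.commWord
    rw [hct]
    simp only [List.map_cons, List.map_nil, Int.cast_one, pow_one]
    refine congrArg₂ _ (Prod.ext rfl ?_) rfl
    show (1 : F) * -t * u = -(t * u)
    ring
  have hg : xG hD 10 u * xG hD 6 t = xG hD 6 t * xG hD 10 u * xG hD 11 (-(t * u)) := by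
    apply Units.ext
    simp only [Units.val_mul, coe_xG]
    rw [h, hw]
    unfold ChevalleyDatum.wordMat
    simp only [List.map_cons, List.map_nil, List.prod_cons, List.prod_nil, mul_one]
  calc (xG hD 10 u)⁻¹ * (xG hD 6 t)⁻¹ * xG hD 10 u * xG hD 6 t
      = (xG hD 10 u)⁻¹ * (xG hD 6 t)⁻¹ * (xG hD 10 u * xG hD 6 t) := by group
    _ = _ := by rw [hg]; group

/-- `x_{2a+b}(u) x_{a+b}(t) = x_{a+b}(t) x_{2a+b}(u) x_{3a+2b}(-3tu)`. -/
theorem h81_g2_comm_8_9 (t u : F) :
    xG hD 9 u * xG hD 8 t = xG hD 8 t * xG hD 9 u * xG hD 11 (-(3 * (t * u))) := by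
  have hct : chevG2.commTerms 8 9 = [(11, 3, 1, 1)] := by decide
  have h := Cfsg.Agent.S1025.result (F := F) chevG2 hD 8 9 (by decide) (by decide) (by decide) (by decide) t u
  have hw : chevG2.commWord F 8 9 t u = [(11, -(3 * (t * u)))] := by
    unfold ChevalleyDatum.commWord
    rw [hct]
    simp only [List.map_cons, List.map_nil, pow_one]
    refine congrArg₂ _ (Prod.ext rfl ?_) rfl
    show ((3 : ℤ) : F) * -t * u = -(3 * (t * u))
    push_cast
    ring
  apply Units.ext
  simp only [Units.val_mul, coe_xG]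
  rw [h, hw]
  unfold ChevalleyDatum.wordMat
  simp only [List.map_cons, List.map_nil, List.prod_cons, List.prod_nil, mul_one]

end G2

/-- A reassociation lemma: multiplying two products `p q r` under the `G₂` commutation pattern. -/
theorem h81_grp_aux {G : Type*} [Group G] (p p' q q' r r' w : G)
    (h1 : r * p' = p' * r) (h2 : r * q' = q' * r) (h3 : q * p' = p' * q * w)
    (h4 : w * q' = q' * w) (h5 : w * r = r * w) (h6 : w * r' = r' * w) :
    (p * q * r) * (p' * q' * r') = (p * p') * (q * q') * (r * r') * w := by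
  calc p * q * r * (p' * q' * r') = p * q * (r * p') * q' * r' := by group
    _ = p * q * (p' * r) * q' * r' := by rw [h1]
    _ = p * (q * p') * (r * q') * r' := by group
    _ = p * (p' * q * w) * (q' * r) * r' := by rw [h3, h2]
    _ = p * p' * q * (w * q') * r * r' := by group
    _ = p * p' * q * (q' * w) * r * r' := by rw [h4]
    _ = p * p' * q * q' * (w * r) * r' := by group
    _ = p * p' * q * q' * (r * w) * r' := by rw [h5]
    _ = p * p' * q * q' * r * (w * r') := by group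
    _ = p * p' * q * q' * r * (r' * w) := by rw [h6]
    _ = p * p' * (q * q') * (r * r') * w := by group

theorem comm_T3_G2 [Fintype F] (hD : D ∈ [chevG2, chevB2, chevD4, chevF4, chevE6, chevE7, chevE8])
    (hG2 : D = chevG2) (h2 : Fintype.card F ≠ 2) (h3 : Fintype.card F ≠ 3)
    (J : Set ℕ) (r : ℕ) (hr : D.IsPosRoot r) (hJ : ¬ D.InRootSub J r)
    (hns : ∀ i < D.rank, r ≠ D.simple i) (t : F) :
    xG hD r t ∈ ⁅D.unipotentRadical F J, D.posUnipotent F⁆ := by
  subst hG2
  -- the root `r` is one of `8, 9, 10, 11`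
  have hr' := (isPosRoot_iff hD r).mp hr
  have hn : chevG2.nroots = 12 := by decide
  have hrk : chevG2.rank = 2 := by decide
  have hs0 : chevG2.simple 0 = 7 := by decide
  have hs1 : chevG2.simple 1 = 6 := by decide
  have h7 := hns 0 (by rw [hrk]; omega)
  have h6 := hns 1 (by rw [hrk]; omega)
  rw [hs0] at h7
  rw [hs1] at h6
  rw [hn] at hr'
  have hr4 : r = 8 ∨ r = 9 ∨ r = 10 ∨ r = 11 := by omega
  -- `J` misses a fundamental root
  have hex : ∃ i, i < 2 ∧ i ∉ J := by
    by_contra hcon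
    push Not at hcon
    apply hJ
    refine ⟨by rw [hn]; omega, ?_⟩
    intro i hi hiJ
    rw [hrk] at hi
    exact absurd (hcon i hi) hiJ
  obtain ⟨i, hi, hiJ⟩ := hex
  have hi01 : i = 0 ∨ i = 1 := by omega
  have hpos6 : chevG2.IsPosRoot 6 := by decide
  have hpos7 : chevG2.IsPosRoot 7 := by decide
  have hpos8 : chevG2.IsPosRoot 8 := by decide
  have hpos9 : chevG2.IsPosRoot 9 := by decide
  have hpos10 : chevG2.IsPosRoot 10 := by decide
  have hpos11 : chevG2.IsPosRoot 11 := by decide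
  have hU : ∀ (s : ℕ) (v : F), chevG2.IsPosRoot s → xG hD s v ∈ chevG2.posUnipotent F :=
    fun s v hs => Subgroup.subset_closure ⟨s, v, hs, rfl⟩
  have hUJ : ∀ (s : ℕ) (v : F), chevG2.IsPosRoot s → ¬ chevG2.InRootSub J s →
      xG hD s v ∈ chevG2.unipotentRadical F J :=
    fun s v hs hns => Subgroup.subset_closure ⟨s, v, hs, hns, rfl⟩
  have hnot10 : ¬ chevG2.InRootSub J 10 := by
    rintro ⟨-, h⟩
    have := h i (by rw [hrk]; exact hi) hiJ
    rcases hi01 with rfl | rfl <;> revert this <;> decide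
  set C : Subgroup (GL chevG2.Idx F) := ⁅chevG2.unipotentRadical F J, chevG2.posUnipotent F⁆ with hC
  -- step 1: all of `X_11`
  have h11 : ∀ s : F, xG hD 11 s ∈ C := by
    intro s
    have e := h81_g2_comm_6_10 hD (1 : F) (-s)
    have e' : (xG hD 10 (-s))⁻¹ * (xG hD 6 (1 : F))⁻¹ * xG hD 10 (-s) * xG hD 6 1
        = ⁅(xG hD 10 (-s))⁻¹, (xG hD 6 (1 : F))⁻¹⁆ := by
      rw [commutatorElement_def, inv_inv, inv_inv]
    have hs : (-((1 : F) * -s)) = s := by ring
    rw [hs, e'] at e
    rw [← e]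
    exact Subgroup.commutator_mem_commutator (inv_mem (hUJ 10 (-s) hpos10 hnot10)) (inv_mem (hU 6 1 hpos6))
  -- step 2: the commutators of the fundamental root elements
  have hc : ∀ a b : F, xG hD 8 (a * b) * xG hD 9 (a ^ 2 * b) * xG hD 10 (-(a ^ 3 * b)) *
      xG hD 11 (-(a ^ 3 * b ^ 2)) ∈ C := by
    intro a b
    rw [← h81_g2_comm67 hD a b]
    have e : (xG hD 6 b)⁻¹ * (xG hD 7 a)⁻¹ * xG hD 6 b * xG hD 7 a = ⁅(xG hD 6 b)⁻¹, (xG hD 7 a)⁻¹⁆ := by
      rw [commutatorElement_def, inv_inv, inv_inv]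
    rw [e]
    rcases hi01 with rfl | rfl
    · -- `x_7 ∈ U_J`
      have hnot : ¬ chevG2.InRootSub J 7 := by
        rintro ⟨-, h⟩
        have := h 0 (by rw [hrk]; omega) hiJ
        revert this
        decide
      rw [hC, Subgroup.commutator_comm]
      exact Subgroup.commutator_mem_commutator (inv_mem (hU 6 b hpos6)) (inv_mem (hUJ 7 a hpos7 hnot))
    · -- `x_6 ∈ U_J`
      have hnot : ¬ chevG2.InRootSub J 6 := by
        rintro ⟨-, h⟩
        have := h 1 (by rw [hrk]; omega) hiJ
        revert this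
        decide
      exact Subgroup.commutator_mem_commutator (inv_mem (hUJ 6 b hpos6 hnot)) (inv_mem (hU 7 a hpos7))
  -- the predicate `P a b c : x_8(a) x_9(b) x_10(c) ∈ C`
  have hv : ∀ l u : F, xG hD 8 (l * u) * xG hD 9 (l ^ 2 * u) * xG hD 10 (-(l ^ 3 * u)) ∈ C := by
    intro l u
    have m := mul_mem (hc l u) (inv_mem (h11 (-(l ^ 3 * u ^ 2))))
    rwa [mul_inv_cancel_right] at m
  -- commutation relations
  have c8_10 : ∀ a c : F, xG hD 10 c * xG hD 8 a = xG hD 8 a * xG hD 10 c := fun a c =>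
    h81_g2_commute hD 8 10 (by decide) (by decide) (by decide) (by decide) (by decide) a c
  have c9_10 : ∀ a c : F, xG hD 10 c * xG hD 9 a = xG hD 9 a * xG hD 10 c := fun a c =>
    h81_g2_commute hD 9 10 (by decide) (by decide) (by decide) (by decide) (by decide) a c
  have c9_11 : ∀ a c : F, xG hD 11 c * xG hD 9 a = xG hD 9 a * xG hD 11 c := fun a c =>
    h81_g2_commute hD 9 11 (by decide) (by decide) (by decide) (by decide) (by decide) a c
  have c10_11 : ∀ a c : F, xG hD 11 c * xG hD 10 a = xG hD 10 a * xG hD 11 c := fun a c =>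
    h81_g2_commute hD 10 11 (by decide) (by decide) (by decide) (by decide) (by decide) a c
  have hadd : ∀ a b c a' b' c' : F, xG hD 8 a * xG hD 9 b * xG hD 10 c ∈ C →
      xG hD 8 a' * xG hD 9 b' * xG hD 10 c' ∈ C →
      xG hD 8 (a + a') * xG hD 9 (b + b') * xG hD 10 (c + c') ∈ C := by
    intro a b c a' b' c' h1 h2'
    have e := h81_grp_aux (xG hD 8 a) (xG hD 8 a') (xG hD 9 b) (xG hD 9 b') (xG hD 10 c) (xG hD 10 c')
      (xG hD 11 (-(3 * (a' * b)))) (c8_10 a' c) (c9_10 b' c) (h81_g2_comm_8_9 hD a' b)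
      (c9_11 b' _) (c10_11 c _) (c10_11 c' _)
    rw [xG_mul, xG_mul, xG_mul] at e
    have m := mul_mem (mul_mem h1 h2') (inv_mem (h11 (-(3 * (a' * b)))))
    rw [e, mul_inv_cancel_right] at m
    exact m
  -- linear algebra with three distinct nonzero scalars
  obtain ⟨l, m, n, hl0, hm0, hn0, hlm, hln, hmn⟩ := h81_exists_three h2 h3
  have hQ : ∀ l m : F, l ≠ 0 → m ≠ 0 → l ≠ m → ∀ s : F,
      xG hD 8 0 * xG hD 9 s * xG hD 10 (-(s * (l + m))) ∈ C := by
    intro l m hl0 hm0 hlm s
    have hlm' : l - m ≠ 0 := sub_ne_zero.mpr hlm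
    have key := hadd _ _ _ _ _ _ (hv l (s / (l * (l - m)))) (hv m (-(l * (s / (l * (l - m))) / m)))
    have e1 : l * (s / (l * (l - m))) + m * (-(l * (s / (l * (l - m))) / m)) = 0 := by
      field_simp
      ring
    have e2 : l ^ 2 * (s / (l * (l - m))) + m ^ 2 * (-(l * (s / (l * (l - m))) / m)) = s := by
      field_simp
      ring
    have e3 : -(l ^ 3 * (s / (l * (l - m)))) + -(m ^ 3 * (-(l * (s / (l * (l - m))) / m)))
        = -(s * (l + m)) := by
      field_simp
      ring
    rw [e1, e2, e3] at key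
    exact key
  have hz : ∀ c : F, xG hD 8 0 * xG hD 9 0 * xG hD 10 c ∈ C := by
    intro c
    have hnm : n - m ≠ 0 := sub_ne_zero.mpr (Ne.symm hmn)
    have key := hadd _ _ _ _ _ _ (hQ l m hl0 hm0 hlm (c / (n - m))) (hQ l n hl0 hn0 hln (-(c / (n - m))))
    have e1 : (0 : F) + 0 = 0 := add_zero 0
    have e2 : c / (n - m) + -(c / (n - m)) = 0 := add_neg_cancel _
    have e3 : -(c / (n - m) * (l + m)) + -(-(c / (n - m)) * (l + n)) = c := by
      field_simp
      ring
    rw [e1, e2, e3] at key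
    exact key
  have hy : ∀ b : F, xG hD 8 0 * xG hD 9 b * xG hD 10 0 ∈ C := by
    intro b
    have key := hadd _ _ _ _ _ _ (hQ l m hl0 hm0 hlm b) (hz (b * (l + m)))
    have e1 : (0 : F) + 0 = 0 := add_zero 0
    have e2 : b + 0 = b := add_zero b
    have e3 : -(b * (l + m)) + b * (l + m) = 0 := neg_add_cancel _
    rw [e1, e2, e3] at key
    exact key
  have hx : ∀ a : F, xG hD 8 a * xG hD 9 0 * xG hD 10 0 ∈ C := by
    intro a
    have key := hadd _ _ _ _ _ _ (hadd _ _ _ _ _ _ (hv l (a / l)) (hy (-(l * a)))) (hz (l ^ 2 * a))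
    have e1 : l * (a / l) + 0 + 0 = a := by
      field_simp
      ring
    have e2 : l ^ 2 * (a / l) + -(l * a) + 0 = 0 := by
      field_simp
      ring
    have e3 : -(l ^ 3 * (a / l)) + 0 + l ^ 2 * a = 0 := by
      field_simp
      ring
    rw [e1, e2, e3] at key
    exact key
  rcases hr4 with rfl | rfl | rfl | rfl
  · have := hx t
    rwa [xG_zero, xG_zero, mul_one, mul_one] at this
  · have := hy t
    rwa [xG_zero, xG_zero, mul_one, one_mul] at this
  · have := hz t
    rwa [xG_zero, xG_zero, one_mul, one_mul] at this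
  · exact h11 t

end Cfsg.Agent.Lib.Helper81.WC
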